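import Groth.Agent.H44.PBasis
import Mathlib.Algebra.TrivSqZeroExt.Basic
import Mathlib.RingTheory.Derivation.Basic
import Mathlib.Algebra.Module.NatInt

/-!
# Derivations and `p`-bases

If `B = A₀[X_i]/(X_i^p - a_i)` (in the sense of `Groth.Agent.H44.PBasis`) and `p = 0` in `B`, then an
additive map `δ : A₀ → L` into a `B`-module satisfying the Leibniz rule and killing the `a i` extends
uniquely to a derivation of `B` with prescribed values on the `x i`.
-/

set_option autoImplicit false

namespace Groth.Agent.H44.PBasis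

section tsze

variable {R B L : Type*} [CommRing R] [CommRing B] [AddCommGroup L] [Module B L]
  [Module Bᵐᵒᵖ L] [IsCentralScalar B L]

/-- The ring hom `r ↦ (f r, δ r)` into the trivial square-zero extension attached to an
`f`-derivation `δ`. -/
def tszeHom (f : R →+* B) (δ : R →+ L) (h : ∀ r s, δ (r * s) = f r • δ s + f s • δ r) :
    R →+* TrivSqZeroExt B L where
  toFun r := TrivSqZeroExt.inl (f r) + TrivSqZeroExt.inr (δ r)
  map_one' := by
    have h1 : δ 1 = 0 := by
      have := h 1 1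
      simp only [mul_one, map_one, one_smul] at this
      exact (add_eq_left (a := δ 1)).1 this.symm
    refine TrivSqZeroExt.ext ?_ ?_
    · simp
    · simp [h1]
  map_mul' r s := by
    refine TrivSqZeroExt.ext ?_ ?_
    · simp
    · simp [h, add_comm]
  map_zero' := by
    refine TrivSqZeroExt.ext ?_ ?_ <;> simp
  map_add' r s := by
    refine TrivSqZeroExt.ext ?_ ?_ <;> simp

@[simp] theorem tszeHom_fst (f : R →+* B) (δ : R →+ L)
    (h : ∀ r s, δ (r * s) = f r • δ s + f s • δ r) (r : R) : (tszeHom f δ h r).fst = f r := by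
  simp [tszeHom]

@[simp] theorem tszeHom_snd (f : R →+* B) (δ : R →+ L)
    (h : ∀ r s, δ (r * s) = f r • δ s + f s • δ r) (r : R) : (tszeHom f δ h r).snd = δ r := by
  simp [tszeHom]

end tsze

variable {A₀ : Type*} {B : Type*} [CommRing A₀] [CommRing B] [Algebra A₀ B] {ι : Type*}

theorem existsUnique_derivation {p : ℕ} (hp : 0 < p) (hpB : (p : B) = 0) (x : ι → B) (a : ι → A₀)
    (ha : ∀ i, algebraMap A₀ B (a i) = x i ^ p)
    (hli : LinearIndependent A₀ (redMono p x))
    (hsp : Submodule.span A₀ (Set.range (redMono p x)) = ⊤)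
    {L : Type*} [AddCommGroup L] [Module B L] (δ : A₀ →+ L)
    (hδ : ∀ r s, δ (r * s) = algebraMap A₀ B r • δ s + algebraMap A₀ B s • δ r)
    (hδa : ∀ i, δ (a i) = 0) (y : ι → L) :
    ∃! D' : Derivation ℤ B L, (∀ r, D' (algebraMap A₀ B r) = δ r) ∧ ∀ i, D' (x i) = y i := by
  letI : Module Bᵐᵒᵖ L := Module.compHom L ((RingHom.id B).fromOpposite mul_comm)
  haveI : IsCentralScalar B L := ⟨fun _ _ => rfl⟩
  have hpL : ∀ l : L, p • l = 0 := fun l => by
    rw [← Nat.cast_smul_eq_nsmul B p l, hpB, zero_smul]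
  let g : A₀ →+* TrivSqZeroExt B L := tszeHom (algebraMap A₀ B) δ hδ
  let z : ι → TrivSqZeroExt B L := fun i => TrivSqZeroExt.inl (x i) + TrivSqZeroExt.inr (y i)
  have hz : ∀ i, z i ^ p = g (a i) := by
    intro i
    refine TrivSqZeroExt.ext ?_ ?_
    · simp [z, g, ha i]
    · simp [z, g, hδa i, hpL]
  obtain ⟨v, ⟨hv1, hv2⟩, huniq⟩ := existsUnique_ringHom hp x a ha hli hsp g z hz
  have hv1' : ∀ r, v (algebraMap A₀ B r) = g r := fun r => RingHom.congr_fun hv1 r
  obtain ⟨w, -, hwuniq⟩ := existsUnique_ringHom hp x a ha hli hsp (algebraMap A₀ B) x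
    (fun i => (ha i).symm)
  have hfst : ∀ b, (v b).fst = b := by
    have h1 : (TrivSqZeroExt.fstHom B B L).toRingHom.comp v = w :=
      hwuniq _ ⟨RingHom.ext fun r => by simp [hv1', g], fun i => by simp [hv2 i, z]⟩
    have h2 : RingHom.id B = w := hwuniq _ ⟨RingHom.ext fun r => by simp, fun i => by simp⟩
    intro b
    have := RingHom.congr_fun (h1.trans h2.symm) b
    simpa using this
  let D'lin : B →ₗ[ℤ] L :=
    (AddMonoidHom.mk' (fun b => (v b).snd) (fun b c => by simp)).toIntLinearMap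
  let D' : Derivation ℤ B L := Derivation.mk' D'lin (fun b c => by
    show (v (b * c)).snd = b • (v c).snd + c • (v b).snd
    rw [map_mul, TrivSqZeroExt.snd_mul, hfst, hfst, op_smul_eq_smul])
  have hD' : ∀ b, D' b = (v b).snd := fun b => rfl
  refine ⟨D', ⟨fun r => ?_, fun i => ?_⟩, ?_⟩
  · rw [hD', hv1']
    simp [g]
  · rw [hD', hv2]
    simp [z]
  · rintro D'' ⟨h1, h2⟩
    let δ'' : B →+ L := D''.toLinearMap.toAddMonoidHom
    have hδ'' : ∀ b, δ'' b = D'' b := fun b => rfl
    have hleib : ∀ b c, δ'' (b * c) = (RingHom.id B) b • δ'' c + (RingHom.id B) c • δ'' b :=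
      fun b c => D''.leibniz b c
    let v'' : B →+* TrivSqZeroExt B L := tszeHom (RingHom.id B) δ'' hleib
    have hvv : v'' = v := huniq v'' ⟨RingHom.ext fun r => TrivSqZeroExt.ext
      (by simp [v'', g]) (by simp [v'', g, hδ'', h1]),
      fun i => TrivSqZeroExt.ext (by simp [v'', z]) (by simp [v'', z, hδ'', h2])⟩
    ext b
    rw [hD', ← hvv]
    simp [v'', hδ'']

end Groth.Agent.H44.PBasis
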