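import Groth.Agent.H44.PBasisDescent
import Groth.Agent.S2466
import Mathlib.RingTheory.Flat.Basic
import Mathlib.LinearAlgebra.TensorProduct.Basis

/-!
# Admissible subfields (EGA 0_IV 21.8)

Support of a finitely generated submodule with respect to a basis, injectivity of the base change of
`Ω[K⁄k₀] → Ω[K⁄E]` on elements supported on a `p`-independent part, and the descent of
`p`-independence along a decreasing family of subfields, in differential form.
-/

set_option autoImplicit false

universe u

open TensorProduct

namespace Groth.Agent.H44.PBasis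

section supp

theorem exists_finset_support_subset {R M ι : Type*} [Semiring R] [AddCommMonoid M] [Module R M]
    (e : Module.Basis ι R M) (N : Submodule R M) (hN : N.FG) :
    ∃ F : Finset ι, ∀ ω ∈ N, (e.repr ω).support ⊆ F := by
  classical
  obtain ⟨S, hS⟩ := hN
  refine ⟨S.biUnion fun ω => (e.repr ω).support, fun ω hω => ?_⟩
  rw [← hS] at hω
  induction hω using Submodule.span_induction with
  | mem x hx =>
    exact Finset.subset_biUnion_of_mem (fun ω => (e.repr ω).support) (Finset.mem_coe.mp hx)
  | zero => rw [map_zero, Finsupp.support_zero]; exact Finset.empty_subset _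
  | add x y _ _ hx hy =>
    rw [map_add]; exact Finsupp.support_add.trans (Finset.union_subset hx hy)
  | smul r x _ hx => rw [map_smul]; exact Finsupp.support_smul.trans hx

end supp

section adm

variable (p : ℕ) [Fact p.Prime] {k₀ K : Type u} [Field k₀] [Field K] [Algebra k₀ K] [CharP K p]

theorem eq_zero_of_baseChange_map_eq_zero {L : Type u} [Field L] [Algebra K L] {T : Type u}
    (x : T → K) (bs : Module.Basis T K (Ω[K⁄k₀]))
    (hbs : ∀ t, bs t = KaehlerDifferential.D k₀ K (x t)) (E : IntermediateField k₀ K) (F : Set T)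
    (hli : LinearIndepOn K (fun t => KaehlerDifferential.D E K (x t)) F)
    (ω : L ⊗[K] Ω[K⁄k₀]) (hsupp : (((bs.baseChange L).repr ω).support : Set T) ⊆ F)
    (h0 : ((KaehlerDifferential.map k₀ E K K).restrictScalars K).baseChange L ω = 0) : ω = 0 := by
  classical
  obtain ⟨c, rfl⟩ : ∃ c, Finsupp.linearCombination L (bs.baseChange L) c = ω :=
    ⟨_, (bs.baseChange L).linearCombination_repr ω⟩
  rw [(bs.baseChange L).repr_linearCombination] at hsupp
  rw [Finsupp.apply_linearCombination] at h0
  have h2 : (⇑(((KaehlerDifferential.map k₀ E K K).restrictScalars K).baseChange L) ∘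
      ⇑(bs.baseChange L)) = fun t : T => (1 : L) ⊗ₜ[K] KaehlerDifferential.D E K (x t) :=
    funext fun t => by
      rw [Function.comp_apply, Module.Basis.baseChange_apply, LinearMap.baseChange_tmul, hbs]
      show (1 : L) ⊗ₜ[K] (KaehlerDifferential.map k₀ E K K (KaehlerDifferential.D k₀ K (x t))) = _
      rw [KaehlerDifferential.map_D]
      rfl
  rw [h2] at h0
  have hli' : LinearIndepOn L (fun t : T => (1 : L) ⊗ₜ[K] KaehlerDifferential.D E K (x t)) F :=
    Module.Flat.linearIndependent_one_tmul hli
  have hc0 : c = 0 :=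
    (linearIndepOn_iff.mp hli') c ((Finsupp.mem_supported _ _).mpr hsupp) h0
  rw [hc0, map_zero]

/-- a `p`-basis of a field extension, as a subset -/
theorem exists_pBasis_set :
    ∃ T : Set K, EGA41.IsPBasis p k₀ (fun t : T => id (t : K)) := by
  have hp : p.Prime := Fact.out
  obtain ⟨T, -, -, hTind, hTgen⟩ := exists_maximal_redSet p (id : K → K)
    (hC_pPower (k := k₀) p) (Set.subset_univ (∅ : Set K))
    (linearIndepOn_redSet_empty p id hp.pos (algebraMap_pPower_injective p))
  exact ⟨T, isPBasis_subtype p id T hTind (fun b => hTgen b (Set.mem_univ _))⟩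

theorem exists_linearIndepOn_D_of_iInf {ι : Type*} [Preorder ι] [IsDirected ι (· ≤ ·)]
    [Nonempty ι] (k : ι → IntermediateField k₀ K) (hk : Antitone k)
    (H : (⨅ i, k i ⊔ IntermediateField.adjoin k₀ (Set.range fun y : K => y ^ p)) =
      IntermediateField.adjoin k₀ (Set.range fun y : K => y ^ p))
    (T : Set K) (hbasis : EGA41.IsPBasis p k₀ (fun t : T => id (t : K))) (F : Finset T) :
    ∃ i, LinearIndepOn K (fun t : T => KaehlerDifferential.D (k i) K (id (t : K))) (F : Set T) := by
  classical
  have hp : p.Prime := Fact.out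
  have hGpow : ∀ i (b : K), b ^ p ∈
      k i ⊔ IntermediateField.adjoin k₀ (Set.range fun y : K => y ^ p) := fun i b =>
    (le_sup_right : IntermediateField.adjoin k₀ (Set.range fun y : K => y ^ p) ≤
      k i ⊔ IntermediateField.adjoin k₀ (Set.range fun y : K => y ^ p))
      (IntermediateField.subset_adjoin k₀ _ ⟨b, rfl⟩)
  have hG : Antitone fun i => k i ⊔ IntermediateField.adjoin k₀ (Set.range fun y : K => y ^ p) :=
    fun i j hij => sup_le_sup_right (hk hij) _
  have hmem_iInf : ∀ b : K,
      b ∈ (⨅ i, k i ⊔ IntermediateField.adjoin k₀ (Set.range fun y : K => y ^ p)) ↔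
        ∀ i, b ∈ k i ⊔ IntermediateField.adjoin k₀ (Set.range fun y : K => y ^ p) := fun b => by
    rw [← SetLike.mem_coe, IntermediateField.coe_iInf, Set.mem_iInter]
    rfl
  have hPG : ∀ i (b : K), b ∈ EGA41.pPowerSubalgebra p (k i) K →
      b ∈ k i ⊔ IntermediateField.adjoin k₀ (Set.range fun y : K => y ^ p) := by
    intro i b hb
    unfold EGA41.pPowerSubalgebra at hb
    induction hb using Algebra.adjoin_induction with
    | mem y hy =>
      obtain ⟨z, rfl⟩ := hy
      exact hGpow i z
    | algebraMap r =>
      exact (le_sup_left : k i ≤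
        k i ⊔ IntermediateField.adjoin k₀ (Set.range fun y : K => y ^ p)) r.2
    | add y z _ _ hy hz => exact add_mem hy hz
    | mul y z _ _ hy hz => exact mul_mem hy hz
  let x' : ↥T → K := fun t => id (t : K)
  have hx'ind : LinearIndepOn (EGA41.pPowerSubalgebra p k₀ K) (mono x')
      (redSet p Set.univ) := by
    have h1 := (linearIndependent_redMono_comp_iff p (C := EGA41.pPowerSubalgebra p k₀ K) x'
      hp.pos id Function.injective_id).mp hbasis.1
    rwa [Set.range_id] at h1
  have hC₀ : ∀ b : K,
      (∀ i, b ∈ k i ⊔ IntermediateField.adjoin k₀ (Set.range fun y : K => y ^ p)) →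
      b ∈ Set.range (algebraMap (EGA41.pPowerSubalgebra p k₀ K) K) := by
    intro b hb
    have hb' : b ∈ IntermediateField.adjoin k₀ (Set.range fun y : K => y ^ p) := by
      rw [← H]
      exact (hmem_iInf b).mpr hb
    have h1 := (mem_intermediateField_adjoin_iff p (∅ : Set K) b).mp
      (by rwa [Set.union_empty])
    rw [Algebra.adjoin_empty, Algebra.mem_bot] at h1
    exact h1
  obtain ⟨i, hi⟩ := exists_linearIndepOn_of_iInf p
    (fun i => k i ⊔ IntermediateField.adjoin k₀ (Set.range fun y : K => y ^ p)) hG hGpow hC₀ x'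
    hx'ind F
  refine ⟨i, ?_⟩
  have hi' : LinearIndepOn (EGA41.pPowerSubalgebra p (k i) K) (mono x')
      (redSet p (F : Set T)) := by
    refine linearIndependent_of_forall_exists ?_ hi
    intro r'
    refine ⟨⟨r', hPG i r' r'.2⟩, fun m => rfl, fun h0 => ?_⟩
    have h1 := congrArg (fun c : ↥(k i ⊔ IntermediateField.adjoin k₀
      (Set.range fun y : K => y ^ p)) => (c : K)) h0
    exact Subtype.ext h1
  have hind : EGA41.IsPIndependent p (k i) (fun s : ↥(↑F : Set ↥T) => x' s) := by
    have h1 := (linearIndependent_redMono_comp_iff p (C := EGA41.pPowerSubalgebra p (k i) K) x'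
      hp.pos (Subtype.val : ↥(↑F : Set ↥T) → ↥T) Subtype.val_injective).mpr
      (by rwa [Subtype.range_val])
    exact h1
  exact linearIndependent_D_of_isPIndependent p _ hind

end adm

end Groth.Agent.H44.PBasis
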