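import Mathlib.RingTheory.MvPolynomial.Basic
import Mathlib.RingTheory.Ideal.Maps
import Mathlib.LinearAlgebra.LinearIndependent.Defs
import Mathlib.Algebra.MvPolynomial.Eval
import Mathlib.RingTheory.Adjoin.Polynomial.Basic
import Mathlib.RingTheory.Adjoin.FG
import Groth.Prelude.Def_EGA41

/-!
# `p`-bases: the presentation `B = A₀[X_i]/(X_i^p - a_i)`

For a commutative ring `A₀`, an `A₀`-algebra `B`, a family `x : ι → B` and `a : ι → A₀` with
`algebraMap (a i) = x i ^ p`: every polynomial is congruent modulo the ideal `(X_i^p - a_i)` to one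
with reduced exponents; if the reduced monomials in `x` are linearly independent over `A₀`, the kernel
of `X_i ↦ x_i` is that ideal; if moreover they span, `B` has the universal property of the quotient.
-/

set_option autoImplicit false

namespace Groth.Agent.H44.PBasis

open MvPolynomial

variable {A₀ : Type*} {B : Type*} [CommRing A₀] [CommRing B] [Algebra A₀ B] {ι : Type*}

/-- The ideal generated by the `X i ^ p - a i`. -/
noncomputable def relIdeal (p : ℕ) (a : ι → A₀) : Ideal (MvPolynomial ι A₀) :=
  Ideal.span (Set.range fun i => (X i : MvPolynomial ι A₀) ^ p - C (a i))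

/-- `f` is congruent modulo `relIdeal` to a polynomial with reduced exponents. -/
def IsRedMod (p : ℕ) (a : ι → A₀) (f : MvPolynomial ι A₀) : Prop :=
  ∃ r : MvPolynomial ι A₀, (∀ s ∈ r.support, ∀ i, s i < p) ∧ f - r ∈ relIdeal p a

theorem isRedMod_zero (p : ℕ) (a : ι → A₀) : IsRedMod p a 0 := ⟨0, by simp, by simp⟩

theorem isRedMod_add {p : ℕ} {a : ι → A₀} {f g : MvPolynomial ι A₀} (hf : IsRedMod p a f)
    (hg : IsRedMod p a g) : IsRedMod p a (f + g) := by
  classical
  obtain ⟨r, hr, hfr⟩ := hf
  obtain ⟨r', hr', hgr⟩ := hg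
  refine ⟨r + r', fun s hs i => ?_, ?_⟩
  · rcases Finset.mem_union.mp (MvPolynomial.support_add hs) with h | h
    · exact hr s h i
    · exact hr' s h i
  · have : f + g - (r + r') = (f - r) + (g - r') := by ring
    rw [this]; exact Ideal.add_mem _ hfr hgr

theorem isRedMod_sum {p : ℕ} {a : ι → A₀} {κ : Type*} (t : Finset κ)
    (F : κ → MvPolynomial ι A₀) (h : ∀ k ∈ t, IsRedMod p a (F k)) :
    IsRedMod p a (∑ k ∈ t, F k) :=
  Finset.sum_induction F (IsRedMod p a) (fun _ _ => isRedMod_add) (isRedMod_zero p a) h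

theorem isRedMod_of_mem {p : ℕ} {a : ι → A₀} {f : MvPolynomial ι A₀} (hf : f ∈ relIdeal p a) :
    IsRedMod p a f := ⟨0, by simp, by simpa using hf⟩

theorem isRedMod_monomial_mul_X {p : ℕ} (hp : 0 < p) (a : ι → A₀) (s : ι →₀ ℕ)
    (hs : ∀ i, s i < p) (c : A₀) (i : ι) : IsRedMod p a (monomial s c * X i) := by
  classical
  by_cases h : s i + 1 < p
  · refine ⟨monomial (s + Finsupp.single i 1) c, fun t ht j => ?_, ?_⟩
    · have := Finset.mem_singleton.mp (support_monomial_subset ht)
      subst this
      rw [Finsupp.add_apply, Finsupp.single_apply]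
      split_ifs with hij
      · subst hij; exact h
      · simpa using hs j
    · rw [monomial_add_single, pow_one, sub_self]; exact Ideal.zero_mem _
  · have hsi : s i + 1 = p := by have := hs i; omega
    refine ⟨C (a i) * monomial (s.erase i) c, fun t ht j => ?_, ?_⟩
    · rw [C_mul_monomial] at ht
      have := Finset.mem_singleton.mp (support_monomial_subset ht)
      subst this
      rw [Finsupp.erase_apply]
      split_ifs
      · exact hp
      · exact hs j
    · have h1 : monomial s c = monomial (s.erase i) c * X i ^ (s i) := by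
        rw [← monomial_add_single, Finsupp.erase_add_single]
      have : monomial s c * X i - C (a i) * monomial (s.erase i) c =
          monomial (s.erase i) c * (X i ^ p - C (a i)) := by
        rw [h1, ← hsi, pow_succ]; ring
      rw [this]
      exact Ideal.mul_mem_left _ _ (Ideal.subset_span ⟨i, rfl⟩)

/-- Reduction lemma: every polynomial is reduced modulo `relIdeal`. -/
theorem isRedMod_all {p : ℕ} (hp : 0 < p) (a : ι → A₀) (f : MvPolynomial ι A₀) :
    IsRedMod p a f := by
  induction f using MvPolynomial.induction_on with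
  | C c =>
    refine ⟨C c, fun s hs i => ?_, by simp⟩
    rw [C_apply] at hs
    have := Finset.mem_singleton.mp (support_monomial_subset hs)
    subst this; simpa using hp
  | add f g hf hg => exact isRedMod_add hf hg
  | mul_X f i hf =>
    obtain ⟨r, hr, hfr⟩ := hf
    have h1 : f * X i = r * X i + (f - r) * X i := by ring
    rw [h1]
    refine isRedMod_add ?_ (isRedMod_of_mem (Ideal.mul_mem_right _ _ hfr))
    have h2 : r * X i = ∑ s ∈ r.support, monomial s (coeff s r) * X i := by
      conv_lhs => rw [r.as_sum]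
      rw [Finset.sum_mul]
    rw [h2]
    exact isRedMod_sum _ _ fun s hs => isRedMod_monomial_mul_X hp a s (hr s hs) _ i

theorem aeval_eq_sum (x : ι → B) (f : MvPolynomial ι A₀) :
    aeval x f = ∑ s ∈ f.support, coeff s f • (s.prod fun i n => x i ^ n) := by
  conv_lhs => rw [f.as_sum]
  rw [map_sum]
  refine Finset.sum_congr rfl fun s _ => ?_
  rw [aeval_monomial, Algebra.smul_def]

theorem relIdeal_le_ker {p : ℕ} (x : ι → B) (a : ι → A₀)
    (ha : ∀ i, algebraMap A₀ B (a i) = x i ^ p) :
    relIdeal p a ≤ RingHom.ker (aeval x : MvPolynomial ι A₀ →ₐ[A₀] B) := by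
  refine Ideal.span_le.mpr ?_
  rintro _ ⟨i, rfl⟩
  simp [RingHom.mem_ker, ha]

/-- the family of reduced monomials -/
noncomputable abbrev redMono (p : ℕ) (x : ι → B) :
    {s : ι →₀ ℕ // ∀ i, s i < p} → B := fun e => e.1.prod fun i n => x i ^ n

/-- If the reduced monomials are linearly independent, the kernel of `X_i ↦ x_i` is `relIdeal`. -/
theorem mem_relIdeal_of_aeval_eq_zero {p : ℕ} (hp : 0 < p) (x : ι → B) (a : ι → A₀)
    (ha : ∀ i, algebraMap A₀ B (a i) = x i ^ p)
    (hli : LinearIndependent A₀ (redMono p x))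
    (f : MvPolynomial ι A₀) (hf : aeval x f = 0) : f ∈ relIdeal p a := by
  classical
  obtain ⟨r, hr, hfr⟩ := isRedMod_all hp a f
  have hr0 : aeval x r = 0 := by
    have := relIdeal_le_ker x a ha hfr
    rw [RingHom.mem_ker, map_sub, hf, zero_sub, neg_eq_zero] at this
    exact this
  suffices r = 0 by simpa [this] using hfr
  rw [aeval_eq_sum] at hr0
  rw [linearIndependent_iff''] at hli
  have key := hli (r.support.subtype fun s => ∀ i, s i < p) (fun e => coeff e.1 r)
    (fun e he => by
      rw [Finset.mem_subtype] at he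
      exact notMem_support_iff.mp he)
    (by
      rw [← hr0]
      exact Finset.sum_subtype_of_mem (fun s => coeff s r • (s.prod fun i n => x i ^ n)) hr)
  rw [← support_eq_empty, Finset.eq_empty_iff_forall_notMem]
  intro s hs
  exact (mem_support_iff.mp hs) (key ⟨s, hr s hs⟩)

theorem aeval_mem_span {p : ℕ} (hp : 0 < p) (x : ι → B) (a : ι → A₀)
    (ha : ∀ i, algebraMap A₀ B (a i) = x i ^ p) (f : MvPolynomial ι A₀) :
    aeval x f ∈ Submodule.span A₀ (Set.range (redMono p x)) := by
  obtain ⟨r, hr, hfr⟩ := isRedMod_all hp a f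
  have hfr' : aeval x f = aeval x r := by
    have := relIdeal_le_ker x a ha hfr
    rw [RingHom.mem_ker, map_sub, sub_eq_zero] at this
    exact this
  rw [hfr', aeval_eq_sum]
  exact Submodule.sum_mem _ fun s hs =>
    Submodule.smul_mem _ _ (Submodule.subset_span ⟨⟨s, hr s hs⟩, rfl⟩)

/-- The subalgebra generated by the `x i` is the span of the reduced monomials. -/
theorem adjoin_toSubmodule_eq_span {p : ℕ} (hp : 0 < p) (x : ι → B) (a : ι → A₀)
    (ha : ∀ i, algebraMap A₀ B (a i) = x i ^ p) :
    Subalgebra.toSubmodule (Algebra.adjoin A₀ (Set.range x)) =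
      Submodule.span A₀ (Set.range (redMono p x)) := by
  rw [Algebra.adjoin_range_eq_range_aeval]
  apply le_antisymm
  · intro b hb
    rw [Subalgebra.mem_toSubmodule, AlgHom.mem_range] at hb
    obtain ⟨f, rfl⟩ := hb
    exact aeval_mem_span hp x a ha f
  · refine Submodule.span_le.mpr ?_
    rintro _ ⟨e, rfl⟩
    exact ⟨monomial e.1 1, by simp [aeval_monomial]⟩

theorem aeval_surjective {p : ℕ} (hp : 0 < p) (x : ι → B) (a : ι → A₀)
    (ha : ∀ i, algebraMap A₀ B (a i) = x i ^ p)
    (hsp : Submodule.span A₀ (Set.range (redMono p x)) = ⊤) :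
    Function.Surjective (aeval x : MvPolynomial ι A₀ →ₐ[A₀] B) := by
  intro b
  have hb : b ∈ Subalgebra.toSubmodule (Algebra.adjoin A₀ (Set.range x)) := by
    rw [adjoin_toSubmodule_eq_span hp x a ha, hsp]; trivial
  rw [Subalgebra.mem_toSubmodule, Algebra.adjoin_range_eq_range_aeval, AlgHom.mem_range] at hb
  exact hb

/-- Universal property of a `p`-basis (ring homomorphism form). -/
theorem existsUnique_ringHom {p : ℕ} (hp : 0 < p) (x : ι → B) (a : ι → A₀)
    (ha : ∀ i, algebraMap A₀ B (a i) = x i ^ p)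
    (hli : LinearIndependent A₀ (redMono p x))
    (hsp : Submodule.span A₀ (Set.range (redMono p x)) = ⊤)
    {E : Type*} [CommRing E] (g : A₀ →+* E) (z : ι → E) (hz : ∀ i, z i ^ p = g (a i)) :
    ∃! v : B →+* E, v.comp (algebraMap A₀ B) = g ∧ ∀ i, v (x i) = z i := by
  have hsurj := aeval_surjective hp x a ha hsp
  let φ : MvPolynomial ι A₀ →+* B := (aeval x : MvPolynomial ι A₀ →ₐ[A₀] B).toRingHom
  let ψ : MvPolynomial ι A₀ →+* E := eval₂Hom g z
  have hφ : ∀ f, φ f = aeval x f := fun _ => rfl
  have hker : RingHom.ker φ ≤ RingHom.ker ψ := by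
    intro f hf
    have hfJ : f ∈ relIdeal p a :=
      mem_relIdeal_of_aeval_eq_zero hp x a ha hli f (by rwa [RingHom.mem_ker, hφ] at hf)
    have : relIdeal p a ≤ RingHom.ker ψ := by
      refine Ideal.span_le.mpr ?_
      rintro _ ⟨i, rfl⟩
      simp [ψ, RingHom.mem_ker, hz]
    exact this hfJ
  refine ⟨φ.liftOfSurjective hsurj ⟨ψ, hker⟩, ⟨?_, ?_⟩, ?_⟩
  · ext c
    have := RingHom.liftOfSurjective_comp_apply φ hsurj ⟨ψ, hker⟩ (C c)
    simpa [φ, ψ] using this
  · intro i
    have := RingHom.liftOfSurjective_comp_apply φ hsurj ⟨ψ, hker⟩ (X i)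
    simpa [φ, ψ] using this
  · rintro v ⟨hv1, hv2⟩
    refine RingHom.eq_liftOfSurjective φ hsurj ψ hker v ?_
    apply MvPolynomial.ringHom_ext
    · intro c
      have := congrArg (fun h => h c) hv1
      simpa [φ, ψ] using this
    · intro i
      simpa [φ, ψ] using hv2 i

section EGA

universe u

variable (p : ℕ) {A B : Type u} [CommRing A] [CommRing B] [Algebra A B] {ι : Type u} (x : ι → B)

theorem exists_algebraMap_eq_of_pow_mem_range (hpow : ∀ b : B, b ^ p ∈ Set.range (algebraMap A B))
    (c : EGA41.pPowerSubalgebra p A B) : ∃ a : A, algebraMap A B a = c := by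
  have h : EGA41.pPowerSubalgebra p A B ≤ ⊥ := by
    unfold EGA41.pPowerSubalgebra
    refine Algebra.adjoin_le ?_
    rintro _ ⟨b, rfl⟩
    exact Algebra.mem_bot.mpr (hpow b)
  exact Algebra.mem_bot.mp (h c.2)

theorem pow_mem_pPowerSubalgebra (b : B) : b ^ p ∈ EGA41.pPowerSubalgebra p A B :=
  Algebra.subset_adjoin ⟨b, rfl⟩

theorem linearIndependent_of_isPIndependent (hinj : Function.Injective (algebraMap A B))
    (hx : EGA41.IsPIndependent p A x) : LinearIndependent A (redMono p x) := by
  have h1 : LinearIndependent (EGA41.pPowerSubalgebra p A B) (redMono p x) := hx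
  refine h1.restrict_scalars ?_
  intro r r' h
  have := congrArg (fun c : EGA41.pPowerSubalgebra p A B => (c : B)) h
  apply hinj
  simpa [Algebra.algebraMap_eq_smul_one] using this

theorem span_eq_top_of_isPGenerating (hpow : ∀ b : B, b ^ p ∈ Set.range (algebraMap A B))
    (hx : EGA41.IsPGenerating p A x) : Submodule.span A (Set.range (redMono p x)) = ⊤ := by
  have h1 : Submodule.span (EGA41.pPowerSubalgebra p A B) (Set.range (redMono p x)) = ⊤ := hx
  have hsur : Function.Surjective (algebraMap A (EGA41.pPowerSubalgebra p A B)) := by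
    intro c
    obtain ⟨a, ha⟩ := exists_algebraMap_eq_of_pow_mem_range p hpow c
    exact ⟨a, Subtype.ext ha⟩
  rw [← Submodule.restrictScalars_span A (EGA41.pPowerSubalgebra p A B) hsur, h1,
    Submodule.restrictScalars_top]

end EGA

end Groth.Agent.H44.PBasis
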