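import Groth.Agent.H44.MacLane
import Groth.Agent.H44.PBasisAdm
import Groth.Agent.S4541
import Mathlib.RingTheory.Smooth.Field
import Mathlib.RingTheory.Kaehler.JacobiZariski
import Mathlib.RingTheory.Unramified.Field
import Mathlib.RingTheory.EssentialFiniteness
import Mathlib.Algebra.Algebra.ZMod
import Mathlib.Algebra.Field.ULift
import Mathlib.Algebra.Field.ZMod
import Mathlib.FieldTheory.Perfect

/-!
# MacLane's criterion in all characteristics, and formal smoothness of field extensions

* `isGeometricallyReduced_iff_injective_mapBaseChange'`: `K/k` is geometrically reduced iff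
  `K ⊗ Ω[k⁄ℤ] → Ω[K⁄ℤ]` is injective (no hypothesis on the characteristic);
* `formallySmooth_iff_injective_mapBaseChange`: `K/k` is formally smooth iff the same map is
  injective;
* `injective_mapBaseChange_iff_forall_exists_derivation'`: duality with the extension property of
  derivations, over any base ring;
* `derivationOfKills`: a derivation killing the image of `R` is `R`-linear.
-/

set_option autoImplicit false

universe u v

open TensorProduct

namespace Groth.Agent.H44.MacLane

section kills

/-- a derivation which kills the image of `R` is `R`-linear -/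
def derivationOfKills {R₀ R A M : Type*} [CommRing R₀] [CommRing R] [CommRing A] [AddCommGroup M]
    [Algebra R₀ A] [Algebra R A] [Module A M] [Module R₀ M] [Module R M] [IsScalarTower R A M]
    (D : Derivation R₀ A M) (h : ∀ r : R, D (algebraMap R A r) = 0) : Derivation R A M where
  toFun := D
  map_add' := map_add D
  map_smul' r x := by
    rw [RingHom.id_apply, Algebra.smul_def, D.leibniz, h, smul_zero, add_zero, algebraMap_smul]
  map_one_eq_zero' := D.map_one_eq_zero
  leibniz' := D.leibniz

@[simp] theorem derivationOfKills_apply {R₀ R A M : Type*} [CommRing R₀] [CommRing R] [CommRing A]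
    [AddCommGroup M] [Algebra R₀ A] [Algebra R A] [Module A M] [Module R₀ M] [Module R M]
    [IsScalarTower R A M] (D : Derivation R₀ A M) (h : ∀ r : R, D (algebraMap R A r) = 0) (x : A) :
    derivationOfKills D h x = D x := rfl

end kills

section dual'

variable {R : Type*} [CommRing R] {k : Type v} {K : Type u} [Field k] [Field K] [Algebra k K] [Algebra R k]
  [Algebra R K] [IsScalarTower R k K]

/-- Injectivity of `K ⊗ Ω[k⁄R] → Ω[K⁄R]` is dual to the extension property for derivations. -/
theorem injective_mapBaseChange_iff_forall_exists_derivation' :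
    Function.Injective (KaehlerDifferential.mapBaseChange R k K) ↔
      ∀ D : Derivation R k K, ∃ D' : Derivation R K K, ∀ a : k, D' (algebraMap k K a) = D a := by
  rw [← LinearMap.dualMap_surjective_iff]
  constructor
  · intro hsurj D
    obtain ⟨ψ, hψ⟩ := hsurj (LinearMap.liftBaseChange K D.liftKaehlerDifferential)
    refine ⟨ψ.compDer (KaehlerDifferential.D R K), fun a => ?_⟩
    have h1 := LinearMap.congr_fun hψ ((1 : K) ⊗ₜ[k] KaehlerDifferential.D R k a)
    rw [LinearMap.dualMap_apply, KaehlerDifferential.mapBaseChange_tmul, one_smul,
      KaehlerDifferential.map_D, LinearMap.liftBaseChange_tmul, one_smul,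
      Derivation.liftKaehlerDifferential_comp_D] at h1
    exact h1
  · intro hext χ
    let φ : Ω[k⁄R] →ₗ[k] K := (χ.restrictScalars k).comp (TensorProduct.mk k K (Ω[k⁄R]) 1)
    obtain ⟨D', hD'⟩ := hext (φ.compDer (KaehlerDifferential.D R k))
    refine ⟨D'.liftKaehlerDifferential, ?_⟩
    have key : ∀ ω : Ω[k⁄R],
        D'.liftKaehlerDifferential (KaehlerDifferential.map R R k K ω) = φ ω := by
      intro ω
      have hω : ω ∈ Submodule.span k (Set.range (KaehlerDifferential.D R k)) := by
        rw [KaehlerDifferential.span_range_derivation]
        trivial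
      induction hω using Submodule.span_induction with
      | mem z hz =>
        obtain ⟨a, rfl⟩ := hz
        rw [KaehlerDifferential.map_D, Derivation.liftKaehlerDifferential_comp_D, hD']
        rfl
      | zero => rw [map_zero, map_zero, map_zero]
      | add y z _ _ hy hz => rw [map_add, map_add, map_add, hy, hz]
      | smul r y _ hy =>
        rw [map_smul, LinearMap.map_smul_of_tower, hy, map_smul]
    apply LinearMap.ext
    intro ξ
    rw [LinearMap.dualMap_apply]
    induction ξ using TensorProduct.induction_on with
    | zero => rw [map_zero, map_zero, map_zero]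
    | tmul c ω =>
      rw [KaehlerDifferential.mapBaseChange_tmul, map_smul, key]
      have h1 : c ⊗ₜ[k] ω = c • ((1 : K) ⊗ₜ[k] ω) := by
        rw [TensorProduct.smul_tmul', smul_eq_mul, mul_one]
      rw [h1, map_smul]
      rfl
    | add y z hy hz => rw [map_add, map_add, map_add, hy, hz]

end dual'

section charZero

/-- Over a perfect field every field extension is geometrically reduced. -/
theorem isGeometricallyReduced_of_perfectField {k K : Type*} [Field k] [Field K] [Algebra k K]
    [PerfectField k] : Algebra.IsGeometricallyReduced k K := by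
  rw [Algebra.isGeometricallyReduced_field_iff]
  have h2 : IsReduced (K ⊗[k] AlgebraicClosure k) := by
    apply IsReduced.tensorProduct_of_flat_of_forall_fg
    intro B hB
    obtain ⟨s, hs⟩ := hB
    let L : IntermediateField k (AlgebraicClosure k) :=
      IntermediateField.adjoin k (s : Set (AlgebraicClosure k))
    have hBL : ∀ x ∈ B, x ∈ L := by
      intro x hx
      rw [← hs] at hx
      exact IntermediateField.algebra_adjoin_le_adjoin k _ hx
    haveI : FiniteDimensional k L :=
      IntermediateField.finiteDimensional_adjoin (fun x _ => Algebra.IsIntegral.isIntegral x)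
    haveI : Algebra.FormallyUnramified k L := Algebra.FormallyUnramified.of_isSeparable k L
    haveI : IsReduced (K ⊗[k] L) := Algebra.FormallyUnramified.isReduced_of_field K (K ⊗[k] L)
    let g : B →ₐ[k] L :=
      { toFun := fun x => ⟨x.1, hBL x.1 x.2⟩
        map_one' := rfl
        map_mul' := fun _ _ => rfl
        map_zero' := rfl
        map_add' := fun _ _ => rfl
        commutes' := fun _ => rfl }
    have hg : Function.Injective g := fun x y h =>
      Subtype.ext (congrArg (fun z : L => (z : AlgebraicClosure k)) h)
    have h_inj : Function.Injective (Algebra.TensorProduct.map (AlgHom.id K K) g) :=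
      Module.Flat.lTensor_preserves_injective_linearMap _ hg
    exact isReduced_of_injective _ h_inj
  exact isReduced_of_injective (Algebra.TensorProduct.comm k (AlgebraicClosure k) K)
    (AlgEquiv.injective _)

/-- In characteristic zero every field extension is formally smooth. -/
theorem formallySmooth_of_charZero {k K : Type*} [Field k] [Field K] [Algebra k K] [CharZero k] :
    Algebra.FormallySmooth k K := by
  obtain ⟨s, hs⟩ := exists_isTranscendenceBasis k K
  haveI : Algebra.IsAlgebraic (IntermediateField.adjoin k (Set.range ((↑) : s → K))) K :=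
    hs.isAlgebraic_field
  haveI : CharZero (IntermediateField.adjoin k (Set.range ((↑) : s → K))) :=
    charZero_of_injective_algebraMap (algebraMap k _).injective
  haveI : Algebra.IsSeparable (IntermediateField.adjoin k (Set.range ((↑) : s → K))) K :=
    inferInstance
  exact Algebra.FormallySmooth.of_algebraicIndependent_of_isSeparable hs.1

end charZero

section smooth

/-- If `T` is formally smooth over `S`, then `T ⊗ Ω[S⁄R] → Ω[T⁄R]` is injective. -/
theorem injective_mapBaseChange_of_formallySmooth (R : Type*) {S T : Type*} [CommRing R]
    [CommRing S] [CommRing T] [Algebra R S] [Algebra R T] [Algebra S T] [IsScalarTower R S T]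
    [Algebra.FormallySmooth S T] :
    Function.Injective (KaehlerDifferential.mapBaseChange R S T) := by
  rw [injective_iff_map_eq_zero]
  intro z hz
  obtain ⟨x, rfl⟩ := (Algebra.H1Cotangent.exact_δ_mapBaseChange R S T z).mp hz
  rw [Subsingleton.elim x 0, map_zero]

theorem formallySmooth_of_injective_mapBaseChange_aux (p : ℕ) [Fact p.Prime] {A k K : Type u}
    [Field A] [Field k] [Field K] [Algebra A k] [Algebra A K] [Algebra k K] [IsScalarTower A k K]
    [CharP A p] [PerfectRing A p] [CharP K p]
    (h : Function.Injective (KaehlerDifferential.mapBaseChange ℤ k K)) :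
    Algebra.FormallySmooth k K := by
  have hp : p.Prime := Fact.out
  obtain ⟨T, hT⟩ := Groth.Agent.H44.PBasis.exists_pBasis_set p (k₀ := A) (K := K)
  haveI hFS : Algebra.FormallySmooth A K :=
    (Groth.Agent.S4541.result p (fun t : T => id (t : K)) hT).1
  have hbot : Function.Injective (KaehlerDifferential.mapBaseChange A k K) := by
    rw [injective_mapBaseChange_iff_forall_exists_derivation']
    intro D
    obtain ⟨D', hD'⟩ :=
      (injective_mapBaseChange_iff_forall_exists_derivation' (R := ℤ)).mp h (D.restrictScalars ℤ)
    refine ⟨derivationOfKills D' (fun a => ?_), hD'⟩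
    obtain ⟨b, rfl⟩ := (PerfectRing.bijective_frobenius (R := A) (p := p)).2 a
    show D' (algebraMap A K (b ^ p)) = 0
    rw [map_pow, Derivation.leibniz_pow, ← Nat.cast_smul_eq_nsmul K,
      CharP.cast_eq_zero K p, zero_smul]
  have hex1 := Algebra.H1Cotangent.exact_map_δ A k K
  have hex2 := Algebra.H1Cotangent.exact_δ_mapBaseChange A k K
  have hδ0 : ∀ x, Algebra.H1Cotangent.δ A k K x = 0 := fun x =>
    hbot (((hex2 _).mpr ⟨x, rfl⟩).trans (map_zero _).symm)
  refine ⟨inferInstance, ⟨fun x y => ?_⟩⟩
  obtain ⟨x', rfl⟩ := (hex1 x).mp (hδ0 x)
  obtain ⟨y', rfl⟩ := (hex1 y).mp (hδ0 y)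
  rw [Subsingleton.elim x' y']

theorem formallySmooth_of_injective_mapBaseChange (p : ℕ) [Fact p.Prime] {k K : Type u}
    [Field k] [Field K] [Algebra k K] [CharP k p] [CharP K p]
    (h : Function.Injective (KaehlerDifferential.mapBaseChange ℤ k K)) :
    Algebra.FormallySmooth k K := by
  have hp : p.Prime := Fact.out
  letI a1 : Algebra (ZMod p) k := ZMod.algebra k p
  letI a2 : Algebra (ZMod p) K := ZMod.algebra K p
  letI : Algebra (ULift.{u} (ZMod p)) k :=
    ((algebraMap (ZMod p) k).comp
      (ULift.ringEquiv : ULift.{u} (ZMod p) ≃+* ZMod p).toRingHom).toAlgebra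
  letI : Algebra (ULift.{u} (ZMod p)) K :=
    ((algebraMap (ZMod p) K).comp
      (ULift.ringEquiv : ULift.{u} (ZMod p) ≃+* ZMod p).toRingHom).toAlgebra
  haveI : ExpChar (ULift.{u} (ZMod p)) p := ExpChar.prime hp
  haveI : PerfectRing (ULift.{u} (ZMod p)) p := inferInstance
  refine @formallySmooth_of_injective_mapBaseChange_aux p _ (ULift.{u} (ZMod p)) k K _ _ _ _ _ _
    ?_ _ _ _ h
  refine IsScalarTower.of_algebraMap_eq fun (a : ULift.{u} (ZMod p)) => ?_
  show algebraMap (ZMod p) K a.down = algebraMap k K (algebraMap (ZMod p) k a.down)
  exact RingHom.congr_fun (Subsingleton.elim (algebraMap (ZMod p) K)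
    ((algebraMap k K).comp (algebraMap (ZMod p) k))) a.down

end smooth

section main


/-- MacLane's criterion, all characteristics. -/
theorem isGeometricallyReduced_iff_injective_mapBaseChange' {k : Type v} {K : Type u} [Field k]
    [Field K] [Algebra k K] :
    Algebra.IsGeometricallyReduced k K ↔
      Function.Injective (KaehlerDifferential.mapBaseChange ℤ k K) := by
  obtain h0 | ⟨p, hp, hpk⟩ := CharP.exists' k
  · haveI := h0
    haveI : Algebra.FormallySmooth k K := formallySmooth_of_charZero
    exact ⟨fun _ => injective_mapBaseChange_of_formallySmooth ℤ,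
      fun _ => isGeometricallyReduced_of_perfectField⟩
  · haveI := hp
    haveI := hpk
    haveI : CharP K p := charP_of_injective_algebraMap (algebraMap k K).injective p
    exact isGeometricallyReduced_iff_injective_mapBaseChange p

variable {k K : Type u} [Field k] [Field K] [Algebra k K]

theorem formallySmooth_iff_injective_mapBaseChange :
    Algebra.FormallySmooth k K ↔
      Function.Injective (KaehlerDifferential.mapBaseChange ℤ k K) := by
  refine ⟨fun _ => injective_mapBaseChange_of_formallySmooth ℤ, fun h => ?_⟩
  obtain h0 | ⟨p, hp, hpk⟩ := CharP.exists' k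
  · haveI := h0
    exact formallySmooth_of_charZero
  · haveI := hp
    haveI := hpk
    haveI : CharP K p := charP_of_injective_algebraMap (algebraMap k K).injective p
    exact formallySmooth_of_injective_mapBaseChange p h

theorem formallySmooth_iff_isGeometricallyReduced :
    Algebra.FormallySmooth k K ↔ Algebra.IsGeometricallyReduced k K :=
  formallySmooth_iff_injective_mapBaseChange.trans
    isGeometricallyReduced_iff_injective_mapBaseChange'.symm

end main

end Groth.Agent.H44.MacLane
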