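import Mathlib
import Groth.Prelude.Def_FlatMod2
import Groth.Prelude.Def_FDesc
import Groth.Agent.H7.AssTensorFlat

/-!
# (SL) for helper7 (S4980): length of a stalk of the restriction to a fibre
-/

set_option autoImplicit false
set_option linter.style.haveILetI false
universe u
open CategoryTheory CategoryTheory.Limits AlgebraicGeometry TopologicalSpace Opposite TensorProduct
open IsLocalRing

namespace Groth.Agent.H44.DvrLen_SL

/-- base change along a surjective ring map: the length of `S ⊗[R] M` over `S` is the length of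
`M ⧸ (ker φ) M` over `R`. -/
theorem length_tensor_eq {R S : Type u} [CommRing R] [CommRing S] (φ : R →+* S)
    (hφ : Function.Surjective φ) (M : Type u) [AddCommGroup M] [Module R M] :
    letI := φ.toAlgebra
    Module.length S (S ⊗[R] M) =
      Module.length R (M ⧸ (RingHom.ker φ • ⊤ : Submodule R M)) := by
  letI := φ.toAlgebra
  have h1 : Module.length R (S ⊗[R] M) = Module.length S (S ⊗[R] M) :=
    Module.length_eq_of_surjective (S := R) (R := S) (M := S ⊗[R] M) hφ
  rw [← h1]
  have hsurj : Function.Surjective (Algebra.ofId R S) := hφ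
  let e1 : (R ⧸ RingHom.ker (Algebra.ofId R S)) ≃ₐ[R] S :=
    Ideal.quotientKerAlgEquivOfSurjective hsurj
  have hker : RingHom.ker (Algebra.ofId R S) = RingHom.ker φ := by
    ext x
    rw [RingHom.mem_ker, RingHom.mem_ker]
    rfl
  let e2 : S ⊗[R] M ≃ₗ[R] (R ⧸ RingHom.ker (Algebra.ofId R S)) ⊗[R] M :=
    TensorProduct.congr e1.symm.toLinearEquiv (LinearEquiv.refl R M)
  let e3 := TensorProduct.quotTensorEquivQuotSMul M (RingHom.ker (Algebra.ofId R S))
  rw [(e2.trans e3).length_eq, hker]

/-- (SL) length of a stalk of the restriction to a fibre. -/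
theorem length_stalk_fibre {X Y : Scheme.{u}} (f : X ⟶ Y) (F : X.Modules) [F.IsQuasicoherent]
    (s : Y) (v : f.fiber s) :
    Module.length ((f.fiber s).presheaf.stalk v)
        (((Scheme.Modules.pullback (f.fiberι s)).obj F).presheaf.stalk v) =
      Module.length (X.presheaf.stalk (f.fiberι s v))
        ((F.presheaf.stalk (f.fiberι s v)) ⧸
          ((Ideal.map (f.stalkMap (f.fiberι s v)).hom
              (maximalIdeal (Y.presheaf.stalk (f (f.fiberι s v))))) •
            (⊤ : Submodule (X.presheaf.stalk (f.fiberι s v)) (F.presheaf.stalk (f.fiberι s v))))) := by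
  obtain ⟨hsurj, hker⟩ := Groth.Agent.H9.stalkMap_fiberι_surjective_and_ker_eq f s v
  letI := ((f.fiberι s).stalkMap v).hom.toAlgebra
  obtain ⟨e⟩ := Groth.Agent.H8.nonempty_stalk_pullback_equiv (f.fiberι s) F v
  rw [e.length_eq]
  have h2 := length_tensor_eq ((f.fiberι s).stalkMap v).hom hsurj (F.presheaf.stalk (f.fiberι s v))
  rw [hker] at h2
  exact h2

end Groth.Agent.H44.DvrLen_SL
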