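import Mathlib
import Groth.Prelude.Def_EGA4b
import Groth.Agent.H17.NoethConstr
import Groth.Agent.H71.RegularLoc
import Groth.Agent.H58.HtChain

/-!
# Nagata's criterion for the openness of the regular locus
-/

set_option autoImplicit false

universe u

open IsLocalRing

namespace Groth.Agent.H44.NagataCrit

/-- `ht P + ht(q/P) ≤ ht q` for primes `P ≤ q` (proof as in `H72.Faltings`, by helper72). -/
lemma height_add_height_map_le {S : Type*} [CommRing S] (P q : Ideal S) [P.IsPrime] [q.IsPrime]
    (hPq : P ≤ q) : P.height + (q.map (Ideal.Quotient.mk P)).height ≤ q.height := by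
  have hqP : (q.map (Ideal.Quotient.mk P)).IsPrime :=
    Ideal.map_isPrime_of_surjective Ideal.Quotient.mk_surjective (by rw [Ideal.mk_ker]; exact hPq)
  let φ : PrimeSpectrum (S ⧸ P) → PrimeSpectrum S :=
    fun Q => ⟨Q.asIdeal.comap (Ideal.Quotient.mk P), inferInstance⟩
  have hφ : StrictMono φ := by
    intro Q Q' h
    have hle : Q.asIdeal ≤ Q'.asIdeal := h.le
    have hne : ¬ Q'.asIdeal ≤ Q.asIdeal := fun h' => h.not_ge h'
    rw [lt_iff_le_not_ge]
    refine ⟨Ideal.comap_mono hle, fun hge => hne ?_⟩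
    have hge' : Q'.asIdeal.comap (Ideal.Quotient.mk P) ≤ Q.asIdeal.comap (Ideal.Quotient.mk P) :=
      hge
    intro y hy
    obtain ⟨z, rfl⟩ := Ideal.Quotient.mk_surjective y
    exact hge' hy
  have hb : ∀ Q, (⟨P, inferInstance⟩ : PrimeSpectrum S) ≤ φ Q := by
    intro Q
    show P ≤ Q.asIdeal.comap (Ideal.Quotient.mk P)
    intro r hr
    show Ideal.Quotient.mk P r ∈ Q.asIdeal
    rw [Ideal.Quotient.eq_zero_iff_mem.2 hr]
    exact Q.asIdeal.zero_mem
  have hφQ : φ ⟨q.map (Ideal.Quotient.mk P), hqP⟩ = ⟨q, inferInstance⟩ := by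
    apply PrimeSpectrum.ext
    show (q.map (Ideal.Quotient.mk P)).comap (Ideal.Quotient.mk P) = q
    rw [Ideal.comap_map_of_surjective _ Ideal.Quotient.mk_surjective,
      ← RingHom.ker_eq_comap_bot, Ideal.mk_ker, sup_eq_left.mpr hPq]
  have h := Groth.Agent.H58.Ht.height_add_le φ hφ ⟨P, inferInstance⟩ hb
    ⟨q.map (Ideal.Quotient.mk P), hqP⟩
  rw [hφQ, ← PrimeSpectrum.height_eq_orderHeight, ← PrimeSpectrum.height_eq_orderHeight,
    ← PrimeSpectrum.height_eq_orderHeight] at h
  exact h

section topo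

/-- Topological form of Nagata's criterion. -/
theorem isOpen_regLocus_iff (R : Type u) [CommRing R] [IsNoetherianRing R] :
    IsOpen (EGA4.regLocus R) ↔
      ∀ p ∈ EGA4.regLocus R, ∃ U : Set (PrimeSpectrum R), IsOpen U ∧
        (U ∩ PrimeSpectrum.zeroLocus (p.asIdeal : Set R)).Nonempty ∧
        U ∩ PrimeSpectrum.zeroLocus (p.asIdeal : Set R) ⊆ EGA4.regLocus R := by
  constructor
  · intro h p hp
    exact ⟨_, h, ⟨p, hp, by rw [PrimeSpectrum.mem_zeroLocus]⟩, Set.inter_subset_left⟩
  · intro h
    apply Groth.Agent.H17.NoethConstr.isOpen_of_forall_irreducible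
    intro Y hY hirr hne
    obtain ⟨z, hzE, hzY⟩ := hne
    haveI hP : (PrimeSpectrum.vanishingIdeal Y).IsPrime :=
      PrimeSpectrum.isIrreducible_iff_vanishingIdeal_isPrime.mp hirr
    have hYeq : PrimeSpectrum.zeroLocus (PrimeSpectrum.vanishingIdeal Y : Set R) = Y := by
      rw [PrimeSpectrum.zeroLocus_vanishingIdeal_eq_closure, hY.closure_eq]
    have hpz : PrimeSpectrum.vanishingIdeal Y ≤ z.asIdeal := by
      have h1 : z ∈ PrimeSpectrum.zeroLocus (PrimeSpectrum.vanishingIdeal Y : Set R) := by
        rw [hYeq]; exact hzY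
      exact (PrimeSpectrum.mem_zeroLocus _ _).mp h1
    have hpE : (⟨PrimeSpectrum.vanishingIdeal Y, hP⟩ : PrimeSpectrum R) ∈ EGA4.regLocus R := by
      show IsRegularLocalRing (Localization.AtPrime (PrimeSpectrum.vanishingIdeal Y))
      haveI : IsRegularLocalRing (Localization.AtPrime z.asIdeal) := hzE
      exact Groth.Agent.H71.RL.regular_of_le (PrimeSpectrum.vanishingIdeal Y) z.asIdeal hpz
    obtain ⟨U, hU, hne', hsub⟩ := h _ hpE
    have hYeq' : PrimeSpectrum.zeroLocus
        (((⟨PrimeSpectrum.vanishingIdeal Y, hP⟩ : PrimeSpectrum R).asIdeal : Ideal R) : Set R) =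
        Y := hYeq
    rw [hYeq'] at hne' hsub
    exact ⟨U, hU, hne', hsub⟩

end topo

section alg

theorem exists_mul_mem_of_algebraMap_mem_map {A : Type*} [CommRing A] (M : Submonoid A)
    (S : Type*) [CommRing S] [Algebra A S] [IsLocalization M S] (J : Ideal A) (x : A)
    (hx : algebraMap A S x ∈ J.map (algebraMap A S)) : ∃ s ∈ M, s * x ∈ J := by
  obtain ⟨⟨a, s⟩, h⟩ := (IsLocalization.mem_map_algebraMap_iff M S).mp hx
  have h' : algebraMap A S (x * s) = algebraMap A S a := by
    rw [map_mul]; exact h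
  obtain ⟨c, hc⟩ := (IsLocalization.eq_iff_exists M S).mp h'
  refine ⟨c * s, M.mul_mem c.2 s.2, ?_⟩
  have e : (c : A) * s * x = c * a := by rw [← hc]; ring
  rw [e]
  exact J.mul_mem_left _ a.2

theorem exists_notMem_forall_mul_mem {A : Type*} [CommRing A] [IsNoetherianRing A]
    (p : Ideal A) [hp : p.IsPrime] (I : Ideal A)
    (h : p.map (algebraMap A (Localization.AtPrime p)) ≤
      I.map (algebraMap A (Localization.AtPrime p))) :
    ∃ g, g ∉ p ∧ ∀ x ∈ p, g * x ∈ I := by
  classical
  obtain ⟨S, hS⟩ := (isNoetherianRing_iff_ideal_fg A).mp inferInstance p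
  have key : ∀ b ∈ S, ∃ s, s ∉ p ∧ s * b ∈ I := by
    intro b hb
    have hbp : b ∈ p := by rw [← hS]; exact Ideal.subset_span hb
    obtain ⟨s, hs, hsb⟩ := exists_mul_mem_of_algebraMap_mem_map p.primeCompl
      (Localization.AtPrime p) I b (h (Ideal.mem_map_of_mem _ hbp))
    exact ⟨s, hs, hsb⟩
  choose! s hs hsb using key
  refine ⟨∏ b ∈ S, s b, ?_, ?_⟩
  · intro hmem
    obtain ⟨b, hb, hb'⟩ := Ideal.IsPrime.prod_mem_iff.mp hmem
    exact hs b hb hb'
  · intro x hx
    rw [← hS] at hx
    induction hx using Submodule.span_induction with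
    | mem b hb =>
      obtain ⟨c, hc⟩ := Finset.dvd_prod_of_mem s hb
      rw [hc]
      have e : s b * c * b = c * (s b * b) := by ring
      rw [e]
      exact I.mul_mem_left _ (hsb b hb)
    | zero => simp
    | add x y _ _ hx hy => rw [mul_add]; exact I.add_mem hx hy
    | smul a x _ hx => rw [smul_eq_mul, mul_left_comm]; exact I.mul_mem_left _ hx

theorem exists_finset_map_eq {A : Type*} [CommRing A] [IsNoetherianRing A] (p : Ideal A)
    [p.IsPrime] :
    ∃ T : Finset A, (T : Set A) ⊆ p ∧
      T.card ≤ (maximalIdeal (Localization.AtPrime p)).spanFinrank ∧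
      (Ideal.span (T : Set A)).map (algebraMap A (Localization.AtPrime p)) =
        maximalIdeal (Localization.AtPrime p) := by
  classical
  haveI : IsNoetherianRing (Localization.AtPrime p) :=
    IsLocalization.isNoetherianRing p.primeCompl _ inferInstance
  obtain ⟨T0, hcard, hspan⟩ := Submodule.FG.exists_span_finset_card_eq_spanFinrank
    (maximalIdeal (Localization.AtPrime p)).fg_of_isNoetherianRing
  let a : Localization.AtPrime p → A := fun y => (IsLocalization.sec p.primeCompl y).1
  have ha : ∀ y, y * algebraMap A (Localization.AtPrime p)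
      ((IsLocalization.sec p.primeCompl y).2 : A) = algebraMap A (Localization.AtPrime p) (a y) :=
    fun y => IsLocalization.sec_spec p.primeCompl y
  have hT0 : ∀ y ∈ T0, y ∈ maximalIdeal (Localization.AtPrime p) := by
    intro y hy
    rw [← hspan]
    exact Submodule.subset_span hy
  have hmem : ∀ y ∈ T0, algebraMap A (Localization.AtPrime p) (a y) ∈
      maximalIdeal (Localization.AtPrime p) := by
    intro y hy
    rw [← ha y]
    exact Ideal.mul_mem_right _ _ (hT0 y hy)
  refine ⟨T0.image a, ?_, ?_, ?_⟩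
  · intro x hx
    obtain ⟨y, hy, rfl⟩ := Finset.mem_image.mp (Finset.mem_coe.mp hx)
    exact (IsLocalization.AtPrime.to_map_mem_maximal_iff (Localization.AtPrime p) p (a y)).mp
      (hmem y hy)
  · rw [← hcard]
    exact Finset.card_image_le
  · apply le_antisymm
    · rw [Ideal.map_span, Ideal.span_le]
      rintro _ ⟨x, hx, rfl⟩
      obtain ⟨y, hy, rfl⟩ := Finset.mem_image.mp (Finset.mem_coe.mp hx)
      exact hmem y hy
    · have hspan' : maximalIdeal (Localization.AtPrime p) = Ideal.span (T0 : Set _) := hspan.symm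
      rw [hspan', Ideal.span_le]
      intro y hy
      have hu : IsUnit (algebraMap A (Localization.AtPrime p)
          ((IsLocalization.sec p.primeCompl y).2 : A)) :=
        IsLocalization.map_units (Localization.AtPrime p) (IsLocalization.sec p.primeCompl y).2
      have e : y = algebraMap A (Localization.AtPrime p) (a y) * ↑hu.unit⁻¹ := by
        rw [← ha y, mul_assoc, IsUnit.mul_val_inv, mul_one]
      rw [SetLike.mem_coe, e]
      apply Ideal.mul_mem_right
      apply Ideal.mem_map_of_mem
      exact Ideal.subset_span (Finset.mem_coe.mpr (Finset.mem_image_of_mem a hy))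

/-- Key algebraic step in Nagata's criterion. -/
theorem exists_notMem_regular_of_regular_quotient {A : Type u} [CommRing A] [IsNoetherianRing A]
    (p : Ideal A) [p.IsPrime] [IsRegularLocalRing (Localization.AtPrime p)] :
    ∃ g, g ∉ p ∧ ∀ (q : Ideal A) [q.IsPrime], p ≤ q → g ∉ q →
      ∀ [(q.map (Ideal.Quotient.mk p)).IsPrime],
        IsRegularLocalRing (Localization.AtPrime (q.map (Ideal.Quotient.mk p))) →
        IsRegularLocalRing (Localization.AtPrime q) := by
  classical
  obtain ⟨T, hTp, hTcard, hTmap⟩ := exists_finset_map_eq p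
  have hIp : Ideal.span (T : Set A) ≤ p := Ideal.span_le.mpr hTp
  have hmap : p.map (algebraMap A (Localization.AtPrime p)) ≤
      (Ideal.span (T : Set A)).map (algebraMap A (Localization.AtPrime p)) := by
    rw [hTmap, IsLocalization.AtPrime.map_eq_maximalIdeal p (Localization.AtPrime p)]
  obtain ⟨g, hgp, hg⟩ := exists_notMem_forall_mul_mem p (Ideal.span (T : Set A)) hmap
  refine ⟨g, hgp, ?_⟩
  intro q _ hpq hgq _ hreg
  haveI := hreg
  obtain ⟨T', hT'q, hT'card, hT'map⟩ := exists_finset_map_eq (q.map (Ideal.Quotient.mk p))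
  let lift : A ⧸ p → A := Function.surjInv Ideal.Quotient.mk_surjective
  have hlift : ∀ b, Ideal.Quotient.mk p (lift b) = b := Function.surjInv_eq _
  have hTT : Ideal.span (T' : Set (A ⧸ p)) =
      (Ideal.span ((T'.image lift : Finset A) : Set A)).map (Ideal.Quotient.mk p) := by
    rw [Ideal.map_span, Finset.coe_image, Set.image_image]
    simp only [hlift, Set.image_id']
  have hT''q : ((T'.image lift : Finset A) : Set A) ⊆ q := by
    intro x hx
    obtain ⟨b, hb, rfl⟩ := Finset.mem_image.mp (Finset.mem_coe.mp hx)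
    have h1 : Ideal.Quotient.mk p (lift b) ∈ q.map (Ideal.Quotient.mk p) := by
      rw [hlift]; exact hT'q (Finset.mem_coe.mpr hb)
    exact (Ideal.mem_quotient_iff_mem hpq).mp h1
  set N : Ideal A := Ideal.span ((T ∪ T'.image lift : Finset A) : Set A) with hN
  have hTN : Ideal.span (T : Set A) ≤ N :=
    Ideal.span_mono (by rw [Finset.coe_union]; exact Set.subset_union_left)
  have hT''N : Ideal.span ((T'.image lift : Finset A) : Set A) ≤ N :=
    Ideal.span_mono (by rw [Finset.coe_union]; exact Set.subset_union_right)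
  have hNq : N ≤ q := by
    rw [hN, Ideal.span_le, Finset.coe_union]
    exact Set.union_subset (hTp.trans hpq) hT''q
  haveI : IsNoetherianRing (Localization.AtPrime q) :=
    IsLocalization.isNoetherianRing q.primeCompl _ inferInstance
  have hmN : maximalIdeal (Localization.AtPrime q) ≤
      N.map (algebraMap A (Localization.AtPrime q)) := by
    rw [← IsLocalization.AtPrime.map_eq_maximalIdeal q (Localization.AtPrime q),
      Ideal.map_le_iff_le_comap]
    intro x hx
    rw [Ideal.mem_comap]
    have hxb : Ideal.Quotient.mk p x ∈ q.map (Ideal.Quotient.mk p) := Ideal.mem_map_of_mem _ hx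
    have h1 : algebraMap (A ⧸ p) (Localization.AtPrime (q.map (Ideal.Quotient.mk p)))
        (Ideal.Quotient.mk p x) ∈
        maximalIdeal (Localization.AtPrime (q.map (Ideal.Quotient.mk p))) :=
      (IsLocalization.AtPrime.to_map_mem_maximal_iff _ (q.map (Ideal.Quotient.mk p)) _).mpr hxb
    rw [← hT'map] at h1
    obtain ⟨sb, hsb, hsx⟩ := exists_mul_mem_of_algebraMap_mem_map
      (q.map (Ideal.Quotient.mk p)).primeCompl _ (Ideal.span (T' : Set (A ⧸ p))) _ h1
    obtain ⟨s, rfl⟩ := Ideal.Quotient.mk_surjective sb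
    have hsq : s ∉ q := fun hm => hsb (Ideal.mem_map_of_mem _ hm)
    rw [hTT, ← map_mul, Ideal.mem_quotient_iff_mem_sup] at hsx
    obtain ⟨n, hn, y, hy, hsum⟩ := Submodule.mem_sup.mp hsx
    have hmem : g * (s * x) ∈ N := by
      rw [← hsum, mul_add]
      exact N.add_mem (N.mul_mem_left _ (hT''N hn)) (hTN (hg y hy))
    have hgs : g * s ∈ q.primeCompl := fun hm =>
      (Ideal.IsPrime.mem_or_mem inferInstance hm).elim hgq hsq
    have hu : IsUnit (algebraMap A (Localization.AtPrime q) (g * s)) :=
      IsLocalization.map_units (Localization.AtPrime q) (⟨g * s, hgs⟩ : q.primeCompl)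
    have e : algebraMap A (Localization.AtPrime q) x =
        ↑hu.unit⁻¹ * algebraMap A (Localization.AtPrime q) (g * (s * x)) := by
      have e1 : algebraMap A (Localization.AtPrime q) (g * (s * x)) =
          algebraMap A (Localization.AtPrime q) (g * s) *
            algebraMap A (Localization.AtPrime q) x := by
        rw [← map_mul, mul_assoc]
      rw [e1, ← mul_assoc, IsUnit.val_inv_mul, one_mul]
    rw [e]
    exact Ideal.mul_mem_left _ _ (Ideal.mem_map_of_mem _ hmem)
  have hmaxeq : maximalIdeal (Localization.AtPrime q) =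
      Ideal.span (algebraMap A (Localization.AtPrime q) ''
        ((T ∪ T'.image lift : Finset A) : Set A)) := by
    rw [← Ideal.map_span]
    apply le_antisymm hmN
    rw [← IsLocalization.AtPrime.map_eq_maximalIdeal q (Localization.AtPrime q)]
    exact Ideal.map_mono hNq
  have hle : (maximalIdeal (Localization.AtPrime q)).spanFinrank ≤
      (maximalIdeal (Localization.AtPrime p)).spanFinrank +
        (maximalIdeal (Localization.AtPrime (q.map (Ideal.Quotient.mk p)))).spanFinrank := by
    have hfin : (algebraMap A (Localization.AtPrime q) ''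
        ((T ∪ T'.image lift : Finset A) : Set A)).Finite :=
      (Finset.finite_toSet _).image _
    calc (maximalIdeal (Localization.AtPrime q)).spanFinrank
        ≤ (algebraMap A (Localization.AtPrime q) ''
            ((T ∪ T'.image lift : Finset A) : Set A)).ncard := by
          rw [hmaxeq]
          exact Submodule.spanFinrank_span_le_ncard_of_finite hfin
      _ ≤ ((T ∪ T'.image lift : Finset A) : Set A).ncard :=
          Set.ncard_image_le (Finset.finite_toSet _)
      _ = (T ∪ T'.image lift).card := Set.ncard_coe_finset _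
      _ ≤ T.card + (T'.image lift).card := Finset.card_union_le _ _
      _ ≤ _ := Nat.add_le_add hTcard (Finset.card_image_le.trans hT'card)
  have hr : (((maximalIdeal (Localization.AtPrime p)).spanFinrank : ℕ) : WithBot ℕ∞) =
      ((p.height : ℕ∞) : WithBot ℕ∞) := by
    rw [IsRegularLocalRing.spanFinrank_maximalIdeal,
      IsLocalization.AtPrime.ringKrullDim_eq_height p (Localization.AtPrime p)]
  have hd : (((maximalIdeal (Localization.AtPrime (q.map (Ideal.Quotient.mk p)))).spanFinrank : ℕ) :
      WithBot ℕ∞) = (((q.map (Ideal.Quotient.mk p)).height : ℕ∞) : WithBot ℕ∞) := by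
    rw [IsRegularLocalRing.spanFinrank_maximalIdeal,
      IsLocalization.AtPrime.ringKrullDim_eq_height (q.map (Ideal.Quotient.mk p))
        (Localization.AtPrime (q.map (Ideal.Quotient.mk p)))]
  have hr' : (((maximalIdeal (Localization.AtPrime p)).spanFinrank : ℕ) : ℕ∞) = p.height := by
    exact_mod_cast hr
  have hd' : (((maximalIdeal (Localization.AtPrime (q.map (Ideal.Quotient.mk p)))).spanFinrank :
      ℕ) : ℕ∞) = (q.map (Ideal.Quotient.mk p)).height := by
    exact_mod_cast hd
  apply IsRegularLocalRing.of_spanFinrank_maximalIdeal_le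
  rw [IsLocalization.AtPrime.ringKrullDim_eq_height q (Localization.AtPrime q)]
  have h1 : (((maximalIdeal (Localization.AtPrime q)).spanFinrank : ℕ) : ℕ∞) ≤ q.height := by
    calc (((maximalIdeal (Localization.AtPrime q)).spanFinrank : ℕ) : ℕ∞)
        ≤ (((maximalIdeal (Localization.AtPrime p)).spanFinrank +
            (maximalIdeal (Localization.AtPrime (q.map (Ideal.Quotient.mk p)))).spanFinrank : ℕ) :
            ℕ∞) := by exact_mod_cast hle
      _ = p.height + (q.map (Ideal.Quotient.mk p)).height := by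
          rw [Nat.cast_add, hr', hd']
      _ ≤ q.height := height_add_height_map_le p q hpq
  exact_mod_cast h1

end alg

section main

theorem bot_mem_regLocus (D : Type u) [CommRing D] [IsDomain D] [IsNoetherianRing D] :
    (⟨⊥, Ideal.isPrime_bot⟩ : PrimeSpectrum D) ∈ EGA4.regLocus D := by
  show IsRegularLocalRing (Localization.AtPrime (⊥ : Ideal D))
  haveI : IsNoetherianRing (Localization.AtPrime (⊥ : Ideal D)) :=
    IsLocalization.isNoetherianRing (⊥ : Ideal D).primeCompl _ inferInstance
  apply IsRegularLocalRing.of_spanFinrank_maximalIdeal_le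
  have h0 : maximalIdeal (Localization.AtPrime (⊥ : Ideal D)) = ⊥ := by
    rw [← IsLocalization.AtPrime.map_eq_maximalIdeal (⊥ : Ideal D)
      (Localization.AtPrime (⊥ : Ideal D)), Ideal.map_bot]
  rw [h0, Submodule.spanFinrank_bot]
  exact_mod_cast ringKrullDim_nonneg_of_nontrivial

/-- Nagata's criterion (= S4700). -/
theorem isOpen_regLocus_of_quotients (A : Type u) [CommRing A] [IsNoetherianRing A]
    (h : ∀ p : PrimeSpectrum A, p ∈ EGA4.regLocus A →
      ∃ U : Set (PrimeSpectrum (A ⧸ p.asIdeal)), IsOpen U ∧ U.Nonempty ∧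
        U ⊆ EGA4.regLocus (A ⧸ p.asIdeal)) :
    IsOpen (EGA4.regLocus A) := by
  rw [isOpen_regLocus_iff]
  intro p hp
  haveI : IsRegularLocalRing (Localization.AtPrime p.asIdeal) := hp
  obtain ⟨g, hgp, hg⟩ := exists_notMem_regular_of_regular_quotient p.asIdeal
  obtain ⟨U, hU, ⟨x, hxU⟩, hUreg⟩ := h p hp
  obtain ⟨f, hxf, hfU⟩ : ∃ f : A ⧸ p.asIdeal, x ∈ PrimeSpectrum.basicOpen f ∧
      (PrimeSpectrum.basicOpen f : Set (PrimeSpectrum (A ⧸ p.asIdeal))) ⊆ U := by
    obtain ⟨_, ⟨f, rfl⟩, hxf, hfU⟩ :=
      PrimeSpectrum.isTopologicalBasis_basic_opens.exists_subset_of_mem_open hxU hU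
    exact ⟨f, hxf, hfU⟩
  obtain ⟨h', rfl⟩ := Ideal.Quotient.mk_surjective f
  have hh'p : h' ∉ p.asIdeal := by
    intro hmem
    have h0 : Ideal.Quotient.mk p.asIdeal h' = 0 := Ideal.Quotient.eq_zero_iff_mem.mpr hmem
    rw [h0] at hxf
    exact (PrimeSpectrum.mem_basicOpen _ _).mp hxf (Ideal.zero_mem _)
  refine ⟨(PrimeSpectrum.basicOpen (g * h') : Set (PrimeSpectrum A)),
    (PrimeSpectrum.basicOpen (g * h')).isOpen, ⟨p, ?_, ?_⟩, ?_⟩
  · show g * h' ∉ p.asIdeal
    exact fun hm => (p.isPrime.mem_or_mem hm).elim hgp hh'p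
  · rw [PrimeSpectrum.mem_zeroLocus]
  · rintro q ⟨hq1, hq2⟩
    have hq1' : g * h' ∉ q.asIdeal := hq1
    have hpq : p.asIdeal ≤ q.asIdeal := (PrimeSpectrum.mem_zeroLocus _ _).mp hq2
    have hgq : g ∉ q.asIdeal := fun hm => hq1' (q.asIdeal.mul_mem_right _ hm)
    have hhq : h' ∉ q.asIdeal := fun hm => hq1' (q.asIdeal.mul_mem_left _ hm)
    haveI hqb : (q.asIdeal.map (Ideal.Quotient.mk p.asIdeal)).IsPrime :=
      Ideal.map_isPrime_of_surjective Ideal.Quotient.mk_surjective
        (by rw [Ideal.mk_ker]; exact hpq)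
    have hmem : (⟨_, hqb⟩ : PrimeSpectrum (A ⧸ p.asIdeal)) ∈ U := by
      apply hfU
      show Ideal.Quotient.mk p.asIdeal h' ∉ q.asIdeal.map (Ideal.Quotient.mk p.asIdeal)
      intro hm
      exact hhq ((Ideal.mem_quotient_iff_mem hpq).mp hm)
    exact hg q.asIdeal hpq hgq (hUreg hmem)

end main

end Groth.Agent.H44.NagataCrit
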