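import Mathlib
import Groth.Prelude.Def_EGA4b
import Groth.Agent.H44.NagataCrit

/-!
# Transport of "the regular locus contains a nonempty open" and S4701
-/

set_option autoImplicit false

universe u

open IsLocalRing

namespace Groth.Agent.H44.RegLocus

open Groth.Agent.H44.NagataCrit

theorem exists_open_of_ringEquiv {R S : Type u} [CommRing R] [CommRing S] (e : R ≃+* S)
    (h : ∃ U : Set (PrimeSpectrum R), IsOpen U ∧ U.Nonempty ∧ U ⊆ EGA4.regLocus R) :
    ∃ U : Set (PrimeSpectrum S), IsOpen U ∧ U.Nonempty ∧ U ⊆ EGA4.regLocus S := by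
  obtain ⟨U, hU, hne, hsub⟩ := h
  refine ⟨PrimeSpectrum.homeomorphOfRingEquiv e '' U,
    (PrimeSpectrum.homeomorphOfRingEquiv e).isOpenMap U hU, hne.image _, ?_⟩
  rintro _ ⟨x, hx, rfl⟩
  haveI hreg : IsRegularLocalRing (Localization.AtPrime x.asIdeal) := hsub hx
  show IsRegularLocalRing (Localization.AtPrime (Ideal.comap e.symm x.asIdeal))
  exact IsRegularLocalRing.of_ringEquiv
    (IsLocalization.ringEquivOfRingEquiv (Localization.AtPrime (Ideal.comap e.symm x.asIdeal))
      (Localization.AtPrime x.asIdeal) e.symm (e.symm.map_primeCompl_comap_eq x.asIdeal)).symm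

theorem exists_open_of_away {R : Type u} [CommRing R] (f : R)
    (h : ∃ V : Set (PrimeSpectrum (Localization.Away f)), IsOpen V ∧ V.Nonempty ∧
      V ⊆ EGA4.regLocus (Localization.Away f)) :
    ∃ U : Set (PrimeSpectrum R), IsOpen U ∧ U.Nonempty ∧ U ⊆ EGA4.regLocus R := by
  obtain ⟨V, hV, hne, hsub⟩ := h
  have hemb := PrimeSpectrum.localization_away_isOpenEmbedding (Localization.Away f) f
  refine ⟨PrimeSpectrum.comap (algebraMap R (Localization.Away f)) '' V,
    hemb.isOpenMap V hV, hne.image _, ?_⟩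
  rintro _ ⟨Q, hQ, rfl⟩
  haveI hreg : IsRegularLocalRing (Localization.AtPrime Q.asIdeal) := hsub hQ
  let e := IsLocalization.localizationLocalizationAtPrimeIsoLocalization
    (Submonoid.powers f) Q.asIdeal
  show IsRegularLocalRing
    (Localization.AtPrime (Q.asIdeal.comap (algebraMap R (Localization.Away f))))
  exact IsRegularLocalRing.of_ringEquiv e.symm.toRingEquiv

/-- `S4701`. -/
theorem isOpen_regLocus_quotients_iff (A : Type u) [CommRing A] [IsNoetherianRing A] :
    (∀ I : Ideal A, IsOpen (EGA4.regLocus (A ⧸ I))) ↔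
      ∀ (p : Ideal A) [p.IsPrime],
        ∃ U : Set (PrimeSpectrum (A ⧸ p)), IsOpen U ∧ U.Nonempty ∧
          U ⊆ EGA4.regLocus (A ⧸ p) := by
  constructor
  · intro hall p _
    exact ⟨_, hall p, ⟨_, bot_mem_regLocus (A ⧸ p)⟩, subset_rfl⟩
  · intro h I
    apply isOpen_regLocus_of_quotients
    intro P _
    have hIp : I ≤ P.asIdeal.comap (Ideal.Quotient.mk I) := by
      intro x hx
      rw [Ideal.mem_comap, Ideal.Quotient.eq_zero_iff_mem.mpr hx]
      exact P.asIdeal.zero_mem
    have hPeq : P.asIdeal = (P.asIdeal.comap (Ideal.Quotient.mk I)).map (Ideal.Quotient.mk I) :=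
      (Ideal.map_comap_of_surjective _ Ideal.Quotient.mk_surjective _).symm
    let e : (A ⧸ I) ⧸ P.asIdeal ≃+* A ⧸ P.asIdeal.comap (Ideal.Quotient.mk I) :=
      (Ideal.quotEquivOfEq hPeq).trans (DoubleQuot.quotQuotEquivQuotOfLE hIp)
    exact exists_open_of_ringEquiv e.symm (h (P.asIdeal.comap (Ideal.Quotient.mk I)))

end Groth.Agent.H44.RegLocus
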