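import Mathlib
import Groth.Prelude.Def_EGA4b
import Groth.Agent.H44.NagataCrit
import Groth.Agent.H44.RegLocus
import Groth.Agent.H63.SmoothRegular
import Groth.Agent.H71.RegularLoc
import Groth.Agent.H71.RegularDescent
import Groth.Agent.S0389
import Groth.Agent.S2451

/-!
# Generic regularity: separable finite type extensions, and descent along injective finite type maps
-/

set_option autoImplicit false

universe u

open IsLocalRing TensorProduct

namespace Groth.Agent.H44.RegDescend

open Groth.Agent.H44.NagataCrit Groth.Agent.H44.RegLocus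

theorem bot_mem_of_isOpen {D : Type u} [CommRing D] [IsDomain D] {U : Set (PrimeSpectrum D)}
    (hU : IsOpen U) (hne : U.Nonempty) :
    (⟨⊥, Ideal.isPrime_bot⟩ : PrimeSpectrum D) ∈ U := by
  obtain ⟨x, hx⟩ := hne
  have hle : (⟨⊥, Ideal.isPrime_bot⟩ : PrimeSpectrum D) ≤ x := by
    show (⊥ : Ideal D) ≤ x.asIdeal
    exact bot_le
  exact ((PrimeSpectrum.le_iff_specializes _ _).mp hle).mem_open hU hx

theorem isRegularRing_of_isRegularLocalRing (R : Type u) [CommRing R] [IsRegularLocalRing R] :
    IsRegularRing R := by
  apply Groth.Agent.H71.RL.isRegularRing_of_maximal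
  intro m hm
  obtain rfl := IsLocalRing.eq_maximalIdeal hm
  let e : R ≃ₐ[R] Localization.AtPrime (maximalIdeal R) :=
    IsLocalization.atUnits R (maximalIdeal R).primeCompl
      (fun x hx => (IsUnit.mem_submonoid_iff x).mpr (IsLocalRing.notMem_maximalIdeal.mp hx))
  exact IsRegularLocalRing.of_ringEquiv e.toRingEquiv

/-- Smooth algebras: regularity ascends from `A_p` to `B_Q`. -/
theorem isRegularLocalRing_of_smooth (A B : Type u) [CommRing A] [CommRing B] [Algebra A B]
    [Algebra.Smooth A B] (Q : Ideal B) [Q.IsPrime]
    (hreg : IsRegularLocalRing (Localization.AtPrime (Q.comap (algebraMap A B)))) :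
    IsRegularLocalRing (Localization.AtPrime Q) := by
  haveI := hreg
  haveI : IsRegularRing (Localization.AtPrime (Q.comap (algebraMap A B))) :=
    isRegularRing_of_isRegularLocalRing _
  haveI : Algebra.Smooth (Localization.AtPrime (Q.comap (algebraMap A B)))
      (Localization (Algebra.algebraMapSubmonoid B (Q.comap (algebraMap A B)).primeCompl)) :=
    Algebra.Smooth.of_equiv
      (Localization.tensorRightAlgEquiv (Q.comap (algebraMap A B)).primeCompl B)
  haveI : IsRegularRing
      (Localization (Algebra.algebraMapSubmonoid B (Q.comap (algebraMap A B)).primeCompl)) :=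
    Groth.Agent.H63.SmoothRegular.isRegularRing_of_smooth
      (Localization.AtPrime (Q.comap (algebraMap A B))) _
  have hdisj : Disjoint
      ((Algebra.algebraMapSubmonoid B (Q.comap (algebraMap A B)).primeCompl : Submonoid B) : Set B)
      (Q : Set B) := by
    rw [Set.disjoint_left]
    rintro _ ⟨a, ha, rfl⟩ hmem
    exact ha hmem
  haveI hQ' : (Q.map (algebraMap B (Localization
      (Algebra.algebraMapSubmonoid B (Q.comap (algebraMap A B)).primeCompl)))).IsPrime :=
    IsLocalization.isPrime_of_isPrime_disjoint _ _ Q inferInstance hdisj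
  have hcomap : (Q.map (algebraMap B (Localization
      (Algebra.algebraMapSubmonoid B (Q.comap (algebraMap A B)).primeCompl)))).comap
      (algebraMap B (Localization
        (Algebra.algebraMapSubmonoid B (Q.comap (algebraMap A B)).primeCompl))) = Q :=
    IsLocalization.under_map_of_isPrime_disjoint _ _ (inferInstance : Q.IsPrime) hdisj
  let e := IsLocalization.localizationLocalizationAtPrimeIsoLocalization
    (Algebra.algebraMapSubmonoid B (Q.comap (algebraMap A B)).primeCompl)
    (Q.map (algebraMap B (Localization
      (Algebra.algebraMapSubmonoid B (Q.comap (algebraMap A B)).primeCompl))))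
  have h2 : IsRegularLocalRing (Localization.AtPrime ((Q.map (algebraMap B (Localization
      (Algebra.algebraMapSubmonoid B (Q.comap (algebraMap A B)).primeCompl)))).comap
      (algebraMap B (Localization
        (Algebra.algebraMapSubmonoid B (Q.comap (algebraMap A B)).primeCompl))))) :=
    IsRegularLocalRing.of_ringEquiv e.symm.toRingEquiv
  exact Groth.Agent.H63.SmoothRegular.isRegularLocalRing_of_eq _ Q hcomap h2

/-- General form of `S2688` for arbitrary fraction fields. -/
theorem exists_open_regLocus_of_separable {A A' K K' : Type u} [CommRing A] [IsDomain A]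
    [IsNoetherianRing A] [CommRing A'] [IsDomain A'] [Algebra A A'] [Algebra.FiniteType A A']
    (hinj : Function.Injective (algebraMap A A'))
    [Field K] [Field K'] [Algebra A K] [IsFractionRing A K] [Algebra A' K'] [IsFractionRing A' K']
    [Algebra K K'] [Algebra A K'] [IsScalarTower A K K'] [IsScalarTower A A' K']
    [Algebra.IsGeometricallyReduced K K']
    (h : ∃ U : Set (PrimeSpectrum A), IsOpen U ∧ U.Nonempty ∧ U ⊆ EGA4.regLocus A) :
    ∃ U' : Set (PrimeSpectrum A'), IsOpen U' ∧ U'.Nonempty ∧ U' ⊆ EGA4.regLocus A' := by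
  obtain ⟨U, hU, hne, hsub⟩ := h
  haveI : Algebra.FinitePresentation A A' := Algebra.FinitePresentation.of_finiteType.mp inferInstance
  haveI : Algebra.FormallySmooth K K' := Groth.Agent.S2451.result.2 inferInstance
  haveI : Algebra.FormallyEtale A K := Algebra.FormallyEtale.of_isLocalization (nonZeroDivisors A)
  haveI : Algebra.FormallySmooth A K' := Algebra.FormallySmooth.comp A K K'
  haveI : IsLocalization.AtPrime K' (⊥ : Ideal A') := by
    show IsLocalization (⊥ : Ideal A').primeCompl K'
    rw [Ideal.primeCompl_bot]
    infer_instance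
  let e : K' ≃ₐ[A'] Localization.AtPrime (⊥ : Ideal A') :=
    IsLocalization.algEquiv (⊥ : Ideal A').primeCompl K' _
  haveI : Algebra.IsSmoothAt A (⊥ : Ideal A') :=
    Algebra.FormallySmooth.of_equiv (e.restrictScalars A)
  obtain ⟨f, hf, hsm⟩ := Algebra.IsSmoothAt.exists_notMem_smooth A (⊥ : Ideal A')
  have hf0 : f ≠ 0 := fun h0 => hf (by rw [h0]; exact Ideal.zero_mem _)
  haveI := hsm
  have hle : Submonoid.powers f ≤ nonZeroDivisors A' :=
    powers_le_nonZeroDivisors_of_noZeroDivisors hf0
  haveI : IsDomain (Localization.Away f) :=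
    IsLocalization.isDomain_of_le_nonZeroDivisors (M := Submonoid.powers f) _ hle
  apply exists_open_of_away f
  refine ⟨PrimeSpectrum.comap (algebraMap A (Localization.Away f)) ⁻¹' U,
    hU.preimage (PrimeSpectrum.continuous_comap _), ⟨⟨⊥, Ideal.isPrime_bot⟩, ?_⟩, ?_⟩
  · show PrimeSpectrum.comap (algebraMap A (Localization.Away f)) ⟨⊥, Ideal.isPrime_bot⟩ ∈ U
    have hinj' : Function.Injective (algebraMap A (Localization.Away f)) := by
      rw [IsScalarTower.algebraMap_eq A A' (Localization.Away f)]
      exact (IsLocalization.injective _ hle).comp hinj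
    have e1 : PrimeSpectrum.comap (algebraMap A (Localization.Away f)) ⟨⊥, Ideal.isPrime_bot⟩ =
        ⟨⊥, Ideal.isPrime_bot⟩ := by
      apply PrimeSpectrum.ext
      exact Ideal.comap_bot_of_injective _ hinj'
    rw [e1]
    exact bot_mem_of_isOpen hU hne
  · intro Q hQ
    exact isRegularLocalRing_of_smooth A (Localization.Away f) Q.asIdeal (hsub hQ)

/-- `S9255`. -/
theorem exists_open_regLocus_of_injective_finiteType (R S : Type u) [CommRing R] [IsDomain R]
    [IsNoetherianRing R] [CommRing S] [IsDomain S] [Algebra R S] [Algebra.FiniteType R S]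
    (hinj : Function.Injective (algebraMap R S))
    (hS : ∃ U : Set (PrimeSpectrum S), IsOpen U ∧ U.Nonempty ∧ U ⊆ EGA4.regLocus S) :
    ∃ U : Set (PrimeSpectrum R), IsOpen U ∧ U.Nonempty ∧ U ⊆ EGA4.regLocus R := by
  obtain ⟨U', hU', hne', hsub'⟩ := hS
  obtain ⟨f, hf0, -, hfree, hfp, -⟩ := Groth.Agent.S0389.result (R := R) (S := S) (M := S)
  have hM'eq : Algebra.algebraMapSubmonoid S (Submonoid.powers f) =
      Submonoid.powers (algebraMap R S f) := Algebra.algebraMapSubmonoid_powers f
  have hf'0 : algebraMap R S f ≠ 0 := fun h0 => hf0 (hinj (by rw [h0, map_zero]))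
  have hM'le : Algebra.algebraMapSubmonoid S (Submonoid.powers f) ≤ nonZeroDivisors S := by
    rw [hM'eq]; exact powers_le_nonZeroDivisors_of_noZeroDivisors hf'0
  haveI : IsDomain (Localization (Algebra.algebraMapSubmonoid S (Submonoid.powers f))) :=
    IsLocalization.isDomain_of_le_nonZeroDivisors
      (M := Algebra.algebraMapSubmonoid S (Submonoid.powers f)) _ hM'le
  haveI : IsLocalization.Away (algebraMap R S f)
      (Localization (Algebra.algebraMapSubmonoid S (Submonoid.powers f))) := by
    show IsLocalization (Submonoid.powers (algebraMap R S f))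
      (Localization (Algebra.algebraMapSubmonoid S (Submonoid.powers f)))
    rw [← hM'eq]; infer_instance
  haveI := hfree
  haveI : Module.Flat (Localization.Away f)
      (Localization (Algebra.algebraMapSubmonoid S (Submonoid.powers f))) :=
    Module.Flat.of_linearEquiv
      (Localization.tensorRightAlgEquiv (Submonoid.powers f) S).symm.toLinearEquiv
  haveI : Module.Flat R (Localization.Away f) := IsLocalization.flat _ (Submonoid.powers f)
  haveI : Module.Flat R (Localization (Algebra.algebraMapSubmonoid S (Submonoid.powers f))) :=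
    Module.Flat.trans R (Localization.Away f) _
  haveI : Algebra.FiniteType S
      (Localization (Algebra.algebraMapSubmonoid S (Submonoid.powers f))) :=
    haveI := IsLocalization.Away.finitePresentation (algebraMap R S f)
      (S := Localization (Algebra.algebraMapSubmonoid S (Submonoid.powers f)))
    inferInstance
  haveI : Algebra.FiniteType R
      (Localization (Algebra.algebraMapSubmonoid S (Submonoid.powers f))) :=
    Algebra.FiniteType.trans (S := S) inferInstance inferInstance
  haveI : Algebra.FinitePresentation R
      (Localization (Algebra.algebraMapSubmonoid S (Submonoid.powers f))) :=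
    Algebra.FinitePresentation.of_finiteType.mp inferInstance
  have hopen := PrimeSpectrum.isOpenMap_comap_of_hasGoingDown_of_finitePresentation (R := R)
    (S := Localization (Algebra.algebraMapSubmonoid S (Submonoid.powers f)))
  have hV : IsOpen (PrimeSpectrum.comap (algebraMap S
      (Localization (Algebra.algebraMapSubmonoid S (Submonoid.powers f)))) ⁻¹' U') :=
    hU'.preimage (PrimeSpectrum.continuous_comap _)
  have hbot : (⟨⊥, Ideal.isPrime_bot⟩ : PrimeSpectrum
      (Localization (Algebra.algebraMapSubmonoid S (Submonoid.powers f)))) ∈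
      PrimeSpectrum.comap (algebraMap S
        (Localization (Algebra.algebraMapSubmonoid S (Submonoid.powers f)))) ⁻¹' U' := by
    show PrimeSpectrum.comap (algebraMap S
      (Localization (Algebra.algebraMapSubmonoid S (Submonoid.powers f))))
      ⟨⊥, Ideal.isPrime_bot⟩ ∈ U'
    have e1 : PrimeSpectrum.comap (algebraMap S
        (Localization (Algebra.algebraMapSubmonoid S (Submonoid.powers f))))
        ⟨⊥, Ideal.isPrime_bot⟩ = ⟨⊥, Ideal.isPrime_bot⟩ := by
      apply PrimeSpectrum.ext
      exact Ideal.comap_bot_of_injective _ (IsLocalization.injective _ hM'le)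
    rw [e1]
    exact bot_mem_of_isOpen hU' hne'
  refine ⟨PrimeSpectrum.comap (algebraMap R
      (Localization (Algebra.algebraMapSubmonoid S (Submonoid.powers f)))) ''
      (PrimeSpectrum.comap (algebraMap S
        (Localization (Algebra.algebraMapSubmonoid S (Submonoid.powers f)))) ⁻¹' U'),
    hopen _ hV, ⟨_, ⟨_, hbot, rfl⟩⟩, ?_⟩
  rintro _ ⟨Q', hQ', rfl⟩
  have hreg : IsRegularLocalRing (Localization.AtPrime (Q'.asIdeal.comap (algebraMap S
      (Localization (Algebra.algebraMapSubmonoid S (Submonoid.powers f)))))) := hsub' hQ'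
  haveI : IsRegularLocalRing (Localization.AtPrime Q'.asIdeal) := by
    haveI := hreg
    exact IsRegularLocalRing.of_ringEquiv
      (IsLocalization.localizationLocalizationAtPrimeIsoLocalization
        (Algebra.algebraMapSubmonoid S (Submonoid.powers f)) Q'.asIdeal).toRingEquiv
  show IsRegularLocalRing (Localization.AtPrime (Q'.asIdeal.comap (algebraMap R
    (Localization (Algebra.algebraMapSubmonoid S (Submonoid.powers f))))))
  haveI : Q'.asIdeal.LiesOver (Q'.asIdeal.comap (algebraMap R
      (Localization (Algebra.algebraMapSubmonoid S (Submonoid.powers f))))) := ⟨rfl⟩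
  exact Groth.Agent.H71.RD.regular_of_flat_liesOver R
    (Localization (Algebra.algebraMapSubmonoid S (Submonoid.powers f))) _ Q'.asIdeal

end Groth.Agent.H44.RegDescend
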