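import Groth.Agent.H44.MacLaneCor
import Mathlib.RingTheory.Smooth.AdicCompletion
import Mathlib.RingTheory.AdicCompletion.Topology
import Mathlib.FieldTheory.Perfect

/-!
# Coefficient fields: the prime subfield, formal smoothness over it, and second sections

* `isAdicComplete_pow`: `I`-adically complete implies `I ^ n`-adically complete (`0 < n`);
* `derivation_bot_eq_zero`: an absolute derivation of a field kills the prime subfield;
* `formallySmooth_bot`: every field is formally smooth over its prime subfield;
* `exists_ne_section`: a nonzero derivation of the residue field and an element of `𝔪 \ 𝔪²`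
  produce a second section of the residue map of a complete local ring.
-/

set_option autoImplicit false

universe u

open IsLocalRing

namespace Groth.Agent.H44.CoeffField

theorem isAdicComplete_pow {R : Type*} [CommRing R] (I : Ideal R) [IsAdicComplete I R] {n : ℕ}
    (hn : 0 < n) : IsAdicComplete (I ^ n) R := by
  letI : WithIdeal R := ⟨I⟩
  have hI : IsAdic I := rfl
  have hIn : IsAdic (I ^ n) := is_ideal_adic_pow hI hn
  exact hIn.isAdicComplete_iff.mpr (hI.isAdicComplete_iff.mp inferInstance)

theorem derivation_bot_eq_zero {K M : Type*} [Field K] [AddCommGroup M] [Module K M]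
    (D : Derivation ℤ K M) {a : K} (ha : a ∈ (⊥ : Subfield K)) : D a = 0 := by
  rw [← Subfield.closure_empty] at ha
  induction ha using Subfield.closure_induction with
  | mem x hx => exact absurd hx (Set.notMem_empty x)
  | one => exact D.map_one_eq_zero
  | add x y _ _ hx hy => rw [map_add, hx, hy, add_zero]
  | neg x _ hx => rw [map_neg, hx, neg_zero]
  | inv x _ hx => rw [Derivation.leibniz_inv, hx, smul_zero]
  | mul x y _ _ hx hy => rw [D.leibniz, hx, hy, smul_zero, smul_zero, add_zero]

theorem formallySmooth_of_charP_perfect (p : ℕ) [Fact p.Prime] {A K : Type u} [Field A] [Field K]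
    [Algebra A K] [CharP A p] [PerfectRing A p] [CharP K p] : Algebra.FormallySmooth A K := by
  obtain ⟨T, hT⟩ := Groth.Agent.H44.PBasis.exists_pBasis_set p (k₀ := A) (K := K)
  exact (Groth.Agent.S4541.result p (fun t : T => id (t : K)) hT).1

theorem pow_eq_self_of_mem_bot (p : ℕ) [Fact p.Prime] (K : Type*) [Field K] [CharP K p]
    (a : (⊥ : Subfield K)) : a ^ p = a := by
  have hle : (⊥ : Subfield K) ≤ (frobenius K p).eqLocusField (RingHom.id K) := bot_le
  have h1 : (a : K) ^ p = a := hle a.2
  exact Subtype.ext h1

theorem perfectRing_bot (p : ℕ) [Fact p.Prime] (K : Type*) [Field K] [CharP K p] :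
    letI : CharP (⊥ : Subfield K) p :=
      (algebraMap (⊥ : Subfield K) K).charP (algebraMap (⊥ : Subfield K) K).injective p
    PerfectRing (⊥ : Subfield K) p := by
  letI : CharP (⊥ : Subfield K) p :=
    (algebraMap (⊥ : Subfield K) K).charP (algebraMap (⊥ : Subfield K) K).injective p
  exact ⟨⟨fun a b hab => by
      have h2 : a ^ p = b ^ p := hab
      rwa [pow_eq_self_of_mem_bot, pow_eq_self_of_mem_bot] at h2,
    fun a => ⟨a, pow_eq_self_of_mem_bot p K a⟩⟩⟩

/-- every field containing the prime subfield of `K` is formally smooth over it -/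
theorem formallySmooth_bot' (K L : Type u) [Field K] [Field L] [Algebra (⊥ : Subfield K) L] :
    Algebra.FormallySmooth (⊥ : Subfield K) L := by
  obtain h0 | ⟨p, hp, hpK⟩ := CharP.exists' K
  · haveI := h0
    haveI : CharZero (⊥ : Subfield K) := (algebraMap (⊥ : Subfield K) K).charZero
    exact Groth.Agent.H44.MacLane.formallySmooth_of_charZero
  · haveI := hp
    haveI := hpK
    haveI : CharP (⊥ : Subfield K) p :=
      (algebraMap (⊥ : Subfield K) K).charP (algebraMap (⊥ : Subfield K) K).injective p
    haveI : PerfectRing (⊥ : Subfield K) p := perfectRing_bot p K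
    haveI : CharP L p :=
      charP_of_injective_algebraMap (algebraMap (⊥ : Subfield K) L).injective p
    exact formallySmooth_of_charP_perfect p

theorem formallySmooth_bot (K : Type u) [Field K] :
    Algebra.FormallySmooth (⊥ : Subfield K) K :=
  formallySmooth_bot' K K

theorem exists_ne_section {C K : Type u} [CommRing C] [IsLocalRing C]
    [IsAdicComplete (maximalIdeal C) C] [Field K] {P : Type*} [Field P] [Algebra P K]
    [Algebra.FormallySmooth P K] (π : C →+* K) (hπ : ∀ c, π c = 0 ↔ c ∈ maximalIdeal C)
    (u : K →+* C) (hu : ∀ x, π (u x) = x)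
    {t : C} (ht : t ∈ maximalIdeal C) (ht2 : t ∉ maximalIdeal C ^ 2)
    (D₀ : Derivation P K K) {x₀ : K} (hx₀ : D₀ x₀ ≠ 0) :
    ∃ v : K →+* C, (∀ x, π (v x) = x) ∧ v ≠ u := by
  letI algPC : Algebra P C := (u.comp (algebraMap P K)).toAlgebra
  haveI : IsAdicComplete (maximalIdeal C ^ 2) C := isAdicComplete_pow _ two_pos
  let v₂ : K →ₐ[P] C ⧸ maximalIdeal C ^ 2 :=
    { toFun := fun x => Ideal.Quotient.mk _ (u x + t * u (D₀ x))
      map_one' := by simp
      map_mul' := fun x y => by
        rw [← map_mul, Ideal.Quotient.eq]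
        have h1 : D₀ (x * y) = x * D₀ y + y * D₀ x := by
          rw [D₀.leibniz, smul_eq_mul, smul_eq_mul]
        rw [h1]
        simp only [map_add, map_mul]
        have h2 : u x * u y + t * (u x * u (D₀ y) + u y * u (D₀ x)) -
            (u x + t * u (D₀ x)) * (u y + t * u (D₀ y)) =
            -(t ^ 2 * (u (D₀ x) * u (D₀ y))) := by ring
        rw [h2]
        exact neg_mem (Ideal.mul_mem_right _ _ (Ideal.pow_mem_pow ht 2))
      map_zero' := by simp
      map_add' := fun x y => by
        rw [← map_add]
        congr 1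
        simp only [map_add]
        ring
      commutes' := fun a => by
        rw [D₀.map_algebraMap, map_zero, mul_zero, add_zero]
        rfl }
  obtain ⟨g, hg⟩ := Algebra.FormallySmooth.exists_mkₐ_comp_eq_of_isAdicComplete (R := P)
    (A := K) (S := C) (I := maximalIdeal C ^ 2) v₂
  have hgx : ∀ x, g x - (u x + t * u (D₀ x)) ∈ maximalIdeal C ^ 2 := fun x =>
    Ideal.Quotient.eq.mp (AlgHom.congr_fun hg x)
  refine ⟨g.toRingHom, fun x => ?_, fun hgu => ?_⟩
  · have h1 : g x - u x ∈ maximalIdeal C := by
      have h2 := Ideal.pow_le_self two_ne_zero (hgx x)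
      have h3 : t * u (D₀ x) ∈ maximalIdeal C := Ideal.mul_mem_right _ _ ht
      have h4 : g x - u x = (g x - (u x + t * u (D₀ x))) + t * u (D₀ x) := by ring
      rw [h4]
      exact add_mem h2 h3
    have h5 : π (g x - u x) = 0 := (hπ _).mpr h1
    rw [map_sub, hu, sub_eq_zero] at h5
    exact h5
  · have h5 : g x₀ = u x₀ := RingHom.congr_fun hgu x₀
    have h6 := hgx x₀
    rw [h5] at h6
    have h7 : t * u (D₀ x₀) ∈ maximalIdeal C ^ 2 := by
      have h8 : t * u (D₀ x₀) = -(u x₀ - (u x₀ + t * u (D₀ x₀))) := by ring
      rw [h8]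
      exact neg_mem h6
    have hunit : IsUnit (u (D₀ x₀)) := by
      rw [← IsLocalRing.notMem_maximalIdeal, ← hπ, hu]
      exact hx₀
    obtain ⟨w, hw⟩ := hunit
    apply ht2
    have h9 : t = (t * u (D₀ x₀)) * ↑w⁻¹ := by
      rw [← hw, mul_assoc, Units.mul_inv, mul_one]
    rw [h9]
    exact Ideal.mul_mem_right _ _ h7

theorem coefficientField_unique_iff {C K : Type u} [CommRing C] [IsLocalRing C]
    [IsAdicComplete (maximalIdeal C) C] [Field K] (π : C →+* K)
    (hπ : ∀ c, π c = 0 ↔ c ∈ maximalIdeal C) (hm : maximalIdeal C ≠ ⊥)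
    (u : K →+* C) (hu : ∀ x, π (u x) = x) :
    (∀ v : K →+* C, (∀ x, π (v x) = x) → v = u) ↔ Subsingleton (Ω[K⁄ℤ]) := by
  constructor
  · intro huniq
    by_contra hns
    obtain ⟨ω, hω⟩ : ∃ ω : Ω[K⁄ℤ], ω ≠ 0 := by
      by_contra hall
      push Not at hall
      exact hns ⟨fun a b => by rw [hall a, hall b]⟩
    obtain ⟨χ, hχ⟩ : ∃ χ : Module.Dual K (Ω[K⁄ℤ]), χ ω ≠ 0 := by
      by_contra hall
      push Not at hall
      exact hω ((Module.forall_dual_apply_eq_zero_iff K ω).mp hall)
    obtain ⟨x₀, hx₀⟩ : ∃ x₀, (χ.compDer (KaehlerDifferential.D ℤ K)) x₀ ≠ 0 := by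
      by_contra hall
      push Not at hall
      have h0 : χ = 0 := Derivation.liftKaehlerDifferential_unique χ 0 (by
        ext x
        simpa using hall x)
      exact hχ (by rw [h0, LinearMap.zero_apply])
    obtain ⟨t, ht, ht2⟩ : ∃ t ∈ maximalIdeal C, t ∉ maximalIdeal C ^ 2 := by
      by_contra hall
      push Not at hall
      have hle : maximalIdeal C ≤ maximalIdeal C ^ 2 := hall
      have hpow : ∀ n : ℕ, maximalIdeal C ≤ maximalIdeal C ^ n := by
        intro n
        induction n with
        | zero =>
          rw [pow_zero, Ideal.one_eq_top]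
          exact le_top
        | succ n ih =>
          calc maximalIdeal C ≤ maximalIdeal C ^ 2 := hle
            _ = maximalIdeal C * maximalIdeal C := pow_two _
            _ ≤ maximalIdeal C ^ n * maximalIdeal C := Ideal.mul_mono_left ih
            _ = maximalIdeal C ^ (n + 1) := (pow_succ _ _).symm
      apply hm
      rw [eq_bot_iff]
      intro y hy
      have hy0 : y = 0 :=
        IsHausdorff.haus (inferInstance : IsHausdorff (maximalIdeal C) C) y
          (fun n => by
            rw [SModEq.zero, smul_eq_mul, Ideal.mul_top]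
            exact hpow n hy)
      rw [hy0]
      exact zero_mem _
    haveI := formallySmooth_bot K
    obtain ⟨v, hv, hvu⟩ := exists_ne_section (P := ↥(⊥ : Subfield K)) π hπ u hu ht ht2
      (Groth.Agent.H44.MacLane.derivationOfKills (R := ↥(⊥ : Subfield K))
        (χ.compDer (KaehlerDifferential.D ℤ K))
        (fun a => derivation_bot_eq_zero _ a.2)) (x₀ := x₀) hx₀
    exact hvu (huniq v hv)
  · intro hΩ v hv
    have key : ∀ n : ℕ, ∀ x, v x - u x ∈ maximalIdeal C ^ (n + 1) := by
      intro n
      induction n with
      | zero =>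
        intro x
        rw [zero_add, pow_one, ← hπ, map_sub, hu, hv, sub_self]
      | succ n ih =>
        intro x
        let ub : K →+* C ⧸ maximalIdeal C ^ (n + 1 + 1) := (Ideal.Quotient.mk _).comp u
        let vb : K →+* C ⧸ maximalIdeal C ^ (n + 1 + 1) := (Ideal.Quotient.mk _).comp v
        letI : Algebra K (C ⧸ maximalIdeal C ^ (n + 1 + 1)) := ub.toAlgebra
        have hprod : ∀ a b, (vb a - ub a) * (vb b - ub b) = 0 := by
          intro a b
          show (Ideal.Quotient.mk _ (v a) - Ideal.Quotient.mk _ (u a)) *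
            (Ideal.Quotient.mk _ (v b) - Ideal.Quotient.mk _ (u b)) = 0
          rw [← map_sub, ← map_sub, ← map_mul, Ideal.Quotient.eq_zero_iff_mem]
          have h1 := Ideal.mul_mem_mul (ih a) (ih b)
          rw [← pow_add] at h1
          exact Ideal.pow_le_pow_right (by omega) h1
        let D : Derivation ℤ K (C ⧸ maximalIdeal C ^ (n + 1 + 1)) :=
          Derivation.mk'
            (((vb : K →+ C ⧸ maximalIdeal C ^ (n + 1 + 1)) -
              (ub : K →+ C ⧸ maximalIdeal C ^ (n + 1 + 1))).toIntLinearMap)
            (fun a b => by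
              show vb (a * b) - ub (a * b) = ub a * (vb b - ub b) + ub b * (vb a - ub a)
              have h2 := hprod a b
              rw [map_mul, map_mul]
              linear_combination h2)
        have hD0 : D x = 0 := by
          rw [← Derivation.liftKaehlerDifferential_comp_D D x,
            Subsingleton.elim (KaehlerDifferential.D ℤ K x) 0, map_zero]
        have h3 : Ideal.Quotient.mk (maximalIdeal C ^ (n + 1 + 1)) (v x) -
            Ideal.Quotient.mk (maximalIdeal C ^ (n + 1 + 1)) (u x) = 0 := hD0
        rw [← map_sub, Ideal.Quotient.eq_zero_iff_mem] at h3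
        exact h3
    apply RingHom.ext
    intro x
    have hx : v x - u x = 0 :=
      IsHausdorff.haus (inferInstance : IsHausdorff (maximalIdeal C) C) _
        (fun n => by
          rw [SModEq.zero, smul_eq_mul, Ideal.mul_top]
          exact Ideal.pow_le_pow_right (Nat.le_succ n) (key n x))
    exact sub_eq_zero.mp hx

end Groth.Agent.H44.CoeffField
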