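import Mathlib
import Groth.Prelude.Def_Smoothing

/-!
# Local tricks for smoothing ring maps (Stacks 07F4/07F5 style)

* `mem_singularIdeal_iff` : for a finitely presented algebra, `a` lies in the singular ideal iff
  the principal localization at `a` is smooth.
* `exists_descent` : a finitely presented algebra over a localization `M⁻¹P` descends to a finitely
  presented `P`-algebra of which it is the localization.
* `exists_smooth_away` : spreading out smoothness from a localization of the base.
-/

set_option autoImplicit false
universe u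

namespace Groth.Agent.H44.LocTrick

open MvPolynomial

theorem mem_singularIdeal_iff {R A : Type u} [CommRing R] [CommRing A] [Algebra R A]
    [Algebra.FinitePresentation R A] (a : A) :
    a ∈ Smoothing.singularIdeal R A ↔ Algebra.Smooth R (Localization.Away a) := by
  rw [← Algebra.basicOpen_subset_smoothLocus_iff_smooth]
  unfold Smoothing.singularIdeal
  rw [PrimeSpectrum.mem_vanishingIdeal]
  constructor
  · intro h x hx
    by_contra hns
    exact (PrimeSpectrum.mem_basicOpen a x).mp hx (h x hns)
  · intro h x hx
    by_contra ha
    exact hx (h ((PrimeSpectrum.mem_basicOpen a x).mpr ha))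

attribute [local instance] MvPolynomial.algebraMvPolynomial in
/-- Descent of a finitely presented algebra along a localization of the base. -/
theorem exists_descent {P T : Type u} [CommRing P] [CommRing T] [Algebra P T] (M : Submonoid P)
    [IsLocalization M T] (E : Type u) [CommRing E] [Algebra T E] [Algebra P E]
    [IsScalarTower P T E] [Algebra.FinitePresentation T E] :
    ∃ (C : Type u) (_ : CommRing C) (_ : Algebra P C) (_ : Algebra C E) (_ : IsScalarTower P C E),
      Algebra.FinitePresentation P C ∧ IsLocalization (Algebra.algebraMapSubmonoid C M) E := by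
  classical
  obtain ⟨n, π, hπ, hfg⟩ := Algebra.FinitePresentation.out (R := T) (A := E)
  obtain ⟨s, hs⟩ := hfg
  -- clear denominators
  have hcd : ∀ f : MvPolynomial (Fin n) T, ∃ (m : P) (_ : m ∈ M) (F : MvPolynomial (Fin n) P),
      MvPolynomial.map (algebraMap P T) F = MvPolynomial.C (algebraMap P T m) * f := by
    intro f
    obtain ⟨⟨F, ⟨_, m, hm, rfl⟩⟩, h⟩ :=
      IsLocalization.surj (M.map (MvPolynomial.C (σ := Fin n))) f
    refine ⟨m, hm, F, ?_⟩
    simp only [MvPolynomial.algebraMap_def, MvPolynomial.map_C] at h
    rw [← h, mul_comm]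
  choose mm hmm FF hFF using hcd
  let I : Ideal (MvPolynomial (Fin n) P) := Ideal.span (FF '' (s : Set (MvPolynomial (Fin n) T)))
  let ψ : MvPolynomial (Fin n) P →+* E :=
    (π : MvPolynomial (Fin n) T →+* E).comp (MvPolynomial.map (algebraMap P T))
  have hψI : ∀ a ∈ I, ψ a = 0 := by
    intro a ha
    refine Submodule.span_induction ?_ ?_ ?_ ?_ ha
    · rintro _ ⟨f, hf, rfl⟩
      have hfk : f ∈ RingHom.ker π.toRingHom := by
        rw [← hs]; exact Ideal.subset_span hf
      have hfk' : π f = 0 := (RingHom.mem_ker).mp hfk
      simp only [ψ, RingHom.comp_apply, hFF, map_mul]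
      rw [show (π : MvPolynomial (Fin n) T →+* E) f = π f from rfl, hfk', mul_zero]
    · simp
    · intro x y _ _ hx hy; simp [hx, hy]
    · intro x y _ hy; simp [hy]
  let C := MvPolynomial (Fin n) P ⧸ I
  let ρ : C →+* E := Ideal.Quotient.lift I ψ hψI
  letI : Algebra C E := ρ.toAlgebra
  have hρ : ∀ x, algebraMap C E (Ideal.Quotient.mk I x) = ψ x := fun x => Ideal.Quotient.lift_mk I ψ hψI
  have htower : @IsScalarTower P C E Algebra.toSMul Algebra.toSMul Algebra.toSMul := by
    refine IsScalarTower.of_algebraMap_eq fun p => ?_
    have : algebraMap P C p = Ideal.Quotient.mk I (MvPolynomial.C p) := rfl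
    rw [this, hρ]
    simp only [ψ, RingHom.comp_apply, MvPolynomial.map_C]
    rw [IsScalarTower.algebraMap_apply P T E]
    have : (MvPolynomial.C (algebraMap P T p) : MvPolynomial (Fin n) T) =
        algebraMap T (MvPolynomial (Fin n) T) (algebraMap P T p) := rfl
    rw [this]
    exact (π.commutes _).symm
  refine ⟨C, inferInstance, inferInstance, inferInstance, htower, ?_, ?_⟩
  · exact Algebra.FinitePresentation.quotient (Submodule.fg_span (Set.Finite.image _ s.finite_toSet))
  · have h1 : IsLocalization ((M.map (MvPolynomial.C (σ := Fin n))).map (Ideal.Quotient.mk I)) E := by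
      refine IsLocalization.of_surjective (M.map (MvPolynomial.C (σ := Fin n)))
        (MvPolynomial (Fin n) T) (Ideal.Quotient.mk I) Ideal.Quotient.mk_surjective
        (π : MvPolynomial (Fin n) T →+* E) hπ ?_ ?_
      · refine RingHom.ext fun x => ?_
        rw [RingHom.comp_apply, RingHom.comp_apply, hρ, MvPolynomial.algebraMap_def]
        rfl
      · rw [Ideal.mk_ker, show RingHom.ker (π : MvPolynomial (Fin n) T →+* E) =
          RingHom.ker π.toRingHom from rfl, ← hs, Ideal.span_le]
        intro f hf
        have hu : IsUnit (MvPolynomial.C (algebraMap P T (mm f)) : MvPolynomial (Fin n) T) :=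
          (IsLocalization.map_units T ⟨mm f, hmm f⟩).map MvPolynomial.C
        have hmem : MvPolynomial.C (algebraMap P T (mm f)) * f ∈
            I.map (algebraMap (MvPolynomial (Fin n) P) (MvPolynomial (Fin n) T)) := by
          rw [← hFF f, ← MvPolynomial.algebraMap_def]
          exact Ideal.mem_map_of_mem _ (Ideal.subset_span ⟨f, hf, rfl⟩)
        obtain ⟨v, hv⟩ := hu
        have : f = (↑(v⁻¹) : MvPolynomial (Fin n) T) *
            (MvPolynomial.C (algebraMap P T (mm f)) * f) := by
          rw [← mul_assoc, ← hv, Units.inv_mul, one_mul]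
        rw [SetLike.mem_coe, this]
        exact Ideal.mul_mem_left _ _ hmem
    have h2 : (M.map (MvPolynomial.C (σ := Fin n))).map (Ideal.Quotient.mk I) =
        Algebra.algebraMapSubmonoid C M := by
      ext x
      simp only [Submonoid.mem_map, Algebra.algebraMapSubmonoid, exists_exists_and_eq_and]
      rfl
    rw [← h2]; exact h1

/-- Spreading out smoothness from a localization of the base: if `E = S⁻¹C` is formally smooth over
`S⁻¹R` and `C` is finitely presented over `R`, then `C[1/s]` is smooth over `R` for some `s ∈ S`. -/
theorem exists_smooth_away {R : Type u} [CommRing R] (S : Submonoid R) (Rₛ : Type u) [CommRing Rₛ]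
    [Algebra R Rₛ] [IsLocalization S Rₛ] (C E : Type u) [CommRing C] [CommRing E] [Algebra R C]
    [Algebra.FinitePresentation R C] [Algebra C E] [Algebra R E] [IsScalarTower R C E]
    [Algebra Rₛ E] [IsScalarTower R Rₛ E]
    [IsLocalization (Algebra.algebraMapSubmonoid C S) E] [Algebra.FormallySmooth Rₛ E] :
    ∃ s ∈ S, Algebra.Smooth R (Localization.Away (algebraMap R C s)) := by
  classical
  by_contra hcon
  push_neg at hcon
  have hdisj : Disjoint (Smoothing.singularIdeal R C : Set C)
      (Algebra.algebraMapSubmonoid C S : Set C) := by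
    rw [Set.disjoint_left]
    rintro x hxJ ⟨s, hs, rfl⟩
    exact hcon s hs ((mem_singularIdeal_iff _).mp hxJ)
  obtain ⟨p, hp, hJp, hpN⟩ := Ideal.exists_le_prime_disjoint (Smoothing.singularIdeal R C)
    (Algebra.algebraMapSubmonoid C S) hdisj
  have hclosed : IsClosed (Algebra.smoothLocus R C)ᶜ := Algebra.isOpen_smoothLocus.isClosed_compl
  have hmem : (⟨p, hp⟩ : PrimeSpectrum C) ∈ (Algebra.smoothLocus R C)ᶜ := by
    rw [← hclosed.closure_eq, ← PrimeSpectrum.zeroLocus_vanishingIdeal_eq_closure]
    exact (PrimeSpectrum.mem_zeroLocus _ _).mpr hJp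
  apply hmem
  show Algebra.FormallySmooth R (Localization.AtPrime p)
  haveI : p.IsPrime := hp
  have hpN' : Disjoint (Algebra.algebraMapSubmonoid C S : Set C) (p : Set C) := hpN.symm
  haveI hp' : (p.map (algebraMap C E)).IsPrime :=
    IsLocalization.isPrime_of_isPrime_disjoint (Algebra.algebraMapSubmonoid C S) E p hp hpN'
  have hcomap : (p.map (algebraMap C E)).comap (algebraMap C E) = p :=
    IsLocalization.comap_map_of_isPrime_disjoint (Algebra.algebraMapSubmonoid C S) E hp hpN'
  haveI h1 : IsLocalization.AtPrime (Localization.AtPrime (p.map (algebraMap C E)))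
      ((p.map (algebraMap C E)).comap (algebraMap C E)) :=
    IsLocalization.isLocalization_isLocalization_atPrime_isLocalization
      (Algebra.algebraMapSubmonoid C S) _ (p.map (algebraMap C E))
  haveI h2 : IsLocalization.AtPrime (Localization.AtPrime (p.map (algebraMap C E))) p := by
    convert h1
    exact hcomap.symm
  haveI : Algebra.FormallySmooth R Rₛ := Algebra.FormallySmooth.of_isLocalization S
  haveI : Algebra.FormallySmooth R E := Algebra.FormallySmooth.comp R Rₛ E
  haveI : Algebra.FormallySmooth R (Localization.AtPrime (p.map (algebraMap C E))) :=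
    Algebra.FormallySmooth.comp R E _
  exact Algebra.FormallySmooth.of_equiv
    ((IsLocalization.algEquiv p.primeCompl (Localization.AtPrime p)
      (Localization.AtPrime (p.map (algebraMap C E)))).symm.restrictScalars R)

end Groth.Agent.H44.LocTrick
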