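import Mathlib
import Groth.Prelude.Def_Smoothing
import Groth.Agent.H44.LocTrick

/-!
# Base change tools for singular ideals along surjections of the base

* `formallySmooth_of_surjective_base` : formal smoothness passes to a quotient of the base through
  which the algebra structure factors.
* `singularIdeal_eq_of_bijective` : the singular ideal only depends on the base up to isomorphism.
* `map_mem_singularIdeal_of_reduction` : the singular ideal maps into the singular ideal of a
  reduction `A₁/JA₁` over `R₁/J`.
-/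

set_option autoImplicit false
universe u

namespace Groth.Agent.H44.ResStep

open Groth.Agent.H44.LocTrick

theorem formallySmooth_of_surjective_base {S S' X : Type u} [CommRing S] [CommRing S'] [CommRing X]
    [Algebra S S'] [Algebra S X] [Algebra S' X] [IsScalarTower S S' X]
    (hsurj : Function.Surjective (algebraMap S S')) [Algebra.FormallySmooth S X] :
    Algebra.FormallySmooth S' X := by
  refine Algebra.FormallySmooth.of_comp_surjective fun T _ _ N hN u => ?_
  letI : Algebra S T := ((algebraMap S' T).comp (algebraMap S S')).toAlgebra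
  haveI : IsScalarTower S S' T := IsScalarTower.of_algebraMap_eq fun _ => rfl
  let v : X →ₐ[S] T := Algebra.FormallySmooth.lift N ⟨2, hN⟩ (u.restrictScalars S)
  have hv : ∀ x, Ideal.Quotient.mk N (v x) = u x := fun x =>
    Algebra.FormallySmooth.mk_lift N ⟨2, hN⟩ (u.restrictScalars S) x
  refine ⟨{ v.toRingHom with commutes' := ?_ }, ?_⟩
  · intro s'
    obtain ⟨s, rfl⟩ := hsurj s'
    show v (algebraMap S' X (algebraMap S S' s)) = algebraMap S' T (algebraMap S S' s)
    rw [← IsScalarTower.algebraMap_apply S S' X, v.commutes]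
    rfl
  · ext x
    exact hv x

theorem singularIdeal_eq_of_bijective {S S' X : Type u} [CommRing S] [CommRing S'] [CommRing X]
    [Algebra S S'] [Algebra S X] [Algebra S' X] [IsScalarTower S S' X]
    (hbij : Function.Bijective (algebraMap S S')) :
    Smoothing.singularIdeal S X = Smoothing.singularIdeal S' X := by
  unfold Smoothing.singularIdeal
  have hloc : Algebra.smoothLocus S X = Algebra.smoothLocus S' X := by
    ext p
    show Algebra.FormallySmooth S (Localization.AtPrime p.asIdeal) ↔
      Algebra.FormallySmooth S' (Localization.AtPrime p.asIdeal)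
    constructor
    · intro h
      exact formallySmooth_of_surjective_base (S := S) (S' := S') hbij.2
    · intro h
      let e : S ≃+* S' := RingEquiv.ofBijective (algebraMap S S') hbij
      letI : Algebra S' S := e.symm.toRingHom.toAlgebra
      haveI : IsScalarTower S' S (Localization.AtPrime p.asIdeal) := by
        refine IsScalarTower.of_algebraMap_eq fun s' => ?_
        show algebraMap S' _ s' = algebraMap S _ (e.symm s')
        rw [IsScalarTower.algebraMap_apply S S' (Localization.AtPrime p.asIdeal)]
        congr 1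
        exact (e.apply_symm_apply s').symm
      exact formallySmooth_of_surjective_base (S := S') (S' := S) e.symm.surjective
  rw [hloc]

theorem map_mem_singularIdeal_of_reduction {R₁ R₂ A₁ A₂ : Type u} [CommRing R₁] [CommRing R₂]
    [CommRing A₁] [CommRing A₂] [Algebra R₁ A₁] [Algebra R₂ A₂]
    [Algebra.FinitePresentation R₁ A₁] [Algebra.FinitePresentation R₂ A₂]
    (ρ : R₁ →+* R₂) (α : A₁ →+* A₂) (hρ : Function.Surjective ρ) (hα : Function.Surjective α)
    (hcomm : ∀ r, α (algebraMap R₁ A₁ r) = algebraMap R₂ A₂ (ρ r))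
    (hker : RingHom.ker α ≤ (RingHom.ker ρ).map (algebraMap R₁ A₁))
    (a : A₁) (ha : a ∈ Smoothing.singularIdeal R₁ A₁) :
    α a ∈ Smoothing.singularIdeal R₂ A₂ := by
  rw [mem_singularIdeal_iff] at ha ⊢
  haveI : Algebra.FormallySmooth R₁ (Localization.Away a) := ha.formallySmooth
  haveI : Algebra.FinitePresentation R₂ (Localization.Away (α a)) :=
    Algebra.FinitePresentation.trans R₂ A₂ _
  refine ⟨?_, inferInstance⟩
  refine Algebra.FormallySmooth.of_comp_surjective fun T _ _ N hN u => ?_
  letI : Algebra R₁ T := ((algebraMap R₂ T).comp ρ).toAlgebra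
  have hR₁T : ∀ r, algebraMap R₁ T r = algebraMap R₂ T (ρ r) := fun _ => rfl
  let ℓ : Localization.Away a →+* Localization.Away (α a) :=
    IsLocalization.Away.map (Localization.Away a) (Localization.Away (α a)) α a
  have hℓ : ∀ x, ℓ (algebraMap A₁ _ x) = algebraMap A₂ _ (α x) := fun x =>
    IsLocalization.map_eq _ x
  let u₁ : Localization.Away a →ₐ[R₁] T ⧸ N :=
    { (u : Localization.Away (α a) →+* T ⧸ N).comp ℓ with
      commutes' := fun r => by
        show u (ℓ (algebraMap R₁ (Localization.Away a) r)) = algebraMap R₁ (T ⧸ N) r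
        rw [IsScalarTower.algebraMap_apply R₁ A₁ (Localization.Away a), hℓ, hcomm,
          ← IsScalarTower.algebraMap_apply R₂ A₂ (Localization.Away (α a)), u.commutes]
        rfl }
  have hu₁ : ∀ x, u₁ x = u (ℓ x) := fun _ => rfl
  let v₁ : Localization.Away a →ₐ[R₁] T := Algebra.FormallySmooth.lift N ⟨2, hN⟩ u₁
  have hv₁ : ∀ x, Ideal.Quotient.mk N (v₁ x) = u₁ x := fun x =>
    Algebra.FormallySmooth.mk_lift N ⟨2, hN⟩ u₁ x
  let w₀ : A₁ →+* T := (v₁ : Localization.Away a →+* T).comp (algebraMap A₁ (Localization.Away a))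
  have hw₀ : ∀ x, w₀ x = v₁ (algebraMap A₁ _ x) := fun _ => rfl
  have hw₀ker : RingHom.ker α ≤ RingHom.ker w₀ := by
    refine hker.trans ?_
    rw [Ideal.map_le_iff_le_comap]
    intro r hr
    rw [Ideal.mem_comap, RingHom.mem_ker, hw₀,
      ← IsScalarTower.algebraMap_apply R₁ A₁ (Localization.Away a), v₁.commutes, hR₁T,
      RingHom.mem_ker.mp hr, map_zero]
  let w : A₂ →+* T := RingHom.liftOfSurjective α hα ⟨w₀, hw₀ker⟩
  have hw : ∀ x, w (α x) = w₀ x := fun x => RingHom.liftOfSurjective_comp_apply α hα ⟨w₀, hw₀ker⟩ x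
  have hwu : IsUnit (w (α a)) := by
    rw [hw, hw₀]
    exact (IsLocalization.Away.algebraMap_isUnit a).map v₁
  let v' : Localization.Away (α a) →+* T := IsLocalization.Away.lift (α a) hwu
  have hv' : ∀ y, v' (algebraMap A₂ _ y) = w y := fun y => IsLocalization.Away.lift_eq (α a) hwu y
  refine ⟨{ v' with commutes' := ?_ }, ?_⟩
  · intro r₂
    obtain ⟨r, rfl⟩ := hρ r₂
    show v' (algebraMap R₂ (Localization.Away (α a)) (ρ r)) = algebraMap R₂ T (ρ r)
    rw [IsScalarTower.algebraMap_apply R₂ A₂ (Localization.Away (α a)), hv', ← hcomm, hw, hw₀,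
      ← IsScalarTower.algebraMap_apply R₁ A₁ (Localization.Away a), v₁.commutes, hR₁T]
  · apply AlgHom.coe_ringHom_injective
    apply IsLocalization.ringHom_ext (Submonoid.powers (α a))
    ext y
    obtain ⟨x, rfl⟩ := hα y
    show Ideal.Quotient.mk N (v' (algebraMap A₂ _ (α x))) = u (algebraMap A₂ _ (α x))
    rw [hv', hw, hw₀, hv₁, hu₁, hℓ]

end Groth.Agent.H44.ResStep
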