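import Mathlib
import Groth.Prelude.Def_Smoothing
import Groth.Agent.H44.ResStep
import Groth.Agent.H38.GenSmooth

/-!
# Endgame tools for the regular / separable residue field case of desingularization

* `indSmooth_field` : a geometrically reduced (separable) field extension is ind-smooth.
* `resolvable_of_indSmooth` : over an ind-smooth target every problem can be resolved.
* `indSmooth_of_equiv` : transport of ind-smoothness along compatible ring isomorphisms.
-/

set_option autoImplicit false
universe u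

namespace Groth.Agent.H44.RegEnd

open Groth.Agent.H44.ResStep

/-- A separable (geometrically reduced) field extension is ind-smooth. -/
theorem indSmooth_field {k K : Type u} [Field k] [Field K] [Algebra k K]
    [Algebra.IsGeometricallyReduced k K] : Smoothing.IndSmooth k K := by
  intro A _ _ hfp f
  haveI := hfp
  haveI : IsNoetherianRing A := Algebra.FiniteType.isNoetherianRing k A
  haveI h𝔭 : (RingHom.ker f).IsPrime := RingHom.ker_isPrime f
  let f' : (A ⧸ RingHom.ker f) →ₐ[k] K := Ideal.kerLiftAlg f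
  have hf'inj : Function.Injective f' := Ideal.kerLiftAlg_injective f
  have hf'mk : ∀ a, f' (Ideal.Quotient.mk _ a) = f a := fun a => rfl
  haveI : Algebra.FinitePresentation k (A ⧸ RingHom.ker f) :=
    Algebra.FinitePresentation.quotient (IsNoetherian.noetherian _)
  haveI : Algebra.IsGeometricallyReduced k (A ⧸ RingHom.ker f) :=
    Algebra.IsGeometricallyReduced.of_injective f' hf'inj
  haveI : IsDomain (A ⧸ RingHom.ker f) := Ideal.Quotient.isDomain _
  haveI hbp : (⊥ : Ideal (A ⧸ RingHom.ker f)).IsPrime := Ideal.bot_prime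
  have hbot : (⊥ : Ideal (A ⧸ RingHom.ker f)) ∈ minimalPrimes (A ⧸ RingHom.ker f) :=
    ⟨⟨hbp, bot_le⟩, fun q _ _ => bot_le⟩
  haveI : Algebra.IsSmoothAt k (⊥ : Ideal (A ⧸ RingHom.ker f)) :=
    Groth.Agent.H38.GenSmooth.formallySmooth_localization_of_minimal ⊥ hbot
  obtain ⟨a, ha, hsm⟩ :=
    Algebra.IsSmoothAt.exists_notMem_smooth k (⊥ : Ideal (A ⧸ RingHom.ker f))
  have ha0 : a ≠ 0 := fun h => ha (by rw [h]; exact zero_mem _)
  have hfa : f' a ≠ 0 := fun h => ha0 (hf'inj (by rw [h, map_zero]))
  let hh : Localization.Away a →ₐ[k] K :=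
    IsLocalization.liftAlgHom (M := Submonoid.powers a) (f := f')
      (by rintro ⟨_, n, rfl⟩; rw [map_pow]; exact (isUnit_iff_ne_zero.mpr hfa).pow n)
  refine ⟨Localization.Away a, inferInstance, inferInstance, hsm,
    (IsScalarTower.toAlgHom k (A ⧸ RingHom.ker f) (Localization.Away a)).comp
      (Ideal.Quotient.mkₐ k (RingHom.ker f)), hh, ?_⟩
  ext x
  show hh (algebraMap (A ⧸ RingHom.ker f) (Localization.Away a) (Ideal.Quotient.mk _ x)) = f x
  rw [← hf'mk]
  exact IsLocalization.lift_eq _ _

/-- Over an ind-smooth target every desingularization problem can be resolved. -/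
theorem resolvable_of_indSmooth {R A Λ : Type u} [CommRing R] [CommRing A] [Algebra R A]
    [Algebra.FinitePresentation R A] [CommRing Λ] [Algebra R Λ] (φ : A →ₐ[R] Λ) (𝔮 : Ideal Λ)
    [h𝔮 : 𝔮.IsPrime] (h : Smoothing.IndSmooth R Λ) : Smoothing.Resolvable R φ 𝔮 := by
  obtain ⟨B, _, _, hB, g, hh, hcomp⟩ := h A inferInstance φ
  haveI := hB
  have htop : Smoothing.singRad R hh = ⊤ := by
    unfold Smoothing.singRad Smoothing.singularIdeal
    rw [Algebra.smoothLocus_eq_univ, Set.compl_univ, PrimeSpectrum.vanishingIdeal_empty,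
      Ideal.map_top, Ideal.radical_top]
  refine ⟨B, inferInstance, inferInstance, inferInstance, g, hh, hcomp, ?_, ?_⟩
  · rw [htop]; exact le_top
  · rw [htop]; intro hle; exact h𝔮.ne_top (top_le_iff.mp hle)

/-- Transport of ind-smoothness along compatible ring isomorphisms of base and target. -/
theorem indSmooth_of_equiv {R Λ R₂ Λ₂ : Type u} [CommRing R] [CommRing Λ] [Algebra R Λ]
    [CommRing R₂] [CommRing Λ₂] [Algebra R₂ Λ₂] (e : R ≃+* R₂) (eΛ : Λ ≃+* Λ₂)
    (hcomm : ∀ r, eΛ (algebraMap R Λ r) = algebraMap R₂ Λ₂ (e r))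
    (h : Smoothing.IndSmooth R Λ) : Smoothing.IndSmooth R₂ Λ₂ := by
  intro A₂ _ _ hfp f₂
  haveI := hfp
  letI algRR₂ : Algebra R R₂ := e.toRingHom.toAlgebra
  letI algRA₂ : Algebra R A₂ := ((algebraMap R₂ A₂).comp e.toRingHom).toAlgebra
  haveI : IsScalarTower R R₂ A₂ := IsScalarTower.of_algebraMap_eq fun _ => rfl
  have hsurj : Function.Surjective (algebraMap R R₂) := e.surjective
  haveI : Algebra.FinitePresentation R R₂ :=
    Algebra.FinitePresentation.of_surjective (f := Algebra.ofId R R₂) hsurj (by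
      have : RingHom.ker (Algebra.ofId R R₂).toRingHom = ⊥ := by
        rw [eq_bot_iff]
        intro x hx
        have hx' : e x = 0 := hx
        have : x = 0 := by simpa using hx'
        rw [this]; exact zero_mem _
      rw [this]; exact Submodule.fg_bot)
  haveI : Algebra.FinitePresentation R A₂ := Algebra.FinitePresentation.trans R R₂ A₂
  let f : A₂ →ₐ[R] Λ :=
    { (eΛ.symm.toRingHom.comp f₂.toRingHom) with
      commutes' := fun r => by
        show eΛ.symm (f₂ (algebraMap R₂ A₂ (e r))) = algebraMap R Λ r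
        rw [f₂.commutes, ← hcomm, eΛ.symm_apply_apply] }
  obtain ⟨B, _, _, hB, g, hh, hcomp⟩ := h A₂ inferInstance f
  haveI := hB
  letI algR₂B : Algebra R₂ B := ((algebraMap R B).comp e.symm.toRingHom).toAlgebra
  haveI : IsScalarTower R R₂ B := IsScalarTower.of_algebraMap_eq fun r => by
    show algebraMap R B r = algebraMap R B (e.symm (e r))
    rw [e.symm_apply_apply]
  haveI : Algebra.FormallySmooth R₂ B := formallySmooth_of_surjective_base (S := R) hsurj
  haveI : Algebra.FinitePresentation R₂ B :=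
    Algebra.FinitePresentation.of_restrict_scalars_finitePresentation R R₂ B
  have hgc : ∀ r₂, g (algebraMap R₂ A₂ r₂) = algebraMap R₂ B r₂ := fun r₂ => by
    have h1 : algebraMap R₂ A₂ r₂ = algebraMap R A₂ (e.symm r₂) := by
      show _ = algebraMap R₂ A₂ (e (e.symm r₂))
      rw [e.apply_symm_apply]
    rw [h1, g.commutes]
    rfl
  have hhc : ∀ r₂, eΛ (hh (algebraMap R₂ B r₂)) = algebraMap R₂ Λ₂ r₂ := fun r₂ => by
    show eΛ (hh (algebraMap R B (e.symm r₂))) = _
    rw [hh.commutes, hcomm, e.apply_symm_apply]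
  refine ⟨B, inferInstance, inferInstance, ⟨inferInstance, inferInstance⟩,
    { g.toRingHom with commutes' := hgc },
    { (eΛ.toRingHom.comp hh.toRingHom) with commutes' := hhc }, ?_⟩
  ext x
  show eΛ (hh (g x)) = f₂ x
  have : hh (g x) = f x := AlgHom.congr_fun hcomp x
  rw [this]
  show eΛ (eΛ.symm (f₂ x)) = f₂ x
  rw [eΛ.apply_symm_apply]

end Groth.Agent.H44.RegEnd
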