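import Mathlib
import Groth.Prelude.Def_Smoothing
import Groth.Agent.H44.LocTrick

/-!
# The gluing algebra `P'[z]/(z · ker π')` (used for Stacks 07F5)

For a surjection `π' : P' → C` of `A`-algebras, the algebra `B = P'[z]/(z · ker π')` satisfies
`B[1/u] ≅ P'[1/u]` for `u ∈ ker π'`, and `B[1/(z p)] ≅ C[z][1/(z π'(p))]`.
-/

set_option autoImplicit false
universe u

namespace Groth.Agent.H44.GlueTrick

open Groth.Agent.H44.LocTrick

/-- The singular ideal pulls back along formally smooth maps. -/
theorem algebraMap_mem_singularIdeal {R A P : Type u} [CommRing R] [CommRing A] [CommRing P]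
    [Algebra R A] [Algebra A P] [Algebra R P] [IsScalarTower R A P]
    [Algebra.FinitePresentation R A] [Algebra.FinitePresentation R P] [Algebra.FormallySmooth A P]
    (a : A) (ha : a ∈ Smoothing.singularIdeal R A) :
    algebraMap A P a ∈ Smoothing.singularIdeal R P := by
  rw [mem_singularIdeal_iff] at ha ⊢
  have hu : IsUnit (algebraMap A (Localization.Away (algebraMap A P a)) a) := by
    rw [IsScalarTower.algebraMap_apply A P (Localization.Away (algebraMap A P a))]
    exact IsLocalization.Away.algebraMap_isUnit _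
  letI : Algebra (Localization.Away a) (Localization.Away (algebraMap A P a)) :=
    (IsLocalization.Away.lift a hu).toAlgebra
  haveI : IsScalarTower A (Localization.Away a) (Localization.Away (algebraMap A P a)) :=
    IsScalarTower.of_algebraMap_eq fun x => (IsLocalization.Away.lift_eq a hu x).symm
  haveI : IsScalarTower R (Localization.Away a) (Localization.Away (algebraMap A P a)) := by
    refine IsScalarTower.of_algebraMap_eq fun r => ?_
    rw [IsScalarTower.algebraMap_apply R A (Localization.Away a),
      ← IsScalarTower.algebraMap_apply A (Localization.Away a) (Localization.Away (algebraMap A P a)),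
      ← IsScalarTower.algebraMap_apply R A (Localization.Away (algebraMap A P a))]
  haveI : Algebra.FormallySmooth (Localization.Away a) (Localization.Away (algebraMap A P a)) :=
    Algebra.FormallySmooth.localization_base (Submonoid.powers a)
  haveI : Algebra.FormallySmooth R (Localization.Away a) := ha.formallySmooth
  haveI : Algebra.FormallySmooth R (Localization.Away (algebraMap A P a)) :=
    Algebra.FormallySmooth.comp R (Localization.Away a) _
  haveI : Algebra.FinitePresentation R (Localization.Away (algebraMap A P a)) :=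
    Algebra.FinitePresentation.trans R P _
  exact ⟨inferInstance, inferInstance⟩

section Glue

variable {A P' C : Type u} [CommRing A] [CommRing P'] [CommRing C] [Algebra A P'] [Algebra A C]
  (π' : P' →ₐ[A] C)

/-- the gluing ideal `z · ker π'` in `P'[z]`. -/
noncomputable def glueIdeal : Ideal (Polynomial P') :=
  Ideal.span ((fun k => Polynomial.X * Polynomial.C k) '' {k : P' | π' k = 0})

theorem X_mul_C_mem_glueIdeal {k : P'} (hk : π' k = 0) :
    Polynomial.X * Polynomial.C k ∈ glueIdeal π' :=
  Ideal.subset_span ⟨k, hk, rfl⟩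

theorem glueIdeal_le {S : Type u} [CommRing S] (f : Polynomial P' →+* S)
    (hf : ∀ k, π' k = 0 → f (Polynomial.X * Polynomial.C k) = 0) :
    ∀ q ∈ glueIdeal π', f q = 0 := by
  have hle : glueIdeal π' ≤ RingHom.ker f := by
    unfold glueIdeal
    rw [Ideal.span_le]
    rintro _ ⟨k, hk, rfl⟩
    exact RingHom.mem_ker.mpr (hf k hk)
  intro q hq
  exact RingHom.mem_ker.mp (hle hq)

theorem glueIdeal_fg (hK : (RingHom.ker π'.toRingHom).FG) : (glueIdeal π').FG := by
  classical
  obtain ⟨s, hs⟩ := hK
  have heq : glueIdeal π' =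
      Ideal.span ((fun k => Polynomial.X * Polynomial.C k) '' (s : Set P')) := by
    apply le_antisymm
    · unfold glueIdeal
      rw [Ideal.span_le]
      rintro _ ⟨k, hk, rfl⟩
      have hk' : k ∈ Ideal.span (s : Set P') := by
        rw [hs]; exact RingHom.mem_ker.mpr hk
      rw [SetLike.mem_coe]
      refine Submodule.span_induction ?_ ?_ ?_ ?_ hk'
      · intro x hx
        exact Ideal.subset_span ⟨x, hx, rfl⟩
      · simp
      · intro x y _ _ hx hy
        show Polynomial.X * Polynomial.C (x + y) ∈ _
        rw [map_add, mul_add]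
        exact Ideal.add_mem _ hx hy
      · intro p x _ hx
        have : Polynomial.X * Polynomial.C (p • x) =
            Polynomial.C p * (Polynomial.X * Polynomial.C x) := by
          rw [smul_eq_mul, map_mul]; ring
        show Polynomial.X * Polynomial.C (p • x) ∈ _
        rw [this]
        exact Ideal.mul_mem_left _ _ hx
    · apply Ideal.span_mono
      apply Set.image_mono
      intro x hx
      have : x ∈ RingHom.ker π'.toRingHom := by rw [← hs]; exact Ideal.subset_span hx
      exact RingHom.mem_ker.mp this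
  rw [heq]
  exact Submodule.fg_span (Set.Finite.image _ s.finite_toSet)

/-- `B[1/u] ≅ P'[1/u]` for `u ∈ ker π'`. -/
theorem glue_away_ker_equiv (u : P') (hu : π' u = 0) :
    Nonempty (Localization.Away (Ideal.Quotient.mk (glueIdeal π') (Polynomial.C u)) ≃ₐ[A]
      Localization.Away u) := by
  classical
  set I := glueIdeal π' with hI
  set ū : Polynomial P' ⧸ I := Ideal.Quotient.mk I (Polynomial.C u) with hū
  -- `F`
  let F₀ : Polynomial P' →ₐ[A] Localization.Away u :=
    Polynomial.aevalTower (IsScalarTower.toAlgHom A P' (Localization.Away u)) 0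
  have hF₀ : ∀ q ∈ I, F₀ q = 0 := by
    refine glueIdeal_le π' (F₀ : Polynomial P' →+* Localization.Away u) fun k _ => ?_
    show F₀ (Polynomial.X * Polynomial.C k) = 0
    rw [map_mul, Polynomial.aevalTower_X, zero_mul]
  let F₁ : (Polynomial P' ⧸ I) →ₐ[A] Localization.Away u := Ideal.Quotient.liftₐ I F₀ hF₀
  have hF₁mk : ∀ q, F₁ (Ideal.Quotient.mk I q) = F₀ q := fun q => rfl
  have hF₀C : ∀ p, F₀ (Polynomial.C p) = algebraMap P' (Localization.Away u) p := by
    intro p
    rw [Polynomial.aevalTower_C]; rfl
  have hF₁u : ∀ y : Submonoid.powers ū, IsUnit (F₁ y) := by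
    rintro ⟨_, k, rfl⟩
    rw [map_pow, hū, hF₁mk, hF₀C]
    exact (IsLocalization.Away.algebraMap_isUnit u).pow k
  let F : Localization.Away ū →ₐ[A] Localization.Away u :=
    IsLocalization.liftAlgHom (M := Submonoid.powers ū) (f := F₁) hF₁u
  have hFalg : ∀ c, F (algebraMap _ _ c) = F₁ c := fun c => IsLocalization.lift_eq _ _
  -- `G`
  let G₀ : P' →ₐ[A] Localization.Away ū :=
    (IsScalarTower.toAlgHom A (Polynomial P' ⧸ I) (Localization.Away ū)).comp
      ((Ideal.Quotient.mkₐ A I).comp (IsScalarTower.toAlgHom A P' (Polynomial P')))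
  have hG₀ : ∀ p, G₀ p = algebraMap (Polynomial P' ⧸ I) (Localization.Away ū)
      (Ideal.Quotient.mk I (Polynomial.C p)) := fun p => rfl
  have hG₀u : ∀ y : Submonoid.powers u, IsUnit (G₀ y) := by
    rintro ⟨_, k, rfl⟩
    rw [map_pow, hG₀]
    exact (IsLocalization.Away.algebraMap_isUnit ū).pow k
  let G : Localization.Away u →ₐ[A] Localization.Away ū :=
    IsLocalization.liftAlgHom (M := Submonoid.powers u) (f := G₀) hG₀u
  have hGalg : ∀ p, G (algebraMap _ _ p) = G₀ p := fun p => IsLocalization.lift_eq _ _
  -- `z = 0` in `B[1/ū]`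
  have hz : algebraMap (Polynomial P' ⧸ I) (Localization.Away ū)
      (Ideal.Quotient.mk I Polynomial.X) = 0 := by
    have h1 : algebraMap (Polynomial P' ⧸ I) (Localization.Away ū) ū *
        algebraMap (Polynomial P' ⧸ I) (Localization.Away ū)
          (Ideal.Quotient.mk I Polynomial.X) = 0 := by
      rw [← map_mul, hū, ← map_mul, mul_comm,
        Ideal.Quotient.eq_zero_iff_mem.mpr (X_mul_C_mem_glueIdeal π' hu), map_zero]
    exact (IsLocalization.Away.algebraMap_isUnit ū).mul_right_eq_zero.mp h1
  have hGF : G.comp F = AlgHom.id A _ := by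
    apply IsLocalization.algHom_ext (Submonoid.powers ū)
    apply Ideal.Quotient.algHom_ext
    apply Polynomial.algHom_ext'
    · ext p
      show G (F (algebraMap (Polynomial P' ⧸ I) (Localization.Away ū)
        (Ideal.Quotient.mk I (Polynomial.C p)))) = algebraMap (Polynomial P' ⧸ I)
          (Localization.Away ū) (Ideal.Quotient.mk I (Polynomial.C p))
      rw [hFalg, hF₁mk, hF₀C, hGalg, hG₀]
    · show G (F (algebraMap (Polynomial P' ⧸ I) (Localization.Away ū)
        (Ideal.Quotient.mk I Polynomial.X))) = algebraMap (Polynomial P' ⧸ I)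
          (Localization.Away ū) (Ideal.Quotient.mk I Polynomial.X)
      rw [hz, map_zero, map_zero]
  have hFG : F.comp G = AlgHom.id A _ := by
    apply IsLocalization.algHom_ext (Submonoid.powers u)
    ext p
    show F (G (algebraMap P' (Localization.Away u) p)) = algebraMap P' (Localization.Away u) p
    rw [hGalg, hG₀, hFalg, hF₁mk, hF₀C]
  exact ⟨AlgEquiv.ofAlgHom F G hFG hGF⟩

/-- `B[1/(z p)] ≅ C[z][1/(z π'(p))]`. -/
theorem glue_away_z_equiv (hπ' : Function.Surjective π') (p : P') :
    Nonempty (Localization.Away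
        (Ideal.Quotient.mk (glueIdeal π') (Polynomial.X * Polynomial.C p)) ≃ₐ[A]
      Localization.Away (Polynomial.X * Polynomial.C (π' p) : Polynomial C)) := by
  classical
  set I := glueIdeal π' with hI
  set w : Polynomial P' ⧸ I := Ideal.Quotient.mk I (Polynomial.X * Polynomial.C p) with hw
  set v : Polynomial C := Polynomial.X * Polynomial.C (π' p) with hv
  -- `F`
  let F₀ : Polynomial P' →ₐ[A] Localization.Away v :=
    (IsScalarTower.toAlgHom A (Polynomial C) (Localization.Away v)).comp (Polynomial.mapAlgHom π')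
  have hF₀X : F₀ Polynomial.X = algebraMap (Polynomial C) (Localization.Away v) Polynomial.X := by
    show algebraMap (Polynomial C) (Localization.Away v) (Polynomial.mapAlgHom π' Polynomial.X) = _
    congr 1
    simp
  have hF₀C : ∀ k, F₀ (Polynomial.C k) =
      algebraMap (Polynomial C) (Localization.Away v) (Polynomial.C (π' k)) := by
    intro k
    show algebraMap (Polynomial C) (Localization.Away v)
      (Polynomial.mapAlgHom π' (Polynomial.C k)) = _
    congr 1
    simp
  have hF₀ : ∀ q ∈ I, F₀ q = 0 := by
    refine glueIdeal_le π' (F₀ : Polynomial P' →+* Localization.Away v) fun k hk => ?_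
    show F₀ (Polynomial.X * Polynomial.C k) = 0
    rw [map_mul, hF₀C, hk, map_zero, map_zero, mul_zero]
  let F₁ : (Polynomial P' ⧸ I) →ₐ[A] Localization.Away v := Ideal.Quotient.liftₐ I F₀ hF₀
  have hF₁mk : ∀ q, F₁ (Ideal.Quotient.mk I q) = F₀ q := fun q => rfl
  have hF₁u : ∀ y : Submonoid.powers w, IsUnit (F₁ y) := by
    rintro ⟨_, k, rfl⟩
    rw [map_pow, hw, hF₁mk, map_mul, hF₀X, hF₀C, ← map_mul]
    exact (IsLocalization.Away.algebraMap_isUnit v).pow k
  let F : Localization.Away w →ₐ[A] Localization.Away v :=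
    IsLocalization.liftAlgHom (M := Submonoid.powers w) (f := F₁) hF₁u
  have hFalg : ∀ c, F (algebraMap _ _ c) = F₁ c := fun c => IsLocalization.lift_eq _ _
  -- `G`
  let ζ : Localization.Away w := algebraMap (Polynomial P' ⧸ I) (Localization.Away w)
    (Ideal.Quotient.mk I Polynomial.X)
  let G₀ : P' →ₐ[A] Localization.Away w :=
    (IsScalarTower.toAlgHom A (Polynomial P' ⧸ I) (Localization.Away w)).comp
      ((Ideal.Quotient.mkₐ A I).comp (IsScalarTower.toAlgHom A P' (Polynomial P')))
  have hG₀ : ∀ k, G₀ k = algebraMap (Polynomial P' ⧸ I) (Localization.Away w)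
      (Ideal.Quotient.mk I (Polynomial.C k)) := fun k => rfl
  have hζw : ζ * G₀ p = algebraMap (Polynomial P' ⧸ I) (Localization.Away w) w := by
    rw [hG₀, ← map_mul, ← map_mul]
  have hζu : IsUnit ζ :=
    isUnit_of_mul_isUnit_left (hζw ▸ IsLocalization.Away.algebraMap_isUnit w)
  have hG₀ker : RingHom.ker π'.toRingHom ≤ RingHom.ker G₀.toRingHom := by
    intro k hk
    have hk' : π' k = 0 := RingHom.mem_ker.mp hk
    have h1 : ζ * G₀ k = 0 := by
      rw [hG₀, ← map_mul, ← map_mul,
        Ideal.Quotient.eq_zero_iff_mem.mpr (X_mul_C_mem_glueIdeal π' hk'), map_zero]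
    exact RingHom.mem_ker.mpr (hζu.mul_right_eq_zero.mp h1)
  let G₁ : C →ₐ[A] Localization.Away w := AlgHom.liftOfSurjective π' hπ' G₀ hG₀ker
  have hG₁ : ∀ k, G₁ (π' k) = G₀ k := fun k => AlgHom.liftOfSurjective_apply π' hπ' G₀ hG₀ker k
  let G₂ : Polynomial C →ₐ[A] Localization.Away w := Polynomial.aevalTower G₁ ζ
  have hG₂v : G₂ v = algebraMap (Polynomial P' ⧸ I) (Localization.Away w) w := by
    rw [hv, map_mul, Polynomial.aevalTower_X, Polynomial.aevalTower_C, hG₁, hζw]
  have hG₂u : ∀ y : Submonoid.powers v, IsUnit (G₂ y) := by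
    rintro ⟨_, k, rfl⟩
    rw [map_pow, hG₂v]
    exact (IsLocalization.Away.algebraMap_isUnit w).pow k
  let G : Localization.Away v →ₐ[A] Localization.Away w :=
    IsLocalization.liftAlgHom (M := Submonoid.powers v) (f := G₂) hG₂u
  have hGalg : ∀ c, G (algebraMap _ _ c) = G₂ c := fun c => IsLocalization.lift_eq _ _
  have hGF : G.comp F = AlgHom.id A _ := by
    apply IsLocalization.algHom_ext (Submonoid.powers w)
    apply Ideal.Quotient.algHom_ext
    apply Polynomial.algHom_ext'
    · ext k
      show G (F (algebraMap (Polynomial P' ⧸ I) (Localization.Away w)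
        (Ideal.Quotient.mk I (Polynomial.C k)))) = algebraMap (Polynomial P' ⧸ I)
          (Localization.Away w) (Ideal.Quotient.mk I (Polynomial.C k))
      rw [hFalg, hF₁mk, hF₀C, hGalg, Polynomial.aevalTower_C, hG₁, hG₀]
    · show G (F (algebraMap (Polynomial P' ⧸ I) (Localization.Away w)
        (Ideal.Quotient.mk I Polynomial.X))) = ζ
      rw [hFalg, hF₁mk, hF₀X, hGalg, Polynomial.aevalTower_X]
  have hFG : F.comp G = AlgHom.id A _ := by
    apply IsLocalization.algHom_ext (Submonoid.powers v)
    apply Polynomial.algHom_ext'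
    · apply (AlgHom.cancel_right hπ').mp
      ext k
      show F (G (algebraMap (Polynomial C) (Localization.Away v) (Polynomial.C (π' k)))) =
        algebraMap (Polynomial C) (Localization.Away v) (Polynomial.C (π' k))
      rw [hGalg, Polynomial.aevalTower_C, hG₁, hG₀, hFalg, hF₁mk, hF₀C]
    · show F (G (algebraMap (Polynomial C) (Localization.Away v) Polynomial.X)) =
        algebraMap (Polynomial C) (Localization.Away v) Polynomial.X
      rw [hGalg, Polynomial.aevalTower_X]
      show F (algebraMap (Polynomial P' ⧸ I) (Localization.Away w)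
        (Ideal.Quotient.mk I Polynomial.X)) = _
      rw [hFalg, hF₁mk, hF₀X]
  exact ⟨AlgEquiv.ofAlgHom F G hFG hGF⟩

end Glue

end Groth.Agent.H44.GlueTrick
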