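import Mathlib

/-!
# Fixing the target of a map to a localization by homogenization

Given a finitely presented `A`-algebra `C₁ = A[y]/(H_j)` and an `A`-algebra map `C₁ → N⁻¹Λ`, the
homogenized algebra `C = A[z₀, z]/(H_j^{hom})` maps to `Λ` with `z₀ ↦` an element of `N`, and
`C[1/z₀] ≅ C₁[X, X⁻¹]`.
-/

set_option autoImplicit false
universe u

namespace Groth.Agent.H44.FixTarget

open MvPolynomial

section Hom

variable {A : Type u} [CommRing A] {n : ℕ}

/-- Homogenization of `H` in degree `d` with new variable `none`. -/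
noncomputable def hom (d : ℕ) (H : MvPolynomial (Fin n) A) : MvPolynomial (Option (Fin n)) A :=
  ∑ m ∈ H.support, C (H.coeff m) * X none ^ (d - m.sum fun _ e => e) *
    m.prod (fun i k => X (some i) ^ k)

theorem aeval_hom_mul {B : Type u} [CommRing B] [Algebra A B] (d : ℕ)
    (H : MvPolynomial (Fin n) A) (hd : H.totalDegree ≤ d) (τ : B) (g : Option (Fin n) → B) :
    aeval (fun o => τ * g o) (hom d H) = τ ^ d * aeval g (hom d H) := by
  unfold hom
  rw [map_sum, map_sum, Finset.mul_sum]
  refine Finset.sum_congr rfl fun m hm => ?_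
  have hmd : (m.sum fun _ e => e) ≤ d := (MvPolynomial.le_totalDegree hm).trans hd
  simp only [map_mul, map_pow, aeval_C, aeval_X, map_finsuppProd]
  have h1 : (m.prod fun i k => (τ * g (some i)) ^ k) =
      τ ^ (m.sum fun _ e => e) * m.prod fun i k => g (some i) ^ k := by
    simp only [mul_pow, Finsupp.prod_mul]
    congr 1
    exact Finset.prod_pow_eq_pow_sum _ _ _
  rw [h1, mul_pow]
  have h2 : τ ^ d = τ ^ (d - m.sum fun _ e => e) * τ ^ (m.sum fun _ e => e) := by
    rw [← pow_add, Nat.sub_add_cancel hmd]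
  rw [h2]; ring

theorem aeval_hom_one {B : Type u} [CommRing B] [Algebra A B] (d : ℕ)
    (H : MvPolynomial (Fin n) A) (x : Fin n → B) :
    aeval (fun o : Option (Fin n) => o.elim 1 x) (hom d H) = aeval x H := by
  unfold hom
  conv_rhs => rw [MvPolynomial.as_sum H]
  rw [map_sum, map_sum]
  refine Finset.sum_congr rfl fun m _ => ?_
  simp only [map_mul, map_pow, aeval_C, aeval_X, map_finsuppProd, Option.elim, one_pow, mul_one,
    aeval_monomial]

theorem aeval_hom {B : Type u} [CommRing B] [Algebra A B] (d : ℕ)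
    (H : MvPolynomial (Fin n) A) (hd : H.totalDegree ≤ d) (τ : B) (x : Fin n → B) :
    aeval (fun o : Option (Fin n) => τ * o.elim 1 x) (hom d H) = τ ^ d * aeval x H := by
  rw [aeval_hom_mul d H hd, aeval_hom_one]

end Hom

section Equiv

variable {A : Type u} [CommRing A] {n : ℕ}

/-- The key isomorphism: `(A[z₀, z]/(H^{hom}))[1/z₀] ≅ (A[y]/(H))[X, X⁻¹]`. -/
theorem homQuot_away_equiv (C₁ : Type u) [CommRing C₁] [Algebra A C₁]
    (π : MvPolynomial (Fin n) A →ₐ[A] C₁) (hπ : Function.Surjective π)
    (s : Finset (MvPolynomial (Fin n) A))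
    (hs : Ideal.span (s : Set (MvPolynomial (Fin n) A)) = RingHom.ker π.toRingHom) (d : ℕ)
    (hd : ∀ H ∈ s, H.totalDegree ≤ d) :
    Nonempty (Localization.Away (Ideal.Quotient.mk
        (Ideal.span (hom d '' (s : Set (MvPolynomial (Fin n) A)))) (X none)) ≃ₐ[A]
      Localization.Away (Polynomial.X : Polynomial C₁)) := by
  classical
  set I : Ideal (MvPolynomial (Option (Fin n)) A) :=
    Ideal.span (hom d '' (s : Set (MvPolynomial (Fin n) A))) with hI
  set t : MvPolynomial (Option (Fin n)) A ⧸ I := Ideal.Quotient.mk I (X none) with ht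
  have hker : ∀ H ∈ s, π H = 0 := by
    intro H hH
    have : H ∈ RingHom.ker π.toRingHom := by rw [← hs]; exact Ideal.subset_span hH
    exact (RingHom.mem_ker).mp this
  -- the map `F`
  let T : Localization.Away (Polynomial.X : Polynomial C₁) :=
    algebraMap (Polynomial C₁) _ Polynomial.X
  have hT : IsUnit T := IsLocalization.Away.algebraMap_isUnit _
  let ι : C₁ →ₐ[A] Localization.Away (Polynomial.X : Polynomial C₁) :=
    (IsScalarTower.toAlgHom A (Polynomial C₁) _).comp (IsScalarTower.toAlgHom A C₁ (Polynomial C₁))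
  let F₀ : MvPolynomial (Option (Fin n)) A →ₐ[A] Localization.Away (Polynomial.X : Polynomial C₁) :=
    aeval (fun o => T * o.elim 1 (fun i => ι (π (X i))))
  have hιπ : ∀ H, aeval (fun i => ι (π (X i))) H = ι (π H) := by
    intro H
    have := MvPolynomial.aeval_unique (ι.comp π)
    exact (DFunLike.congr_fun this H).symm
  have hF₀ : ∀ a ∈ I, F₀ a = 0 := by
    have hle : I ≤ RingHom.ker F₀.toRingHom := by
      rw [hI, Ideal.span_le]
      rintro _ ⟨H, hH, rfl⟩
      rw [SetLike.mem_coe, RingHom.mem_ker]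
      show F₀ (hom d H) = 0
      rw [aeval_hom d H (hd H hH), hιπ, hker H hH, map_zero, mul_zero]
    intro a ha
    exact RingHom.mem_ker.mp (hle ha)
  let F₁ : (MvPolynomial (Option (Fin n)) A ⧸ I) →ₐ[A]
      Localization.Away (Polynomial.X : Polynomial C₁) := Ideal.Quotient.liftₐ I F₀ hF₀
  have hF₁mk : ∀ p, F₁ (Ideal.Quotient.mk I p) = F₀ p := fun p => rfl
  have hF₁t : F₁ t = T := by
    rw [ht, hF₁mk]
    simp [F₀]
  have hF₁u : ∀ y : Submonoid.powers t, IsUnit (F₁ y) := by
    rintro ⟨_, k, rfl⟩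
    rw [map_pow, hF₁t]
    exact hT.pow k
  let F : Localization.Away t →ₐ[A] Localization.Away (Polynomial.X : Polynomial C₁) :=
    IsLocalization.liftAlgHom (M := Submonoid.powers t) (f := F₁) hF₁u
  have hFalg : ∀ c, F (algebraMap _ _ c) = F₁ c := fun c => IsLocalization.lift_eq _ _
  -- the map `G`
  let t' : Localization.Away t := algebraMap _ _ t
  have ht' : IsUnit t' := IsLocalization.Away.algebraMap_isUnit _
  let tinv : Localization.Away t := IsLocalization.Away.invSelf t
  have htinv : t' * tinv = 1 := IsLocalization.Away.mul_invSelf t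
  let z' : Option (Fin n) → Localization.Away t :=
    fun o => algebraMap _ _ (Ideal.Quotient.mk I (X o))
  let G₀ : MvPolynomial (Fin n) A →ₐ[A] Localization.Away t :=
    aeval (fun i => z' (some i) * tinv)
  let Φ : MvPolynomial (Option (Fin n)) A →ₐ[A] Localization.Away t :=
    (IsScalarTower.toAlgHom A (MvPolynomial (Option (Fin n)) A ⧸ I) _).comp
      (Ideal.Quotient.mkₐ A I)
  have hΦ : ∀ p, aeval z' p = Φ p := by
    intro p
    have := MvPolynomial.aeval_unique Φ
    exact (DFunLike.congr_fun this p).symm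
  have hG₀ : ∀ H ∈ s, G₀ H = 0 := by
    intro H hH
    have h1 : t' ^ d * G₀ H = aeval z' (hom d H) := by
      rw [← aeval_hom d H (hd H hH)]
      congr 2
      funext o
      cases o with
      | none => simp [z', t', ht]
      | some i =>
        show t' * (z' (some i) * tinv) = z' (some i)
        rw [mul_comm (z' (some i)), ← mul_assoc, htinv, one_mul]
    have h2 : aeval z' (hom d H) = 0 := by
      rw [hΦ]
      show algebraMap (MvPolynomial (Option (Fin n)) A ⧸ I) (Localization.Away t)
        (Ideal.Quotient.mk I (hom d H)) = 0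
      have hmem : hom d H ∈ I := Ideal.subset_span ⟨H, hH, rfl⟩
      rw [Ideal.Quotient.eq_zero_iff_mem.mpr hmem, map_zero]
    rw [h2] at h1
    exact (ht'.pow d).mul_right_eq_zero.mp h1
  have hG₀ker : RingHom.ker π.toRingHom ≤ RingHom.ker G₀.toRingHom := by
    rw [← hs, Ideal.span_le]
    intro H hH
    exact RingHom.mem_ker.mpr (hG₀ H hH)
  let G₁ : C₁ →ₐ[A] Localization.Away t := AlgHom.liftOfSurjective π hπ G₀ hG₀ker
  have hG₁ : ∀ p, G₁ (π p) = G₀ p := fun p => AlgHom.liftOfSurjective_apply π hπ G₀ hG₀ker p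
  let G₂ : Polynomial C₁ →ₐ[A] Localization.Away t := Polynomial.aevalTower G₁ t'
  have hG₂u : ∀ y : Submonoid.powers (Polynomial.X : Polynomial C₁), IsUnit (G₂ y) := by
    rintro ⟨_, k, rfl⟩
    rw [map_pow, Polynomial.aevalTower_X]
    exact ht'.pow k
  let G : Localization.Away (Polynomial.X : Polynomial C₁) →ₐ[A] Localization.Away t :=
    IsLocalization.liftAlgHom (M := Submonoid.powers (Polynomial.X : Polynomial C₁)) (f := G₂) hG₂u
  have hGalg : ∀ c, G (algebraMap _ _ c) = G₂ c := fun c => IsLocalization.lift_eq _ _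
  have hGT : G T = t' := by
    rw [hGalg, Polynomial.aevalTower_X]
  have hGι : ∀ c, G (ι c) = G₁ c := by
    intro c
    show G (algebraMap _ _ (algebraMap C₁ (Polynomial C₁) c)) = G₁ c
    rw [hGalg]
    exact Polynomial.aevalTower_algebraMap _ _ _
  have hFt' : F t' = T := by rw [hFalg, hF₁t]
  have hFtinv : T * F tinv = 1 := by
    rw [← hFt', ← map_mul, htinv, map_one]
  -- compositions
  have hGF : G.comp F = AlgHom.id A _ := by
    apply IsLocalization.algHom_ext (Submonoid.powers t)
    apply Ideal.Quotient.algHom_ext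
    apply MvPolynomial.algHom_ext
    intro o
    show G (F (algebraMap _ _ (Ideal.Quotient.mk I (X o)))) =
      algebraMap _ _ (Ideal.Quotient.mk I (X o))
    rw [hFalg, hF₁mk]
    cases o with
    | none =>
      have : F₀ (X none) = T := by simp [F₀]
      rw [this, hGT]
    | some i =>
      have : F₀ (X (some i)) = T * ι (π (X i)) := by simp [F₀]
      rw [this, map_mul, hGT, hGι, hG₁]
      show t' * G₀ (X i) = z' (some i)
      have : G₀ (X i) = z' (some i) * tinv := by simp [G₀]
      rw [this, mul_comm (z' (some i)), ← mul_assoc, htinv, one_mul]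
  have hFG : F.comp G = AlgHom.id A _ := by
    apply IsLocalization.algHom_ext (Submonoid.powers (Polynomial.X : Polynomial C₁))
    apply Polynomial.algHom_ext'
    · -- on constants
      have hsurj : Function.Surjective π := hπ
      apply (AlgHom.cancel_right hsurj).mp
      apply MvPolynomial.algHom_ext
      intro i
      show F (G (ι (π (X i)))) = ι (π (X i))
      rw [hGι, hG₁]
      have : G₀ (X i) = z' (some i) * tinv := by simp [G₀]
      rw [this, map_mul]
      show F (algebraMap _ _ (Ideal.Quotient.mk I (X (some i)))) * F tinv = _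
      rw [hFalg, hF₁mk]
      have : F₀ (X (some i)) = T * ι (π (X i)) := by simp [F₀]
      rw [this, mul_comm T, mul_assoc, hFtinv, mul_one]
    · show F (G T) = T
      rw [hGT, hFt']
  exact ⟨AlgEquiv.ofAlgHom F G hFG hGF⟩

end Equiv

section Main

/-- **Fixing the target.** A map from a finitely presented `A`-algebra `C₁` to a localization
`N⁻¹Λ` can be replaced by a map `C → Λ` from a finitely presented `A`-algebra `C` with an element
`t ↦ N` such that `C[1/t] ≅ C₁[X, X⁻¹]`. -/
theorem exists_fix_target {A : Type u} [CommRing A] (C₁ : Type u) [CommRing C₁] [Algebra A C₁]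
    [Algebra.FinitePresentation A C₁] (Λ : Type u) [CommRing Λ] [Algebra A Λ] (N : Submonoid Λ)
    (ΛN : Type u) [CommRing ΛN] [Algebra Λ ΛN] [IsLocalization N ΛN] [Algebra A ΛN]
    [IsScalarTower A Λ ΛN] (θ : C₁ →ₐ[A] ΛN) :
    ∃ (C : Type u) (_ : CommRing C) (_ : Algebra A C), Algebra.FinitePresentation A C ∧
      ∃ (t : C) (h : C →ₐ[A] Λ), h t ∈ N ∧
        Nonempty (Localization.Away t ≃ₐ[A] Localization.Away (Polynomial.X : Polynomial C₁)) := by
  classical
  obtain ⟨n, π, hπ, hfg⟩ := Algebra.FinitePresentation.out (R := A) (A := C₁)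
  obtain ⟨s, hs⟩ := hfg
  have hker : ∀ H ∈ s, π H = 0 := by
    intro H hH
    have : H ∈ RingHom.ker π.toRingHom := by rw [← hs]; exact Ideal.subset_span hH
    exact (RingHom.mem_ker).mp this
  obtain ⟨⟨u, hu⟩, hlam⟩ :=
    IsLocalization.exist_integer_multiples_of_finite N (fun i : Fin n => θ (π (X i)))
  choose lam hlam' using hlam
  have hlam'' : ∀ i, algebraMap Λ ΛN (lam i) = algebraMap Λ ΛN u * θ (π (X i)) := by
    intro i
    rw [hlam' i, Algebra.smul_def]
  set d : ℕ := s.sup MvPolynomial.totalDegree + 1 with hd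
  have hdle : ∀ H ∈ s, H.totalDegree ≤ d := fun H hH =>
    (Finset.le_sup (f := MvPolynomial.totalDegree) hH).trans (Nat.le_succ _)
  have hθπ : ∀ H, aeval (fun i => θ (π (X i))) H = θ (π H) := by
    intro H
    have := MvPolynomial.aeval_unique (θ.comp π)
    exact (DFunLike.congr_fun this H).symm
  -- first evaluation is zero in the localization
  have h0 : ∀ H ∈ s, algebraMap Λ ΛN (aeval (fun o : Option (Fin n) => o.elim u lam) (hom d H)) = 0 := by
    intro H hH
    have := MvPolynomial.comp_aeval_apply (f := fun o : Option (Fin n) => o.elim u lam)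
      (IsScalarTower.toAlgHom A Λ ΛN) (hom d H)
    rw [IsScalarTower.coe_toAlgHom'] at this
    rw [this]
    have hfun : (fun o : Option (Fin n) => algebraMap Λ ΛN (o.elim u lam)) =
        fun o => algebraMap Λ ΛN u * o.elim 1 (fun i => θ (π (X i))) := by
      funext o
      cases o with
      | none => simp
      | some i => simpa using hlam'' i
    rw [hfun, aeval_hom d H (hdle H hH), hθπ, hker H hH, map_zero, mul_zero]
  have hv : ∀ H : MvPolynomial (Fin n) A, ∃ v : N, H ∈ s →
      (v : Λ) * aeval (fun o : Option (Fin n) => o.elim u lam) (hom d H) = 0 := by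
    intro H
    by_cases hH : H ∈ s
    · obtain ⟨v, hv⟩ := (IsLocalization.map_eq_zero_iff N ΛN _).mp (h0 H hH)
      exact ⟨v, fun _ => hv⟩
    · exact ⟨1, fun h => absurd h hH⟩
  choose v hv' using hv
  set V : Λ := ∏ H ∈ s, (v H : Λ) with hV
  have hVN : V ∈ N := Submonoid.prod_mem _ fun H _ => (v H).2
  have hVkill : ∀ H ∈ s, V ^ d * aeval (fun o : Option (Fin n) => o.elim u lam) (hom d H) = 0 := by
    intro H hH
    obtain ⟨W, hW⟩ : (v H : Λ) ∣ V ^ d :=
      dvd_pow (Finset.dvd_prod_of_mem _ hH) (by rw [hd]; exact Nat.succ_ne_zero _)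
    rw [hW, mul_right_comm, hv' H hH, zero_mul]
  let h₀ : MvPolynomial (Option (Fin n)) A →ₐ[A] Λ := aeval (fun o => V * o.elim u lam)
  set I : Ideal (MvPolynomial (Option (Fin n)) A) :=
    Ideal.span (hom d '' (s : Set (MvPolynomial (Fin n) A))) with hI
  have hh₀ : ∀ a ∈ I, h₀ a = 0 := by
    have hle : I ≤ RingHom.ker h₀.toRingHom := by
      rw [hI, Ideal.span_le]
      rintro _ ⟨H, hH, rfl⟩
      rw [SetLike.mem_coe, RingHom.mem_ker]
      show h₀ (hom d H) = 0
      rw [aeval_hom_mul d H (hdle H hH)]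
      exact hVkill H hH
    intro a ha
    exact RingHom.mem_ker.mp (hle ha)
  refine ⟨MvPolynomial (Option (Fin n)) A ⧸ I, inferInstance, inferInstance, ?_,
    Ideal.Quotient.mk I (X none), Ideal.Quotient.liftₐ I h₀ hh₀, ?_, ?_⟩
  · exact Algebra.FinitePresentation.quotient
      (Submodule.fg_span (Set.Finite.image _ s.finite_toSet))
  · show h₀ (X none) ∈ N
    have : h₀ (X none) = V * u := by simp [h₀]
    rw [this]
    exact N.mul_mem hVN hu
  · exact homQuot_away_equiv C₁ π hπ s hs d hdle

end Main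

end Groth.Agent.H44.FixTarget
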