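import Mathlib
import Groth.Prelude.Def_Smoothing
import Groth.Agent.H44.LocTrick
import Groth.Agent.H44.FixTarget

/-!
# Delocalization of a smooth resolution (abstract form of Stacks 07F4)
-/

set_option autoImplicit false
universe u

namespace Groth.Agent.H44.LocTrick2

open Groth.Agent.H44.LocTrick Groth.Agent.H44.FixTarget

/-- Abstract delocalization: from a formally smooth, finitely presented algebra `E` over the
localized situation `S⁻¹R → S⁻¹A → N⁻¹Λ`, produce a finitely presented `A`-algebra `C → Λ` and
`t ∈ C` mapping into `N` with `C[1/t]` smooth over `R`. -/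
theorem delocalize_abstract {R A Λ Rₛ A' E ΛN : Type u} [CommRing R] [CommRing A] [CommRing Λ]
    [CommRing Rₛ] [CommRing A'] [CommRing E] [CommRing ΛN]
    [Algebra R A] [Algebra.FinitePresentation R A] [Algebra A Λ]
    (S : Submonoid R) [Algebra R Rₛ] [IsLocalization S Rₛ]
    [Algebra A A'] [IsLocalization (Algebra.algebraMapSubmonoid A S) A']
    [Algebra A' E] [Algebra.FinitePresentation A' E] [Algebra A E] [IsScalarTower A A' E]
    [Algebra Rₛ E] [Algebra.FormallySmooth Rₛ E] [Algebra R E] [IsScalarTower R Rₛ E]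
    [IsScalarTower R A E]
    (N : Submonoid Λ) [Algebra Λ ΛN] [IsLocalization N ΛN] [Algebra A ΛN] [IsScalarTower A Λ ΛN]
    (θ : E →ₐ[A] ΛN) (hSN : ∀ s ∈ S, algebraMap A Λ (algebraMap R A s) ∈ N) :
    ∃ (C : Type u) (_ : CommRing C) (_ : Algebra A C) (_ : Algebra R C) (_ : IsScalarTower R A C),
      Algebra.FinitePresentation A C ∧ ∃ (t : C) (h : C →ₐ[A] Λ), h t ∈ N ∧
        Algebra.Smooth R (Localization.Away t) := by
  classical
  obtain ⟨C₀, _, _, _, _, hC₀fp, hC₀loc⟩ :=
    exists_descent (P := A) (T := A') (Algebra.algebraMapSubmonoid A S) E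
  letI : Algebra R C₀ := ((algebraMap A C₀).comp (algebraMap R A)).toAlgebra
  haveI : IsScalarTower R A C₀ := IsScalarTower.of_algebraMap_eq fun _ => rfl
  haveI : IsScalarTower R C₀ E := by
    refine IsScalarTower.of_algebraMap_eq fun r => ?_
    rw [IsScalarTower.algebraMap_apply R A E, IsScalarTower.algebraMap_apply A C₀ E]
    rfl
  haveI : Algebra.FinitePresentation R C₀ := Algebra.FinitePresentation.trans R A C₀
  haveI : IsLocalization (Algebra.algebraMapSubmonoid C₀ S) E := by
    rw [← Algebra.algebraMapSubmonoid_map_map (A := A) (B := C₀) S]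
    exact hC₀loc
  obtain ⟨s', hs'S, hsm⟩ := exists_smooth_away S Rₛ C₀ E
  -- the smooth algebra `C₁`
  haveI : Algebra.FinitePresentation A (Localization.Away (algebraMap R C₀ s')) :=
    Algebra.FinitePresentation.trans A C₀ _
  have hunit : ∀ y : Submonoid.powers (algebraMap R C₀ s'),
      IsUnit ((θ.comp (IsScalarTower.toAlgHom A C₀ E)) y) := by
    rintro ⟨_, k, rfl⟩
    rw [map_pow]
    refine IsUnit.pow k ?_
    show IsUnit (θ (algebraMap C₀ E (algebraMap R C₀ s')))
    rw [← IsScalarTower.algebraMap_apply R C₀ E, IsScalarTower.algebraMap_apply R A E,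
      AlgHom.commutes, IsScalarTower.algebraMap_apply A Λ ΛN]
    exact IsLocalization.map_units ΛN ⟨_, hSN s' hs'S⟩
  let θ₁ : Localization.Away (algebraMap R C₀ s') →ₐ[A] ΛN :=
    IsLocalization.liftAlgHom (M := Submonoid.powers (algebraMap R C₀ s'))
      (f := θ.comp (IsScalarTower.toAlgHom A C₀ E)) hunit
  obtain ⟨C, _, _, hCfp, t, h, htN, ⟨e⟩⟩ :=
    exists_fix_target (Localization.Away (algebraMap R C₀ s')) Λ N ΛN θ₁
  letI : Algebra R C := ((algebraMap A C).comp (algebraMap R A)).toAlgebra
  haveI : IsScalarTower R A C := IsScalarTower.of_algebraMap_eq fun _ => rfl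
  refine ⟨C, inferInstance, inferInstance, inferInstance, inferInstance, hCfp, t, h, htN, ?_⟩
  haveI : Algebra.Smooth (Localization.Away (algebraMap R C₀ s'))
      (Polynomial (Localization.Away (algebraMap R C₀ s'))) := ⟨inferInstance, inferInstance⟩
  haveI : Algebra.Smooth R (Polynomial (Localization.Away (algebraMap R C₀ s'))) :=
    Algebra.Smooth.comp R (Localization.Away (algebraMap R C₀ s')) _
  haveI : Algebra.Smooth (Polynomial (Localization.Away (algebraMap R C₀ s')))
      (Localization.Away (Polynomial.X : Polynomial (Localization.Away (algebraMap R C₀ s')))) :=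
    ⟨inferInstance, inferInstance⟩
  haveI : Algebra.Smooth R
      (Localization.Away (Polynomial.X : Polynomial (Localization.Away (algebraMap R C₀ s')))) :=
    Algebra.Smooth.comp R (Polynomial (Localization.Away (algebraMap R C₀ s'))) _
  exact Algebra.Smooth.of_equiv (e.symm.restrictScalars R)

end Groth.Agent.H44.LocTrick2
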