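import Mathlib
import Groth.Prelude.Def_Smoothing

/-!
# Quotients `A/JA` over `R/J` as base changes; transport of strictly standard elements
-/

set_option autoImplicit false
universe u

namespace Groth.Agent.H44.ResStep2

open TensorProduct

section Equiv

variable {R A : Type u} [CommRing R] [CommRing A] [Algebra R A]

/-- Strictly standard elements are preserved by algebra isomorphisms. -/
theorem isStrictlyStandard_of_algEquiv {A' : Type u} [CommRing A'] [Algebra R A'] (e : A ≃ₐ[R] A')
    (a : A) (ha : Smoothing.IsStrictlyStandard R A a) : Smoothing.IsStrictlyStandard R A' (e a) := by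
  obtain ⟨P, hmem, hkt⟩ := ha
  let P' : Smoothing.MarkedPresentation R A' :=
    { n := P.n, m := P.m, c := P.c, hcn := P.hcn, hcm := P.hcm, rel := P.rel
      hom := (e : A →ₐ[R] A').comp P.hom
      surj := e.surjective.comp P.surj
      ker_eq := by
        rw [← P.ker_eq]
        ext x
        simp only [RingHom.mem_ker, AlgHom.toRingHom_eq_coe, RingHom.coe_coe, AlgHom.comp_apply,
          AlgEquiv.coe_algHom]
        exact e.map_eq_zero_iff }
  refine ⟨P', ?_, ?_⟩
  · have h1 : (e : A →+* A') a ∈ _ := Ideal.mem_map_of_mem (e : A →+* A') hmem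
    rw [Ideal.map_span] at h1
    refine Ideal.span_mono ?_ h1
    rintro _ ⟨_, ⟨cols, rfl⟩, rfl⟩
    exact ⟨cols, rfl⟩
  · intro a' ha' j hj
    have : P.hom a' = a := e.injective ha'
    exact hkt a' this j hj

variable (J : Ideal R)

/-- The comparison map `(R/J) ⊗_R A → A/JA`. -/
noncomputable def tensorQuotHom :
    ((R ⧸ J) ⊗[R] A) →ₐ[R ⧸ J] (A ⧸ J.map (algebraMap R A)) :=
  Algebra.TensorProduct.lift (Algebra.ofId (R ⧸ J) (A ⧸ J.map (algebraMap R A)))
    (IsScalarTower.toAlgHom R A (A ⧸ J.map (algebraMap R A))) (fun _ _ => Commute.all _ _)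

theorem tensorQuotHom_tmul (x : R ⧸ J) (a : A) :
    tensorQuotHom (A := A) J (x ⊗ₜ[R] a) =
      algebraMap (R ⧸ J) (A ⧸ J.map (algebraMap R A)) x * Ideal.Quotient.mk _ a := by
  unfold tensorQuotHom
  rw [Algebra.TensorProduct.lift_tmul]
  rfl

theorem tensorQuotHom_bijective : Function.Bijective (tensorQuotHom (A := A) J) := by
  have hkill : ∀ a ∈ J.map (algebraMap R A),
      (Algebra.TensorProduct.includeRight : A →ₐ[R] (R ⧸ J) ⊗[R] A).toRingHom a = 0 := by
    have hle : J.map (algebraMap R A) ≤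
        RingHom.ker (Algebra.TensorProduct.includeRight : A →ₐ[R] (R ⧸ J) ⊗[R] A).toRingHom := by
      rw [Ideal.map_le_iff_le_comap]
      intro r hr
      rw [Ideal.mem_comap, RingHom.mem_ker]
      show (1 : R ⧸ J) ⊗ₜ[R] (algebraMap R A r) = 0
      rw [Algebra.algebraMap_eq_smul_one, TensorProduct.tmul_smul, TensorProduct.smul_tmul',
        ← Algebra.algebraMap_eq_smul_one]
      have : algebraMap R (R ⧸ J) r = 0 := Ideal.Quotient.eq_zero_iff_mem.mpr hr
      rw [this, TensorProduct.zero_tmul]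
    intro a ha
    exact RingHom.mem_ker.mp (hle ha)
  let g : A ⧸ J.map (algebraMap R A) →+* (R ⧸ J) ⊗[R] A :=
    Ideal.Quotient.lift _ _ hkill
  have hg : ∀ a, g (Ideal.Quotient.mk _ a) = (1 : R ⧸ J) ⊗ₜ[R] a := fun a => rfl
  have hgf : ∀ t, g (tensorQuotHom (A := A) J t) = t := by
    intro t
    induction t using TensorProduct.induction_on with
    | zero => simp
    | tmul x a =>
      obtain ⟨r, rfl⟩ := Ideal.Quotient.mk_surjective x
      rw [tensorQuotHom_tmul]
      have h1 : algebraMap (R ⧸ J) (A ⧸ J.map (algebraMap R A)) (Ideal.Quotient.mk J r) =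
          Ideal.Quotient.mk _ (algebraMap R A r) := rfl
      rw [h1, ← map_mul, hg, ← Algebra.smul_def, TensorProduct.tmul_smul, TensorProduct.smul_tmul']
      congr 1
      rw [Algebra.smul_def, mul_one]
      rfl
    | add x y hx hy => rw [map_add, map_add, hx, hy]
  constructor
  · intro s t hst
    rw [← hgf s, ← hgf t, hst]
  · intro y
    obtain ⟨a, rfl⟩ := Ideal.Quotient.mk_surjective y
    refine ⟨(1 : R ⧸ J) ⊗ₜ[R] a, ?_⟩
    rw [tensorQuotHom_tmul, map_one, one_mul]

/-- `(R/J) ⊗_R A ≃ A/JA` as `R/J`-algebras. -/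
noncomputable def tensorQuotEquiv :
    ((R ⧸ J) ⊗[R] A) ≃ₐ[R ⧸ J] (A ⧸ J.map (algebraMap R A)) :=
  AlgEquiv.ofBijective (tensorQuotHom J) (tensorQuotHom_bijective J)

theorem tensorQuotEquiv_one_tmul (a : A) :
    tensorQuotEquiv (A := A) J ((1 : R ⧸ J) ⊗ₜ[R] a) = Ideal.Quotient.mk _ a := by
  unfold tensorQuotEquiv
  rw [AlgEquiv.ofBijective_apply, tensorQuotHom_tmul, map_one, one_mul]

theorem finitePresentation_quot [Algebra.FinitePresentation R A] :
    Algebra.FinitePresentation (R ⧸ J) (A ⧸ J.map (algebraMap R A)) :=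
  Algebra.FinitePresentation.equiv (tensorQuotEquiv (A := A) J)

end Equiv

end Groth.Agent.H44.ResStep2
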