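import Groth.Agent.H44.CoeffField
import Mathlib.RingTheory.Kaehler.JacobiZariski

/-!
# Naturality of the connecting map of the Jacobi–Zariski sequence in the top ring, and left
exactness of the sequence for field extensions
-/

set_option autoImplicit false

universe u

open KaehlerDifferential Module MvPolynomial TensorProduct

namespace Groth.Agent.H44.H1Nat

open Algebra

attribute [local instance] SMulCommClass.of_commMonoid

section nat

variable {R S T T' : Type u} [CommRing R] [CommRing S] [CommRing T] [CommRing T'] [Algebra R S]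
  [Algebra S T] [Algebra R T] [IsScalarTower R S T] [Algebra S T'] [Algebra R T']
  [IsScalarTower R S T'] [Algebra T T'] [IsScalarTower S T T']

variable (R S T T') in
/-- the base change map `T ⊗[S] Ω[S⁄R] → T' ⊗[S] Ω[S⁄R]` -/
noncomputable def rho : T ⊗[S] Ω[S⁄R] →ₗ[T] T' ⊗[S] Ω[S⁄R] :=
  TensorProduct.AlgebraTensorModule.map (Algebra.linearMap T T')
    (LinearMap.id : Ω[S⁄R] →ₗ[S] Ω[S⁄R])

theorem rho_tmul (t : T) (ω : Ω[S⁄R]) :
    rho R S T T' (t ⊗ₜ[S] ω) = algebraMap T T' t ⊗ₜ[S] ω := rfl

set_option backward.isDefEq.respectTransparency false in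
theorem δAux_toAlgHom_self (y : (Generators.self S T).Ring) :
    Generators.H1Cotangent.δAux R (Generators.self S T')
      ((Generators.defaultHom (Generators.self S T) (Generators.self S T')).toAlgHom y) =
    rho R S T T' (Generators.H1Cotangent.δAux R (Generators.self S T) y) := by
  induction y using MvPolynomial.induction_on with
  | C s =>
    rw [Generators.Hom.toAlgHom_C, Generators.H1Cotangent.δAux_C, Generators.H1Cotangent.δAux_C,
      rho_tmul, map_one]
    rfl
  | add y₁ y₂ h₁ h₂ => rw [map_add, map_add, map_add, map_add, h₁, h₂]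
  | mul_X q l ih =>
    rw [map_mul, Generators.Hom.toAlgHom_X, Generators.H1Cotangent.δAux_mul,
      Generators.H1Cotangent.δAux_mul, Generators.H1Cotangent.δAux_X, smul_zero, zero_add, ih]
    have h1 : (Generators.defaultHom (Generators.self S T) (Generators.self S T')).val l =
        (X (algebraMap T T' l) : MvPolynomial T' S) := rfl
    rw [h1, Generators.H1Cotangent.δAux_X, smul_zero, zero_add]
    rw [← @IsScalarTower.algebraMap_smul (Generators.self S T).Ring T,
      ← @IsScalarTower.algebraMap_smul (Generators.self S T').Ring T',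
      Generators.algebraMap_apply, Generators.algebraMap_apply, aeval_X, aeval_X]
    show algebraMap T T' l • rho R S T T' _ = rho R S T T' (l • _)
    rw [map_smul, algebraMap_smul]

set_option backward.isDefEq.respectTransparency false in
theorem δ_map_self (x : Algebra.H1Cotangent S T) :
    Algebra.H1Cotangent.δ R S T' (Algebra.H1Cotangent.map S S T T' x) =
      rho R S T T' (Algebra.H1Cotangent.δ R S T x) := by
  obtain ⟨x, hx⟩ := x
  obtain ⟨⟨y, hy⟩, rfl⟩ := Extension.Cotangent.mk_surjective x
  have h1 : Algebra.H1Cotangent.δ R S T ⟨Extension.Cotangent.mk ⟨y, hy⟩, hx⟩ =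
      Generators.H1Cotangent.δAux R (Generators.self S T) y :=
    Generators.H1Cotangent.δ_eq_δAux (Generators.self S T) (Generators.self R S) ⟨y, hy⟩ hx
  rw [h1, ← δAux_toAlgHom_self]
  exact Generators.H1Cotangent.δ_eq_δAux (Generators.self S T') (Generators.self R S)
    ⟨(Generators.defaultHom (Generators.self S T) (Generators.self S T')).toAlgHom y, _⟩ _

end nat

section fields

variable {K L M : Type u} [Field K] [Field L] [Field M] [Algebra K L] [Algebra L M] [Algebra K M]
  [IsScalarTower K L M]

/-- For fields `K ⊆ L ⊆ M`, `M ⊗ H¹(L_{L/K}) → H¹(L_{M/K})` is injective. -/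
theorem injective_liftBaseChange_map :
    Function.Injective ((Algebra.H1Cotangent.map K K L M).liftBaseChange M) := by
  letI aL : Algebra ↥(⊥ : Subfield K) L :=
    { smul := fun a x => (a : K) • x
      algebraMap := (algebraMap K L).comp (algebraMap ↥(⊥ : Subfield K) K)
      commutes' := fun a x => Algebra.commutes (a : K) x
      smul_def' := fun a x => Algebra.smul_def (a : K) x }
  letI aM : Algebra ↥(⊥ : Subfield K) M :=
    { smul := fun a x => (a : K) • x
      algebraMap := (algebraMap K M).comp (algebraMap ↥(⊥ : Subfield K) K)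
      commutes' := fun a x => Algebra.commutes (a : K) x
      smul_def' := fun a x => Algebra.smul_def (a : K) x }
  haveI t1 : IsScalarTower ↥(⊥ : Subfield K) K L := IsScalarTower.of_algebraMap_eq (fun _ => rfl)
  haveI t2 : IsScalarTower ↥(⊥ : Subfield K) K M := IsScalarTower.of_algebraMap_eq (fun _ => rfl)
  haveI : Algebra.FormallySmooth ↥(⊥ : Subfield K) L := CoeffField.formallySmooth_bot' K L
  haveI : Algebra.FormallySmooth ↥(⊥ : Subfield K) M := CoeffField.formallySmooth_bot' K M
  have hδL : Function.Injective (Algebra.H1Cotangent.δ ↥(⊥ : Subfield K) K L) := by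
    rw [injective_iff_map_eq_zero]
    intro x hx
    obtain ⟨x', rfl⟩ := (Algebra.H1Cotangent.exact_map_δ ↥(⊥ : Subfield K) K L x).mp hx
    rw [Subsingleton.elim x' 0, map_zero]
  have hι : ∀ (m : M) (y : L ⊗[K] Ω[K⁄↥(⊥ : Subfield K)]),
      TensorProduct.AlgebraTensorModule.cancelBaseChange K L M M (Ω[K⁄↥(⊥ : Subfield K)])
        (m ⊗ₜ[L] y) = m • rho ↥(⊥ : Subfield K) K L M y := by
    intro m y
    induction y using TensorProduct.induction_on with
    | zero => rw [TensorProduct.tmul_zero, map_zero, map_zero, smul_zero]
    | tmul l ω =>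
      rw [TensorProduct.AlgebraTensorModule.cancelBaseChange_tmul, rho_tmul,
        TensorProduct.smul_tmul', smul_eq_mul, Algebra.smul_def, mul_comm]
    | add y z hy hz => rw [TensorProduct.tmul_add, map_add, map_add, smul_add, hy, hz]
  have key : ∀ z : M ⊗[L] Algebra.H1Cotangent K L,
      TensorProduct.AlgebraTensorModule.cancelBaseChange K L M M (Ω[K⁄↥(⊥ : Subfield K)])
        ((Algebra.H1Cotangent.δ ↥(⊥ : Subfield K) K L).baseChange M z) =
      Algebra.H1Cotangent.δ ↥(⊥ : Subfield K) K M
        ((Algebra.H1Cotangent.map K K L M).liftBaseChange M z) := by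
    intro z
    induction z using TensorProduct.induction_on with
    | zero => simp only [map_zero]
    | tmul m x =>
      rw [LinearMap.baseChange_tmul, hι, LinearMap.liftBaseChange_tmul, map_smul, δ_map_self]
    | add y z hy hz => simp only [map_add, hy, hz]
  rw [injective_iff_map_eq_zero]
  intro z hz
  have h1 := key z
  rw [hz, map_zero] at h1
  have h2 : (Algebra.H1Cotangent.δ ↥(⊥ : Subfield K) K L).baseChange M z = 0 :=
    (LinearEquiv.map_eq_zero_iff _).mp h1
  have hinj : Function.Injective ((Algebra.H1Cotangent.δ ↥(⊥ : Subfield K) K L).baseChange M) :=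
    Module.Flat.lTensor_preserves_injective_linearMap (M := M) _ hδL
  exact hinj (h2.trans (map_zero _).symm)

end fields

end Groth.Agent.H44.H1Nat
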