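import Mathlib
import Groth.Agent.S9282
import Groth.Agent.S9319
import Groth.Agent.H14.H1Residue

/-!
# Independence in the cotangent space is preserved (helper44, for helper10's S6824)

Core of Stacks 07E6: `k → A₀ → S` local, `S` adic formally smooth over `k`,
`κ₀ ⊗ Ω_{A₀/k} → Ω_{κ₀/k}` injective.  Then `K ⊗_{κ₀} (m₀/m₀²) → m_S/m_S²` is injective: elements
of `m₀` with independent classes have independent classes in `m_S/m_S²`.
-/

set_option autoImplicit false
universe u
open IsLocalRing TensorProduct

namespace Groth.Agent.H44.CotLI

open Groth.Agent.H14.H1Residue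

section nat

variable {A B : Type u} [CommRing A] [CommRing B] [IsLocalRing A] [IsLocalRing B] [Algebra A B]
  [IsLocalHom (algebraMap A B)]

/-- the map of extensions `extRes A → extRes B` -/
noncomputable def extResHom : (extRes A).Hom (extRes B) where
  toRingHom := algebraMap A B
  toRingHom_algebraMap := fun x => rfl
  algebraMap_toRingHom := fun x => by
    show algebraMap B (ResidueField B) (algebraMap A B x) =
      algebraMap (ResidueField A) (ResidueField B) (algebraMap A (ResidueField A) x)
    rw [← IsScalarTower.algebraMap_apply A B (ResidueField B),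
      ← IsScalarTower.algebraMap_apply A (ResidueField A) (ResidueField B)]

/-- `h1CotangentEquivCotangent` for an extension with `P.Ring = R` is induced by `defaultHom` -/
theorem h1CotangentEquivCotangent_extRes (z : Algebra.H1Cotangent A (ResidueField A)) :
    (extRes A).h1CotangentEquivCotangent z =
      (Algebra.Extension.H1Cotangent.map (extRes A).defaultHom z).1 := by
  have h := (extRes A).h1CotangentEquivCotangent_comp_map
  have hid : Algebra.H1Cotangent.map A (extRes A).Ring (ResidueField A) (ResidueField A) =
      LinearMap.id := by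
    rw [Algebra.H1Cotangent.map, Algebra.Extension.H1Cotangent.map_eq _ (.id _),
      Algebra.Extension.H1Cotangent.map_id]
  rw [hid, LinearMap.comp_id] at h
  exact congr($h z)

/-- naturality of `h1CotangentEquivCotangent` for the residue field extensions -/
theorem h1Cot_nat (z : Algebra.H1Cotangent A (ResidueField A)) :
    (extRes B).h1CotangentEquivCotangent
        (Algebra.H1Cotangent.map A B (ResidueField A) (ResidueField B) z) =
      Algebra.Extension.Cotangent.map (extResHom (A := A) (B := B))
        ((extRes A).h1CotangentEquivCotangent z) := by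
  rw [h1CotangentEquivCotangent_extRes, h1CotangentEquivCotangent_extRes]
  have h1 : Algebra.Extension.H1Cotangent.map (extRes B).defaultHom
      (Algebra.H1Cotangent.map A B (ResidueField A) (ResidueField B) z) =
      Algebra.Extension.H1Cotangent.map (((extRes B).defaultHom).comp
        (Algebra.Generators.defaultHom (Algebra.Generators.self A (ResidueField A))
          (Algebra.Generators.self B (ResidueField B))).toExtensionHom) z := by
    rw [Algebra.Extension.H1Cotangent.map_comp_apply]
    rfl
  have h2 : Algebra.Extension.Cotangent.map (extResHom (A := A) (B := B))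
      (Algebra.Extension.H1Cotangent.map (extRes A).defaultHom z).1 =
      (Algebra.Extension.H1Cotangent.map ((extResHom (A := A) (B := B)).comp
        (extRes A).defaultHom) z).1 := by
    rw [Algebra.Extension.H1Cotangent.map_comp_apply]
    rfl
  rw [h1, h2, Algebra.Extension.H1Cotangent.map_eq]

/-- naturality of `h1Equiv` on classes of elements -/
theorem h1Equiv_map_symm (x : A) (hx : x ∈ maximalIdeal A)
    (hxB : algebraMap A B x ∈ maximalIdeal B) :
    h1Equiv B (Algebra.H1Cotangent.map A B (ResidueField A) (ResidueField B)
      ((h1Equiv A).symm ((maximalIdeal A).toCotangent ⟨x, hx⟩))) =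
      (maximalIdeal B).toCotangent ⟨algebraMap A B x, hxB⟩ := by
  have hxk : x ∈ (extRes A).ker := (extRes_ker A).ge hx
  have hA : (extRes A).h1CotangentEquivCotangent
      ((h1Equiv A).symm ((maximalIdeal A).toCotangent ⟨x, hx⟩)) =
      Algebra.Extension.Cotangent.mk ⟨x, hxk⟩ := by
    have h1 : cotEquiv A (Algebra.Extension.Cotangent.mk ⟨x, hxk⟩) =
        (maximalIdeal A).toCotangent ⟨x, hx⟩ := rfl
    rw [← h1]
    show (extRes A).h1CotangentEquivCotangent ((h1Equiv A).symm (cotEquiv A _)) = _
    have h2 : (h1Equiv A).symm (cotEquiv A (Algebra.Extension.Cotangent.mk ⟨x, hxk⟩)) =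
        (extRes A).h1CotangentEquivCotangent.symm (Algebra.Extension.Cotangent.mk ⟨x, hxk⟩) := by
      rw [LinearEquiv.symm_apply_eq]
      show _ = cotEquiv A ((extRes A).h1CotangentEquivCotangent
        ((extRes A).h1CotangentEquivCotangent.symm _))
      rw [LinearEquiv.apply_symm_apply]
    rw [h2, LinearEquiv.apply_symm_apply]
  show cotEquiv B ((extRes B).h1CotangentEquivCotangent _) = _
  rw [h1Cot_nat, hA, Algebra.Extension.Cotangent.map_mk]
  rfl

end nat

section main

variable {k A₀ S : Type u} [Field k] [CommRing A₀] [CommRing S] [IsLocalRing A₀] [IsLocalRing S]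
  [IsNoetherianRing S] [Algebra k A₀] [Algebra k S] [Algebra A₀ S]
  [IsScalarTower k A₀ S] [IsLocalHom (algebraMap A₀ S)]

/-- `K ⊗_{κ₀} H¹(L_{κ₀/A₀}) → H¹(L_{K/S})` is injective -/
theorem injective_liftBaseChange_h1
    (hS : CAlgX.IsAdicFormallySmooth k S (maximalIdeal S))
    (hinj : Function.Injective (KaehlerDifferential.mapBaseChange k A₀ (ResidueField A₀))) :
    Function.Injective ((Algebra.H1Cotangent.map A₀ S (ResidueField A₀)
      (ResidueField S)).liftBaseChange (ResidueField S)) := by
  have hα : Function.Surjective
      (Algebra.H1Cotangent.map k A₀ (ResidueField A₀) (ResidueField A₀)) := by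
    intro y
    have h1 : Algebra.H1Cotangent.δ k A₀ (ResidueField A₀) y = 0 := by
      apply hinj
      rw [map_zero]
      exact (Algebra.H1Cotangent.exact_δ_mapBaseChange k A₀ (ResidueField A₀) _).mpr ⟨y, rfl⟩
    exact (Algebra.H1Cotangent.exact_map_δ k A₀ (ResidueField A₀) y).mp h1
  have hε : Function.Injective
      (Algebra.H1Cotangent.map k S (ResidueField S) (ResidueField S)) :=
    Groth.Agent.S9282.result k S hS
  have hγ : Function.Injective ((Algebra.H1Cotangent.map k k (ResidueField A₀)
      (ResidueField S)).liftBaseChange (ResidueField S)) := Groth.Agent.S9319.result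
  have hcomm : ∀ y, Algebra.H1Cotangent.map A₀ S (ResidueField A₀) (ResidueField S)
      (Algebra.H1Cotangent.map k A₀ (ResidueField A₀) (ResidueField A₀) y) =
      Algebra.H1Cotangent.map k S (ResidueField S) (ResidueField S)
        (Algebra.H1Cotangent.map k k (ResidueField A₀) (ResidueField S) y) := by
    intro y
    unfold Algebra.H1Cotangent.map
    rw [← Algebra.Extension.H1Cotangent.map_comp_apply,
      ← Algebra.Extension.H1Cotangent.map_comp_apply, Algebra.Extension.H1Cotangent.map_eq]
  have key : ∀ w : ResidueField S ⊗[ResidueField A₀] Algebra.H1Cotangent k (ResidueField A₀),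
      (Algebra.H1Cotangent.map A₀ S (ResidueField A₀) (ResidueField S)).liftBaseChange
        (ResidueField S)
        ((Algebra.H1Cotangent.map k A₀ (ResidueField A₀) (ResidueField A₀)).baseChange
          (ResidueField S) w) =
      Algebra.H1Cotangent.map k S (ResidueField S) (ResidueField S)
        ((Algebra.H1Cotangent.map k k (ResidueField A₀) (ResidueField S)).liftBaseChange
          (ResidueField S) w) := by
    intro w
    induction w using TensorProduct.induction_on with
    | zero => simp only [map_zero]
    | tmul c y =>
      rw [LinearMap.baseChange_tmul, LinearMap.liftBaseChange_tmul,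
        LinearMap.liftBaseChange_tmul, map_smul, hcomm]
    | add a b ha hb => simp only [map_add, ha, hb]
  rw [injective_iff_map_eq_zero]
  intro z hz
  obtain ⟨w, rfl⟩ := LinearMap.baseChange_surjective (ResidueField S) hα z
  rw [key] at hz
  have h1 : (Algebra.H1Cotangent.map k k (ResidueField A₀) (ResidueField S)).liftBaseChange
      (ResidueField S) w = 0 := hε (hz.trans (map_zero _).symm)
  have h2 : w = 0 := hγ (h1.trans (map_zero _).symm)
  rw [h2, map_zero]

/-- **Independence in the cotangent space is preserved** (core of Stacks 07E6). -/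
theorem linearIndependent_cotangent_map
    (hS : CAlgX.IsAdicFormallySmooth k S (maximalIdeal S))
    (hinj : Function.Injective (KaehlerDifferential.mapBaseChange k A₀ (ResidueField A₀)))
    {r : ℕ} (x : Fin r → A₀) (hx : ∀ i, x i ∈ maximalIdeal A₀)
    (hxS : ∀ i, algebraMap A₀ S (x i) ∈ maximalIdeal S)
    (hli : LinearIndependent (ResidueField A₀)
      (fun i => (maximalIdeal A₀).toCotangent ⟨x i, hx i⟩)) :
    LinearIndependent (ResidueField S)
      (fun i => (maximalIdeal S).toCotangent ⟨algebraMap A₀ S (x i), hxS i⟩) := by
  have hv : LinearIndependent (ResidueField A₀)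
      (fun i => (h1Equiv A₀).symm ((maximalIdeal A₀).toCotangent ⟨x i, hx i⟩)) :=
    hli.map' (h1Equiv A₀).symm.toLinearMap (LinearEquiv.ker _)
  have hv1 := Module.Flat.linearIndependent_one_tmul (S := ResidueField S) hv
  have hv2 := hv1.map' _ (LinearMap.ker_eq_bot.mpr (injective_liftBaseChange_h1 hS hinj))
  have hv3 := hv2.map' (h1Equiv S).toLinearMap (LinearEquiv.ker _)
  have heq : ∀ i, (maximalIdeal S).toCotangent ⟨algebraMap A₀ S (x i), hxS i⟩ =
      h1Equiv S ((Algebra.H1Cotangent.map A₀ S (ResidueField A₀)
        (ResidueField S)).liftBaseChange (ResidueField S)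
        ((1 : ResidueField S) ⊗ₜ[ResidueField A₀]
          (h1Equiv A₀).symm ((maximalIdeal A₀).toCotangent ⟨x i, hx i⟩))) := by
    intro i
    rw [LinearMap.liftBaseChange_tmul, one_smul]
    exact (h1Equiv_map_symm (x i) (hx i) (hxS i)).symm
  have heq' : (fun i => (maximalIdeal S).toCotangent ⟨algebraMap A₀ S (x i), hxS i⟩) =
      fun i => h1Equiv S ((Algebra.H1Cotangent.map A₀ S (ResidueField A₀)
        (ResidueField S)).liftBaseChange (ResidueField S)
        ((1 : ResidueField S) ⊗ₜ[ResidueField A₀]
          (h1Equiv A₀).symm ((maximalIdeal A₀).toCotangent ⟨x i, hx i⟩))) := funext heq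
  rw [heq']
  exact hv3

end main

end Groth.Agent.H44.CotLI
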