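import Mathlib
import Groth.Agent.H44.CotLI

/-!
# (ST-III) for helper10's S6824: cotangent independence from differentials
-/

set_option autoImplicit false
universe u
open IsLocalRing MvPolynomial TensorProduct

namespace Groth.Agent.H44.STIII

section abstract

variable {k : Type u} [Field k] {t : ℕ}
  {A₀ : Type u} [CommRing A₀] [IsLocalRing A₀] [Algebra k A₀]
  [Algebra (MvPolynomial (Fin t) k) A₀] [IsScalarTower k (MvPolynomial (Fin t) k) A₀]

/-- differentials of a localization `A₀` of a polynomial ring are spanned by the `D (X l)` -/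
theorem span_D_X (𝔭 : Ideal (MvPolynomial (Fin t) k)) [𝔭.IsPrime]
    [IsLocalization.AtPrime A₀ 𝔭] :
    Submodule.span A₀ (Set.range fun l : Fin t =>
      KaehlerDifferential.D k A₀ (algebraMap (MvPolynomial (Fin t) k) A₀ (X l))) = ⊤ := by
  set N := Submodule.span A₀ (Set.range fun l : Fin t =>
      KaehlerDifferential.D k A₀ (algebraMap (MvPolynomial (Fin t) k) A₀ (X l))) with hN
  have hpoly : ∀ f : MvPolynomial (Fin t) k,
      KaehlerDifferential.D k A₀ (algebraMap _ A₀ f) ∈ N := by
    intro f
    induction f using MvPolynomial.induction_on with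
    | C a =>
      rw [← MvPolynomial.algebraMap_eq, ← IsScalarTower.algebraMap_apply,
        Derivation.map_algebraMap]
      exact N.zero_mem
    | add p q hp hq =>
      rw [map_add, map_add]; exact N.add_mem hp hq
    | mul_X p l hp =>
      rw [map_mul, Derivation.leibniz]
      exact N.add_mem (N.smul_mem _ (Submodule.subset_span ⟨l, rfl⟩)) (N.smul_mem _ hp)
  rw [eq_top_iff, ← KaehlerDifferential.span_range_derivation, Submodule.span_le]
  rintro _ ⟨a, rfl⟩
  obtain ⟨f, s, rfl⟩ := IsLocalization.exists_mk'_eq 𝔭.primeCompl a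
  have hunit : IsUnit (algebraMap (MvPolynomial (Fin t) k) A₀ s) :=
    IsLocalization.map_units A₀ s
  have hspec : IsLocalization.mk' A₀ f s * algebraMap _ A₀ (s : MvPolynomial (Fin t) k) =
      algebraMap _ A₀ f := IsLocalization.mk'_spec A₀ f s
  have h1 := congrArg (KaehlerDifferential.D k A₀) hspec
  rw [Derivation.leibniz] at h1
  have h2 : algebraMap _ A₀ (s : MvPolynomial (Fin t) k) •
      KaehlerDifferential.D k A₀ (IsLocalization.mk' A₀ f s) ∈ N := by
    have h3 : algebraMap _ A₀ (s : MvPolynomial (Fin t) k) •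
        KaehlerDifferential.D k A₀ (IsLocalization.mk' A₀ f s) =
        KaehlerDifferential.D k A₀ (algebraMap _ A₀ f) -
          IsLocalization.mk' A₀ f s •
            KaehlerDifferential.D k A₀ (algebraMap _ A₀ (s : MvPolynomial (Fin t) k)) := by
      rw [← h1]; abel
    rw [h3]; exact N.sub_mem (hpoly f) (N.smul_mem _ (hpoly s))
  obtain ⟨v, hv⟩ := hunit
  have h4 := N.smul_mem (↑v⁻¹ : A₀) h2
  rw [smul_smul, ← hv, Units.inv_mul, one_smul] at h4
  exact h4

variable {S : Type u} [CommRing S] [IsLocalRing S] [Algebra k S] [Algebra A₀ S]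
  [IsScalarTower k A₀ S] [IsLocalHom (algebraMap A₀ S)]

/-- the residue field map of `A₀ → S` lands in the subfield generated by the images of the
variables -/
theorem IsLocalRing.ResidueField.algebraMap_residueField_mem (𝔭 : Ideal (MvPolynomial (Fin t) k)) [𝔭.IsPrime]
    [IsLocalization.AtPrime A₀ 𝔭] (u : Fin t → ResidueField S)
    (hu : ∀ l, residue S (algebraMap A₀ S (algebraMap (MvPolynomial (Fin t) k) A₀ (X l))) = u l)
    (c : ResidueField A₀) :
    algebraMap (ResidueField A₀) (ResidueField S) c ∈
      IntermediateField.adjoin k (Set.range u) := by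
  set κ := IntermediateField.adjoin k (Set.range u) with hκ
  have hpoly : ∀ f : MvPolynomial (Fin t) k,
      residue S (algebraMap A₀ S (algebraMap _ A₀ f)) ∈ κ := by
    intro f
    induction f using MvPolynomial.induction_on with
    | C a =>
      rw [← MvPolynomial.algebraMap_eq,
        ← IsScalarTower.algebraMap_apply k (MvPolynomial (Fin t) k) A₀,
        ← IsScalarTower.algebraMap_apply k A₀ S]
      have h0 : residue S (algebraMap k S a) = algebraMap k (ResidueField S) a :=
        (IsScalarTower.algebraMap_apply k S (ResidueField S) a).symm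
      rw [h0]
      exact κ.algebraMap_mem a
    | add p q hp hq =>
      rw [map_add, map_add, map_add]; exact κ.add_mem hp hq
    | mul_X p l hp =>
      rw [map_mul, map_mul, map_mul, hu]
      exact κ.mul_mem hp (IntermediateField.subset_adjoin k _ ⟨l, rfl⟩)
  obtain ⟨a, rfl⟩ := residue_surjective c
  obtain ⟨f, s, rfl⟩ := IsLocalization.exists_mk'_eq 𝔭.primeCompl a
  rw [IsLocalRing.ResidueField.algebraMap_residue]
  have hunit : IsUnit (algebraMap (MvPolynomial (Fin t) k) A₀ s) :=
    IsLocalization.map_units A₀ s
  have hspec : IsLocalization.mk' A₀ f s * algebraMap _ A₀ (s : MvPolynomial (Fin t) k) =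
      algebraMap _ A₀ f := IsLocalization.mk'_spec A₀ f s
  have hne : residue S (algebraMap A₀ S (algebraMap _ A₀ (s : MvPolynomial (Fin t) k))) ≠ 0 := by
    have : IsUnit (residue S (algebraMap A₀ S (algebraMap _ A₀ (s : MvPolynomial (Fin t) k)))) :=
      (hunit.map (algebraMap A₀ S)).map (residue S)
    exact this.ne_zero
  have h1 : residue S (algebraMap A₀ S (IsLocalization.mk' A₀ f s)) =
      residue S (algebraMap A₀ S (algebraMap _ A₀ f)) /
        residue S (algebraMap A₀ S (algebraMap _ A₀ (s : MvPolynomial (Fin t) k))) := by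
    rw [eq_div_iff hne, ← map_mul, ← map_mul, hspec]
  rw [h1]
  exact κ.div_mem (hpoly f) (hpoly s)

/-- the key injectivity hypothesis of `CotLI.linearIndependent_cotangent_map` -/
theorem injective_mapBaseChange (𝔭 : Ideal (MvPolynomial (Fin t) k)) [𝔭.IsPrime]
    [IsLocalization.AtPrime A₀ 𝔭] (u : Fin t → ResidueField S)
    (hu : ∀ l, residue S (algebraMap A₀ S (algebraMap (MvPolynomial (Fin t) k) A₀ (X l))) = u l)
    (hmem : ∀ l, u l ∈ IntermediateField.adjoin k (Set.range u))
    (hli : LinearIndependent (IntermediateField.adjoin k (Set.range u))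
      (fun l => KaehlerDifferential.D k (IntermediateField.adjoin k (Set.range u))
        ⟨u l, hmem l⟩)) :
    Function.Injective (KaehlerDifferential.mapBaseChange k A₀ (ResidueField A₀)) := by
  set κ := IntermediateField.adjoin k (Set.range u) with hκ
  -- the ring map κ₀ → κ
  let φ : ResidueField A₀ →+* κ :=
    RingHom.codRestrict (algebraMap (ResidueField A₀) (ResidueField S)) κ
      (IsLocalRing.ResidueField.algebraMap_residueField_mem 𝔭 u hu)
  letI : Algebra (ResidueField A₀) κ := φ.toAlgebra
  have hφ : ∀ c, ((algebraMap (ResidueField A₀) κ c : κ) : ResidueField S) =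
      algebraMap (ResidueField A₀) (ResidueField S) c := fun c => rfl
  haveI : IsScalarTower k (ResidueField A₀) κ := by
    refine IsScalarTower.of_algebraMap_eq fun c => ?_
    apply Subtype.ext
    rw [hφ, ← IsScalarTower.algebraMap_apply]
    rfl
  -- independence of the `D (res X l)` over κ₀
  have hb : LinearIndependent (ResidueField A₀) (fun l : Fin t =>
      KaehlerDifferential.D k (ResidueField A₀)
        (residue A₀ (algebraMap (MvPolynomial (Fin t) k) A₀ (X l)))) := by
    have h1 : LinearIndependent (ResidueField A₀)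
        (fun l => KaehlerDifferential.D k κ ⟨u l, hmem l⟩) := by
      refine hli.restrict_scalars ?_
      intro a b hab
      simp only [Algebra.smul_def, mul_one] at hab
      exact (algebraMap (ResidueField A₀) κ).injective hab
    refine LinearIndependent.of_comp (KaehlerDifferential.map k k (ResidueField A₀) κ) ?_
    convert h1 using 1
    funext l
    simp only [Function.comp_apply, KaehlerDifferential.map_D]
    congr 1
    apply Subtype.ext
    rw [hφ, IsLocalRing.ResidueField.algebraMap_residue, hu]
  -- spanning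
  have hspan : Submodule.span (ResidueField A₀)
      (Set.range fun l : Fin t => (1 : ResidueField A₀) ⊗ₜ[A₀]
        KaehlerDifferential.D k A₀ (algebraMap (MvPolynomial (Fin t) k) A₀ (X l))) = ⊤ := by
    have h1 := Submodule.baseChange_span (A := ResidueField A₀) (R := A₀)
      (Set.range fun l : Fin t =>
        KaehlerDifferential.D k A₀ (algebraMap (MvPolynomial (Fin t) k) A₀ (X l)))
    rw [span_D_X 𝔭, Submodule.baseChange_top, ← Set.range_comp] at h1
    exact h1.symm
  rw [injective_iff_map_eq_zero]
  intro w hw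
  have hwmem : w ∈ Submodule.span (ResidueField A₀)
      (Set.range fun l : Fin t => (1 : ResidueField A₀) ⊗ₜ[A₀]
        KaehlerDifferential.D k A₀ (algebraMap (MvPolynomial (Fin t) k) A₀ (X l))) := by
    rw [hspan]; trivial
  obtain ⟨c, rfl⟩ := (Submodule.mem_span_range_iff_exists_fun _).mp hwmem
  rw [map_sum] at hw
  have hw' : ∑ l, c l • KaehlerDifferential.D k (ResidueField A₀)
      (residue A₀ (algebraMap (MvPolynomial (Fin t) k) A₀ (X l))) = 0 := by
    rw [← hw]
    refine Finset.sum_congr rfl fun l _ => ?_
    rw [map_smul, KaehlerDifferential.mapBaseChange_tmul, one_smul, KaehlerDifferential.map_D]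
    rfl
  have hc := Fintype.linearIndependent_iff.mp hb c hw'
  refine Finset.sum_eq_zero fun l _ => ?_
  rw [hc l, zero_smul]

end abstract

theorem cotangent_independent_of_differentials {k Λ : Type u} [Field k] [CommRing Λ]
    [IsNoetherianRing Λ] [Algebra k Λ] (𝔮 : Ideal Λ) [𝔮.IsPrime]
    (hS : CAlgX.IsAdicFormallySmooth k (Localization.AtPrime 𝔮)
      (maximalIdeal (Localization.AtPrime 𝔮)))
    {t : ℕ} [Algebra (MvPolynomial (Fin t) k) Λ] [IsScalarTower k (MvPolynomial (Fin t) k) Λ]
    (hli : LinearIndependent
      (IntermediateField.adjoin k (Set.range fun l : Fin t =>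
        residue (Localization.AtPrime 𝔮) (algebraMap Λ (Localization.AtPrime 𝔮)
          (algebraMap (MvPolynomial (Fin t) k) Λ (X l)))))
      (fun l : Fin t => KaehlerDifferential.D k
        (IntermediateField.adjoin k (Set.range fun l : Fin t =>
          residue (Localization.AtPrime 𝔮) (algebraMap Λ (Localization.AtPrime 𝔮)
            (algebraMap (MvPolynomial (Fin t) k) Λ (X l)))))
        ⟨residue (Localization.AtPrime 𝔮) (algebraMap Λ (Localization.AtPrime 𝔮)
            (algebraMap (MvPolynomial (Fin t) k) Λ (X l))),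
          IntermediateField.subset_adjoin k _ ⟨l, rfl⟩⟩))
    {r : ℕ} (x : Fin r → MvPolynomial (Fin t) k)
    (hx : ∀ i, algebraMap (MvPolynomial (Fin t) k)
        (Localization.AtPrime (𝔮.comap (algebraMap (MvPolynomial (Fin t) k) Λ))) (x i) ∈
      maximalIdeal (Localization.AtPrime (𝔮.comap (algebraMap (MvPolynomial (Fin t) k) Λ))))
    (hxS : ∀ i, algebraMap Λ (Localization.AtPrime 𝔮)
        (algebraMap (MvPolynomial (Fin t) k) Λ (x i)) ∈ maximalIdeal (Localization.AtPrime 𝔮))
    (hxli : LinearIndependent
      (ResidueField (Localization.AtPrime (𝔮.comap (algebraMap (MvPolynomial (Fin t) k) Λ))))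
      (fun i => (maximalIdeal
          (Localization.AtPrime (𝔮.comap (algebraMap (MvPolynomial (Fin t) k) Λ)))).toCotangent
        ⟨_, hx i⟩)) :
    LinearIndependent (ResidueField (Localization.AtPrime 𝔮))
      (fun i => (maximalIdeal (Localization.AtPrime 𝔮)).toCotangent ⟨_, hxS i⟩) := by
  letI : Algebra (Localization.AtPrime (𝔮.comap (algebraMap (MvPolynomial (Fin t) k) Λ)))
      (Localization.AtPrime 𝔮) :=
    (Localization.localRingHom (𝔮.comap (algebraMap (MvPolynomial (Fin t) k) Λ)) 𝔮
      (algebraMap (MvPolynomial (Fin t) k) Λ) rfl).toAlgebra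
  have halg : ∀ f : MvPolynomial (Fin t) k,
      algebraMap (Localization.AtPrime (𝔮.comap (algebraMap (MvPolynomial (Fin t) k) Λ)))
        (Localization.AtPrime 𝔮) (algebraMap _ _ f) =
      algebraMap Λ (Localization.AtPrime 𝔮) (algebraMap (MvPolynomial (Fin t) k) Λ f) :=
    fun f => Localization.localRingHom_to_map _ _ _ rfl f
  haveI : IsLocalHom (algebraMap
      (Localization.AtPrime (𝔮.comap (algebraMap (MvPolynomial (Fin t) k) Λ)))
      (Localization.AtPrime 𝔮)) :=
    Localization.isLocalHom_localRingHom _ _ _ rfl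
  haveI : IsScalarTower k
      (Localization.AtPrime (𝔮.comap (algebraMap (MvPolynomial (Fin t) k) Λ)))
      (Localization.AtPrime 𝔮) := by
    refine IsScalarTower.of_algebraMap_eq fun c => ?_
    rw [IsScalarTower.algebraMap_apply k (MvPolynomial (Fin t) k)
      (Localization.AtPrime (𝔮.comap (algebraMap (MvPolynomial (Fin t) k) Λ))), halg,
      ← IsScalarTower.algebraMap_apply k (MvPolynomial (Fin t) k) Λ,
      ← IsScalarTower.algebraMap_apply k Λ (Localization.AtPrime 𝔮)]
  haveI : IsNoetherianRing (Localization.AtPrime 𝔮) :=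
    IsLocalization.isNoetherianRing 𝔮.primeCompl _ inferInstance
  have hinj := injective_mapBaseChange (k := k) (t := t)
    (A₀ := Localization.AtPrime (𝔮.comap (algebraMap (MvPolynomial (Fin t) k) Λ)))
    (S := Localization.AtPrime 𝔮) (𝔮.comap (algebraMap (MvPolynomial (Fin t) k) Λ))
    (fun l : Fin t =>
        residue (Localization.AtPrime 𝔮) (algebraMap Λ (Localization.AtPrime 𝔮)
          (algebraMap (MvPolynomial (Fin t) k) Λ (X l))))
    (fun l => by rw [halg]) (fun l => IntermediateField.subset_adjoin k _ ⟨l, rfl⟩) hli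
  have hmain := Groth.Agent.H44.CotLI.linearIndependent_cotangent_map
    (k := k) (A₀ := Localization.AtPrime (𝔮.comap (algebraMap (MvPolynomial (Fin t) k) Λ)))
    (S := Localization.AtPrime 𝔮) hS hinj
    (fun i => algebraMap (MvPolynomial (Fin t) k) _ (x i)) hx
    (fun i => by rw [halg]; exact hxS i) hxli
  convert hmain using 4
  exact (halg _).symm

end Groth.Agent.H44.STIII
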