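import Mathlib
import Groth.Prelude
import Groth.Agent.S2082
import Groth.Agent.H79.RegCM

/-!
# (V3) for helper10's S6824: flatness of `P_𝔭 → Λ_𝔮` and the dimension of `P_𝔭`
-/

set_option autoImplicit false
set_option linter.style.haveILetI false
universe u
open IsLocalRing

namespace Groth.Agent.H44.V3Flat

/-- (V3) flatness of `P_𝔭 → Λ_𝔮` and the dimension of `P_𝔭` -/
theorem flat_localRingHom {P Λ : Type u} [CommRing P] [IsRegularRing P] [CommRing Λ]
    [IsNoetherianRing Λ] [Algebra P Λ] (𝔮 : Ideal Λ) [𝔮.IsPrime]
    [IsRegularLocalRing (Localization.AtPrime 𝔮)] (d : ℕ)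
    (hd : ringKrullDim (Localization.AtPrime 𝔮) = d) (π : Fin d → P)
    (hgenP : Ideal.span (Set.range fun i => algebraMap P
        (Localization.AtPrime (𝔮.comap (algebraMap P Λ))) (π i)) =
      maximalIdeal (Localization.AtPrime (𝔮.comap (algebraMap P Λ))))
    (hgenS : Ideal.span (Set.range fun i => algebraMap Λ (Localization.AtPrime 𝔮)
        (algebraMap P Λ (π i))) = maximalIdeal (Localization.AtPrime 𝔮)) :
    ringKrullDim (Localization.AtPrime (𝔮.comap (algebraMap P Λ))) = d ∧
    @Module.Flat (Localization.AtPrime (𝔮.comap (algebraMap P Λ))) (Localization.AtPrime 𝔮) _ _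
      (Localization.localRingHom (𝔮.comap (algebraMap P Λ)) 𝔮 (algebraMap P Λ)
        rfl).toAlgebra.toModule := by
  classical
  letI : Algebra (Localization.AtPrime (𝔮.comap (algebraMap P Λ))) (Localization.AtPrime 𝔮) :=
    (Localization.localRingHom (𝔮.comap (algebraMap P Λ)) 𝔮 (algebraMap P Λ) rfl).toAlgebra
  have halg : ∀ f : P,
      algebraMap (Localization.AtPrime (𝔮.comap (algebraMap P Λ))) (Localization.AtPrime 𝔮)
        (algebraMap P _ f) = algebraMap Λ (Localization.AtPrime 𝔮) (algebraMap P Λ f) :=
    fun f => Localization.localRingHom_to_map _ _ _ rfl f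
  haveI hloc : IsLocalHom (algebraMap (Localization.AtPrime (𝔮.comap (algebraMap P Λ)))
      (Localization.AtPrime 𝔮)) := Localization.isLocalHom_localRingHom _ _ _ rfl
  haveI : IsRegularLocalRing (Localization.AtPrime (𝔮.comap (algebraMap P Λ))) := inferInstance
  haveI : IsNoetherianRing (Localization.AtPrime (𝔮.comap (algebraMap P Λ))) := inferInstance
  -- the maximal ideal of the source generates the maximal ideal of the target
  have hmapm : (maximalIdeal (Localization.AtPrime (𝔮.comap (algebraMap P Λ)))).map
      (algebraMap (Localization.AtPrime (𝔮.comap (algebraMap P Λ))) (Localization.AtPrime 𝔮))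
      = maximalIdeal (Localization.AtPrime 𝔮) := by
    rw [← hgenP, Ideal.map_span, ← hgenS, ← Set.range_comp]
    congr 2
    funext i
    exact halg (π i)
  -- Cohen–Macaulay target
  haveI hCM : LocCoh.IsCohenMacaulayLocalRing (Localization.AtPrime 𝔮) :=
    { supportDim_eq_depth :=
        Groth.Agent.H79.RegCM.isCM_of_sop (Localization.AtPrime 𝔮) d hd
          (fun i => algebraMap Λ (Localization.AtPrime 𝔮) (algebraMap P Λ (π i))) hgenS }
  -- dimension of the source
  have hdimle : ringKrullDim (Localization.AtPrime (𝔮.comap (algebraMap P Λ))) ≤ d := by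
    rw [← IsLocalRing.maximalIdeal_height_eq_ringKrullDim]
    have hmin : maximalIdeal (Localization.AtPrime (𝔮.comap (algebraMap P Λ))) ∈
        (Ideal.span ((Finset.univ.image fun i => algebraMap P
          (Localization.AtPrime (𝔮.comap (algebraMap P Λ))) (π i) : Finset _) :
            Set (Localization.AtPrime (𝔮.comap (algebraMap P Λ))))).minimalPrimes := by
      rw [Finset.coe_image, Finset.coe_univ, Set.image_univ, hgenP,
        Ideal.minimalPrimes_eq_subsingleton_self]
      rfl
    have h1 := Ideal.height_le_card_of_mem_minimalPrimes_span_finset hmin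
    have h2 : (Finset.univ.image fun i => algebraMap P
        (Localization.AtPrime (𝔮.comap (algebraMap P Λ))) (π i)).card ≤ d := by
      refine Finset.card_image_le.trans ?_
      rw [Finset.card_univ, Fintype.card_fin]
    have h3 : (maximalIdeal (Localization.AtPrime (𝔮.comap (algebraMap P Λ)))).height ≤
        (d : ℕ∞) := h1.trans (by exact_mod_cast h2)
    exact_mod_cast h3
  have hcomap : (maximalIdeal (Localization.AtPrime 𝔮)).comap
      (algebraMap (Localization.AtPrime (𝔮.comap (algebraMap P Λ))) (Localization.AtPrime 𝔮)) =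
      maximalIdeal (Localization.AtPrime (𝔮.comap (algebraMap P Λ))) :=
    ((IsLocalRing.local_hom_TFAE (algebraMap (Localization.AtPrime (𝔮.comap (algebraMap P Λ)))
      (Localization.AtPrime 𝔮))).out 0 4).mp hloc
  haveI hlo : (maximalIdeal (Localization.AtPrime 𝔮)).LiesOver
      (maximalIdeal (Localization.AtPrime (𝔮.comap (algebraMap P Λ)))) := ⟨hcomap.symm⟩
  have hdimge : (d : WithBot ℕ∞) ≤
      ringKrullDim (Localization.AtPrime (𝔮.comap (algebraMap P Λ))) := by
    have h1 := Ideal.height_le_height_add_of_liesOver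
      (maximalIdeal (Localization.AtPrime (𝔮.comap (algebraMap P Λ))))
      (maximalIdeal (Localization.AtPrime 𝔮))
    have h2 : ((maximalIdeal (Localization.AtPrime 𝔮)).map (Ideal.Quotient.mk
        ((maximalIdeal (Localization.AtPrime (𝔮.comap (algebraMap P Λ)))).map
          (algebraMap (Localization.AtPrime (𝔮.comap (algebraMap P Λ)))
            (Localization.AtPrime 𝔮))))).height = 0 := by
      have : (maximalIdeal (Localization.AtPrime 𝔮)).map (Ideal.Quotient.mk
          ((maximalIdeal (Localization.AtPrime (𝔮.comap (algebraMap P Λ)))).map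
            (algebraMap (Localization.AtPrime (𝔮.comap (algebraMap P Λ)))
              (Localization.AtPrime 𝔮)))) = ⊥ := by
        rw [hmapm]; exact Ideal.map_quotient_self _
      rw [this]
      exact Ideal.height_bot
    rw [h2, add_zero] at h1
    rw [← hd, ← IsLocalRing.maximalIdeal_height_eq_ringKrullDim,
      ← IsLocalRing.maximalIdeal_height_eq_ringKrullDim]
    exact_mod_cast h1
  have hdimRm : ringKrullDim (Localization.AtPrime (𝔮.comap (algebraMap P Λ))) = d :=
    le_antisymm hdimle hdimge
  have hquot : ringKrullDim (Localization.AtPrime 𝔮 ⧸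
      (maximalIdeal (Localization.AtPrime (𝔮.comap (algebraMap P Λ)))).map
        (algebraMap (Localization.AtPrime (𝔮.comap (algebraMap P Λ)))
          (Localization.AtPrime 𝔮))) = 0 := by
    rw [hmapm]
    letI : Field (Localization.AtPrime 𝔮 ⧸ maximalIdeal (Localization.AtPrime 𝔮)) :=
      Ideal.Quotient.field _
    exact ringKrullDim_eq_zero_of_field _
  refine ⟨hdimRm, ?_⟩
  exact Groth.Agent.S2082.result (R := Localization.AtPrime (𝔮.comap (algebraMap P Λ)))
    (S := Localization.AtPrime 𝔮) (by rw [hd, hdimRm, hquot, add_zero])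

end Groth.Agent.H44.V3Flat
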