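import Mathlib
import Groth.Prelude.Def_Wider
import Groth.Prelude.Def_CAlg
import Groth.Agent.S17757
import Groth.Agent.H58.LCIndep

/-!
# (C1) for helper55 (HLVT): transfer of top vanishing along a ring map and equal radicals
-/

set_option autoImplicit false
set_option linter.style.haveILetI false
universe u
open IsLocalRing

namespace Groth.Agent.H44.HL_C1

/-- (C1) transfer of top vanishing from a Noetherian local ring `B` of dimension `d` to a
Noetherian `B`-algebra `R`, along ideals with the same radical. -/
theorem transfer (B : Type u) [CommRing B] [IsNoetherianRing B] [IsLocalRing B]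
    (R : Type u) [CommRing R] [IsNoetherianRing R] [Algebra B R] (d : ℕ)
    (hd : ringKrullDim B = d) (q : Ideal B) (hq : Subsingleton (LocCoh.H q d B))
    (p : Ideal R) (hrad : (q.map (algebraMap B R)).radical = p.radical) :
    Subsingleton (LocCoh.H p d R) := by
  -- step 1: `H^d_q(R) ≃ H^d_q(B) ⊗_B R`
  obtain ⟨e⟩ := Groth.Agent.S17757.result B d hd q R
  haveI : Subsingleton (TensorProduct B (LocCoh.H q d B) R) := inferInstance
  haveI h1 : Subsingleton (LocCoh.H q d R) := e.toEquiv.subsingleton
  -- step 2: independence of the base
  obtain ⟨φ, -⟩ := Groth.Agent.H58.LC.semiEq_H B R q d R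
  haveI h2 : Subsingleton (LocCoh.H (q.map (algebraMap B R)) d R) := φ.toEquiv.subsingleton
  -- step 3: radical invariance
  let iso := (localCohomology.isoOfSameRadical hrad d).app (ModuleCat.of R R)
  exact iso.symm.toLinearEquiv.toEquiv.subsingleton

end Groth.Agent.H44.HL_C1
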