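import Mathlib
import Groth.Prelude.Def_Wider
import Groth.Prelude.Def_CAlg
import Groth.Agent.S0342
import Groth.Agent.S0343
import Groth.Agent.S9829
import Groth.Agent.H60.GorTransfer

/-!
# (E) for helper55 (HLVT): a monogenic intermediate ring `A[b]` of a finite injective extension
`A ⊆ R` of a regular local domain by a local domain is Gorenstein
-/

set_option autoImplicit false
set_option linter.style.haveILetI false
universe u
open IsLocalRing Polynomial

namespace Groth.Agent.H44.HL_E

/-- (E) a monogenic intermediate ring `A[b]` of a finite injective extension `A ⊆ R` of a regular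
local domain `A` by a local domain `R` is a Gorenstein local ring (it is a hypersurface `A[X]/(f)`). -/
theorem adjoin_gorenstein (A : Type u) [CommRing A] [IsDomain A] [IsRegularLocalRing A]
    (R : Type u) [CommRing R] [IsDomain R] [IsLocalRing R] [Algebra A R]
    (hinj : Function.Injective (algebraMap A R)) [Module.Finite A R] (b : R) :
    LocCoh.IsGorensteinLocalRing ↥(Algebra.adjoin A ({b} : Set R)) := by
  haveI : FaithfulSMul A R := (faithfulSMul_iff_algebraMap_injective A R).mpr hinj
  haveI : Algebra.IsIntegral A R := inferInstance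
  haveI : IsLocalHom (algebraMap A R) := inferInstance
  haveI : IsIntegrallyClosed A := Groth.Agent.S9829.result A
  have hb : IsIntegral A b := Algebra.IsIntegral.isIntegral b
  -- the evaluation maps
  let φ : A[X] →ₐ[A] R := aeval b
  let bB : Algebra.adjoin A ({b} : Set R) := ⟨b, Algebra.subset_adjoin rfl⟩
  let φB : A[X] →ₐ[A] Algebra.adjoin A ({b} : Set R) := aeval bB
  have hφB : ∀ p, ((φB p : Algebra.adjoin A ({b} : Set R)) : R) = φ p := by
    intro p
    exact (Subalgebra.aeval_coe _ bB p).symm ▸ rfl
  have hφBsurj : Function.Surjective φB := by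
    rintro ⟨y, hy⟩
    rw [Algebra.adjoin_singleton_eq_range_aeval] at hy
    obtain ⟨p, hp⟩ := hy
    exact ⟨p, Subtype.ext ((hφB p).trans hp)⟩
  -- the prime `N`
  let N : Ideal A[X] := (maximalIdeal R).comap φ.toRingHom
  haveI hN : N.IsPrime := Ideal.comap_isPrime _ _
  have hNC : N.comap C = maximalIdeal A := by
    ext a
    rw [Ideal.mem_comap, Ideal.mem_comap, mem_maximalIdeal, mem_maximalIdeal]
    show φ (C a) ∈ nonunits R ↔ _
    rw [show φ (C a) = algebraMap A R a from aeval_C b a]
    constructor
    · intro h hu
      exact h (hu.map _)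
    · intro h hu
      exact h (isUnit_of_map_unit (algebraMap A R) a hu)
  haveI : IsRegularLocalRing (Localization.AtPrime N) :=
    Polynomial.isRegularLocalRing_localization_atPrime_of_comap_eq_maximalIdeal A N hNC
  -- the minimal polynomial
  have hker : RingHom.ker (φ.toRingHom : A[X] →+* R) = Ideal.span {minpoly A b} :=
    minpoly.ker_eval hb
  have hfN : minpoly A b ∈ N := by
    show φ (minpoly A b) ∈ maximalIdeal R
    rw [show φ (minpoly A b) = 0 from minpoly.aeval A b]
    exact Ideal.zero_mem _
  have hf0 : minpoly A b ≠ 0 := minpoly.ne_zero hb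
  have hinjP : Function.Injective (algebraMap A[X] (Localization.AtPrime N)) :=
    IsLocalization.injective _ N.primeCompl_le_nonZeroDivisors
  have hfP0 : algebraMap A[X] (Localization.AtPrime N) (minpoly A b) ≠ 0 := by
    intro h
    exact hf0 (hinjP (h.trans (map_zero _).symm))
  have hfPm : algebraMap A[X] (Localization.AtPrime N) (minpoly A b) ∈
      maximalIdeal (Localization.AtPrime N) :=
    (IsLocalization.AtPrime.to_map_mem_maximal_iff (Localization.AtPrime N) N _).mpr hfN
  have hreg : IsSMulRegular (Localization.AtPrime N)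
      (algebraMap A[X] (Localization.AtPrime N) (minpoly A b)) := by
    intro x y h
    exact mul_left_cancel₀ hfP0 h
  have hGor : LocCoh.IsGorensteinLocalRing (Localization.AtPrime N ⧸
      Ideal.span {algebraMap A[X] (Localization.AtPrime N) (minpoly A b)}) :=
    (Groth.Agent.S0343.result (Localization.AtPrime N) _ hfPm hreg).mp
      (Groth.Agent.S0342.result (Localization.AtPrime N))
  -- the map `P → B`
  haveI : Algebra.IsIntegral (Algebra.adjoin A ({b} : Set R)) R :=
    Algebra.IsIntegral.tower_top (R := A)
  haveI : IsLocalHom (algebraMap (Algebra.adjoin A ({b} : Set R)) R) := inferInstance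
  have hunit : ∀ t : N.primeCompl, IsUnit (φB.toRingHom t) := by
    intro t
    have h1 : IsUnit (φ t) := by
      by_contra hcon
      exact t.2 ((mem_maximalIdeal _).mpr hcon)
    have h2 : IsUnit (algebraMap (Algebra.adjoin A ({b} : Set R)) R (φB t)) := by
      rw [show algebraMap (Algebra.adjoin A ({b} : Set R)) R (φB t) = φ t from hφB t]
      exact h1
    exact isUnit_of_map_unit (algebraMap (Algebra.adjoin A ({b} : Set R)) R) _ h2
  let ψ : Localization.AtPrime N →+* Algebra.adjoin A ({b} : Set R) :=
    IsLocalization.lift (M := N.primeCompl) hunit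
  have hψ : ∀ p, ψ (algebraMap A[X] (Localization.AtPrime N) p) = φB p :=
    fun p => IsLocalization.lift_eq hunit p
  have hψsurj : Function.Surjective ψ := by
    intro y
    obtain ⟨p, rfl⟩ := hφBsurj y
    exact ⟨algebraMap _ _ p, hψ p⟩
  have hψker : RingHom.ker ψ =
      Ideal.span {algebraMap A[X] (Localization.AtPrime N) (minpoly A b)} := by
    apply le_antisymm
    · intro x hx
      obtain ⟨p, s, rfl⟩ := IsLocalization.exists_mk'_eq N.primeCompl x
      have h1 : φB p = 0 := by
        rw [← hψ, ← IsLocalization.mk'_spec (Localization.AtPrime N) p s, map_mul,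
          (RingHom.mem_ker).mp hx, zero_mul]
      have h2 : p ∈ Ideal.span {minpoly A b} := by
        rw [← hker, RingHom.mem_ker]
        show φ p = 0
        rw [← hφB, h1]; rfl
      obtain ⟨h, rfl⟩ := Ideal.mem_span_singleton.mp h2
      rw [Ideal.mem_span_singleton']
      exact ⟨IsLocalization.mk' _ h s, by
        rw [mul_comm, IsLocalization.mul_mk'_eq_mk'_of_mul]⟩
    · rw [Ideal.span_le]
      intro x hx
      rw [Set.mem_singleton_iff] at hx
      rw [hx, SetLike.mem_coe, RingHom.mem_ker, hψ]
      apply Subtype.ext
      rw [hφB]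
      exact minpoly.aeval A b
  exact Groth.Agent.H60.GorTransfer.gor_of_ringEquiv
    ((Ideal.quotEquivOfEq hψker.symm).trans (RingHom.quotientKerEquivOfSurjective hψsurj)) hGor

end Groth.Agent.H44.HL_E
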