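import Groth.Agent.H44.ArtinP3

/-!
# EGA 0_IV 22.x: cotangent dimension of `A[T_i]/(T_i^p - f_i)` — final assembly
-/

set_option autoImplicit false

universe u

open IsLocalRing KaehlerDifferential TensorProduct Module

namespace Groth.Agent.H44.ArtinP

open Groth.Agent.H44.Fredholm Groth.Agent.H44

variable {A : Type u} [CommRing A] (p : ℕ) {r : ℕ} (f : Fin r → A)

set_option maxHeartbeats 1000000 in
theorem main [IsLocalRing A] [IsArtinianRing A] [Fact p.Prime] [CharP A p]
    (hm : maximalIdeal A ^ 2 = ⊥) [hB : IsLocalRing (Bq p f)] :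
    Module.finrank (ResidueField A) (CotangentSpace A) =
        Module.finrank (ResidueField (Bq p f)) (CotangentSpace (Bq p f)) ↔
      LinearIndependent (ResidueField A)
        (fun i => (1 : ResidueField A) ⊗ₜ[A] KaehlerDifferential.D ℤ A (f i)) := by
  haveI : IsLocalHom (algebraMap A (Bq p f)) := isLocalHom_algebraMap p f hm
  haveI : IsNoetherianRing A := inferInstance
  haveI : CharP (Bq p f) p := charP_Bq p f
  haveI : Module.Finite A (Bq p f) := finite_Bq p f
  haveI : IsNoetherianRing (Bq p f) := inferInstance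
  haveI : Module.Finite (ResidueField A) (ResidueField (Bq p f)) := inferInstance
  have hnilA : IsNilpotent (maximalIdeal A) := ⟨2, by rw [hm]; rfl⟩
  have iA := Conormal.hasIndex_mapBaseChange_residue p A hnilA
  have iB := Conormal.hasIndex_mapBaseChange_residue p (Bq p f)
    (isNilpotent_maximalIdeal_Bq p f hm)
  obtain ⟨hfin, hQ⟩ := finrank_tensor_kaehler p f
  haveI := hfin
  have hker : ∀ i, (1 : ResidueField (Bq p f)) ⊗ₜ[Bq p f]
      KaehlerDifferential.D ℤ (Bq p f) (algebraMap A (Bq p f) (f i)) = 0 := by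
    intro i
    rw [← tq_pow, Derivation.leibniz_pow, ← Nat.cast_smul_eq_nsmul (Bq p f), CharP.cast_eq_zero]
    exact (congrArg (fun x => (1 : ResidueField (Bq p f)) ⊗ₜ[Bq p f] x)
      (zero_smul (Bq p f) (tq p f i ^ (p - 1) • KaehlerDifferential.D ℤ (Bq p f) (tq p f i)))).trans
      (TensorProduct.tmul_zero _ _)
  have key : ∀ a b : A, (Sspan (B := Bq p f) f).mkQ ((1 : ResidueField (Bq p f)) ⊗ₜ[A]
      (a • KaehlerDifferential.D ℤ A b)) = algebraMap A (ResidueField (Bq p f)) a •
      (Sspan (B := Bq p f) f).mkQ ((1 : ResidueField (Bq p f)) ⊗ₜ[A]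
        KaehlerDifferential.D ℤ A b) := by
    intro a b
    rw [TensorProduct.tmul_smul, ← algebraMap_smul (ResidueField (Bq p f)) a
      ((1 : ResidueField (Bq p f)) ⊗ₜ[A] KaehlerDifferential.D ℤ A b), LinearMap.map_smul]
  have hρ := exists_retraction_aux p f
    (fun a => (Sspan (B := Bq p f) f).mkQ ((1 : ResidueField (Bq p f)) ⊗ₜ[A]
      KaehlerDifferential.D ℤ A a))
    (fun a b => by
      show (Sspan (B := Bq p f) f).mkQ _ = (Sspan (B := Bq p f) f).mkQ _ +
        (Sspan (B := Bq p f) f).mkQ _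
      rw [map_add, TensorProduct.tmul_add, map_add])
    (fun a b => by
      show (Sspan (B := Bq p f) f).mkQ _ = _ • (Sspan (B := Bq p f) f).mkQ _ +
        _ • (Sspan (B := Bq p f) f).mkQ _
      rw [Derivation.leibniz, TensorProduct.tmul_add, map_add, key a b, key b a])
    (fun i => (Submodule.Quotient.mk_eq_zero _).mpr (Submodule.subset_span ⟨i, rfl⟩))
  exact abstract_main f iA iB hQ hker hρ

end Groth.Agent.H44.ArtinP
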