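import Groth.Agent.H44.ArtinP4
import Groth.Agent.H44.MacLaneAll
import Groth.Agent.S2471
import Groth.Agent.S2453
import Groth.Agent.S2473
import Groth.Agent.S0564
import Groth.Agent.S4535
import Groth.Agent.S4537
import Mathlib

/-!
# EGA 0_IV 22.5.? : formal smoothness over a field and regularity of radicial base changes
-/

set_option autoImplicit false

universe u

open IsLocalRing TensorProduct KaehlerDifferential Module

namespace Groth.Agent.H44.PRad

open Groth.Agent.H44 Groth.Agent.H44.ArtinP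

theorem isAdicFormallySmooth_mono {R S : Type u} [CommRing R] [CommRing S] [Algebra R S]
    {𝔫₁ 𝔫₂ : Ideal S} (h : 𝔫₂ ≤ 𝔫₁) (hS : CAlgX.IsAdicFormallySmooth R S 𝔫₂) :
    CAlgX.IsAdicFormallySmooth R S 𝔫₁ := by
  intro C _ _ J hJ ψ hψ
  obtain ⟨n, hn⟩ := hψ
  exact hS C J hJ ψ ⟨n, fun x hx => hn x (Ideal.pow_right_mono h n hx)⟩

section tensor

variable {k A : Type u} [Field k] [CommRing A] [IsLocalRing A] [Algebra k A] (p : ℕ)
  [hq : ExpChar k p] (k' : Type u) [Field k'] [Algebra k k']

include hq in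
theorem exists_pow_eq_tmul (hk' : ∀ x : k', x ^ p ∈ (algebraMap k k').range) (b : k' ⊗[k] A) :
    ∃ a : A, b ^ p = (1 : k') ⊗ₜ[k] a := by
  haveI : ExpChar k' p := expChar_of_injective_algebraMap (algebraMap k k').injective p
  haveI : ExpChar (k' ⊗[k] A) p :=
    expChar_of_injective_algebraMap (algebraMap k' (k' ⊗[k] A)).injective p
  induction b using TensorProduct.induction_on with
  | zero => exact ⟨0, by rw [zero_pow (expChar_pos k p).ne', TensorProduct.tmul_zero]⟩
  | tmul c a =>
    obtain ⟨y, hy⟩ := hk' c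
    refine ⟨y • a ^ p, ?_⟩
    rw [Algebra.TensorProduct.tmul_pow, ← hy, Algebra.algebraMap_eq_smul_one,
      TensorProduct.smul_tmul]
  | add b₁ b₂ h₁ h₂ =>
    obtain ⟨a₁, h₁⟩ := h₁
    obtain ⟨a₂, h₂⟩ := h₂
    exact ⟨a₁ + a₂, by rw [add_pow_expChar, h₁, h₂, TensorProduct.tmul_add]⟩

theorem not_isUnit_one_tmul {a : A} (ha : a ∈ maximalIdeal A) :
    ¬ IsUnit ((1 : k') ⊗ₜ[k] a) := by
  intro hu
  have h1 : Algebra.TensorProduct.map (AlgHom.id k' k')
      (IsScalarTower.toAlgHom k A (ResidueField A)) ((1 : k') ⊗ₜ[k] a) = 0 := by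
    rw [Algebra.TensorProduct.map_tmul]
    have h2 : (IsScalarTower.toAlgHom k A (ResidueField A)) a = 0 := by
      show residue A a = 0
      exact (residue_eq_zero_iff a).mpr ha
    rw [h2, TensorProduct.tmul_zero]
  have h3 := hu.map (Algebra.TensorProduct.map (AlgHom.id k' k')
      (IsScalarTower.toAlgHom k A (ResidueField A)))
  rw [h1] at h3
  exact not_isUnit_zero h3

include hq in
theorem isLocalRing_tensor (hk' : ∀ x : k', x ^ p ∈ (algebraMap k k').range) :
    IsLocalRing (k' ⊗[k] A) := by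
  have hp0 : p ≠ 0 := (expChar_pos k p).ne'
  haveI : ExpChar k' p := expChar_of_injective_algebraMap (algebraMap k k').injective p
  haveI : ExpChar (k' ⊗[k] A) p :=
    expChar_of_injective_algebraMap (algebraMap k' (k' ⊗[k] A)).injective p
  have key : ∀ b : k' ⊗[k] A, b ∈ nonunits (k' ⊗[k] A) →
      ∃ a ∈ maximalIdeal A, b ^ p = (1 : k') ⊗ₜ[k] a := by
    intro b hb
    obtain ⟨a, ha⟩ := exists_pow_eq_tmul p k' hk' b
    refine ⟨a, ?_, ha⟩
    by_contra hnm
    have hu : IsUnit a := by
      by_contra h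
      exact hnm ((mem_maximalIdeal a).mpr h)
    have h2 : IsUnit ((1 : k') ⊗ₜ[k] a) :=
      hu.map (Algebra.TensorProduct.includeRight : A →ₐ[k] k' ⊗[k] A)
    rw [← ha] at h2
    exact hb ((isUnit_pow_iff hp0).mp h2)
  refine IsLocalRing.of_nonunits_add ?_
  intro b₁ b₂ h₁ h₂
  obtain ⟨a₁, ha₁, e₁⟩ := key b₁ h₁
  obtain ⟨a₂, ha₂, e₂⟩ := key b₂ h₂
  intro hu
  have h3 : IsUnit ((b₁ + b₂) ^ p) := hu.pow p
  rw [add_pow_expChar, e₁, e₂, ← TensorProduct.tmul_add] at h3
  exact not_isUnit_one_tmul k' (add_mem ha₁ ha₂) h3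

include hq in
theorem isRegularRing_tensor_of_smooth [IsNoetherianRing A]
    (hA : CAlgX.IsAdicFormallySmooth k A (maximalIdeal A))
    (hfin : Module.Finite k k') (hk' : ∀ x : k', x ^ p ∈ (algebraMap k k').range) :
    IsRegularRing (k' ⊗[k] A) := by
  haveI := hfin
  haveI : IsLocalRing (k' ⊗[k] A) := isLocalRing_tensor p k' hk'
  haveI : IsNoetherianRing (A ⊗[k] k') := Algebra.FiniteType.isNoetherianRing A (A ⊗[k] k')
  haveI : IsNoetherianRing (k' ⊗[k] A) :=
    isNoetherianRing_of_ringEquiv (A ⊗[k] k') (Algebra.TensorProduct.comm k A k').toRingEquiv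
  have h1 : EGA41.IsFormallySmoothAdic k ⊥ A (maximalIdeal A) :=
    (Groth.Agent.S4537.result _).mp hA
  have h2 := Groth.Agent.S4535.result (A' := k') (⊥ : Ideal k) (maximalIdeal A) (⊥ : Ideal k')
    ⟨1, by simp⟩ h1
  rw [Ideal.map_bot, bot_sup_eq] at h2
  have h3 : CAlgX.IsAdicFormallySmooth k' (k' ⊗[k] A)
      ((maximalIdeal A).map
        (Algebra.TensorProduct.includeRight : A →ₐ[k] k' ⊗[k] A).toRingHom) :=
    (Groth.Agent.S4537.result _).mpr h2
  have hle : (maximalIdeal A).map
      (Algebra.TensorProduct.includeRight : A →ₐ[k] k' ⊗[k] A).toRingHom ≤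
      maximalIdeal (k' ⊗[k] A) := by
    rw [Ideal.map_le_iff_le_comap]
    intro a ha
    rw [Ideal.mem_comap, mem_maximalIdeal]
    exact not_isUnit_one_tmul k' ha
  have h4 := isAdicFormallySmooth_mono hle h3
  haveI : IsRegularLocalRing (k' ⊗[k] A) := ((Groth.Agent.S2471.result).mp h4).1
  exact isRegularRing_iff.mpr (fun P _ => Groth.Agent.S0564.result _ P)

end tensor

section converse

variable {k A : Type u} [Field k] [CommRing A] [IsLocalRing A] [IsNoetherianRing A] [Algebra k A]

theorem isRegularLocalRing_of_forall (p : ℕ)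
    (H : ∀ (k' : Type u) [Field k'] [Algebra k k'], Module.Finite k k' →
      (∀ x : k', x ^ p ∈ (algebraMap k k').range) → IsRegularRing (k' ⊗[k] A)) :
    IsRegularLocalRing A := by
  haveI : IsRegularRing (k ⊗[k] A) := H k inferInstance (fun x => ⟨x ^ p, rfl⟩)
  haveI : IsRegularRing A := IsRegularRing.of_ringEquiv (Algebra.TensorProduct.lid k A).toRingEquiv
  exact IsRegularLocalRing.of_isRegularRing_of_isLocalRing A

theorem smooth_of_regular_charZero [CharZero k] (hreg : IsRegularLocalRing A) :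
    CAlgX.IsAdicFormallySmooth k A (maximalIdeal A) := by
  haveI : Algebra.IsGeometricallyReduced k (ResidueField A) :=
    MacLane.isGeometricallyReduced_of_perfectField
  exact ((Groth.Agent.S2453.result (k := k) (A := A)).out 3 0).mp hreg

omit [IsNoetherianRing A] in
theorem exists_dependent_of_not_injective
    (hninj : ¬ Function.Injective
      ((KaehlerDifferential.mapBaseChange ℤ k A).lTensor (ResidueField A))) :
    ∃ (r : ℕ) (xs : Fin r → k), LinearIndependent k (fun i => D ℤ k (xs i)) ∧
      ¬ LinearIndependent (ResidueField A)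
        (fun i => (1 : ResidueField A) ⊗ₜ[A] D ℤ A (algebraMap k A (xs i))) := by
  classical
  let φK : ResidueField A ⊗[A] (A ⊗[k] Ω[k⁄ℤ]) →ₗ[ResidueField A] ResidueField A ⊗[A] Ω[A⁄ℤ] :=
    (KaehlerDifferential.mapBaseChange ℤ k A).baseChange (ResidueField A)
  have hφ : ¬ Function.Injective φK := fun h => hninj h
  obtain ⟨v, hv0, hvne⟩ : ∃ v, φK v = 0 ∧ v ≠ 0 := by
    by_contra hcon
    push_neg at hcon
    exact hφ ((injective_iff_map_eq_zero φK).mpr hcon)
  have hs : ⊤ ≤ Submodule.span k (Set.range (D ℤ k)) :=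
    (KaehlerDifferential.span_range_derivation ℤ k).ge
  let bΩ := Basis.ofSpan hs
  have hmem : ∀ l, ∃ x : k, D ℤ k x = bΩ l := fun l => Basis.ofSpan_subset hs ⟨l, rfl⟩
  choose x hx using hmem
  let bV := (bΩ.baseChange A).baseChange (ResidueField A)
  have hbV : ∀ l, bV l = (1 : ResidueField A) ⊗ₜ[A] ((1 : A) ⊗ₜ[k] D ℤ k (x l)) := by
    intro l
    rw [Basis.baseChange_apply, Basis.baseChange_apply, hx]
  have hφb : ∀ l, φK (bV l) = (1 : ResidueField A) ⊗ₜ[A] D ℤ A (algebraMap k A (x l)) := by
    intro l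
    rw [hbV, LinearMap.baseChange_tmul, KaehlerDifferential.mapBaseChange_tmul, one_smul,
      KaehlerDifferential.map_D]
  have hc0 : bV.repr v ≠ 0 := (LinearEquiv.map_ne_zero_iff _).mpr hvne
  have hsum : ∑ l ∈ (bV.repr v).support, (bV.repr v) l • φK (bV l) = 0 := by
    have h1 : v = ∑ l ∈ (bV.repr v).support, (bV.repr v) l • bV l := by
      conv_lhs => rw [← bV.linearCombination_repr v]
      rw [Finsupp.linearCombination_apply, Finsupp.sum]
    have h2 := hv0
    rw [h1, map_sum] at h2
    simpa only [map_smul] using h2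
  obtain ⟨l₀, hl₀⟩ : (bV.repr v).support.Nonempty := Finsupp.support_nonempty_iff.mpr hc0
  let e : Fin (bV.repr v).support.card ≃ ↥(bV.repr v).support := (bV.repr v).support.equivFin.symm
  refine ⟨(bV.repr v).support.card, fun i => x (e i).1, ?_, ?_⟩
  · have h1 := bΩ.linearIndependent.comp (fun i : Fin (bV.repr v).support.card => (e i).1)
      (fun i j hij => e.injective (Subtype.ext hij))
    have h2 : (⇑bΩ ∘ fun i : Fin (bV.repr v).support.card => (e i).1) =
        fun i => D ℤ k (x (e i).1) := funext fun i => (hx _).symm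
    rw [h2] at h1
    exact h1
  · intro hli
    rw [Fintype.linearIndependent_iff] at hli
    have h3 : ∑ i : Fin (bV.repr v).support.card, (bV.repr v) (e i).1 •
        ((1 : ResidueField A) ⊗ₜ[A] D ℤ A (algebraMap k A (x (e i).1))) = 0 := by
      rw [← hsum, ← Finset.sum_coe_sort (bV.repr v).support
        (fun l => (bV.repr v) l • φK (bV l)),
        ← Equiv.sum_comp e (fun l : ↥(bV.repr v).support => (bV.repr v) l.1 • φK (bV l.1))]
      refine Finset.sum_congr rfl fun i _ => ?_
      rw [hφb]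
    have h4 := hli (fun i => (bV.repr v) (e i).1) h3 (e.symm ⟨l₀, hl₀⟩)
    rw [Equiv.apply_symm_apply] at h4
    exact (Finsupp.mem_support_iff.mp hl₀) h4

end converse

section field

theorem isField_Bq {k : Type u} [Field k] (p : ℕ) [Fact p.Prime] [CharP k p] {r : ℕ}
    (xs : Fin r → k) (hli : LinearIndependent k (fun i => D ℤ k (xs i))) :
    IsField (Bq p xs) := by
  have hm : maximalIdeal k ^ 2 = ⊥ := by
    rw [maximalIdeal_eq_bot, ← Ideal.zero_eq_bot, zero_pow two_ne_zero]
  haveI hB : IsLocalRing (Bq p xs) := isLocalRing_Bq p xs hm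
  have hmain := main p xs hm
  have hK : LinearIndependent (ResidueField k)
      (fun i => (1 : ResidueField k) ⊗ₜ[k] D ℤ k (xs i)) := by
    have hinj : Function.Injective
        (LinearMap.rTensor Ω[k⁄ℤ] (Algebra.linearMap k (ResidueField k))) :=
      Module.Flat.rTensor_preserves_injective_linearMap _
        (algebraMap k (ResidueField k)).injective
    have h1 := hli.map_of_surjective_injective (algebraMap k (ResidueField k))
      ((TensorProduct.mk k (ResidueField k) Ω[k⁄ℤ] 1).toAddMonoidHom) residue_surjective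
      (by
        intro ω hω
        have h2 : (LinearMap.rTensor Ω[k⁄ℤ] (Algebra.linearMap k (ResidueField k)))
            ((1 : k) ⊗ₜ[k] ω) = 0 := by
          rw [LinearMap.rTensor_tmul, Algebra.linearMap_apply, map_one]
          exact hω
        have h3 := hinj (h2.trans (map_zero _).symm)
        have h4 := congrArg (TensorProduct.lid k Ω[k⁄ℤ]) h3
        rwa [TensorProduct.lid_tmul, one_smul, map_zero] at h4)
      (by
        intro c ω
        show (1 : ResidueField k) ⊗ₜ[k] (c • ω) =
          algebraMap k (ResidueField k) c • ((1 : ResidueField k) ⊗ₜ[k] ω)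
        rw [TensorProduct.tmul_smul, algebraMap_smul])
    exact h1
  have h0 := hmain.mpr hK
  rw [finrank_cotangentSpace_eq_zero k] at h0
  exact finrank_cotangentSpace_eq_zero_iff.mp h0.symm

end field

section iso

variable {k A : Type u} [Field k] [CommRing A] [Algebra k A] (p : ℕ) {r : ℕ} (xs : Fin r → k)

/-- `k[T] ⊗_k A ≃ A[T]` -/
noncomputable def polyEquiv : MvPolynomial (Fin r) k ⊗[k] A ≃+* MvPolynomial (Fin r) A :=
  (Algebra.TensorProduct.comm k (MvPolynomial (Fin r) k) A).toRingEquiv.trans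
    (MvPolynomial.algebraTensorAlgEquiv k A).toRingEquiv

theorem polyEquiv_comp :
    ((polyEquiv (k := k) (A := A) (r := r) : MvPolynomial (Fin r) k ⊗[k] A →+*
      MvPolynomial (Fin r) A)).comp
      (algebraMap (MvPolynomial (Fin r) k) (MvPolynomial (Fin r) k ⊗[k] A)) =
      MvPolynomial.map (algebraMap k A) := by
  apply MvPolynomial.ringHom_ext
  · intro a
    simp [polyEquiv, Algebra.TensorProduct.algebraMap_apply]
  · intro i
    simp [polyEquiv, Algebra.TensorProduct.algebraMap_apply]

theorem map_Irel : (Irel p fun i => algebraMap k A (xs i)) =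
    Ideal.map (polyEquiv (k := k) (A := A) (r := r) : MvPolynomial (Fin r) k ⊗[k] A →+*
      MvPolynomial (Fin r) A)
      (Ideal.map (algebraMap (MvPolynomial (Fin r) k) (MvPolynomial (Fin r) k ⊗[k] A))
        (Irel p xs)) := by
  rw [Ideal.map_map, polyEquiv_comp, Ideal.map_span, ← Set.range_comp]
  show Ideal.span (Set.range fun i => MvPolynomial.X i ^ p -
    MvPolynomial.C (algebraMap k A (xs i))) = _
  congr 2
  funext i
  simp only [Function.comp_apply, map_sub, map_pow, MvPolynomial.map_X, MvPolynomial.map_C]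

/-- `(k[T]/(T_i^p - x_i)) ⊗_k A ≃ A[T]/(T_i^p - x_i)` -/
noncomputable def tensorEquiv :
    Bq p xs ⊗[k] A ≃+* Bq p (fun i => algebraMap k A (xs i)) :=
  (Algebra.TensorProduct.quotientTensorEquiv (R := k) k A (MvPolynomial (Fin r) k)
    (Irel p xs)).toRingEquiv.trans
    (Ideal.quotientEquiv _ _ polyEquiv (map_Irel p xs))

end iso

section final

variable {k A : Type u} [Field k] [CommRing A] [IsLocalRing A] [IsNoetherianRing A] [Algebra k A]

theorem independent_of_regular (hreg : IsRegularLocalRing A) (p : ℕ) [Fact p.Prime] [CharP k p]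
    {r : ℕ} (xs : Fin r → k) (hR : IsRegularRing (Bq p xs ⊗[k] A)) :
    LinearIndependent (ResidueField A)
      (fun i => (1 : ResidueField A) ⊗ₜ[A] D ℤ A (algebraMap k A (xs i))) := by
  haveI := hreg
  haveI := hR
  haveI : CharP (ResidueField A) p :=
    charP_of_injective_algebraMap (algebraMap k (ResidueField A)).injective p
  have hp2 : (p : A) ∈ maximalIdeal A ^ 2 := by
    have h0 : (p : A) = 0 := by
      rw [← map_natCast (algebraMap k A), CharP.cast_eq_zero, map_zero]
    rw [h0]
    exact zero_mem _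
  obtain ⟨-, hiff⟩ := Groth.Agent.S2473.result p (fun _ _ => (0 : A))
    (fun i => algebraMap k A (xs i)) hp2
  apply hiff.mp
  have hI : Irel p (fun i => algebraMap k A (xs i)) = Ideal.span (Set.range fun i : Fin r =>
      (MvPolynomial.X i ^ p + (p : MvPolynomial (Fin r) A) * ∑ j : Fin p,
        if (j : ℕ) = 0 then 0 else MvPolynomial.C (0 : A) * MvPolynomial.X i ^ (p - (j : ℕ))) -
        MvPolynomial.C ((algebraMap k A) (xs i))) := by
    show Ideal.span (Set.range fun i => MvPolynomial.X i ^ p -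
      MvPolynomial.C (algebraMap k A (xs i))) = _
    congr 2
    funext i
    simp
  exact IsRegularRing.of_ringEquiv (R := Bq p xs ⊗[k] A)
    ((tensorEquiv (A := A) p xs).trans (Ideal.quotEquivOfEq hI))

theorem smooth_of_forall_charP (p : ℕ) [Fact p.Prime] [CharP k p]
    (H : ∀ (k' : Type u) [Field k'] [Algebra k k'], Module.Finite k k' →
      (∀ x : k', x ^ p ∈ (algebraMap k k').range) → IsRegularRing (k' ⊗[k] A)) :
    CAlgX.IsAdicFormallySmooth k A (maximalIdeal A) := by
  have hreg : IsRegularLocalRing A := isRegularLocalRing_of_forall p H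
  refine (Groth.Agent.S2471.result).mpr ⟨hreg, ?_⟩
  by_contra hninj
  obtain ⟨r, xs, hli, hdep⟩ := exists_dependent_of_not_injective hninj
  have hfield : IsField (Bq p xs) := isField_Bq p xs hli
  letI : Field (Bq p xs) := hfield.toField
  have hfin : Module.Finite k (Bq p xs) := finite_Bq p xs
  have hpow : ∀ y : Bq p xs, y ^ p ∈ (algebraMap k (Bq p xs)).range := fun y => by
    obtain ⟨a, ha⟩ := exists_pow_eq p xs y
    exact ⟨a, ha.symm⟩
  have hR := H (Bq p xs) hfin hpow
  exact hdep (independent_of_regular hreg p xs hR)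

theorem main_iff (p : ℕ) [hq : ExpChar k p] :
    CAlgX.IsAdicFormallySmooth k A (maximalIdeal A) ↔
      ∀ (k' : Type u) [Field k'] [Algebra k k'], Module.Finite k k' →
        (∀ x : k', x ^ p ∈ (algebraMap k k').range) → IsRegularRing (k' ⊗[k] A) := by
  constructor
  · intro hA k' _ _ hfin hk'
    exact isRegularRing_tensor_of_smooth p k' hA hfin hk'
  · intro H
    cases hq with
    | zero =>
      exact smooth_of_regular_charZero (isRegularLocalRing_of_forall 1 H)
    | prime hprime =>
      haveI : Fact p.Prime := ⟨hprime⟩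
      exact smooth_of_forall_charP p H

end final

end Groth.Agent.H44.PRad
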