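import Groth.Agent.H44.H1Nat
import Mathlib.RingTheory.Smooth.Field
import Mathlib.RingTheory.Unramified.Field
import Mathlib.FieldTheory.FinTrdeg
import Groth.Prelude.Def_EGA41

/-!
# Cartier's equality for finitely generated field extensions

`dim Ω[L⁄K] - dim H¹(L_{L/K}) = trdeg K L`, and the identification of the imperfection module with
the image of the Jacobi–Zariski connecting map.
-/

set_option autoImplicit false

universe u v

open KaehlerDifferential Module TensorProduct IntermediateField

namespace Groth.Agent.H44.Cartier

open Algebra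

attribute [local instance] SMulCommClass.of_commMonoid

section linalg

variable {k : Type*} [Field k] {A B C : Type*} [AddCommGroup A] [Module k A] [AddCommGroup B]
  [Module k B] [AddCommGroup C] [Module k C]

theorem finrank_exact (f : A →ₗ[k] B) (g : B →ₗ[k] C) (h : Function.Exact f g)
    [Module.Finite k B] :
    Module.finrank k B =
      Module.finrank k (LinearMap.range f) + Module.finrank k (LinearMap.range g) := by
  have h1 := LinearMap.finrank_range_add_finrank_ker g
  rw [LinearMap.exact_iff.mp h] at h1
  omega

theorem finite_of_exact (f : A →ₗ[k] B) (g : B →ₗ[k] C) (h : Function.Exact f g)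
    [Module.Finite k A] [Module.Finite k C] : Module.Finite k B := by
  haveI : Module.Finite k (LinearMap.ker g) := by
    rw [LinearMap.exact_iff.mp h]
    exact Module.Finite.range f
  haveI : Module.Finite k (B ⧸ LinearMap.ker g) :=
    Module.Finite.equiv (LinearMap.quotKerEquivRange g).symm
  exact Module.Finite.of_submodule_quotient (LinearMap.ker g)

end linalg

/-- `χ(L/K) = dim Ω - dim H¹ = n = trdeg`. -/
structure HasChi (K L : Type u) [Field K] [Field L] [Algebra K L] (n : ℕ) : Prop where
  finΩ : Module.Finite L Ω[L⁄K]
  finH : Module.Finite L (Algebra.H1Cotangent K L)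
  eq : (Module.finrank L Ω[L⁄K] : ℤ) - Module.finrank L (Algebra.H1Cotangent K L) = n
  trdeg : Algebra.trdeg K L = n

section trans

variable {K L M : Type u} [Field K] [Field L] [Field M] [Algebra K L] [Algebra L M] [Algebra K M]
  [IsScalarTower K L M]

theorem HasChi.trans {a b : ℕ} (h1 : HasChi K L a) (h2 : HasChi L M b) : HasChi K M (a + b) := by
  haveI := h1.finΩ
  haveI := h1.finH
  haveI := h2.finΩ
  haveI := h2.finH
  have e12 : Function.Exact ((Algebra.H1Cotangent.map K K L M).liftBaseChange M)
      (Algebra.H1Cotangent.map K L M M) := Algebra.H1Cotangent.exact_liftBaseChange_map_of_flat K L M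
  have e23 : Function.Exact (Algebra.H1Cotangent.map K L M M) (Algebra.H1Cotangent.δ K L M) :=
    Algebra.H1Cotangent.exact_map_δ K L M
  have e34 : Function.Exact (Algebra.H1Cotangent.δ K L M) (KaehlerDifferential.mapBaseChange K L M) :=
    Algebra.H1Cotangent.exact_δ_mapBaseChange K L M
  have e45 : Function.Exact (KaehlerDifferential.mapBaseChange K L M)
      (KaehlerDifferential.map K L M M) := KaehlerDifferential.exact_mapBaseChange_map K L M
  have s5 : Function.Surjective (KaehlerDifferential.map K L M M) :=
    KaehlerDifferential.map_surjective K L M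
  have i1 : Function.Injective ((Algebra.H1Cotangent.map K K L M).liftBaseChange M) :=
    H1Nat.injective_liftBaseChange_map
  haveI : Module.Finite M (Algebra.H1Cotangent K M) := finite_of_exact _ _ e12
  haveI : Module.Finite M Ω[M⁄K] := finite_of_exact _ _ e45
  have d1 := finrank_exact _ _ e12
  have d2 := finrank_exact _ _ e23
  have d3 := finrank_exact _ _ e34
  have d4 := finrank_exact _ _ e45
  have r1 : Module.finrank M (LinearMap.range ((Algebra.H1Cotangent.map K K L M).liftBaseChange M))
      = Module.finrank L (Algebra.H1Cotangent K L) := by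
    rw [LinearMap.finrank_range_of_inj i1, Module.finrank_baseChange]
  have r5 : Module.finrank M (LinearMap.range (KaehlerDifferential.map K L M M)) =
      Module.finrank M Ω[M⁄L] := by
    rw [LinearMap.range_eq_top.mpr s5, finrank_top]
  have r34 : Module.finrank M (M ⊗[L] Ω[L⁄K]) = Module.finrank L Ω[L⁄K] :=
    Module.finrank_baseChange
  refine ⟨inferInstance, inferInstance, ?_, ?_⟩
  · have q1 := h1.eq
    have q2 := h2.eq
    push_cast
    omega
  · rw [← trdeg_add_eq K L, h1.trdeg, h2.trdeg]
    push_cast
    rfl

end trans

section simple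

variable {F E : Type u} [Field F] [Field E] [Algebra F E]

theorem span_D_eq_top (x : E) (h : F⟮x⟯ = ⊤) :
    Submodule.span E {KaehlerDifferential.D F E x} = ⊤ := by
  rw [_root_.eq_top_iff, ← KaehlerDifferential.span_range_derivation F E, Submodule.span_le]
  rintro _ ⟨y, rfl⟩
  have hy : y ∈ F⟮x⟯ := h ▸ IntermediateField.mem_top
  refine IntermediateField.adjoin_induction (F := F)
    (p := fun z _ => KaehlerDifferential.D F E z ∈
      Submodule.span E {KaehlerDifferential.D F E x}) ?_ ?_ ?_ ?_ ?_ hy
  · intro z hz
    rw [Set.mem_singleton_iff] at hz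
    subst hz
    exact Submodule.subset_span rfl
  · intro a
    rw [Derivation.map_algebraMap]
    exact zero_mem _
  · intro a b _ _ ha hb
    rw [map_add]
    exact add_mem ha hb
  · intro a _ ha
    rw [Derivation.leibniz_inv]
    exact Submodule.smul_mem _ _ ha
  · intro a b _ _ ha hb
    rw [Derivation.leibniz]
    exact add_mem (Submodule.smul_mem _ _ hb) (Submodule.smul_mem _ _ ha)

theorem hasChi_transcendental (x : E) (h : F⟮x⟯ = ⊤) (hx : Transcendental F x) :
    HasChi F E 1 := by
  have hb : AlgebraicIndependent F (fun _ : PUnit.{u+1} => x) :=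
    algebraicIndependent_unique_type_iff.mpr hx
  have hrange : Set.range (fun _ : PUnit.{u+1} => x) = {x} := Set.range_const
  haveI : Algebra.FormallySmooth F E :=
    Algebra.FormallySmooth.of_algebraicIndependent hb (by rw [hrange]; exact h)
  have hspan := span_D_eq_top x h
  have hfg : (⊤ : IntermediateField F E).FG := ⟨{x}, by rw [Finset.coe_singleton]; exact h⟩
  haveI : Algebra.EssFiniteType F E := IntermediateField.fg_top_iff.mp hfg
  have hDx : KaehlerDifferential.D F E x ≠ 0 := by
    intro h0
    have h0' : ∀ a : Ω[E⁄F], a = 0 := fun a => by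
      have ha : a ∈ (⊤ : Submodule E Ω[E⁄F]) := Submodule.mem_top
      rw [← hspan, h0, Submodule.span_zero_singleton] at ha
      exact (Submodule.mem_bot E).mp ha
    haveI : Algebra.FormallyUnramified F E := ⟨⟨fun a b => (h0' a).trans (h0' b).symm⟩⟩
    haveI := Algebra.FormallyUnramified.isSeparable F E
    exact hx (Algebra.IsSeparable.isSeparable F x).isIntegral.isAlgebraic
  haveI : Module.Finite E Ω[E⁄F] :=
    Module.finite_def.mpr (by rw [← hspan]; exact Submodule.fg_span_singleton _)
  have hΩ : Module.finrank E Ω[E⁄F] = 1 := by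
    rw [← finrank_top (R := E) (M := Ω[E⁄F]), ← hspan]
    exact finrank_span_singleton hDx
  haveI : Subsingleton (Algebra.H1Cotangent F E) := inferInstance
  have hH : Module.finrank E (Algebra.H1Cotangent F E) = 0 := Module.finrank_zero_of_subsingleton
  have hT : IsTranscendenceBasis F (fun _ : PUnit.{u+1} => x) := by
    rw [hb.isTranscendenceBasis_iff_isAlgebraic]
    refine (IntermediateField.isAlgebraic_adjoin_iff_top).mp ?_
    rw [hrange]
    exact ⟨fun y => by
      have hy : y ∈ F⟮x⟯ := h ▸ IntermediateField.mem_top
      exact isAlgebraic_algebraMap (⟨y, hy⟩ : F⟮x⟯)⟩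
  refine ⟨inferInstance, inferInstance, ?_, ?_⟩
  · rw [hΩ, hH]; rfl
  · rw [← hT.cardinalMk_eq_trdeg, Cardinal.mk_punit, Nat.cast_one]

set_option backward.isDefEq.respectTransparency false in
theorem hasChi_algebraic (x : E) (h : F⟮x⟯ = ⊤) (hx : IsIntegral F x) : HasChi F E 0 := by
  have halg : Algebra.IsAlgebraic F E := by
    haveI := IntermediateField.isAlgebraic_adjoin_simple hx
    refine ⟨fun y => ?_⟩
    have hy : y ∈ F⟮x⟯ := h ▸ IntermediateField.mem_top
    exact IntermediateField.isAlgebraic_iff.mp (Algebra.IsAlgebraic.isAlgebraic (⟨y, hy⟩ : F⟮x⟯))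
  have hsurj : Function.Surjective (MvPolynomial.aeval (R := F) (fun _ : Unit => x)) := by
    have h1 : Algebra.adjoin F {x} = ⊤ :=
      (IntermediateField.adjoin_eq_top_iff_of_isAlgebraic
        (fun y hy => by rw [Set.mem_singleton_iff] at hy; subst hy; exact hx.isAlgebraic)).mp h
    have h2 := Algebra.adjoin_range_eq_range_aeval F (fun _ : Unit => x)
    rw [Set.range_const, h1] at h2
    exact (AlgHom.range_eq_top _).mp h2.symm
  let P : Algebra.Generators F E Unit := Algebra.Generators.ofSurjective (fun _ : Unit => x) hsurj
  haveI : IsPrincipalIdealRing (MvPolynomial Unit F) :=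
    IsPrincipalIdealRing.of_surjective (MvPolynomial.pUnitAlgEquiv F).symm.toRingHom
      (MvPolynomial.pUnitAlgEquiv F).symm.surjective
  obtain ⟨f, hf⟩ := (IsPrincipalIdealRing.principal P.ker).principal
  have hfmem : f ∈ P.ker := by rw [hf]; exact Submodule.mem_span_singleton_self f
  have hne : f ≠ 0 := by
    rintro rfl
    have hker : P.ker = ⊥ := by rw [hf]; exact Submodule.span_zero_singleton _
    have hinj : Function.Injective (MvPolynomial.aeval (R := F) (fun _ : Unit => x)) := by
      rw [P.ker_eq_ker_aeval_val] at hker
      exact (RingHom.injective_iff_ker_eq_bot _).mpr hker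
    have htr : Transcendental F x :=
      (algebraicIndependent_unique_type_iff (x := fun _ : Unit => x)).mp hinj
    exact htr hx.isAlgebraic
  have hnu : ¬ IsUnit f := by
    intro hu
    have htop : P.ker = ⊤ := by
      rw [hf, Ideal.submodule_span_eq]; exact Ideal.span_singleton_eq_top.mpr hu
    have h1 : (1 : MvPolynomial Unit F) ∈ P.ker := htop ▸ Submodule.mem_top
    have h2 := P.aeval_val_eq_zero h1
    rw [map_one] at h2
    exact one_ne_zero h2
  have hv : Extension.Cotangent.mk (P := P.toExtension) ⟨f, hfmem⟩ ≠ 0 := by
    rw [Ne, Extension.Cotangent.mk_eq_zero_iff]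
    intro hmem
    change f ∈ P.ker ^ 2 at hmem
    rw [hf, Ideal.submodule_span_eq, Ideal.span_singleton_pow, Ideal.mem_span_singleton] at hmem
    obtain ⟨c, hc⟩ := hmem
    have h3 : f * (1 - f * c) = 0 := by
      rw [mul_sub, mul_one, ← mul_assoc, ← sq, ← hc, sub_self]
    rcases mul_eq_zero.mp h3 with h0 | h1
    · exact hne h0
    · exact hnu (IsUnit.of_mul_eq_one c (sub_eq_zero.mp h1).symm)
  have hspan0 := Extension.Cotangent.span_eq_top_of_span_eq_ker (P := P.toExtension)
    (fun _ : Unit => f) (by rw [Set.range_const]; exact hf.symm)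
  have hspan1 : Submodule.span E (Set.range fun _ : Unit =>
      Extension.Cotangent.mk (P := P.toExtension) ⟨f, hfmem⟩) = ⊤ := hspan0
  rw [Set.range_const] at hspan1
  have hfrC : Module.finrank E P.toExtension.Cotangent = 1 := by
    rw [← finrank_top (R := E) (M := P.toExtension.Cotangent), ← hspan1]
    exact finrank_span_singleton hv
  haveI : Module.Finite E P.toExtension.Cotangent :=
    Module.finite_of_finrank_pos (by rw [hfrC]; exact one_pos)
  have hfrS : Module.finrank E P.toExtension.CotangentSpace = 1 := by
    rw [Module.finrank_eq_card_basis P.cotangentSpaceBasis]; rfl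
  haveI : Module.Finite E P.toExtension.CotangentSpace := Module.Finite.of_basis P.cotangentSpaceBasis
  have d1 := finrank_exact _ _ (P.toExtension.exact_hCotangentι_cotangentComplex)
  have d2 := finrank_exact _ _ (P.toExtension.exact_cotangentComplex_toKaehler)
  have r1 : Module.finrank E (LinearMap.range P.toExtension.h1Cotangentι) =
      Module.finrank E P.toExtension.H1Cotangent :=
    LinearMap.finrank_range_of_inj P.toExtension.h1Cotangentι_injective
  have r2 : Module.finrank E (LinearMap.range P.toExtension.toKaehler) = Module.finrank E Ω[E⁄F] := by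
    rw [LinearMap.range_eq_top.mpr P.toExtension.toKaehler_surjective, finrank_top]
  haveI : Module.Finite E P.toExtension.H1Cotangent :=
    Module.Finite.of_injective P.toExtension.h1Cotangentι P.toExtension.h1Cotangentι_injective
  haveI : Module.Finite E Ω[E⁄F] :=
    Module.Finite.of_surjective P.toExtension.toKaehler P.toExtension.toKaehler_surjective
  have r3 : Module.finrank E P.toExtension.H1Cotangent = Module.finrank E (Algebra.H1Cotangent F E) :=
    P.equivH1Cotangent.finrank_eq
  refine ⟨inferInstance, Module.Finite.equiv P.equivH1Cotangent, ?_, ?_⟩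
  · push_cast
    omega
  · rw [Nat.cast_zero]
    exact trdeg_eq_zero
  
end simple

section induction

theorem adjoin_gen_eq_top {K L : Type u} [Field K] [Field L] [Algebra K L] (x : L) :
    IntermediateField.adjoin K {IntermediateField.AdjoinSimple.gen K x} = ⊤ := by
  apply IntermediateField.map_injective K⟮x⟯.val
  rw [IntermediateField.adjoin_map, Set.image_singleton, ← AlgHom.fieldRange_eq_map,
    IntermediateField.fieldRange_val]
  rfl

theorem hasChi_of_card (n : ℕ) : ∀ (K L : Type u) [Field K] [Field L] [Algebra K L]
    (s : Finset L), s.card = n → IntermediateField.adjoin K (s : Set L) = ⊤ →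
    ∃ m : ℕ, HasChi K L m := by
  classical
  induction n with
  | zero =>
    intro K L _ _ _ s hs h
    have hs' : s = ∅ := Finset.card_eq_zero.mp hs
    have h0 : K⟮(0 : L)⟯ = ⊤ := by
      rw [_root_.eq_top_iff, ← h, hs']
      exact IntermediateField.adjoin.mono K _ _ (by simp)
    exact ⟨0, hasChi_algebraic 0 h0 isIntegral_zero⟩
  | succ n ih =>
    intro K L _ _ _ s hs h
    obtain ⟨x, t, hxt, rfl, ht⟩ := Finset.card_eq_succ.mp hs
    have h1 : IntermediateField.adjoin K⟮x⟯ (t : Set L) = ⊤ := by
      rw [← IntermediateField.restrictScalars_eq_top_iff (K := K),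
        IntermediateField.adjoin_adjoin_left, ← h, Finset.coe_insert, Set.singleton_union]
    obtain ⟨m2, hm2⟩ := ih K⟮x⟯ L t ht h1
    have hgen := adjoin_gen_eq_top (K := K) x
    by_cases hx : IsIntegral K x
    · exact ⟨0 + m2, (hasChi_algebraic (F := K) (E := K⟮x⟯) (IntermediateField.AdjoinSimple.gen K x)
        hgen ((IntermediateField.AdjoinSimple.isIntegral_gen K x).mpr hx)).trans hm2⟩
    · have htr : Transcendental K (IntermediateField.AdjoinSimple.gen K x) := fun hh =>
        hx ((IntermediateField.AdjoinSimple.isIntegral_gen K x).mp hh.isIntegral)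
      exact ⟨1 + m2, (hasChi_transcendental (F := K) (E := K⟮x⟯) _ hgen htr).trans hm2⟩

/-- **Cartier's equality** for finitely generated field extensions, with `H¹` of the cotangent
complex in place of the imperfection module. -/
theorem exists_hasChi (K L : Type u) [Field K] [Field L] [Algebra K L]
    [Algebra.EssFiniteType K L] : ∃ m : ℕ, HasChi K L m := by
  obtain ⟨s, hs⟩ := IntermediateField.fg_top K L
  exact hasChi_of_card _ K L s rfl hs

theorem cartier (K L : Type u) [Field K] [Field L] [Algebra K L] [Algebra.EssFiniteType K L] :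
    Module.Finite L Ω[L⁄K] ∧ Module.Finite L (Algebra.H1Cotangent K L) ∧
      (Module.finrank L Ω[L⁄K] : ℤ) - Module.finrank L (Algebra.H1Cotangent K L) =
        Cardinal.toNat (Algebra.trdeg K L) := by
  obtain ⟨m, hm⟩ := exists_hasChi K L
  refine ⟨hm.finΩ, hm.finH, ?_⟩
  rw [hm.eq, hm.trdeg, Cardinal.toNat_natCast]

end induction

section imperfection

theorem imperfection_eq_range (k : Type v) (K L : Type u) [CommRing k] [CommRing K] [CommRing L]
    [Algebra k K] [Algebra K L] [Algebra k L] [IsScalarTower k K L] :
    EGA41.imperfection k K L = LinearMap.range (Algebra.H1Cotangent.δ k K L) := by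
  unfold EGA41.imperfection
  exact LinearMap.exact_iff.mp (Algebra.H1Cotangent.exact_δ_mapBaseChange k K L)

theorem imperfection_finite_le (k : Type v) (K L : Type u) [CommRing k] [Field K] [Field L]
    [Algebra k K] [Algebra K L] [Algebra k L] [IsScalarTower k K L]
    [Module.Finite L (Algebra.H1Cotangent K L)] :
    Module.Finite L (EGA41.imperfection k K L) ∧
      Module.finrank L (EGA41.imperfection k K L) ≤ Module.finrank L (Algebra.H1Cotangent K L) := by
  rw [imperfection_eq_range]
  exact ⟨Module.Finite.range _, LinearMap.finrank_range_le _⟩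

set_option backward.isDefEq.respectTransparency false in
theorem map_map_mid (P K L : Type u) [CommRing P] [CommRing K] [CommRing L] [Algebra K L]
    [Algebra P K] [Algebra P L] [IsScalarTower P K L]
    (y : Algebra.H1Cotangent ℤ L) :
    Algebra.H1Cotangent.map ℤ K L L y =
      Algebra.H1Cotangent.map P K L L (Algebra.H1Cotangent.map ℤ P L L y) := by
  show Extension.H1Cotangent.map
      (Generators.defaultHom (Generators.self ℤ L) (Generators.self K L)).toExtensionHom y =
    Extension.H1Cotangent.map
      (Generators.defaultHom (Generators.self P L) (Generators.self K L)).toExtensionHom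
      (Extension.H1Cotangent.map
        (Generators.defaultHom (Generators.self ℤ L) (Generators.self P L)).toExtensionHom y)
  rw [← Extension.H1Cotangent.map_comp_apply]
  exact DFunLike.congr_fun (Extension.H1Cotangent.map_eq _ _) y

theorem δ_int_injective (K L : Type u) [Field K] [Field L] [Algebra K L] :
    Function.Injective (Algebra.H1Cotangent.δ ℤ K L) := by
  letI aL : Algebra ↥(⊥ : Subfield K) L :=
    { smul := fun a x => (a : K) • x
      algebraMap := (algebraMap K L).comp (algebraMap ↥(⊥ : Subfield K) K)
      commutes' := fun a x => Algebra.commutes (a : K) x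
      smul_def' := fun a x => Algebra.smul_def (a : K) x }
  haveI t1 : IsScalarTower ↥(⊥ : Subfield K) K L := IsScalarTower.of_algebraMap_eq (fun _ => rfl)
  haveI : Algebra.FormallySmooth ↥(⊥ : Subfield K) L := CoeffField.formallySmooth_bot' K L
  rw [injective_iff_map_eq_zero]
  intro x hx
  obtain ⟨y, rfl⟩ := (Algebra.H1Cotangent.exact_map_δ ℤ K L x).mp hx
  rw [map_map_mid ↥(⊥ : Subfield K) K L y,
    Subsingleton.elim (Algebra.H1Cotangent.map ℤ ↥(⊥ : Subfield K) L L y) 0, map_zero]

theorem imperfection_int (K L : Type u) [Field K] [Field L] [Algebra K L]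
    [Module.Finite L (Algebra.H1Cotangent K L)] :
    Module.Finite L (EGA41.imperfection ℤ K L) ∧
      Module.finrank L (EGA41.imperfection ℤ K L) = Module.finrank L (Algebra.H1Cotangent K L) := by
  rw [imperfection_eq_range]
  exact ⟨Module.Finite.range _, LinearMap.finrank_range_of_inj (δ_int_injective K L)⟩

end imperfection

end Groth.Agent.H44.Cartier
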