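import Mathlib
import Groth.Agent.H44.PBasisAdm
import Groth.Agent.S4550

/-!
# The family `k_S[[T^p]]` of subrings of `k[[T]]` (EGA 0_IV 21.8.8)

For a field `k` of characteristic `p` with `p`-basis `T` over `k^p`, the subfields
`k_S = k^p(T \ S)` (`S` a finite subset of `T`) form a decreasing filtered family of subfields
of finite codimension with intersection `k^p`.  The subrings `k_S[[T^p]]` of `k[[T]]` are
Noetherian, `k[[T]]` is finite free over them, and the intersection of their fraction fields is
`K^p`.
-/

set_option autoImplicit false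
set_option linter.style.haveILetI false
set_option linter.unusedSectionVars false
set_option linter.unusedVariables false

universe u

namespace Groth.Agent.H44.PSFamily

open Groth.Agent.H44.PBasis

section field

variable (p : ℕ) [hp : Fact p.Prime] (k : Type u) [Field k] [CharP k p]

/-- the subfield `k^p` -/
def kp : Subfield k := (frobenius k p).fieldRange

variable {k}

theorem mem_kp {x : k} : x ∈ kp p k ↔ ∃ y : k, y ^ p = x := by
  unfold kp
  rw [RingHom.mem_fieldRange]
  rfl

theorem pow_mem_kp (y : k) : y ^ p ∈ kp p k := (mem_kp p).mpr ⟨y, rfl⟩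

theorem adjoin_pow_eq_bot :
    IntermediateField.adjoin (kp p k) (Set.range fun y : k => y ^ p) = ⊥ := by
  rw [eq_bot_iff, IntermediateField.adjoin_le_iff]
  rintro _ ⟨y, rfl⟩
  exact IntermediateField.mem_bot.mpr ⟨⟨y ^ p, pow_mem_kp p y⟩, rfl⟩

theorem mem_kp_of_D_eq_zero {b : k} (h : KaehlerDifferential.D (kp p k) k b = 0) :
    b ∈ kp p k := by
  have h1 := mem_adjoin_of_D_eq_zero p h
  rw [adjoin_pow_eq_bot, IntermediateField.mem_bot] at h1
  obtain ⟨c, rfl⟩ := h1
  exact c.2

/-- the family of subfields attached to a subset `T` (a `p`-basis) -/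
@[reducible] def Fam (T : Set k) (S : Finset T) : IntermediateField (kp p k) k :=
  IntermediateField.adjoin (kp p k)
    ((Set.range fun y : k => y ^ p) ∪ (fun t : T => id (t : k)) '' {t | t ∉ S})

theorem fam_anti (T : Set k) {S S' : Finset T} (h : S ⊆ S') : Fam p T S' ≤ Fam p T S := by
  refine IntermediateField.adjoin_le_iff.mpr fun y hy => IntermediateField.subset_adjoin _ _ ?_
  rcases hy with hy | ⟨t, ht, rfl⟩
  · exact Or.inl hy
  · exact Or.inr ⟨t, fun hS => ht (h hS), rfl⟩

theorem pow_mem_fam (T : Set k) (S : Finset T) (y : k) : y ^ p ∈ Fam p T S :=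
  IntermediateField.subset_adjoin _ _ (Or.inl ⟨y, rfl⟩)

theorem iInf_fam (T : Set k) (hT : EGA41.IsPBasis p (kp p k) (fun t : T => id (t : k)))
    {x₀ : k} (hx : ∀ S : Finset T, x₀ ∈ Fam p T S) : x₀ ∈ kp p k := by
  classical
  have hli : LinearIndependent k
      (fun t : T => KaehlerDifferential.D (kp p k) k ((fun t : T => id (t : k)) t)) :=
    linearIndependent_D_of_isPIndependent p _ hT.1
  have hgen : Algebra.adjoin (EGA41.pPowerSubalgebra p (kp p k) k)
      (Set.range (fun t : T => id (t : k))) = ⊤ :=
    (isPGenerating_iff_adjoin p _).mp hT.2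
  have h1 : KaehlerDifferential.D (kp p k) k x₀ ∈ Submodule.span k
      ((fun t : T => KaehlerDifferential.D (kp p k) k ((fun t : T => id (t : k)) t)) ''
        Set.univ) := by
    apply D_mem_span_of_mem_adjoin p (fun t : T => id (t : k)) Set.univ
    rw [Set.image_univ, hgen]
    exact Algebra.mem_top
  obtain ⟨l, -, hl⟩ := (Finsupp.mem_span_image_iff_linearCombination k).mp h1
  have h2 : KaehlerDifferential.D (kp p k) k x₀ ∈ Submodule.span k
      ((fun t : T => KaehlerDifferential.D (kp p k) k ((fun t : T => id (t : k)) t)) ''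
        (l.support : Set T)) := by
    rw [Finsupp.mem_span_image_iff_linearCombination]
    exact ⟨l, (Finsupp.mem_supported _ _).mpr subset_rfl, hl⟩
  have h3 : KaehlerDifferential.D (kp p k) k x₀ ∈ Submodule.span k
      ((fun t : T => KaehlerDifferential.D (kp p k) k ((fun t : T => id (t : k)) t)) ''
        {t | t ∉ l.support}) := by
    apply D_mem_span_of_mem_adjoin p (fun t : T => id (t : k))
    exact (mem_intermediateField_adjoin_iff p _ x₀).mp (hx l.support)
  have hdisj : Disjoint (l.support : Set T) {t | t ∉ l.support} := by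
    rw [Set.disjoint_left]
    intro t ht ht'
    exact ht' ht
  have h4 := Submodule.disjoint_def.mp (hli.disjoint_span_image hdisj) _ h2 h3
  exact mem_kp_of_D_eq_zero p h4

theorem finite_fam (T : Set k) (hT : EGA41.IsPBasis p (kp p k) (fun t : T => id (t : k)))
    (S : Finset T) : Module.Finite (Fam p T S) k := by
  classical
  have hgen : Algebra.adjoin (EGA41.pPowerSubalgebra p (kp p k) k)
      (Set.range (fun t : T => id (t : k))) = ⊤ :=
    (isPGenerating_iff_adjoin p _).mp hT.2
  have hint : ∀ y ∈ (fun t : T => id (t : k)) '' (S : Set T), IsIntegral (Fam p T S) y := by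
    rintro _ ⟨t, -, rfl⟩
    refine IsIntegral.of_pow hp.out.pos ?_
    have : (id (t : k)) ^ p =
        algebraMap (Fam p T S) k ⟨(id (t : k)) ^ p, pow_mem_fam p T S _⟩ := rfl
    rw [this]
    exact isIntegral_algebraMap
  haveI : Finite ((fun t : T => id (t : k)) '' (S : Set T)) :=
    (S.finite_toSet.image _).to_subtype
  have hfd : FiniteDimensional (Fam p T S)
      (IntermediateField.adjoin (Fam p T S) ((fun t : T => id (t : k)) '' (S : Set T))) :=
    IntermediateField.finiteDimensional_adjoin hint
  have key : ∀ b : k,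
      b ∈ IntermediateField.adjoin (Fam p T S) ((fun t : T => id (t : k)) '' (S : Set T)) := by
    intro b
    have hb : b ∈ Algebra.adjoin (EGA41.pPowerSubalgebra p (kp p k) k)
        (Set.range (fun t : T => id (t : k))) := by
      rw [hgen]; exact Algebra.mem_top
    induction hb using Algebra.adjoin_induction with
    | mem y hy =>
      obtain ⟨t, rfl⟩ := hy
      by_cases ht : t ∈ S
      · exact IntermediateField.subset_adjoin _ _ ⟨t, ht, rfl⟩
      · have hmem : id (t : k) ∈ Fam p T S :=
          IntermediateField.subset_adjoin _ _ (Or.inr ⟨t, ht, rfl⟩)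
        exact IntermediateField.algebraMap_mem _ (⟨id (t : k), hmem⟩ : Fam p T S)
    | algebraMap c =>
      have hc : (c : k) ∈ Algebra.adjoin (kp p k) (Set.range fun y : k => y ^ p) := c.2
      have hle : Algebra.adjoin (kp p k) (Set.range fun y : k => y ^ p) ≤
          (Fam p T S).toSubalgebra :=
        Algebra.adjoin_le fun y hy => IntermediateField.subset_adjoin _ _ (Or.inl hy)
      have hmem : (c : k) ∈ Fam p T S := hle hc
      exact IntermediateField.algebraMap_mem _ (⟨(c : k), hmem⟩ : Fam p T S)
    | add y z _ _ hy hz => exact add_mem hy hz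
    | mul y z _ _ hy hz => exact mul_mem hy hz
  have htop : IntermediateField.adjoin (Fam p T S)
      ((fun t : T => id (t : k)) '' (S : Set T)) = ⊤ :=
    eq_top_iff.mpr fun b _ => key b
  rw [htop] at hfd
  exact Module.Finite.equiv
    (IntermediateField.topEquiv (F := Fam p T S) (E := k)).toLinearEquiv

/-- finiteness over the underlying subfield -/
theorem finite_fam_subfield (T : Set k)
    (hT : EGA41.IsPBasis p (kp p k) (fun t : T => id (t : k)))
    (S : Finset T) : Module.Finite (Fam p T S).toSubfield k := by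
  haveI := finite_fam p T hT S
  obtain ⟨s, hs⟩ := (Module.finite_def (R := Fam p T S) (M := k)).mp inferInstance
  refine Module.finite_def.mpr ⟨s, ?_⟩
  have key : ∀ x : k, x ∈ Submodule.span (Fam p T S).toSubfield (s : Set k) := by
    intro x
    have hx : x ∈ Submodule.span (Fam p T S) (s : Set k) := by rw [hs]; trivial
    induction hx using Submodule.span_induction with
    | mem y hy => exact Submodule.subset_span hy
    | zero => exact zero_mem _
    | add y z _ _ hy hz => exact add_mem hy hz
    | smul c y _ hy =>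
      have : c • y = (⟨(c : k), c.2⟩ : (Fam p T S).toSubfield) • y := rfl
      rw [this]
      exact Submodule.smul_mem _ _ hy
  exact eq_top_iff.mpr fun x _ => key x

end field

section ps

variable (p : ℕ) [hp : Fact p.Prime] {k : Type u} [Field k] [CharP k p] (r : ℕ)

instance : IsDomain (MvPowerSeries (Fin r) k) := NoZeroDivisors.to_isDomain _

/-- `T ↦ T^p` -/
noncomputable def ex : MvPowerSeries (Fin r) k →+* MvPowerSeries (Fin r) k :=
  (MvPowerSeries.expand p hp.out.ne_zero :
    MvPowerSeries (Fin r) k →ₐ[k] MvPowerSeries (Fin r) k).toRingHom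

theorem ex_apply (f : MvPowerSeries (Fin r) k) :
    ex p r f = MvPowerSeries.expand p hp.out.ne_zero f := rfl

theorem ex_injective : Function.Injective (ex p (k := k) r) := by
  intro f g h
  ext m
  have h1 := congrArg (MvPowerSeries.coeff (p • m)) h
  rw [ex_apply, ex_apply, MvPowerSeries.coeff_expand_smul, MvPowerSeries.coeff_expand_smul] at h1
  exact h1

/-- power series with coefficients in `G` -/
@[reducible] def W (G : Subfield k) : Set (MvPowerSeries (Fin r) k) :=
  {f | ∀ n, MvPowerSeries.coeff n f ∈ G}

/-- `G[[T^p]]` as a subring of `k[[T]]` -/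
noncomputable def SG (G : Subfield k) : Subring (MvPowerSeries (Fin r) k) :=
  ((ex p r).comp (MvPowerSeries.map G.subtype)).range

theorem range_map_subtype (G : Subfield k) :
    Set.range (MvPowerSeries.map (σ := Fin r) G.subtype) = W r G := by
  ext f
  constructor
  · rintro ⟨g, rfl⟩ n
    rw [MvPowerSeries.coeff_map]
    exact (MvPowerSeries.coeff n g).2
  · intro hf
    let g : MvPowerSeries (Fin r) G := fun n => ⟨MvPowerSeries.coeff n f, hf n⟩
    refine ⟨g, ?_⟩
    refine MvPowerSeries.ext fun n => ?_
    rw [MvPowerSeries.coeff_map]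
    rfl

theorem coe_SG (G : Subfield k) :
    (SG p r G : Set (MvPowerSeries (Fin r) k)) = ex p r '' W r G := by
  unfold SG
  rw [RingHom.coe_range, RingHom.coe_comp, Set.range_comp, range_map_subtype]

theorem SG_mono {G G' : Subfield k} (h : G ≤ G') : SG p r G ≤ SG p r G' := by
  intro f hf
  have hf' : f ∈ (SG p r G : Set (MvPowerSeries (Fin r) k)) := hf
  rw [coe_SG] at hf'
  obtain ⟨g, hg, rfl⟩ := hf'
  have h2 : ex p r g ∈ (SG p r G' : Set (MvPowerSeries (Fin r) k)) := by
    rw [coe_SG]
    exact ⟨g, fun n => h (hg n), rfl⟩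
  exact h2

theorem isNoetherianRing_SG (G : Subfield k) : IsNoetherianRing (SG p r G) :=
  isNoetherianRing_of_surjective (MvPowerSeries (Fin r) G) (SG p r G)
    ((ex p r).comp (MvPowerSeries.map G.subtype)).rangeRestrict
    ((ex p r).comp (MvPowerSeries.map G.subtype)).rangeRestrict_surjective

/-- exponent vector of residues -/
noncomputable def eFin (e : Fin r → Fin p) : Fin r →₀ ℕ :=
  Finsupp.equivFunOnFinite.symm fun i => (e i : ℕ)

theorem eFin_apply (e : Fin r → Fin p) (i : Fin r) : eFin p r e i = (e i : ℕ) := by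
  simp [eFin]

/-- `n mod p` -/
def nmod (n : Fin r →₀ ℕ) : Fin r → Fin p := fun i => ⟨n i % p, Nat.mod_lt _ hp.out.pos⟩

/-- `n div p` -/
noncomputable def ndiv (n : Fin r →₀ ℕ) : Fin r →₀ ℕ := n.mapRange (· / p) (Nat.zero_div p)

theorem ndiv_apply (n : Fin r →₀ ℕ) (i : Fin r) : ndiv p r n i = n i / p := by
  simp [ndiv]

theorem smul_ndiv_add (n : Fin r →₀ ℕ) : p • ndiv p r n + eFin p r (nmod p r n) = n := by
  ext i
  rw [Finsupp.add_apply, Finsupp.smul_apply, smul_eq_mul, ndiv_apply, eFin_apply]
  exact Nat.div_add_mod (n i) p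

theorem ndiv_smul_add (m : Fin r →₀ ℕ) (e : Fin r → Fin p) :
    ndiv p r (p • m + eFin p r e) = m := by
  ext i
  rw [ndiv_apply, Finsupp.add_apply, Finsupp.smul_apply, smul_eq_mul, eFin_apply,
    Nat.mul_add_div hp.out.pos, Nat.div_eq_of_lt (e i).2, add_zero]

theorem nmod_smul_add (m : Fin r →₀ ℕ) (e : Fin r → Fin p) :
    nmod p r (p • m + eFin p r e) = e := by
  funext i
  apply Fin.ext
  show (p • m + eFin p r e) i % p = (e i : ℕ)
  rw [Finsupp.add_apply, Finsupp.smul_apply, smul_eq_mul, eFin_apply, Nat.mul_add_mod,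
    Nat.mod_eq_of_lt (e i).2]

theorem coeff_monomial_mul_ex (e : Fin r → Fin p) (h : MvPowerSeries (Fin r) k)
    (n : Fin r →₀ ℕ) :
    MvPowerSeries.coeff n (MvPowerSeries.monomial (eFin p r e) (1 : k) * ex p r h) =
      if nmod p r n = e then MvPowerSeries.coeff (ndiv p r n) h else 0 := by
  classical
  rw [MvPowerSeries.coeff_monomial_mul, one_mul]
  by_cases h2 : nmod p r n = e
  · rw [if_pos h2]
    have hle : eFin p r e ≤ n := by
      rw [Finsupp.le_def]
      intro i
      rw [eFin_apply, ← h2]
      exact Nat.mod_le _ _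
    rw [if_pos hle]
    have h3 : n - eFin p r e = p • ndiv p r n := by
      have h4 := smul_ndiv_add p r n
      rw [h2] at h4
      conv_lhs => rw [← h4]
      rw [add_tsub_cancel_right]
    rw [h3, ex_apply]
    exact MvPowerSeries.coeff_expand_smul p hp.out.ne_zero h _
  · rw [if_neg h2]
    by_cases h1 : eFin p r e ≤ n
    · rw [if_pos h1]
      have hex : ∃ i, nmod p r n i ≠ e i := by
        by_contra hcon
        push_neg at hcon
        exact h2 (funext hcon)
      obtain ⟨i, hi⟩ := hex
      rw [ex_apply]
      apply MvPowerSeries.coeff_expand_of_not_dvd p hp.out.ne_zero h (i := i)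
      intro hdvd
      apply hi
      have hle : eFin p r e i ≤ n i := (Finsupp.le_def.mp h1) i
      rw [Finsupp.tsub_apply, eFin_apply] at hdvd
      rw [eFin_apply] at hle
      apply Fin.ext
      show n i % p = (e i : ℕ)
      obtain ⟨q, hq⟩ := hdvd
      have h5 : n i = (e i : ℕ) + p * q := by
        rw [← hq]; exact (Nat.add_sub_cancel' hle).symm
      rw [h5, Nat.add_mul_mod_self_left, Nat.mod_eq_of_lt (e i).2]
    · rw [if_neg h1]

theorem coeff_sum (d : ℕ) (c : Fin d → k)
    (h : Fin d × (Fin r → Fin p) → MvPowerSeries (Fin r) k) (n : Fin r →₀ ℕ) :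
    MvPowerSeries.coeff n (∑ i : Fin d × (Fin r → Fin p),
        (MvPowerSeries.C (c i.1) * MvPowerSeries.monomial (eFin p r i.2) (1 : k)) *
          ex p r (h i)) =
      ∑ j : Fin d, c j * MvPowerSeries.coeff (ndiv p r n) (h (j, nmod p r n)) := by
  classical
  rw [map_sum, Fintype.sum_prod_type]
  refine Finset.sum_congr rfl fun j _ => ?_
  have key : ∀ e : Fin r → Fin p,
      MvPowerSeries.coeff n ((MvPowerSeries.C (c j) *
        MvPowerSeries.monomial (eFin p r e) (1 : k)) * ex p r (h (j, e))) =
      if nmod p r n = e then c j * MvPowerSeries.coeff (ndiv p r n) (h (j, e)) else 0 := by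
    intro e
    rw [mul_assoc, MvPowerSeries.coeff_C_mul, coeff_monomial_mul_ex]
    split_ifs
    · rfl
    · rw [mul_zero]
  simp only [key]
  rw [Finset.sum_ite_eq, if_pos (Finset.mem_univ _)]

theorem free_finite (G : Subfield k) [Module.Finite G k] :
    Module.Free (SG p r G) (MvPowerSeries (Fin r) k) ∧
      Module.Finite (SG p r G) (MvPowerSeries (Fin r) k) := by
  classical
  obtain ⟨d, ⟨b⟩⟩ : ∃ d : ℕ, Nonempty (Module.Basis (Fin d) G k) :=
    ⟨Module.finrank G k, ⟨Module.finBasis G k⟩⟩
  set ψ : MvPowerSeries (Fin r) G →+* MvPowerSeries (Fin r) k :=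
    (ex p r).comp (MvPowerSeries.map G.subtype) with hψ
  set v : Fin d × (Fin r → Fin p) → MvPowerSeries (Fin r) k := fun i =>
    MvPowerSeries.C (b i.1) * MvPowerSeries.monomial (eFin p r i.2) (1 : k) with hv
  have hcoeff : ∀ (g : Fin d × (Fin r → Fin p) → MvPowerSeries (Fin r) G) (n : Fin r →₀ ℕ),
      MvPowerSeries.coeff n (∑ i, v i * ψ (g i)) =
        ∑ j : Fin d,
          b j * ((MvPowerSeries.coeff (ndiv p r n) (g (j, nmod p r n)) : G) : k) := by
    intro g n
    have h1 := coeff_sum p r d (fun j => b j)
      (fun i => MvPowerSeries.map G.subtype (g i)) n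
    simp only [MvPowerSeries.coeff_map] at h1
    exact h1
  have hmemψ : ∀ s : SG p r G, ∃ g, ψ g = (s : MvPowerSeries (Fin r) k) := fun s => s.2
  have hli : LinearIndependent (SG p r G) v := by
    rw [Fintype.linearIndependent_iff]
    intro s hs i
    choose g hg using fun i => hmemψ (s i)
    have h0 : ∑ i, v i * ψ (g i) = 0 := by
      rw [← hs]
      refine Finset.sum_congr rfl fun i _ => ?_
      rw [Subring.smul_def, smul_eq_mul, hg i, mul_comm]
    have hg0 : ∀ i, g i = 0 := by
      intro i
      refine MvPowerSeries.ext fun m => ?_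
      have h1 := hcoeff g (p • m + eFin p r i.2)
      rw [h0, map_zero, ndiv_smul_add, nmod_smul_add] at h1
      have h2 : ∑ j : Fin d, (MvPowerSeries.coeff m (g (j, i.2)) : G) • b j = 0 := by
        rw [h1]
        refine Finset.sum_congr rfl fun j _ => ?_
        rw [Subfield.smul_def, smul_eq_mul, mul_comm]
      have h3 := (Fintype.linearIndependent_iff.mp b.linearIndependent) _ h2 i.1
      rw [map_zero]
      exact h3
    apply Subtype.ext
    rw [← hg i, hg0 i, map_zero]
    rfl
  have hspan : ⊤ ≤ Submodule.span (SG p r G) (Set.range v) := by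
    intro f _
    let g : Fin d × (Fin r → Fin p) → MvPowerSeries (Fin r) G :=
      fun i => fun m => b.repr (MvPowerSeries.coeff (p • m + eFin p r i.2) f) i.1
    have hf : f = ∑ i, v i * ψ (g i) := by
      ext n
      rw [hcoeff]
      have h1 : ∀ j, ((MvPowerSeries.coeff (ndiv p r n) (g (j, nmod p r n)) : G) : k) =
          (b.repr (MvPowerSeries.coeff n f) j : k) := by
        intro j
        show ((b.repr (MvPowerSeries.coeff
          (p • ndiv p r n + eFin p r (nmod p r n)) f) j : G) : k) = _
        rw [smul_ndiv_add]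
      simp only [h1]
      conv_lhs => rw [← b.sum_repr (MvPowerSeries.coeff n f)]
      refine Finset.sum_congr rfl fun j _ => ?_
      rw [Subfield.smul_def, smul_eq_mul, mul_comm]
    rw [hf]
    refine Submodule.sum_mem _ fun i _ => ?_
    have h2 : v i * ψ (g i) = (⟨ψ (g i), ⟨g i, rfl⟩⟩ : SG p r G) • v i := by
      rw [Subring.smul_def, smul_eq_mul, mul_comm]
    rw [h2]
    exact Submodule.smul_mem _ _ (Submodule.subset_span ⟨i, rfl⟩)
  exact ⟨Module.Free.of_basis (Module.Basis.mk hli hspan),
    Module.Finite.of_basis (Module.Basis.mk hli hspan)⟩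

/-- field endomorphism of the fraction field induced by `T ↦ T^p` -/
noncomputable def Ebar : FractionRing (MvPowerSeries (Fin r) k) →+*
    FractionRing (MvPowerSeries (Fin r) k) :=
  IsFractionRing.lift
    (g := (algebraMap (MvPowerSeries (Fin r) k)
      (FractionRing (MvPowerSeries (Fin r) k))).comp (ex p r))
    ((IsFractionRing.injective (MvPowerSeries (Fin r) k)
      (FractionRing (MvPowerSeries (Fin r) k))).comp (ex_injective p r))

theorem Ebar_algebraMap (f : MvPowerSeries (Fin r) k) :
    Ebar p r (algebraMap (MvPowerSeries (Fin r) k)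
        (FractionRing (MvPowerSeries (Fin r) k)) f) =
      algebraMap (MvPowerSeries (Fin r) k)
        (FractionRing (MvPowerSeries (Fin r) k)) (ex p r f) :=
  IsFractionRing.lift_algebraMap _ f

theorem image_alg_ex (X : Set (MvPowerSeries (Fin r) k)) :
    algebraMap (MvPowerSeries (Fin r) k) (FractionRing (MvPowerSeries (Fin r) k)) ''
        (ex p r '' X) =
      Ebar p r '' (algebraMap (MvPowerSeries (Fin r) k)
        (FractionRing (MvPowerSeries (Fin r) k)) '' X) := by
  rw [Set.image_image, Set.image_image]
  refine Set.image_congr fun f _ => ?_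
  exact (Ebar_algebraMap p r f).symm

theorem closure_SG (G : Subfield k) :
    Subfield.closure (algebraMap (MvPowerSeries (Fin r) k)
        (FractionRing (MvPowerSeries (Fin r) k)) '' (SG p r G : Set _)) =
      (Subfield.closure (algebraMap (MvPowerSeries (Fin r) k)
        (FractionRing (MvPowerSeries (Fin r) k)) '' W r G)).map (Ebar p r) := by
  rw [coe_SG, image_alg_ex, RingHom.map_field_closure]

theorem ex_image_W_kp :
    ex p r '' W r (kp p k) = Set.range fun f : MvPowerSeries (Fin r) k => f ^ p := by
  ext g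
  constructor
  · rintro ⟨h, hh, rfl⟩
    choose y hy using fun n => (mem_kp p).mp (hh n)
    let Y : MvPowerSeries (Fin r) k := fun n => y n
    refine ⟨Y, ?_⟩
    show Y ^ p = _
    rw [← MvPowerSeries.map_frobenius_expand p hp.out.ne_zero, MvPowerSeries.map_expand, ex_apply]
    congr 1
    refine MvPowerSeries.ext fun n => ?_
    rw [MvPowerSeries.coeff_map]
    exact hy n
  · rintro ⟨f, rfl⟩
    refine ⟨MvPowerSeries.map (frobenius k p) f, fun n => ?_, ?_⟩
    · rw [MvPowerSeries.coeff_map]
      exact pow_mem_kp p _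
    · show ex p r _ = f ^ p
      rw [ex_apply, ← MvPowerSeries.map_expand, MvPowerSeries.map_frobenius_expand]

theorem closure_pow_eq :
    (Subfield.closure (algebraMap (MvPowerSeries (Fin r) k)
        (FractionRing (MvPowerSeries (Fin r) k)) ''
          (Set.range fun f : MvPowerSeries (Fin r) k => f ^ p)) :
        Set (FractionRing (MvPowerSeries (Fin r) k))) =
      Set.range fun x : FractionRing (MvPowerSeries (Fin r) k) => x ^ p := by
  haveI : CharP (MvPowerSeries (Fin r) k) p :=
    charP_of_injective_algebraMap (algebraMap k (MvPowerSeries (Fin r) k)).injective p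
  haveI : CharP (FractionRing (MvPowerSeries (Fin r) k)) p :=
    charP_of_injective_algebraMap (IsFractionRing.injective (MvPowerSeries (Fin r) k)
      (FractionRing (MvPowerSeries (Fin r) k))) p
  apply Set.Subset.antisymm
  · have hle : Subfield.closure (algebraMap (MvPowerSeries (Fin r) k)
        (FractionRing (MvPowerSeries (Fin r) k)) ''
          (Set.range fun f : MvPowerSeries (Fin r) k => f ^ p)) ≤
        (frobenius (FractionRing (MvPowerSeries (Fin r) k)) p).fieldRange := by
      rw [Subfield.closure_le]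
      rintro _ ⟨_, ⟨f, rfl⟩, rfl⟩
      exact ⟨algebraMap _ _ f, by rw [frobenius_def, map_pow]⟩
    intro x hx
    obtain ⟨y, hy⟩ := hle hx
    exact ⟨y, hy⟩
  · rintro _ ⟨x, rfl⟩
    obtain ⟨a, c, -, rfl⟩ := IsFractionRing.div_surjective (A := MvPowerSeries (Fin r) k) x
    show (_ / _) ^ p ∈ Subfield.closure _
    rw [div_pow, ← map_pow, ← map_pow]
    exact div_mem (Subfield.subset_closure ⟨_, ⟨a, rfl⟩, rfl⟩)
      (Subfield.subset_closure ⟨_, ⟨c, rfl⟩, rfl⟩)

theorem iInf_closure_eq (T : Set k)
    (hT : EGA41.IsPBasis p (kp p k) (fun t : T => id (t : k))) :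
    ((⨅ S : Finset T, Subfield.closure (algebraMap (MvPowerSeries (Fin r) k)
        (FractionRing (MvPowerSeries (Fin r) k)) ''
          (SG p r (Fam p T S).toSubfield : Set (MvPowerSeries (Fin r) k))) :
        Subfield (FractionRing (MvPowerSeries (Fin r) k))) :
        Set (FractionRing (MvPowerSeries (Fin r) k))) =
      Set.range fun x : FractionRing (MvPowerSeries (Fin r) k) => x ^ p := by
  classical
  have hdir : ∀ a b : Finset T, ∃ c, (Fam p T c).toSubfield ≤
      (Fam p T a).toSubfield ⊓ (Fam p T b).toSubfield := by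
    intro a b
    refine ⟨a ∪ b, le_inf ?_ ?_⟩
    · exact fun x hx => fam_anti p T Finset.subset_union_left hx
    · exact fun x hx => fam_anti p T Finset.subset_union_right hx
  have hinf : (⨅ S : Finset T, (Fam p T S).toSubfield) = kp p k := by
    apply le_antisymm
    · intro x hx
      rw [Subfield.mem_iInf] at hx
      exact iInf_fam p T hT hx
    · rw [le_iInf_iff]
      intro S x hx
      obtain ⟨y, rfl⟩ := (mem_kp p).mp hx
      exact pow_mem_fam p T S y
  have hq : ∀ x : k, x ^ ringExpChar k ^ 1 ∈ ⨅ S : Finset T, (Fam p T S).toSubfield := by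
    intro x
    rw [ringExpChar.eq k p, pow_one, hinf]
    exact pow_mem_kp p x
  have h4550 := Groth.Agent.S4550.result (fun S : Finset T => (Fam p T S).toSubfield)
    hdir 1 hq r
  simp only [closure_SG]
  rw [← Subfield.map_iInf]
  have h1 : (⨅ S : Finset T, Subfield.closure (algebraMap (MvPowerSeries (Fin r) k)
      (FractionRing (MvPowerSeries (Fin r) k)) '' W r (Fam p T S).toSubfield)) =
      Subfield.closure (algebraMap (MvPowerSeries (Fin r) k)
        (FractionRing (MvPowerSeries (Fin r) k)) '' W r (kp p k)) := by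
    beta_reduce at h4550
    rw [hinf] at h4550
    exact h4550
  rw [h1, RingHom.map_field_closure, ← image_alg_ex, ex_image_W_kp]
  exact closure_pow_eq p r

end ps

end Groth.Agent.H44.PSFamily
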