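import Groth.Agent.H44.PBasis
import Groth.Agent.S2466
import Groth.Agent.S2486
import Mathlib.FieldTheory.KummerPolynomial
import Mathlib.RingTheory.PowerBasis
import Mathlib.FieldTheory.Minpoly.Field
import Mathlib.RingTheory.AlgebraTower
import Mathlib.LinearAlgebra.LinearIndependent.Lemmas
import Mathlib.Order.Zorn
import Mathlib.RingTheory.Kaehler.Basic
import Mathlib.Algebra.CharP.Lemmas
import Mathlib.FieldTheory.IntermediateField.Adjoin.Defs
import Mathlib.Data.Set.Finite.Lattice

/-!
# `p`-bases of field extensions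

For a field `K` of characteristic `p` and a subalgebra `C` containing all `p`-th powers: a family
`p`-independent over `C` stays so after adding an element outside the subalgebra it generates;
maximal `p`-independent subfamilies exist (Zorn) and generate; consequences for Kähler differentials.
-/

set_option autoImplicit false

universe u

namespace Groth.Agent.H44.PBasis

section deg

variable (p : ℕ) [hp : Fact p.Prime] {K : Type*} [Field K]

theorem linearIndependent_pow_subfield [CharP K p] (F : Subfield K) (s : K) (hs : s ^ p ∈ F)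
    (hsF : s ∉ F) : LinearIndependent F (fun j : Fin p => s ^ (j : ℕ)) := by
  have hpp : p.Prime := hp.out
  have hirr : Irreducible
      (Polynomial.X ^ p - Polynomial.C (⟨s ^ p, hs⟩ : F) : Polynomial F) := by
    refine X_pow_sub_C_irreducible_of_prime hpp ?_
    intro b hb
    have h1 : (b : K) ^ p = s ^ p := by
      have := congrArg (Subtype.val) hb
      simpa using this
    have h2 : ((b : K) - s) ^ p = 0 := by rw [sub_pow_char, h1, sub_self]
    have h3 : (b : K) = s := sub_eq_zero.mp ((pow_eq_zero_iff hpp.ne_zero).mp h2)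
    exact hsF (h3 ▸ b.2)
  have hmonic : (Polynomial.X ^ p - Polynomial.C (⟨s ^ p, hs⟩ : F) : Polynomial F).Monic :=
    Polynomial.monic_X_pow_sub_C _ hpp.ne_zero
  have haeval : Polynomial.aeval s
      (Polynomial.X ^ p - Polynomial.C (⟨s ^ p, hs⟩ : F) : Polynomial F) = 0 := by
    rw [map_sub, map_pow, Polynomial.aeval_X, Polynomial.aeval_C]
    exact sub_self _
  have hmin : minpoly F s = Polynomial.X ^ p - Polynomial.C (⟨s ^ p, hs⟩ : F) :=
    (minpoly.eq_of_irreducible_of_monic hirr haeval hmonic).symm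
  have hdeg : (minpoly F s).natDegree = p := by
    rw [hmin, Polynomial.natDegree_X_pow_sub_C]
  have h := linearIndependent_pow (K := F) s
  rw [hdeg] at h
  exact h

theorem inv_mem_of_pow_mem {C : Type*} [CommRing C] [Algebra C K] (F : Subalgebra C K)
    (hF : ∀ b : K, b ^ p ∈ F) {f : K} (hf : f ∈ F) : f⁻¹ ∈ F := by
  have hpp : p.Prime := hp.out
  by_cases h0 : f = 0
  · rw [h0, inv_zero]
    exact zero_mem F
  · have hpow : f ^ p = f ^ (p - 1) * f := by
      rw [← pow_succ, Nat.sub_add_cancel hpp.one_le]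
    have : f⁻¹ = f ^ (p - 1) * (f⁻¹) ^ p := by
      rw [inv_pow, hpow, mul_inv, ← mul_assoc, mul_inv_cancel₀ (pow_ne_zero _ h0), one_mul]
    rw [this]
    exact F.mul_mem (F.pow_mem hf _) (hF f⁻¹)

theorem linearIndependent_pow_of_pow_mem [CharP K p] {C : Type*} [CommRing C] [Algebra C K]
    (F : Subalgebra C K) (hF : ∀ b : K, b ^ p ∈ F) (s : K) (hsF : s ∉ F) :
    LinearIndependent F (fun j : Fin p => s ^ (j : ℕ)) := by
  let F' : Subfield K :=
    { toSubring := F.toSubring
      inv_mem' := fun y hy => inv_mem_of_pow_mem p F hF hy }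
  have h' : LinearIndependent F' (fun j : Fin p => s ^ (j : ℕ)) :=
    linearIndependent_pow_subfield p F' s (hF s) hsF
  rw [Fintype.linearIndependent_iff] at h' ⊢
  intro g hg i
  have h1 := h' (fun j => (⟨(g j : K), (g j).2⟩ : F'))
    ((Finset.sum_congr rfl (fun j _ => rfl)).trans hg) i
  exact Subtype.ext (congrArg Subtype.val h1)

end deg

section field

variable (p : ℕ) {C K : Type*} [CommRing C] [Field K] [Algebra C K] {ι : Type*} (x : ι → K)

/-- The monomial `∏ x_i ^ e_i`. -/
def mono (e : ι →₀ ℕ) : K := e.prod fun i n => x i ^ n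

/-- Reduced exponent vectors supported in `T`. -/
def redSet (T : Set ι) : Set (ι →₀ ℕ) := {e | (∀ i, e i < p) ∧ (e.support : Set ι) ⊆ T}

variable {p} in
theorem redSet_mono {T T' : Set ι} (h : T ⊆ T') : redSet p T ⊆ redSet p T' :=
  fun _ he => ⟨he.1, he.2.trans h⟩

theorem linearIndependent_redMono_comp_iff (hp : 0 < p) {ι' : Type*} (j : ι' → ι)
    (hj : Function.Injective j) :
    LinearIndependent C (redMono p (x ∘ j)) ↔
      LinearIndepOn C (mono x) (redSet p (Set.range j)) := by
  classical
  let φ : {e : ι' →₀ ℕ // ∀ i, e i < p} → ↥(redSet p (Set.range j)) := fun e =>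
    ⟨e.1.mapDomain j, by
      refine ⟨fun i => ?_, fun i hi => ?_⟩
      · by_cases hi : i ∈ Set.range j
        · obtain ⟨i', rfl⟩ := hi
          rw [Finsupp.mapDomain_apply hj]
          exact e.2 i'
        · rw [Finsupp.mapDomain_of_notMem_range _ _ hi]
          exact hp
      · have h1 := Finsupp.mapDomain_support (Finset.mem_coe.mp hi)
        obtain ⟨i', -, rfl⟩ := Finset.mem_image.mp h1
        exact ⟨i', rfl⟩⟩
  have hφ : Function.Bijective φ := by
    constructor
    · intro e₁ e₂ h
      have h' : e₁.1.mapDomain j = e₂.1.mapDomain j := congrArg Subtype.val h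
      exact Subtype.ext (Finsupp.mapDomain_injective hj h')
    · rintro ⟨e, hred, hsupp⟩
      refine ⟨⟨Finsupp.comapDomain j e hj.injOn, fun i' => ?_⟩, ?_⟩
      · rw [Finsupp.comapDomain_apply]
        exact hred (j i')
      · exact Subtype.ext (Finsupp.mapDomain_comapDomain j hj e hsupp)
  have hcomp : redMono p (x ∘ j) = (fun e : ↥(redSet p (Set.range j)) => mono x e) ∘ φ := by
    funext e
    show e.1.prod (fun i n => (x ∘ j) i ^ n) = (e.1.mapDomain j).prod fun i n => x i ^ n
    rw [Finsupp.prod_mapDomain_index_inj hj]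
    rfl
  rw [hcomp]
  exact linearIndependent_equiv (Equiv.ofBijective φ hφ)

theorem linearIndepOn_redSet_empty (hp : 0 < p) (hCinj : Function.Injective (algebraMap C K)) :
    LinearIndepOn C (mono x) (redSet p (∅ : Set ι)) := by
  have h0 : ∀ e ∈ redSet p (∅ : Set ι), e = 0 := fun e he => by
    apply Finsupp.support_eq_empty.mp
    apply Finset.eq_empty_of_forall_notMem
    intro i hi
    exact he.2 (Finset.mem_coe.mpr hi)
  letI : Unique ↥(redSet p (∅ : Set ι)) :=
    { default := ⟨0, fun i => by simpa using hp, by simp⟩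
      uniq := fun e => Subtype.ext (h0 e.1 e.2) }
  rw [LinearIndepOn, linearIndependent_iff]
  intro l hl
  rw [Finsupp.unique_single l, Finsupp.linearCombination_single] at hl
  have hl' : l default • mono x ((default : ↥(redSet p (∅ : Set ι))) : ι →₀ ℕ) = 0 := hl
  have h1 : mono x ((default : ↥(redSet p (∅ : Set ι))) : ι →₀ ℕ) = 1 := by
    show (0 : ι →₀ ℕ).prod _ = 1
    exact Finsupp.prod_zero_index
  rw [h1, ← Algebra.algebraMap_eq_smul_one] at hl'
  have h2 : l default = 0 := hCinj (by rw [hl', map_zero])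
  exact Finsupp.unique_ext h2

theorem linearIndepOn_redSet_insert [hpF : Fact p.Prime] [CharP K p]
    (hC : ∀ b : K, b ^ p ∈ Set.range (algebraMap C K))
    {T : Set ι} (hT : LinearIndepOn C (mono x) (redSet p T)) {a : ι} (haT : a ∉ T)
    (hxa : x a ∉ Algebra.adjoin C (x '' T)) :
    LinearIndepOn C (mono x) (redSet p (insert a T)) := by
  classical
  have hpp : p.Prime := hpF.out
  have hmemF : ∀ e : ↥(redSet p T), mono x e ∈ Algebra.adjoin C (x '' T) := by
    intro e
    show ∏ i ∈ (e : ι →₀ ℕ).support, x i ^ (e : ι →₀ ℕ) i ∈ Algebra.adjoin C (x '' T)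
    refine Subalgebra.prod_mem _ fun i hi => ?_
    exact Subalgebra.pow_mem _
      (Algebra.subset_adjoin (Set.mem_image_of_mem x (e.2.2 (Finset.mem_coe.mpr hi)))) _
  let b : ↥(redSet p T) → Algebra.adjoin C (x '' T) := fun e => ⟨mono x e, hmemF e⟩
  have hb : LinearIndependent C b := by
    apply LinearIndependent.of_comp (Algebra.adjoin C (x '' T)).val.toLinearMap
    exact hT
  have hFpow : ∀ y : K, y ^ p ∈ Algebra.adjoin C (x '' T) := fun y => by
    obtain ⟨c, hc⟩ := hC y
    rw [← hc]
    exact Subalgebra.algebraMap_mem _ c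
  have hc : LinearIndependent (Algebra.adjoin C (x '' T)) (fun j : Fin p => x a ^ (j : ℕ)) :=
    linearIndependent_pow_of_pow_mem p _ hFpow (x a) hxa
  have hbc := linearIndependent_smul hb hc
  let f : ↥(redSet p (insert a T)) → ↥(redSet p T) × Fin p := fun e =>
    (⟨(e : ι →₀ ℕ).erase a, by
      refine ⟨fun i => ?_, fun i hi => ?_⟩
      · rw [Finsupp.erase_apply]
        split_ifs
        · exact hpp.pos
        · exact e.2.1 i
      · rw [Finset.mem_coe, Finsupp.support_erase, Finset.mem_erase] at hi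
        exact (Set.mem_insert_iff.mp (e.2.2 (Finset.mem_coe.mpr hi.2))).resolve_left hi.1⟩,
     ⟨(e : ι →₀ ℕ) a, e.2.1 a⟩)
  have hf : Function.Injective f := by
    intro e₁ e₂ h
    have h1 : (e₁ : ι →₀ ℕ).erase a = (e₂ : ι →₀ ℕ).erase a :=
      congrArg (fun q : ↥(redSet p T) × Fin p => (q.1 : ι →₀ ℕ)) h
    have h2 : (e₁ : ι →₀ ℕ) a = (e₂ : ι →₀ ℕ) a :=
      congrArg (fun q : ↥(redSet p T) × Fin p => (q.2 : ℕ)) h
    apply Subtype.ext
    ext i
    by_cases hi : i = a
    · rw [hi, h2]
    · have := DFunLike.congr_fun h1 i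
      rwa [Finsupp.erase_ne hi, Finsupp.erase_ne hi] at this
  have key := hbc.comp f hf
  have hfun : ((fun q : ↥(redSet p T) × Fin p => b q.1 • x a ^ (q.2 : ℕ)) ∘ f) =
      fun e : ↥(redSet p (insert a T)) => mono x e := by
    funext e
    show (b (f e).1) • x a ^ ((f e).2 : ℕ) = mono x e
    rw [Subalgebra.smul_def, smul_eq_mul, mul_comm]
    exact Finsupp.mul_prod_erase' (e : ι →₀ ℕ) a (fun i n => x i ^ n) (fun i => pow_zero _)
  rw [hfun] at key
  exact key

theorem exists_maximal_redSet [Fact p.Prime] [CharP K p]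
    (hC : ∀ b : K, b ^ p ∈ Set.range (algebraMap C K))
    {T₀ T₁ : Set ι} (h01 : T₀ ⊆ T₁) (h0 : LinearIndepOn C (mono x) (redSet p T₀)) :
    ∃ T, T₀ ⊆ T ∧ T ⊆ T₁ ∧ LinearIndepOn C (mono x) (redSet p T) ∧
      ∀ a ∈ T₁, x a ∈ Algebra.adjoin C (x '' T) := by
  have hchainub : ∀ c ⊆ {T | T₀ ⊆ T ∧ T ⊆ T₁ ∧ LinearIndepOn C (mono x) (redSet p T)},
      IsChain (· ⊆ ·) c → c.Nonempty →
      ∃ ub ∈ {T | T₀ ⊆ T ∧ T ⊆ T₁ ∧ LinearIndepOn C (mono x) (redSet p T)},
        ∀ s ∈ c, s ⊆ ub := by
    intro c hcS hchain hne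
    refine ⟨⋃₀ c, ⟨?_, ?_, ?_⟩, fun s hs => Set.subset_sUnion_of_mem hs⟩
    · obtain ⟨s, hs⟩ := hne
      exact (hcS hs).1.trans (Set.subset_sUnion_of_mem hs)
    · exact Set.sUnion_subset fun s hs => (hcS hs).2.1
    · have hsub : redSet p (⋃₀ c) ⊆ ⋃₀ (redSet p '' c) := by
        intro e he
        obtain ⟨T, hTc, hT⟩ := DirectedOn.exists_mem_subset_of_finite_of_subset_sUnion hne
          hchain.directedOn (Finset.finite_toSet e.support) he.2
        exact ⟨redSet p T, ⟨T, hTc, rfl⟩, he.1, hT⟩
      refine LinearIndepOn.mono (linearIndepOn_sUnion_of_directed ?_ ?_) hsub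
      · rintro _ ⟨T, hTc, rfl⟩ _ ⟨T', hTc', rfl⟩
        rcases hchain.total hTc hTc' with h | h
        · exact ⟨redSet p T', ⟨T', hTc', rfl⟩, redSet_mono h, subset_rfl⟩
        · exact ⟨redSet p T, ⟨T, hTc, rfl⟩, subset_rfl, redSet_mono h⟩
      · rintro _ ⟨T, hTc, rfl⟩
        exact (hcS hTc).2.2
  obtain ⟨T, -, hTmax⟩ := zorn_subset_nonempty
    {T | T₀ ⊆ T ∧ T ⊆ T₁ ∧ LinearIndepOn C (mono x) (redSet p T)} hchainub T₀
    ⟨subset_rfl, h01, h0⟩
  obtain ⟨hT0', hT1, hTind⟩ := hTmax.prop
  refine ⟨T, hT0', hT1, hTind, fun a ha => ?_⟩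
  by_contra hxa
  by_cases haT : a ∈ T
  · exact hxa (Algebra.subset_adjoin ⟨a, haT, rfl⟩)
  · have hins := linearIndepOn_redSet_insert p x hC hTind haT hxa
    have hle : insert a T ⊆ T := hTmax.le_of_ge
      ⟨hT0'.trans (Set.subset_insert _ _), Set.insert_subset ha hT1, hins⟩
      (Set.subset_insert _ _)
    exact haT (hle (Set.mem_insert _ _))

end field

section kaehler

variable (p : ℕ) [Fact p.Prime] {A B : Type u} [CommRing A] [CommRing B] [Algebra A B] [CharP B p]

theorem D_pPower_eq_zero {c : B} (hc : c ∈ EGA41.pPowerSubalgebra p A B) :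
    KaehlerDifferential.D A B c = 0 := by
  unfold EGA41.pPowerSubalgebra at hc
  induction hc using Algebra.adjoin_induction with
  | mem y hy =>
    obtain ⟨b, rfl⟩ := hy
    rw [Derivation.leibniz_pow, ← Nat.cast_smul_eq_nsmul B, CharP.cast_eq_zero B p, zero_smul]
  | algebraMap r => exact Derivation.map_algebraMap _ r
  | add y z _ _ hy hz => rw [map_add, hy, hz, add_zero]
  | mul y z _ _ hy hz => rw [Derivation.leibniz, hy, hz, smul_zero, smul_zero, add_zero]

theorem D_mem_span_of_mem_adjoin {ι : Type*} (x : ι → B) (T : Set ι) {b : B}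
    (hb : b ∈ Algebra.adjoin (EGA41.pPowerSubalgebra p A B) (x '' T)) :
    KaehlerDifferential.D A B b ∈
      Submodule.span B ((fun i => KaehlerDifferential.D A B (x i)) '' T) := by
  induction hb using Algebra.adjoin_induction with
  | mem y hy =>
    obtain ⟨i, hi, rfl⟩ := hy
    exact Submodule.subset_span ⟨i, hi, rfl⟩
  | algebraMap c =>
    have : KaehlerDifferential.D A B (algebraMap (EGA41.pPowerSubalgebra p A B) B c) = 0 :=
      D_pPower_eq_zero p c.2
    rw [this]
    exact zero_mem _
  | add y z _ _ hy hz =>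
    rw [map_add]
    exact add_mem hy hz
  | mul y z _ _ hy hz =>
    rw [Derivation.leibniz]
    exact add_mem (Submodule.smul_mem _ _ hz) (Submodule.smul_mem _ _ hy)

theorem isPGenerating_iff_adjoin {ι : Type u} (x : ι → B) :
    EGA41.IsPGenerating p A x ↔
      Algebra.adjoin (EGA41.pPowerSubalgebra p A B) (Set.range x) = ⊤ := by
  have hp : p.Prime := Fact.out
  let a : ι → EGA41.pPowerSubalgebra p A B :=
    fun i => ⟨x i ^ p, pow_mem_pPowerSubalgebra p (x i)⟩
  rw [← Algebra.toSubmodule_eq_top, adjoin_toSubmodule_eq_span hp.pos x a (fun i => rfl)]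
  exact Iff.rfl

end kaehler

section fieldEGA

variable (p : ℕ) [Fact p.Prime] {k K : Type u} [CommRing k] [Field K] [Algebra k K] [CharP K p]

theorem hC_pPower :
    ∀ b : K, b ^ p ∈ Set.range (algebraMap (EGA41.pPowerSubalgebra p k K) K) :=
  fun b => ⟨⟨b ^ p, pow_mem_pPowerSubalgebra p b⟩, rfl⟩

omit [Fact p.Prime] [CharP K p] in
theorem algebraMap_pPower_injective :
    Function.Injective (algebraMap (EGA41.pPowerSubalgebra p k K) K) :=
  fun _ _ h => Subtype.ext h

theorem isPBasis_subtype {ι : Type u} (x : ι → K) (T : Set ι)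
    (hT : LinearIndepOn (EGA41.pPowerSubalgebra p k K) (mono x) (redSet p T))
    (hgen : ∀ b : K, b ∈ Algebra.adjoin (EGA41.pPowerSubalgebra p k K) (x '' T)) :
    EGA41.IsPBasis p k (fun t : T => x t) := by
  have hp : p.Prime := Fact.out
  constructor
  · have := (linearIndependent_redMono_comp_iff p (C := EGA41.pPowerSubalgebra p k K) x hp.pos
      (Subtype.val : T → ι) Subtype.val_injective).mpr (by rwa [Subtype.range_val])
    exact this
  · rw [isPGenerating_iff_adjoin, Algebra.eq_top_iff]
    intro b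
    have hr : Set.range (fun t : T => x t) = x '' T := by
      ext y
      constructor
      · rintro ⟨t, rfl⟩
        exact ⟨t.1, t.2, rfl⟩
      · rintro ⟨i, hi, rfl⟩
        exact ⟨⟨i, hi⟩, rfl⟩
    rw [hr]
    exact hgen b

theorem linearIndependent_D_of_isPIndependent {ι : Type u} (x : ι → K)
    (hx : EGA41.IsPIndependent p k x) :
    LinearIndependent K (fun i => KaehlerDifferential.D k K (x i)) := by
  classical
  have hp : p.Prime := Fact.out
  let z : ι ⊕ K → K := Sum.elim x id
  have h0 : LinearIndepOn (EGA41.pPowerSubalgebra p k K) (mono z)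
      (redSet p (Set.range (Sum.inl : ι → ι ⊕ K))) :=
    (linearIndependent_redMono_comp_iff p z hp.pos Sum.inl Sum.inl_injective).mp hx
  obtain ⟨T, hT0, -, hTind, hTgen⟩ :=
    exists_maximal_redSet p z (hC_pPower p) (Set.subset_univ _) h0
  have hbasis : EGA41.IsPBasis p k (fun t : T => z t) :=
    isPBasis_subtype p z T hTind (fun b => hTgen (Sum.inr b) (Set.mem_univ _))
  obtain ⟨bs, hbs⟩ := Groth.Agent.S2466.result p (fun t : T => z t) hbasis
  have hli : LinearIndependent K (fun t : T => KaehlerDifferential.D k K (z t)) := by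
    have := bs.linearIndependent
    rwa [show (⇑bs) = fun t : T => KaehlerDifferential.D k K (z t) from funext hbs] at this
  exact hli.comp (fun i => (⟨Sum.inl i, hT0 ⟨i, rfl⟩⟩ : T))
    (fun i i' h => Sum.inl_injective (congrArg Subtype.val h))

theorem isPIndependent_of_linearIndependent_D {ι : Type u} (x : ι → K)
    (hli : LinearIndependent K (fun i => KaehlerDifferential.D k K (x i))) :
    EGA41.IsPIndependent p k x := by
  classical
  have hp : p.Prime := Fact.out
  obtain ⟨T, -, -, hTind, hTgen⟩ := exists_maximal_redSet p x (hC_pPower (k := k) p)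
    (Set.subset_univ (∅ : Set ι))
    (linearIndepOn_redSet_empty p x hp.pos (algebraMap_pPower_injective p))
  have hT : T = Set.univ := by
    rw [Set.eq_univ_iff_forall]
    intro a
    by_contra haT
    have h1 := D_mem_span_of_mem_adjoin p x T (hTgen a (Set.mem_univ _))
    exact hli.notMem_span_image haT h1
  rw [hT] at hTind
  have := (linearIndependent_redMono_comp_iff p (C := EGA41.pPowerSubalgebra p k K) x hp.pos
    (id : ι → ι) Function.injective_id).mpr (by rwa [Set.range_id])
  exact this

theorem isPGenerating_of_span_D {ι : Type u} (x : ι → K)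
    (hspan : Submodule.span K (Set.range fun i => KaehlerDifferential.D k K (x i)) = ⊤) :
    EGA41.IsPGenerating p k x := by
  classical
  have hp : p.Prime := Fact.out
  let z : ι ⊕ K → K := Sum.elim x id
  obtain ⟨T, -, hT1, hTind, hTgen⟩ := exists_maximal_redSet p z (hC_pPower (k := k) p)
    (Set.empty_subset (Set.range (Sum.inl : ι → ι ⊕ K)))
    (linearIndepOn_redSet_empty p z hp.pos (algebraMap_pPower_injective p))
  obtain ⟨T', hTT', -, hT'ind, hT'gen⟩ :=
    exists_maximal_redSet p z (hC_pPower (k := k) p) (Set.subset_univ T) hTind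
  have hspanT : Submodule.span K ((fun a => KaehlerDifferential.D k K (z a)) '' T) = ⊤ := by
    rw [eq_top_iff, ← hspan]
    refine Submodule.span_le.mpr ?_
    rintro _ ⟨i, rfl⟩
    exact D_mem_span_of_mem_adjoin p z T (hTgen (Sum.inl i) ⟨i, rfl⟩)
  have hbasis : EGA41.IsPBasis p k (fun t : T' => z t) :=
    isPBasis_subtype p z T' hT'ind (fun b => hT'gen (Sum.inr b) (Set.mem_univ _))
  obtain ⟨bs, hbs⟩ := Groth.Agent.S2466.result p (fun t : T' => z t) hbasis
  have hli : LinearIndepOn K (fun a => KaehlerDifferential.D k K (z a)) T' := by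
    have := bs.linearIndependent
    rwa [show (⇑bs) = fun t : T' => KaehlerDifferential.D k K (z t) from funext hbs] at this
  have hT'T : T' ⊆ T := by
    intro t ht
    by_contra htT
    apply hli.notMem_span ht
    have hle : Submodule.span K ((fun a => KaehlerDifferential.D k K (z a)) '' T) ≤
        Submodule.span K ((fun a => KaehlerDifferential.D k K (z a)) '' (T' \ {t})) :=
      Submodule.span_mono (Set.image_mono fun u hu => ⟨hTT' hu, fun h => htT (h ▸ hu)⟩)
    apply hle
    rw [hspanT]
    exact Submodule.mem_top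
  rw [isPGenerating_iff_adjoin, Algebra.eq_top_iff]
  intro b
  have hb : b ∈ Algebra.adjoin (EGA41.pPowerSubalgebra p k K) (z '' T') :=
    hT'gen (Sum.inr b) (Set.mem_univ _)
  refine Algebra.adjoin_mono ?_ hb
  rintro _ ⟨t, ht, rfl⟩
  obtain ⟨i, rfl⟩ := hT1 (hT'T ht)
  exact ⟨i, rfl⟩

end fieldEGA

section IF

variable (p : ℕ) [Fact p.Prime] {k K : Type u} [Field k] [Field K] [Algebra k K]

theorem mem_intermediateField_adjoin_iff (W : Set K) (b : K) :
    b ∈ IntermediateField.adjoin k ((Set.range fun y : K => y ^ p) ∪ W) ↔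
      b ∈ Algebra.adjoin (EGA41.pPowerSubalgebra p k K) W := by
  constructor
  · intro hb
    have hFpow : ∀ y : K, y ^ p ∈ Algebra.adjoin (EGA41.pPowerSubalgebra p k K) W := fun y =>
      Subalgebra.algebraMap_mem _
        (⟨y ^ p, pow_mem_pPowerSubalgebra p y⟩ : EGA41.pPowerSubalgebra p k K)
    let IF' : IntermediateField k K :=
      { toSubalgebra := (Algebra.adjoin (EGA41.pPowerSubalgebra p k K) W).restrictScalars k
        inv_mem' := fun y hy => inv_mem_of_pow_mem p _ hFpow hy }
    have hle : IntermediateField.adjoin k ((Set.range fun y : K => y ^ p) ∪ W) ≤ IF' := by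
      rw [IntermediateField.adjoin_le_iff]
      rintro y (⟨y', rfl⟩ | hy)
      · exact hFpow y'
      · exact Algebra.subset_adjoin hy
    exact hle hb
  · intro hb
    induction hb using Algebra.adjoin_induction with
    | mem y hy => exact IntermediateField.subset_adjoin k _ (Or.inr hy)
    | algebraMap c =>
      have hc : (c : K) ∈ Algebra.adjoin k (Set.range fun y : K => y ^ p) := c.2
      have hle : Algebra.adjoin k (Set.range fun y : K => y ^ p) ≤
          (IntermediateField.adjoin k ((Set.range fun y : K => y ^ p) ∪ W)).toSubalgebra :=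
        Algebra.adjoin_le fun y hy => IntermediateField.subset_adjoin k _ (Or.inl hy)
      exact hle hc
    | add y z _ _ hy hz => exact add_mem hy hz
    | mul y z _ _ hy hz => exact mul_mem hy hz

end IF

end Groth.Agent.H44.PBasis
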