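import Groth.Agent.H44.PBasisTower
import Groth.Agent.S4521
import Mathlib.FieldTheory.IntermediateField.Adjoin.Defs

/-!
# `p`-independence over a decreasing family of subfields

If `G i` is a decreasing directed family of intermediate fields of `K/k₀`, all containing `K^p`,
whose intersection lies in a coefficient ring `C₀`, then every finite part of a family that is
`p`-independent over `C₀` stays `p`-independent over some `G i`.
-/

set_option autoImplicit false

universe u

namespace Groth.Agent.H44.PBasis

section range

variable (p : ℕ) {K : Type*} [Field K] {ι' : Type*} (x : ι' → K)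

theorem range_redMono_comp (hp : 0 < p) {ι'' : Type*} (j : ι'' → ι')
    (hj : Function.Injective j) :
    Set.range (redMono p (x ∘ j)) = mono x '' redSet p (Set.range j) := by
  classical
  ext b
  constructor
  · rintro ⟨e, rfl⟩
    refine ⟨e.1.mapDomain j, ⟨fun i => ?_, fun i hi => ?_⟩, ?_⟩
    · by_cases hi : i ∈ Set.range j
      · obtain ⟨i', rfl⟩ := hi
        rw [Finsupp.mapDomain_apply hj]
        exact e.2 i'
      · rw [Finsupp.mapDomain_of_notMem_range _ _ hi]
        exact hp
    · have h1 := Finsupp.mapDomain_support (Finset.mem_coe.mp hi)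
      obtain ⟨i', -, rfl⟩ := Finset.mem_image.mp h1
      exact ⟨i', rfl⟩
    · show (e.1.mapDomain j).prod (fun i n => x i ^ n) = e.1.prod (fun i n => (x ∘ j) i ^ n)
      rw [Finsupp.prod_mapDomain_index_inj hj]
      rfl
  · rintro ⟨e, ⟨hred, hsupp⟩, rfl⟩
    refine ⟨⟨Finsupp.comapDomain j e hj.injOn, fun i' => ?_⟩, ?_⟩
    · rw [Finsupp.comapDomain_apply]
      exact hred (j i')
    · show (Finsupp.comapDomain j e hj.injOn).prod (fun i n => (x ∘ j) i ^ n) =
        e.prod fun i n => x i ^ n
      conv_rhs => rw [← Finsupp.mapDomain_comapDomain j hj e hsupp]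
      rw [Finsupp.prod_mapDomain_index_inj hj]
      rfl

/-- The subalgebra generated by `x '' T` over a ring containing the `p`-th powers is spanned by the
reduced monomials supported in `T`. -/
theorem adjoin_image_toSubmodule_eq_span (hp : 0 < p) {C : Type*} [CommRing C] [Algebra C K]
    (hC : ∀ b : K, b ^ p ∈ Set.range (algebraMap C K)) (T : Set ι') :
    Subalgebra.toSubmodule (Algebra.adjoin C (x '' T)) =
      Submodule.span C (mono x '' redSet p T) := by
  classical
  choose a ha using fun t : T => hC (x t)
  have h1 := adjoin_toSubmodule_eq_span (A₀ := C) hp (x ∘ (Subtype.val : T → ι')) a ha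
  rw [range_redMono_comp p x hp Subtype.val Subtype.val_injective, Set.range_comp,
    Subtype.range_val] at h1
  exact h1

end range

section descent

variable (p : ℕ) [Fact p.Prime] {k₀ K : Type*} [Field k₀] [Field K] [Algebra k₀ K] [CharP K p]
  {ι : Type*} [Preorder ι] [IsDirected ι (· ≤ ·)] [Nonempty ι]

theorem exists_linearIndepOn_of_iInf {C₀ : Type*} [CommRing C₀] [Algebra C₀ K]
    (G : ι → IntermediateField k₀ K) (hG : Antitone G) (hGpow : ∀ i (b : K), b ^ p ∈ G i)
    (hC₀ : ∀ b : K, (∀ i, b ∈ G i) → b ∈ Set.range (algebraMap C₀ K))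
    {ι' : Type*} (x : ι' → K) (hx : LinearIndepOn C₀ (mono x) (redSet p Set.univ))
    (S : Finset ι') : ∃ i, LinearIndepOn (G i) (mono x) (redSet p (S : Set ι')) := by
  classical
  have hp : p.Prime := Fact.out
  have : Nontrivial C₀ := RingHom.domain_nontrivial (algebraMap C₀ K)
  induction S using Finset.induction_on with
  | empty =>
    obtain ⟨i⟩ := ‹Nonempty ι›
    refine ⟨i, ?_⟩
    rw [Finset.coe_empty]
    exact linearIndepOn_redSet_empty p x hp.pos (algebraMap (G i) K).injective
  | insert a S haS ih =>
    obtain ⟨i₀, hi₀⟩ := ih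
    by_contra hcon
    push Not at hcon
    have hmono : ∀ i j, i ≤ j → LinearIndepOn (G i) (mono x) (redSet p (S : Set ι')) →
        LinearIndepOn (G j) (mono x) (redSet p (S : Set ι')) := by
      intro i j hij h
      refine linearIndependent_of_forall_exists ?_ h
      intro r'
      refine ⟨⟨r', hG hij r'.2⟩, fun m => rfl, fun h0 => ?_⟩
      have h1 := congrArg (fun c : ↥(G i) => (c : K)) h0
      exact Subtype.ext h1
    have hmem : ∀ i, i₀ ≤ i → x a ∈ Algebra.adjoin (G i) (x '' (S : Set ι')) := by
      intro i hi
      by_contra hxa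
      refine hcon i ?_
      rw [Finset.coe_insert]
      exact linearIndepOn_redSet_insert p x (fun b => ⟨⟨b ^ p, hGpow i b⟩, rfl⟩)
        (hmono i₀ i hi hi₀) (by simpa using haS) hxa
    -- expansions
    let m : ↥(redSet p (S : Set ι')) → K := fun e => mono x e
    have hrange : Set.range m = mono x '' redSet p (S : Set ι') :=
      (Set.image_eq_range (mono x) (redSet p (S : Set ι'))).symm
    have hexp : ∀ i, i₀ ≤ i → ∃ l : ↥(redSet p (S : Set ι')) →₀ ↥(G i),
        (l.sum fun e c => c • m e) = x a := by
      intro i hi
      have h1 : x a ∈ Subalgebra.toSubmodule (Algebra.adjoin (G i) (x '' (S : Set ι'))) :=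
        hmem i hi
      rw [adjoin_image_toSubmodule_eq_span p x hp.pos (fun b => ⟨⟨b ^ p, hGpow i b⟩, rfl⟩),
        ← hrange] at h1
      exact Finsupp.mem_span_range_iff_exists_finsupp.mp h1
    obtain ⟨l₀, hl₀⟩ := hexp i₀ le_rfl
    have hli₀ : LinearIndependent (G i₀) m := hi₀
    have hcoef : ∀ i, i₀ ≤ i → ∀ e, (l₀ e : K) ∈ G i := by
      intro i hi e
      obtain ⟨l, hl⟩ := hexp i hi
      let incl : ↥(G i) → ↥(G i₀) := fun c => ⟨c, hG hi c.2⟩
      have hincl0 : incl 0 = 0 := rfl
      have hsum : Finsupp.linearCombination (G i₀) m (l.mapRange incl hincl0) =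
          Finsupp.linearCombination (G i₀) m l₀ := by
        rw [Finsupp.linearCombination_apply, Finsupp.linearCombination_apply, hl₀,
          Finsupp.sum_mapRange_index (h := fun e (c : ↥(G i₀)) => c • m e)
            (fun e => zero_smul _ _), ← hl]
        rfl
      have heq : l.mapRange incl hincl0 = l₀ := hli₀ hsum
      rw [← heq, Finsupp.mapRange_apply]
      exact (l e).2
    have hcoef' : ∀ e, ∀ i, (l₀ e : K) ∈ G i := by
      intro e i
      obtain ⟨j, hij, hi₀j⟩ := exists_ge_ge i i₀
      exact hG hij (hcoef j hi₀j e)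
    choose γ hγ using fun e => hC₀ _ (hcoef' e)
    have hxa : x a ∈ Submodule.span C₀ (mono x '' redSet p (S : Set ι')) := by
      rw [← hl₀, Finsupp.sum]
      refine Submodule.sum_mem _ fun e _ => ?_
      have h1 : (l₀ e) • m e = γ e • mono x e := by
        show (l₀ e : K) * mono x e = γ e • mono x e
        rw [← hγ e, Algebra.smul_def]
      rw [h1]
      exact Submodule.smul_mem _ _ (Submodule.subset_span ⟨e.1, e.2, rfl⟩)
    have hsingle : Finsupp.single a 1 ∈ redSet p (Set.univ : Set ι') := by
      refine ⟨fun i => ?_, Set.subset_univ _⟩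
      rw [Finsupp.single_apply]
      split_ifs
      · exact hp.one_lt
      · exact hp.pos
    have hmono1 : mono x (Finsupp.single a 1) = x a := by
      show (Finsupp.single a 1).prod (fun i n => x i ^ n) = x a
      rw [Finsupp.prod_single_index (h := fun i n => x i ^ n) (pow_zero _), pow_one]
    have hnot := hx.notMem_span hsingle
    rw [hmono1] at hnot
    apply hnot
    refine Submodule.span_mono (Set.image_mono ?_) hxa
    intro e he
    refine ⟨redSet_mono (Set.subset_univ _) he, fun h => haS ?_⟩
    rw [Set.mem_singleton_iff] at h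
    have h2 : a ∈ (e.support : Set ι') := by
      rw [h, Finsupp.support_single_ne_zero a one_ne_zero]
      simp
    exact Finset.mem_coe.mp (he.2 h2)

end descent

section kerD

variable (p : ℕ) [Fact p.Prime] {k₀ K : Type u} [Field k₀] [Field K] [Algebra k₀ K]

/-- The elements killed by the universal derivation over an intermediate field. -/
noncomputable def kerD (E : IntermediateField k₀ K) : IntermediateField k₀ K where
  carrier := {b | KaehlerDifferential.D E K b = 0}
  mul_mem' {a b} ha hb := by
    show KaehlerDifferential.D E K (a * b) = 0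
    rw [Derivation.leibniz, show KaehlerDifferential.D E K a = 0 from ha,
      show KaehlerDifferential.D E K b = 0 from hb, smul_zero, smul_zero, add_zero]
  one_mem' := Derivation.map_one_eq_zero _
  add_mem' {a b} ha hb := by
    show KaehlerDifferential.D E K (a + b) = 0
    rw [map_add, show KaehlerDifferential.D E K a = 0 from ha,
      show KaehlerDifferential.D E K b = 0 from hb, add_zero]
  zero_mem' := map_zero _
  algebraMap_mem' r := by
    show KaehlerDifferential.D E K (algebraMap k₀ K r) = 0
    rw [IsScalarTower.algebraMap_apply k₀ E K]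
    exact Derivation.map_algebraMap _ _
  inv_mem' b hb := by
    show KaehlerDifferential.D E K b⁻¹ = 0
    rw [Derivation.leibniz_inv, show KaehlerDifferential.D E K b = 0 from hb, smul_zero]

theorem D_eq_zero_of_mem_sup [CharP K p] (E : IntermediateField k₀ K) {b : K}
    (hb : b ∈ E ⊔ IntermediateField.adjoin k₀ (Set.range fun y : K => y ^ p)) :
    KaehlerDifferential.D E K b = 0 := by
  have hle : E ⊔ IntermediateField.adjoin k₀ (Set.range fun y : K => y ^ p) ≤ kerD E := by
    refine sup_le (fun c hc => ?_) (IntermediateField.adjoin_le_iff.mpr ?_)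
    · show KaehlerDifferential.D E K c = 0
      exact Derivation.map_algebraMap _ (⟨c, hc⟩ : E)
    · rintro _ ⟨y, rfl⟩
      show KaehlerDifferential.D E K (y ^ p) = 0
      rw [Derivation.leibniz_pow, ← Nat.cast_smul_eq_nsmul K, CharP.cast_eq_zero K p, zero_smul]
  exact hle hb

/-- an element with vanishing differential lies in `k₀(K^p)` -/
theorem mem_adjoin_of_D_eq_zero [CharP K p] {b : K} (hD : KaehlerDifferential.D k₀ K b = 0) :
    b ∈ IntermediateField.adjoin k₀ (Set.range fun y : K => y ^ p) := by
  by_contra hb
  have hind : EGA41.IsPIndependent p k₀ (fun _ : PUnit.{u+1} => b) := by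
    refine (Groth.Agent.S4521.result p _).mpr fun a => ?_
    have h0 : {b' : PUnit.{u+1} | b' ≠ a} = ∅ := by
      ext b'
      simp [Subsingleton.elim b' a]
    rw [h0, Set.image_empty, Set.union_empty]
    exact hb
  have hli := linearIndependent_D_of_isPIndependent p _ hind
  exact hli.ne_zero PUnit.unit hD

end kerD

end Groth.Agent.H44.PBasis
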