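import Mathlib
import Groth.Agent.H44.PSFamily
import Groth.Agent.H44.Cartier
import Groth.Agent.S4546
import Groth.Agent.S4548
import Groth.Agent.S0581

/-!
# Derivations detecting non-`p`-th powers (Nagata; Stacks 07PH)

* `exists_derivation_field`: field-level statement, from EGA 0_IV 21.8.5 (`S4546`) and Cartier.
* `exists_derivation_of_finiteType_mvPowerSeries`: domains of finite type over `k[[T]]`.
* `exists_derivation_of_complete`: domains of finite type over a complete Noetherian local ring.
-/

set_option autoImplicit false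
set_option linter.style.haveILetI false
set_option linter.unusedSectionVars false
set_option linter.unusedVariables false

universe u

namespace Groth.Agent.H44.DerivNP

open Groth.Agent.H44.PBasis Groth.Agent.H44.PSFamily

set_option maxHeartbeats 1000000 in
/-- field-level statement -/
theorem exists_derivation_field (p : ℕ) [Fact p.Prime] {K L : Type u} [Field K] [Field L]
    [Algebra K L] [CharP K p] [CharP L p] [Algebra.EssFiniteType K L]
    {ι : Type u} [Nonempty ι] (F : ι → Subfield K)
    (hdir : ∀ a b : ι, ∃ c, F c ≤ F a ⊓ F b)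
    (hinter : (⋂ i, (F i : Set K)) = Set.range fun x : K => x ^ p)
    (f' : L) (hf : ∀ y : L, y ^ p ≠ f') :
    ∃ (i : ι) (D : Derivation ℤ L L), D f' ≠ 0 ∧ ∀ x ∈ F i, D (algebraMap K L x) = 0 := by
  classical
  have hk₀F : ∀ i (x : kp p K), algebraMap (kp p K) K x ∈ F i := by
    intro i x
    have hx : (x : K) ∈ Set.range fun y : K => y ^ p := (mem_kp p).mp x.2
    rw [← hinter] at hx
    exact Set.mem_iInter.mp hx i
  haveI : IsScalarTower (kp p K) K L := inferInstance
  letI : Preorder ι := Preorder.lift (fun i => OrderDual.toDual (F i))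
  haveI : IsDirected ι (· ≤ ·) := ⟨fun a b => by
    obtain ⟨c, hc⟩ := hdir a b
    exact ⟨c, hc.trans inf_le_left, hc.trans inf_le_right⟩⟩
  let k : ι → IntermediateField (kp p K) K :=
    fun i => Subfield.toIntermediateField (F i) (hk₀F i)
  have hk : Antitone k := fun a b hab x hx => hab hx
  have hbotK : IntermediateField.adjoin (kp p K) (Set.range fun y : K => y ^ p) = ⊥ :=
    adjoin_pow_eq_bot p
  have h : (⨅ i, k i ⊔ IntermediateField.adjoin (kp p K) (Set.range fun y : K => y ^ p)) =
      IntermediateField.adjoin (kp p K) (Set.range fun y : K => y ^ p) := by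
    rw [hbotK, eq_bot_iff]
    intro x hx
    have hx' : ∀ i, x ∈ k i ⊔ (⊥ : IntermediateField (kp p K) K) := by
      have h1 := hx
      rw [← SetLike.mem_coe, IntermediateField.coe_iInf, Set.mem_iInter] at h1
      exact h1
    have hx'' : x ∈ ⋂ i, (F i : Set K) := by
      rw [Set.mem_iInter]
      intro i
      have h1 := hx' i
      rw [sup_bot_eq] at h1
      exact h1
    rw [hinter] at hx''
    obtain ⟨y, rfl⟩ := hx''
    exact IntermediateField.mem_bot.mpr ⟨⟨y ^ p, pow_mem_kp p y⟩, rfl⟩
  haveI : Module.Finite L (Algebra.H1Cotangent K L) :=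
    (Groth.Agent.H44.Cartier.cartier K L).2.1
  haveI : Module.Finite L (EGA41.imperfection (kp p K) K L) :=
    (Groth.Agent.H44.Cartier.imperfection_finite_le (kp p K) K L).1
  have key := Groth.Agent.S4546.result p (L := L) k hk h
  -- `f'` is not in `k₀(L^p) = L^p`
  let PL : IntermediateField (kp p K) L :=
    Subfield.toIntermediateField (frobenius L p).fieldRange (by
      intro x
      obtain ⟨y, hy⟩ := (mem_kp p).mp x.2
      refine ⟨algebraMap K L y, ?_⟩
      rw [frobenius_def, ← map_pow, hy]
      rfl)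
  have hPL : IntermediateField.adjoin (kp p K) (Set.range fun y : L => y ^ p) ≤ PL := by
    rw [IntermediateField.adjoin_le_iff]
    rintro _ ⟨y, rfl⟩
    exact ⟨y, rfl⟩
  have hf1 : f' ∉ IntermediateField.adjoin (kp p K) (Set.range fun y : L => y ^ p) := by
    intro hmem
    obtain ⟨y, hy⟩ := hPL hmem
    exact hf y hy
  rw [← key] at hf1
  have hex : ∃ i, f' ∉ (k i).map (IsScalarTower.toAlgHom (kp p K) K L) ⊔
      IntermediateField.adjoin (kp p K) (Set.range fun y : L => y ^ p) := by
    by_contra hcon
    push_neg at hcon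
    apply hf1
    rw [← SetLike.mem_coe, IntermediateField.coe_iInf, Set.mem_iInter]
    exact hcon
  obtain ⟨i, hi⟩ := hex
  set M : IntermediateField (kp p K) L := (k i).map (IsScalarTower.toAlgHom (kp p K) K L) ⊔
      IntermediateField.adjoin (kp p K) (Set.range fun y : L => y ^ p) with hM
  have hD : KaehlerDifferential.D M L f' ≠ 0 := by
    intro h0
    have h1 := mem_adjoin_of_D_eq_zero p (k₀ := M) (K := L) h0
    have h2 : IntermediateField.adjoin M (Set.range fun y : L => y ^ p) = ⊥ := by
      rw [eq_bot_iff, IntermediateField.adjoin_le_iff]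
      rintro _ ⟨y, rfl⟩
      have hyM : y ^ p ∈ M :=
        (le_sup_right : IntermediateField.adjoin (kp p K) (Set.range fun y : L => y ^ p) ≤ M)
          (IntermediateField.subset_adjoin _ _ ⟨y, rfl⟩)
      exact IntermediateField.mem_bot.mpr ⟨⟨y ^ p, hyM⟩, rfl⟩
    rw [h2, IntermediateField.mem_bot] at h1
    obtain ⟨c, hc⟩ := h1
    apply hi
    rw [← hc]
    exact c.2
  haveI hfree : Module.Free L (Ω[L⁄M]) := Module.Free.of_divisionRing L _
  haveI hproj : Module.Projective L (Ω[L⁄M]) := Module.Projective.of_free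
  obtain ⟨φ, hφ⟩ : ∃ φ : Module.Dual L (Ω[L⁄M]), φ (KaehlerDifferential.D M L f') ≠ 0 := by
    by_contra hcon
    push_neg at hcon
    exact hD ((Module.forall_dual_apply_eq_zero_iff L _).mp hcon)
  refine ⟨i, (φ.compDer (KaehlerDifferential.D M L)).restrictScalars ℤ, hφ, ?_⟩
  intro x hx
  have hxM : algebraMap K L x ∈ M := by
    apply (le_sup_left : (k i).map (IsScalarTower.toAlgHom (kp p K) K L) ≤ M)
    exact ⟨x, hx, rfl⟩
  have hx2 : algebraMap K L x = algebraMap M L ⟨algebraMap K L x, hxM⟩ := rfl
  show φ (KaehlerDifferential.D M L (algebraMap K L x)) = 0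
  rw [hx2, Derivation.map_algebraMap, map_zero]

set_option maxHeartbeats 1000000 in
/-- domains of finite type over `k[[T]]` -/
theorem exists_derivation_of_finiteType_mvPowerSeries (p : ℕ) [Fact p.Prime] (k : Type u)
    [Field k] [CharP k p] (n : ℕ) (B : Type u) [CommRing B] [IsDomain B]
    [Algebra (MvPowerSeries (Fin n) k) B] [Algebra.FiniteType (MvPowerSeries (Fin n) k) B]
    {L : Type u} [Field L] [Algebra B L] [IsFractionRing B L]
    [Algebra (MvPowerSeries (Fin n) k) L] [IsScalarTower (MvPowerSeries (Fin n) k) B L]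
    (hinj : Function.Injective (algebraMap (MvPowerSeries (Fin n) k) B)) (f : B)
    (hf : ∀ x : L, x ^ p ≠ algebraMap B L f) :
    ∃ D : Derivation ℤ B B, D f ≠ 0 := by
  classical
  haveI : CharP (MvPowerSeries (Fin n) k) p :=
    charP_of_injective_algebraMap (algebraMap k (MvPowerSeries (Fin n) k)).injective p
  haveI : CharP (FractionRing (MvPowerSeries (Fin n) k)) p :=
    charP_of_injective_algebraMap (IsFractionRing.injective (MvPowerSeries (Fin n) k)
      (FractionRing (MvPowerSeries (Fin n) k))) p
  haveI : CharP B p := charP_of_injective_algebraMap hinj p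
  haveI : CharP L p :=
    charP_of_injective_algebraMap (IsFractionRing.injective B L) p
  haveI : FaithfulSMul (MvPowerSeries (Fin n) k) L :=
    (faithfulSMul_iff_algebraMap_injective _ _).mpr (by
      rw [IsScalarTower.algebraMap_eq (MvPowerSeries (Fin n) k) B L,
        RingHom.coe_comp]
      exact (IsFractionRing.injective B L).comp hinj)
  letI algKL : Algebra (FractionRing (MvPowerSeries (Fin n) k)) L :=
    FractionRing.liftAlgebra (MvPowerSeries (Fin n) k) _
  haveI : IsScalarTower (MvPowerSeries (Fin n) k) (FractionRing (MvPowerSeries (Fin n) k))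
      L :=
    FractionRing.isScalarTower_liftAlgebra (MvPowerSeries (Fin n) k) _
  haveI : Algebra.EssFiniteType B L :=
    Algebra.EssFiniteType.of_isLocalization L (nonZeroDivisors B)
  haveI : Algebra.EssFiniteType (MvPowerSeries (Fin n) k) L :=
    Algebra.EssFiniteType.comp (MvPowerSeries (Fin n) k) B L
  haveI : Algebra.EssFiniteType (FractionRing (MvPowerSeries (Fin n) k)) L :=
    Algebra.EssFiniteType.of_comp (MvPowerSeries (Fin n) k)
      (FractionRing (MvPowerSeries (Fin n) k)) L
  obtain ⟨ι, hne, S, hdir, hS, hinter⟩ := Groth.Agent.S4548.result p k n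
  haveI := hne
  let F : ι → Subfield (FractionRing (MvPowerSeries (Fin n) k)) := fun i =>
    Subfield.closure (algebraMap (MvPowerSeries (Fin n) k)
      (FractionRing (MvPowerSeries (Fin n) k)) '' (S i : Set (MvPowerSeries (Fin n) k)))
  have hdirF : ∀ a b, ∃ c, F c ≤ F a ⊓ F b := by
    intro a b
    obtain ⟨c, hc⟩ := hdir a b
    refine ⟨c, le_inf ?_ ?_⟩
    · exact Subfield.closure_mono (Set.image_mono (fun x hx => (Subring.mem_inf.mp (hc hx)).1))
    · exact Subfield.closure_mono (Set.image_mono (fun x hx => (Subring.mem_inf.mp (hc hx)).2))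
  have hinterF : (⋂ i, (F i : Set (FractionRing (MvPowerSeries (Fin n) k)))) =
      Set.range fun x : FractionRing (MvPowerSeries (Fin n) k) => x ^ p := hinter
  obtain ⟨i, D', hD'f, hD'F⟩ := exists_derivation_field p F hdirF hinterF
    (algebraMap B L f) hf
  have hD'S : ∀ s ∈ S i, D' (algebraMap (MvPowerSeries (Fin n) k) L s) = 0 := by
    intro s hs
    rw [IsScalarTower.algebraMap_apply (MvPowerSeries (Fin n) k)
      (FractionRing (MvPowerSeries (Fin n) k)) L]
    exact hD'F _ (Subfield.subset_closure ⟨s, hs, rfl⟩)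
  obtain ⟨hSnoeth, hSfree, hSfin⟩ := hS i
  letI algSB : Algebra (S i) B :=
    ((algebraMap (MvPowerSeries (Fin n) k) B).comp (S i).subtype).toAlgebra
  haveI : IsScalarTower (S i) (MvPowerSeries (Fin n) k) B :=
    IsScalarTower.of_algebraMap_eq (fun _ => rfl)
  haveI := hSfin
  haveI hft1 : Algebra.FiniteType (S i) (MvPowerSeries (Fin n) k) := inferInstance
  haveI hft2 : Algebra.FiniteType (S i) B := Algebra.FiniteType.trans hft1 inferInstance
  obtain ⟨t, ht⟩ := (Algebra.FiniteType.out : (⊤ : Subalgebra (S i) B).FG)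
  obtain ⟨g, hg⟩ := IsLocalization.exist_integer_multiples_of_finset (nonZeroDivisors B)
    (t.image fun b => D' (algebraMap B L b))
  have hinjL := IsFractionRing.injective B L
  have hgne : algebraMap B L (g : B) ≠ 0 := by
    intro h0
    exact nonZeroDivisors.ne_zero g.2 (hinjL (by rw [h0, map_zero]))
  have hmem : ∀ b : B, ∃ c : B, algebraMap B L c =
      algebraMap B L g * D' (algebraMap B L b) := by
    intro b
    have hb : b ∈ Algebra.adjoin (S i) (t : Set B) := by rw [ht]; exact Algebra.mem_top
    induction hb using Algebra.adjoin_induction with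
    | mem x hx =>
      obtain ⟨c, hc⟩ := hg _ (Finset.mem_image_of_mem _ hx)
      exact ⟨c, by rw [hc, Algebra.smul_def]⟩
    | algebraMap s =>
      refine ⟨0, ?_⟩
      have h1 : algebraMap B L (algebraMap (S i) B s) =
          algebraMap (MvPowerSeries (Fin n) k) L
            (s : MvPowerSeries (Fin n) k) := by
        rw [IsScalarTower.algebraMap_apply (MvPowerSeries (Fin n) k) B L]
        rfl
      rw [h1, hD'S _ s.2, mul_zero, map_zero]
    | add x y _ _ hx hy =>
      obtain ⟨c, hc⟩ := hx
      obtain ⟨c', hc'⟩ := hy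
      exact ⟨c + c', by rw [map_add, map_add, map_add, mul_add, hc, hc']⟩
    | mul x y _ _ hx hy =>
      obtain ⟨c, hc⟩ := hx
      obtain ⟨c', hc'⟩ := hy
      refine ⟨x * c' + y * c, ?_⟩
      rw [map_mul (algebraMap B L) x y, Derivation.leibniz, smul_eq_mul,
        smul_eq_mul, map_add, map_mul, map_mul, hc, hc']
      ring
  choose Dfun hDfun using hmem
  let Dadd : B →+ B :=
    { toFun := Dfun
      map_zero' := hinjL (by rw [hDfun, map_zero, map_zero, mul_zero])
      map_add' := fun x y => hinjL (by
        rw [hDfun, map_add, map_add, map_add, mul_add, hDfun, hDfun]) }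
  let D'' : Derivation ℤ B B := Derivation.mk' Dadd.toIntLinearMap (fun a b => hinjL (by
    show algebraMap B L (Dfun (a * b)) =
      algebraMap B L (a • Dfun b + b • Dfun a)
    rw [hDfun, map_mul, Derivation.leibniz, smul_eq_mul, smul_eq_mul, smul_eq_mul, smul_eq_mul,
      map_add, map_mul, map_mul, hDfun, hDfun]
    ring))
  refine ⟨D'', ?_⟩
  intro h0
  have h1 : algebraMap B L (Dfun f) = 0 := by
    rw [show Dfun f = D'' f from rfl, h0, map_zero]
  rw [hDfun] at h1
  rcases mul_eq_zero.mp h1 with h2 | h2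
  · exact hgne h2
  · exact hD'f h2

section complete

open IsLocalRing

/-- A quotient of a complete Noetherian local ring is complete (cf. helper61, helper34). -/
theorem isAdicComplete_quotient {R : Type*} [CommRing R] [IsLocalRing R] [IsNoetherianRing R]
    [IsAdicComplete (maximalIdeal R) R] (J : Ideal R) [IsLocalRing (R ⧸ J)] :
    IsAdicComplete (maximalIdeal (R ⧸ J)) (R ⧸ J) := by
  have h1 : (maximalIdeal R).map (algebraMap R (R ⧸ J)) = maximalIdeal (R ⧸ J) :=
    IsLocalRing.map_maximalIdeal_of_surjective (Ideal.Quotient.mk J) Ideal.Quotient.mk_surjective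
  rw [← h1, IsAdicComplete.map_algebraMap_iff]
  haveI : IsPrecomplete (maximalIdeal R) (R ⧸ J) := by
    rw [← AdicCompletion.of_surjective_iff]
    intro y
    obtain ⟨x, hx⟩ := AdicCompletion.map_surjective (maximalIdeal R)
      (f := Submodule.mkQ J) (Submodule.mkQ_surjective J) y
    obtain ⟨r, hr⟩ := AdicCompletion.of_surjective (maximalIdeal R) R x
    refine ⟨Submodule.mkQ J r, ?_⟩
    rw [← AdicCompletion.map_of, hr, hx]
  exact {}

/-- a Cohen ring or field `Λ` in which the prime `p` vanishes is a field -/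
theorem isField_of_natCast_eq_zero (p : ℕ) [Fact p.Prime] (Λ : Type u) [CommRing Λ]
    (hΛ : IsField Λ ∨ CAlg.IsCohenRing Λ) (hp0 : (p : Λ) = 0) : IsField Λ := by
  rcases hΛ with h | h
  · exact h
  · exfalso
    obtain ⟨hdom, hdvr, -, q, hq, hmax⟩ := h
    by_cases hpq : p = q
    · subst hpq
      rw [hp0] at hmax
      apply IsDiscreteValuationRing.not_a_field Λ
      rw [hmax]
      simp
    · have hcop : Nat.Coprime p q := (Nat.coprime_primes (Fact.out : p.Prime) hq).mpr hpq
      have hqm : (q : Λ) ∈ maximalIdeal Λ := by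
        rw [hmax]; exact Ideal.mem_span_singleton_self _
      have h1 : (1 : Λ) ∈ maximalIdeal Λ := by
        have hbez := Nat.Coprime.isCoprime hcop
        obtain ⟨a, b, hab⟩ := hbez
        have h2 : ((a * (p : ℤ) + b * (q : ℤ) : ℤ) : Λ) = 1 := by rw [hab]; simp
        rw [← h2]
        push_cast
        rw [hp0, mul_zero, zero_add]
        exact Ideal.mul_mem_left _ _ hqm
      exact (Ideal.ne_top_iff_one _).mp (maximalIdeal.isMaximal Λ).ne_top h1

set_option maxHeartbeats 1000000 in
/-- **Stacks 07PH**: domains of finite type over a complete Noetherian local ring. -/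
theorem exists_derivation_of_complete {R B : Type u} [CommRing R] [IsLocalRing R]
    [IsNoetherianRing R] [IsAdicComplete (IsLocalRing.maximalIdeal R) R] [CommRing B] [IsDomain B]
    [Algebra R B] [Algebra.FiniteType R B] (p : ℕ) [Fact p.Prime] [CharP B p] (f : B)
    (hf : ∀ x : FractionRing B, x ^ p ≠ algebraMap B (FractionRing B) f) :
    ∃ D : Derivation ℤ B B, D f ≠ 0 := by
  classical
  haveI hprime : (RingHom.ker (algebraMap R B)).IsPrime := RingHom.ker_isPrime _
  haveI : Nontrivial (R ⧸ RingHom.ker (algebraMap R B)) :=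
    Ideal.Quotient.nontrivial_iff.mpr hprime.ne_top
  haveI : IsLocalRing (R ⧸ RingHom.ker (algebraMap R B)) :=
    IsLocalRing.of_surjective' (Ideal.Quotient.mk _) Ideal.Quotient.mk_surjective
  haveI : IsDomain (R ⧸ RingHom.ker (algebraMap R B)) := Ideal.Quotient.isDomain _
  haveI : IsAdicComplete (maximalIdeal (R ⧸ RingHom.ker (algebraMap R B)))
      (R ⧸ RingHom.ker (algebraMap R B)) := isAdicComplete_quotient _
  letI algR'B : Algebra (R ⧸ RingHom.ker (algebraMap R B)) B :=
    (RingHom.kerLift (algebraMap R B)).toAlgebra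
  haveI : IsScalarTower R (R ⧸ RingHom.ker (algebraMap R B)) B :=
    IsScalarTower.of_algebraMap_eq (fun _ => rfl)
  have hinj' : Function.Injective (algebraMap (R ⧸ RingHom.ker (algebraMap R B)) B) :=
    RingHom.kerLift_injective _
  haveI : Algebra.FiniteType (R ⧸ RingHom.ker (algebraMap R B)) B :=
    Algebra.FiniteType.of_restrictScalars_finiteType R _ _
  obtain ⟨Λ, cΛ, n, φ, hΛ, hφinj, hφfin, -⟩ :=
    Groth.Agent.S0581.result (R ⧸ RingHom.ker (algebraMap R B))
  letI := cΛ
  have hp0 : (p : Λ) = 0 := by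
    have h1 : ((p : R ⧸ RingHom.ker (algebraMap R B)) : R ⧸ RingHom.ker (algebraMap R B)) = 0 := by
      apply hinj'
      rw [map_natCast, map_zero]
      exact CharP.cast_eq_zero B p
    have h2 : ((p : MvPowerSeries (Fin n) Λ)) = 0 := by
      apply hφinj
      rw [map_natCast, map_zero, h1]
    have h3 := congrArg (MvPowerSeries.constantCoeff (σ := Fin n) (R := Λ)) h2
    rw [map_natCast, map_zero] at h3
    exact h3
  have hfield := isField_of_natCast_eq_zero p Λ hΛ hp0
  letI fΛ : Field Λ := hfield.toField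
  haveI : CharP Λ p := by
    obtain ⟨c, hc⟩ := CharP.exists Λ
    haveI := hc
    have hdvd : c ∣ p := (CharP.cast_eq_zero_iff Λ c p).mp hp0
    rcases (Nat.dvd_prime (Fact.out : p.Prime)).mp hdvd with h1 | h1
    · exact absurd h1 (CharP.char_ne_one Λ c)
    · rw [← h1]; exact hc
  letI algA₀R' : Algebra (MvPowerSeries (Fin n) Λ) (R ⧸ RingHom.ker (algebraMap R B)) :=
    φ.toAlgebra
  haveI : Module.Finite (MvPowerSeries (Fin n) Λ) (R ⧸ RingHom.ker (algebraMap R B)) := hφfin
  letI algA₀B : Algebra (MvPowerSeries (Fin n) Λ) B :=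
    ((algebraMap (R ⧸ RingHom.ker (algebraMap R B)) B).comp φ).toAlgebra
  haveI : IsScalarTower (MvPowerSeries (Fin n) Λ) (R ⧸ RingHom.ker (algebraMap R B)) B :=
    IsScalarTower.of_algebraMap_eq (fun _ => rfl)
  haveI : Algebra.FiniteType (MvPowerSeries (Fin n) Λ) B :=
    Algebra.FiniteType.trans (inferInstance : Algebra.FiniteType (MvPowerSeries (Fin n) Λ)
      (R ⧸ RingHom.ker (algebraMap R B))) inferInstance
  have hinjA₀ : Function.Injective (algebraMap (MvPowerSeries (Fin n) Λ) B) :=
    hinj'.comp hφinj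
  exact exists_derivation_of_finiteType_mvPowerSeries p Λ n B (L := FractionRing B) hinjA₀ f hf

end complete

end Groth.Agent.H44.DerivNP
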