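import Mathlib
import Groth.Prelude.Def_CohB1

/-!
# (LIN) for helper18: a nonzero linear form is the kernel of a graded surjection
`k[X_0..X_{n+1}] → k[Y_0..Y_n]`
-/

set_option autoImplicit false
universe u

namespace Groth.Agent.H44.Hyp7LIN

open MvPolynomial

theorem exists_gradedHom_ker_span (k : Type u) [Field k] (n : ℕ)
    (ℓ : MvPolynomial (Fin (n + 1 + 1)) k) (hℓ : ℓ ∈ CohB1.polyGrading (n + 1) k 1) (h0 : ℓ ≠ 0) :
    ∃ ψ : CohB1.polyGrading (n + 1) k →+*ᵍ CohB1.polyGrading n k,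
      Function.Surjective ψ ∧ RingHom.ker ψ.toRingHom = Ideal.span {ℓ} := by
  classical
  -- write `ℓ = Σ c_j X_j`
  have hℓ' : ℓ ∈ Submodule.span k (Set.range (X : Fin (n + 1 + 1) → MvPolynomial _ k)) := by
    rw [← homogeneousSubmodule_one_eq_span_X]; exact hℓ
  obtain ⟨c, hc⟩ := (Submodule.mem_span_range_iff_exists_fun k).mp hℓ'
  -- a nonzero coefficient
  obtain ⟨i, hi⟩ : ∃ i, c i ≠ 0 := by
    by_contra hcon
    simp only [not_exists, not_not] at hcon
    apply h0
    rw [← hc]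
    simp [hcon]
  -- the linear form replacing `X_i`
  let L : MvPolynomial (Fin (n + 1)) k :=
    C (-(c i)⁻¹) * ∑ m : Fin (n + 1), C (c (i.succAbove m)) * X m
  let g : Fin (n + 1 + 1) → MvPolynomial (Fin (n + 1)) k :=
    Fin.insertNth (α := fun _ => MvPolynomial (Fin (n + 1)) k) i L (fun m => X m)
  have hgi : g i = L := Fin.insertNth_apply_same _ _ _
  have hgs : ∀ m, g (i.succAbove m) = X m := fun m => Fin.insertNth_apply_succAbove _ _ _ _
  have hLhom : L.IsHomogeneous 1 := by
    have : (∑ m : Fin (n + 1), C (c (i.succAbove m)) * X m :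
        MvPolynomial (Fin (n + 1)) k).IsHomogeneous 1 :=
      IsHomogeneous.sum _ _ _ (fun m _ => isHomogeneous_C_mul_X _ _)
    exact this.C_mul _
  have hghom : ∀ j, (g j).IsHomogeneous 1 := by
    intro j
    rcases Fin.eq_self_or_eq_succAbove i j with h | ⟨m, h⟩
    · rw [h, hgi]; exact hLhom
    · rw [h, hgs]; exact isHomogeneous_X _ _
  let ψ₀ : MvPolynomial (Fin (n + 1 + 1)) k →ₐ[k] MvPolynomial (Fin (n + 1)) k := aeval g
  let σ : MvPolynomial (Fin (n + 1)) k →ₐ[k] MvPolynomial (Fin (n + 1 + 1)) k :=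
    aeval (fun m => X (i.succAbove m))
  have hψσ : ∀ p, ψ₀ (σ p) = p := by
    intro p
    have : ψ₀.comp σ = AlgHom.id k _ := by
      apply MvPolynomial.algHom_ext
      intro m
      simp [ψ₀, σ, hgs]
    exact congrArg (fun f => f p) this
  -- `ℓ` expressed with `succAbove`
  have hℓsum : ℓ = C (c i) * X i + ∑ m : Fin (n + 1), C (c (i.succAbove m)) * X (i.succAbove m) := by
    rw [← hc, Fin.sum_univ_succAbove _ i]
    simp [MvPolynomial.smul_eq_C_mul]
  have hψℓ : ψ₀ ℓ = 0 := by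
    rw [hℓsum]
    simp only [ψ₀, map_add, map_mul, map_sum, aeval_X, hgi, hgs, MvPolynomial.aeval_C,
      MvPolynomial.algebraMap_eq]
    simp only [L]
    rw [← mul_assoc, ← C_mul, mul_neg, mul_inv_cancel₀ hi]
    simp
  have hσL : σ L = X i - C (c i)⁻¹ * ℓ := by
    rw [hℓsum]
    simp only [L, σ, map_mul, map_sum, aeval_X, MvPolynomial.aeval_C, MvPolynomial.algebraMap_eq]
    rw [mul_add, ← mul_assoc, ← C_mul, inv_mul_cancel₀ hi]
    simp only [map_neg, neg_mul, C_1, one_mul]
    ring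
  refine ⟨⟨ψ₀.toRingHom, ?_⟩, ?_, ?_⟩
  · intro d p hp
    have := (show p.IsHomogeneous d from hp).aeval g hghom
    rw [one_mul] at this
    exact this
  · intro p
    exact ⟨σ p, hψσ p⟩
  · apply le_antisymm
    · intro p hp
      have hp' : ψ₀ p = 0 := hp
      -- `q ∘ σ ∘ ψ₀ = q`
      let q := Ideal.Quotient.mkₐ k (Ideal.span {ℓ})
      have hq : (q.comp σ).comp ψ₀ = q := by
        apply MvPolynomial.algHom_ext
        intro j
        rcases Fin.eq_self_or_eq_succAbove i j with h | ⟨m, h⟩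
        · rw [h]
          simp only [AlgHom.comp_apply, ψ₀, aeval_X, hgi, hσL]
          rw [map_sub]
          have : q (C (c i)⁻¹ * ℓ) = 0 := by
            rw [Ideal.Quotient.mkₐ_eq_mk, Ideal.Quotient.eq_zero_iff_mem]
            exact Ideal.mul_mem_left _ _ (Ideal.mem_span_singleton_self ℓ)
          rw [this, sub_zero]
        · rw [h]
          simp [ψ₀, σ, hgs]
      have : q p = 0 := by
        rw [← hq, AlgHom.comp_apply, hp', map_zero]
      rwa [Ideal.Quotient.mkₐ_eq_mk, Ideal.Quotient.eq_zero_iff_mem] at this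
    · rw [Ideal.span_le]
      intro p hp
      rw [Set.mem_singleton_iff] at hp
      rw [hp]
      exact hψℓ

end Groth.Agent.H44.Hyp7LIN
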