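import Mathlib

/-!
# (A1) for helper88 (S4406): for a graded base change `A = R ⊗_{R'} B`, `𝒜 m` is the `R`-span of
`φ (ℬ m)`
-/

set_option autoImplicit false
universe u
open CategoryTheory CategoryTheory.Limits AlgebraicGeometry Opposite TopologicalSpace TensorProduct
open scoped HomogeneousIdeal

namespace Groth.Agent.H44.BCTw_A1

section BC

variable {R R' A B : Type u} [CommRing R'] [CommRing R] [Algebra R' R]
    [CommRing B] [Algebra R' B] (ℬ : ℕ → Submodule R' B) [GradedAlgebra ℬ]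
    [CommRing A] [Algebra R A] [Algebra R' A] [IsScalarTower R' R A] (𝒜 : ℕ → Submodule R A)
    [GradedAlgebra 𝒜]
    [Algebra B A] [IsScalarTower R' B A] [Algebra.IsPushout R' R B A]
    (φ : ℬ →+*ᵍ 𝒜) (hφA : ∀ b : B, φ b = algebraMap B A b)
    (hφ : HomogeneousIdeal.irrelevant 𝒜 ≤ (HomogeneousIdeal.irrelevant ℬ).map φ) (n : ℤ)

include hφA in
/-- (A1) `𝒜 m` is the `R`-span of `φ (ℬ m)`. -/
theorem exists_sum_smul_eq (m : ℕ) (a : A) (ha : a ∈ 𝒜 m) :
    ∃ (l : ℕ) (r : Fin l → R) (b : Fin l → B), (∀ j, b j ∈ ℬ m) ∧ a = ∑ j, r j • φ (b j) := by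
  classical
  -- write `a` as a sum of `r • φ b'`
  obtain ⟨S, hS⟩ := TensorProduct.exists_finset ((Algebra.IsPushout.equiv R' R B A).symm a)
  have ha' : a = ∑ i ∈ S, i.1 • φ i.2 := by
    have := congrArg (Algebra.IsPushout.equiv R' R B A) hS
    rw [AlgEquiv.apply_symm_apply, map_sum] at this
    rw [this]
    refine Finset.sum_congr rfl fun i _ => ?_
    rw [Algebra.IsPushout.equiv_tmul, hφA, Algebra.smul_def]
  -- take degree `m` components
  have hproj : a = GradedAlgebra.proj 𝒜 m a := by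
    rw [GradedAlgebra.proj_apply, DirectSum.decompose_of_mem_same 𝒜 ha]
  have h2 : a = ∑ i ∈ S, i.1 • φ ((DirectSum.decompose ℬ i.2 m : ℬ m) : B) := by
    rw [hproj, ha', map_sum]
    refine Finset.sum_congr rfl fun i _ => ?_
    rw [map_smul, GradedAlgebra.proj_apply, GradedRingHom.map_directSumDecompose]
  -- reindex by `Fin`
  let e := S.equivFin
  refine ⟨S.card, fun j => (e.symm j).1.1,
    fun j => ((DirectSum.decompose ℬ (e.symm j).1.2 m : ℬ m) : B), fun j => Subtype.prop _, ?_⟩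
  rw [h2, ← Finset.sum_coe_sort S]
  exact (Equiv.sum_comp e.symm
    (fun i : S => i.1.1 • φ ((DirectSum.decompose ℬ i.1.2 m : ℬ m) : B))).symm

end BC

end Groth.Agent.H44.BCTw_A1
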