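import Mathlib
import Groth.Prelude.Def_Found
import Groth.Agent.H71.RegularLoc
import Groth.Agent.H71.RegularDescent
import Groth.Agent.S5807
import Groth.Agent.Lead.GeomReg
import Groth.Agent.H44.PRad
import Groth.Agent.S4534
import Groth.Agent.S4537

/-!
# Geometric regularity: local-global principle, formal smoothness, change of base field
-/

set_option autoImplicit false

universe u

open TensorProduct IsLocalRing

namespace Groth.Agent.H44.GeomRegLoc

section loc

variable (k : Type u) [Field k] (L : Type u) [Field L] [Algebra k L]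
  (A : Type u) [CommRing A] [Algebra k A] (M : Submonoid A)
  (B : Type u) [CommRing B] [Algebra A B] [Algebra k B] [IsScalarTower k A B]

/-- the algebra structure `L ⊗ A → L ⊗ B` -/
@[reducible] noncomputable def tensorAlg : Algebra (L ⊗[k] A) (L ⊗[k] B) :=
  (Algebra.TensorProduct.map (AlgHom.id L L) (IsScalarTower.toAlgHom k A B)).toRingHom.toAlgebra

theorem isLocalization_tensor [IsLocalization M B] :
    @IsLocalization (L ⊗[k] A) _
      (M.map (Algebra.TensorProduct.includeRight (R := k) (A := L))) (L ⊗[k] B) _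
      (tensorAlg k L A B) := by
  letI := tensorAlg k L A B
  haveI : IsScalarTower L (L ⊗[k] A) (L ⊗[k] B) :=
    IsScalarTower.of_algebraMap_eq' (by
      ext x
      show algebraMap L (L ⊗[k] B) x = Algebra.TensorProduct.map (AlgHom.id L L)
        (IsScalarTower.toAlgHom k A B) (algebraMap L (L ⊗[k] A) x)
      rw [Algebra.TensorProduct.algebraMap_apply, Algebra.TensorProduct.algebraMap_apply,
        Algebra.TensorProduct.map_tmul, map_one]
      rfl)
  exact IsLocalization.tensorProduct_tensorProduct_right k L M B (by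
    ext a
    show Algebra.TensorProduct.map (AlgHom.id L L) (IsScalarTower.toAlgHom k A B)
      ((1 : L) ⊗ₜ[k] a) = (1 : L) ⊗ₜ[k] algebraMap A B a
    rw [Algebra.TensorProduct.map_tmul, map_one]
    rfl)

theorem isGeometricallyRegular_of_isLocalization [IsLocalization M B]
    (h : CAlg.IsGeometricallyRegular k A) : CAlg.IsGeometricallyRegular k B := by
  intro L _ _ hfin
  letI := tensorAlg k L A B
  haveI := isLocalization_tensor k L A M B
  haveI : IsRegularRing (L ⊗[k] A) := h L hfin
  haveI := Groth.Agent.S5807.isRegularRing_localization (L ⊗[k] A)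
    (M.map (Algebra.TensorProduct.includeRight (R := k) (A := L)))
  exact IsRegularRing.of_ringEquiv
    (IsLocalization.algEquiv (M.map (Algebra.TensorProduct.includeRight (R := k) (A := L)))
      (Localization (M.map (Algebra.TensorProduct.includeRight (R := k) (A := L))))
      (L ⊗[k] B)).toRingEquiv

end loc

section glob

variable (k : Type u) [Field k] (A : Type u) [CommRing A] [Algebra k A] [IsNoetherianRing A]

set_option maxHeartbeats 1000000 in
theorem isGeometricallyRegular_of_forall_maximal
    (h : ∀ (m : Ideal A) [m.IsMaximal], CAlg.IsGeometricallyRegular k (Localization.AtPrime m)) :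
    CAlg.IsGeometricallyRegular k A := by
  intro L _ _ hfin
  haveI := hfin
  haveI hN' : IsNoetherianRing (A ⊗[k] L) := IsNoetherianRing.of_finite A (A ⊗[k] L)
  haveI hN : IsNoetherianRing (L ⊗[k] A) :=
    isNoetherianRing_of_ringEquiv (A ⊗[k] L) (Algebra.TensorProduct.comm k A L).toRingEquiv
  apply Groth.Agent.H71.RL.isRegularRing_of_maximal
  intro 𝔫 h𝔫
  let ι : A →+* L ⊗[k] A := (Algebra.TensorProduct.includeRight : A →ₐ[k] L ⊗[k] A).toRingHom
  have hι : ∀ a, ι a = (1 : L) ⊗ₜ[k] a := fun a => rfl
  have hmax : (𝔫.comap ι).IsMaximal := by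
    let e : L ⊗[k] A ≃ₐ[k] A ⊗[k] L := Algebra.TensorProduct.comm k L A
    haveI : (𝔫.comap (e.symm : A ⊗[k] L →+* L ⊗[k] A)).IsMaximal :=
      Ideal.comap_isMaximal_of_surjective _ e.symm.surjective
    haveI : Algebra.IsIntegral A (A ⊗[k] L) := Algebra.IsIntegral.of_finite A _
    have hmax' : ((𝔫.comap (e.symm : A ⊗[k] L →+* L ⊗[k] A)).comap
        (algebraMap A (A ⊗[k] L))).IsMaximal :=
      Ideal.isMaximal_comap_of_isIntegral_of_isMaximal _
    have heq : 𝔫.comap ι = (𝔫.comap (e.symm : A ⊗[k] L →+* L ⊗[k] A)).comap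
        (algebraMap A (A ⊗[k] L)) := by
      ext a
      rw [Ideal.mem_comap, Ideal.mem_comap, Ideal.mem_comap, hι,
        Algebra.TensorProduct.algebraMap_apply]
      have h2 : (e.symm : A ⊗[k] L →+* L ⊗[k] A) ((algebraMap A A a) ⊗ₜ[k] (1 : L)) =
          (1 : L) ⊗ₜ[k] a := Algebra.TensorProduct.comm_symm_tmul k (1 : L) a
      rw [h2]
    rw [heq]
    exact hmax'
  haveI := hmax
  letI := tensorAlg k L A (Localization.AtPrime (𝔫.comap ι))
  haveI hloc := isLocalization_tensor k L A (𝔫.comap ι).primeCompl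
    (Localization.AtPrime (𝔫.comap ι))
  haveI : IsRegularRing (L ⊗[k] Localization.AtPrime (𝔫.comap ι)) := h (𝔫.comap ι) L hfin
  haveI : Module.Flat (L ⊗[k] A) (L ⊗[k] Localization.AtPrime (𝔫.comap ι)) :=
    IsLocalization.flat _ ((𝔫.comap ι).primeCompl.map
      (Algebra.TensorProduct.includeRight (R := k) (A := L)))
  have hdisj : Disjoint (((𝔫.comap ι).primeCompl.map
      (Algebra.TensorProduct.includeRight (R := k) (A := L)) : Submonoid (L ⊗[k] A)) :
      Set (L ⊗[k] A)) (𝔫 : Set (L ⊗[k] A)) := by
    rw [Set.disjoint_left]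
    rintro x ⟨a, ha, rfl⟩ hx
    exact ha hx
  haveI hQ : (𝔫.map (algebraMap (L ⊗[k] A) (L ⊗[k] Localization.AtPrime (𝔫.comap ι)))).IsPrime :=
    IsLocalization.isPrime_of_isPrime_disjoint _ _ 𝔫 h𝔫.isPrime hdisj
  haveI : (𝔫.map (algebraMap (L ⊗[k] A)
      (L ⊗[k] Localization.AtPrime (𝔫.comap ι)))).LiesOver 𝔫 :=
    IsLocalization.liesOver_map_of_isPrime_disjoint _ _ hdisj
  exact Groth.Agent.H71.RD.regular_of_flat_liesOver (L ⊗[k] A)
    (L ⊗[k] Localization.AtPrime (𝔫.comap ι)) 𝔫
    (𝔫.map (algebraMap (L ⊗[k] A) (L ⊗[k] Localization.AtPrime (𝔫.comap ι))))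

end glob

section fs

theorem fs_iff_of_formallyEtale {k k' B : Type u} [Field k] [Field k'] [Algebra k k']
    [Algebra.FormallyEtale k k'] [CommRing B] [Algebra k' B] [Algebra k B] [IsScalarTower k k' B]
    (𝔫 : Ideal B) :
    CAlgX.IsAdicFormallySmooth k B 𝔫 ↔ CAlgX.IsAdicFormallySmooth k' B 𝔫 := by
  constructor
  · intro h C _ _ J hJ ψ hψ
    letI algkC : Algebra k C := Algebra.compHom C (algebraMap k k')
    haveI hST : IsScalarTower k k' C := IsScalarTower.of_algebraMap_eq (fun x => rfl)
    obtain ⟨χ, hχ⟩ := h C J hJ (ψ.restrictScalars k) hψ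
    have hχ' : ∀ b, Ideal.Quotient.mk J (χ b) = ψ b := fun b => AlgHom.congr_fun hχ b
    have hg : χ.comp (IsScalarTower.toAlgHom k k' B) = IsScalarTower.toAlgHom k k' C := by
      apply Algebra.FormallyUnramified.lift_unique J ⟨2, hJ⟩
      ext x
      show Ideal.Quotient.mk J (χ (algebraMap k' B x)) = Ideal.Quotient.mk J (algebraMap k' C x)
      rw [hχ', AlgHom.commutes]
      rfl
    refine ⟨{ χ with commutes' := fun x => AlgHom.congr_fun hg x }, ?_⟩
    ext b
    exact hχ' b
  · intro h
    have h1 : EGA41.IsFormallySmoothAdic k ⊥ k' ⊥ := by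
      intro C _ _ J hJ _ u _
      exact Algebra.FormallySmooth.exists_lift J hJ u
    have h2 := (Groth.Agent.S4537.result 𝔫).mp h
    have h3 := Groth.Agent.S4534.result (⊥ : Ideal k) (⊥ : Ideal k') 𝔫
      ⟨1, by simp⟩ ⟨1, by simp⟩ h1 h2
    exact (Groth.Agent.S4537.result 𝔫).mpr h3

theorem geomRegular_iff_fs_local {k R : Type u} [Field k] [CommRing R] [IsLocalRing R]
    [IsNoetherianRing R] [Algebra k R] :
    CAlg.IsGeometricallyRegular k R ↔ CAlgX.IsAdicFormallySmooth k R (maximalIdeal R) := by
  constructor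
  · intro h
    obtain ⟨p, hp⟩ := ExpChar.exists k
    haveI := hp
    exact (Groth.Agent.H44.PRad.main_iff p).mpr (fun k' _ _ hfin _ => h k' hfin)
  · exact Groth.Agent.Lead.GeomReg.isGeometricallyRegular_of_fs

end fs

section main

theorem main (k : Type u) [Field k] (k' : Type u)
    [Field k'] [Algebra k k'] [Algebra.IsSeparable k k'] (A : Type u) [CommRing A] [Algebra k' A]
    [Algebra k A] [IsScalarTower k k' A] [IsNoetherianRing A] :
    CAlg.IsGeometricallyRegular k A ↔ CAlg.IsGeometricallyRegular k' A := by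
  haveI : Algebra.FormallyEtale k k' := Algebra.FormallyEtale.of_isSeparable k k'
  have key : ∀ (m : Ideal A) [m.IsMaximal],
      CAlg.IsGeometricallyRegular k (Localization.AtPrime m) ↔
        CAlg.IsGeometricallyRegular k' (Localization.AtPrime m) := by
    intro m _
    haveI : IsNoetherianRing (Localization.AtPrime m) :=
      IsLocalization.isNoetherianRing m.primeCompl _ inferInstance
    rw [geomRegular_iff_fs_local, geomRegular_iff_fs_local]
    exact fs_iff_of_formallyEtale _
  constructor
  · intro h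
    apply isGeometricallyRegular_of_forall_maximal k' A
    intro m _
    exact (key m).mp (isGeometricallyRegular_of_isLocalization k A m.primeCompl _ h)
  · intro h
    apply isGeometricallyRegular_of_forall_maximal k A
    intro m _
    exact (key m).mpr (isGeometricallyRegular_of_isLocalization k' A m.primeCompl _ h)

end main

end Groth.Agent.H44.GeomRegLoc
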