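import Mathlib
import Groth.Prelude.Def_Found
import Groth.Agent.H14.AdicSmooth
import Groth.Agent.S2463
import Groth.Agent.S4577
import Groth.Agent.H44.GeomRegLoc

/-!
# Finite type algebras over a separable extension of the base field (EGA 0_IV 22.6.7)
-/

set_option autoImplicit false

universe u

open TensorProduct IsLocalRing

namespace Groth.Agent.H44.SepFT


theorem tfae_local {k₀ k C : Type u} [Field k₀] [Field k] [Algebra k₀ k]
    [Algebra.FormallySmooth k₀ k] [CommRing C] [Algebra k C] [Algebra k₀ C] [IsScalarTower k₀ k C]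
    [Algebra.FiniteType k C] (p : Ideal C) [p.IsPrime] :
    [Algebra.FormallySmooth k₀ (Localization.AtPrime p),
     CAlgX.IsAdicFormallySmooth k₀ (Localization.AtPrime p) (maximalIdeal (Localization.AtPrime p)),
     ∃ f : C, f ∉ p ∧ Algebra.FormallySmooth k₀ (Localization.Away f),
     CAlg.IsGeometricallyRegular k₀ (Localization.AtPrime p)].TFAE := by
  obtain ⟨n, f, hf⟩ := Algebra.FiniteType.iff_quotient_mvPolynomial''.mp
    (inferInstance : Algebra.FiniteType k C)
  letI : Algebra (MvPolynomial (Fin n) k) C := f.toRingHom.toAlgebra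
  haveI : IsScalarTower k (MvPolynomial (Fin n) k) C :=
    IsScalarTower.of_algebraMap_eq (fun x => (f.commutes x).symm)
  haveI : IsScalarTower k₀ (MvPolynomial (Fin n) k) C :=
    IsScalarTower.of_algebraMap_eq (fun x => by
      rw [IsScalarTower.algebraMap_apply k₀ k C,
        IsScalarTower.algebraMap_apply k₀ k (MvPolynomial (Fin n) k)]
      exact (f.commutes _).symm)
  haveI : Algebra.FormallySmooth k₀ (MvPolynomial (Fin n) k) :=
    Algebra.FormallySmooth.comp k₀ k _
  have hsurj : Function.Surjective (algebraMap (MvPolynomial (Fin n) k) C) := hf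
  haveI : Module.Finite (MvPolynomial (Fin n) k)
      (RingHom.ker (algebraMap (MvPolynomial (Fin n) k) C)).Cotangent :=
    Module.Finite.of_surjective _ (Ideal.toCotangent_surjective _)
  have tfae := Groth.Agent.S2463.result (A := k₀) hsurj p
  haveI : IsNoetherianRing C := Algebra.FiniteType.isNoetherianRing k C
  haveI : IsNoetherianRing (Localization.AtPrime p) :=
    IsLocalization.isNoetherianRing p.primeCompl _ inferInstance
  have h12 : Algebra.FormallySmooth k₀ (Localization.AtPrime p) ↔
      CAlgX.IsAdicFormallySmooth k₀ (Localization.AtPrime p)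
        (maximalIdeal (Localization.AtPrime p)) :=
    ⟨fun h => by
      haveI := h
      exact Groth.Agent.H14.isAdicFormallySmooth_of_formallySmooth _,
     fun h => Groth.Agent.H14.formallySmooth_localization_of_isAdicFormallySmooth hsurj p h⟩
  have h24 := Groth.Agent.H44.GeomRegLoc.geomRegular_iff_fs_local (k := k₀)
    (R := Localization.AtPrime p)
  tfae_have 1 ↔ 2 := h12
  tfae_have 1 ↔ 3 := tfae.out 0 2
  tfae_have 2 ↔ 4 := h24.symm
  tfae_finish

theorem tfae_global {k₀ k C : Type u} [Field k₀] [Field k] [Algebra k₀ k]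
    [Algebra.FormallySmooth k₀ k] [CommRing C] [Algebra k C] [Algebra k₀ C] [IsScalarTower k₀ k C]
    [Algebra.FiniteType k C] :
    [Algebra.FormallySmooth k₀ C,
     ∀ (p : Ideal C) [p.IsPrime], Algebra.FormallySmooth k₀ (Localization.AtPrime p),
     ∀ (m : Ideal C) [m.IsMaximal], Algebra.FormallySmooth k₀ (Localization.AtPrime m),
     CAlg.IsGeometricallyRegular k₀ C].TFAE := by
  obtain ⟨n, f, hf⟩ := Algebra.FiniteType.iff_quotient_mvPolynomial''.mp
    (inferInstance : Algebra.FiniteType k C)
  letI : Algebra (MvPolynomial (Fin n) k) C := f.toRingHom.toAlgebra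
  haveI : IsScalarTower k (MvPolynomial (Fin n) k) C :=
    IsScalarTower.of_algebraMap_eq (fun x => (f.commutes x).symm)
  haveI : IsScalarTower k₀ (MvPolynomial (Fin n) k) C :=
    IsScalarTower.of_algebraMap_eq (fun x => by
      rw [IsScalarTower.algebraMap_apply k₀ k C,
        IsScalarTower.algebraMap_apply k₀ k (MvPolynomial (Fin n) k)]
      exact (f.commutes _).symm)
  haveI : Algebra.FormallySmooth k₀ (MvPolynomial (Fin n) k) :=
    Algebra.FormallySmooth.comp k₀ k _
  have hsurj : Function.Surjective (algebraMap (MvPolynomial (Fin n) k) C) := hf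
  haveI : Module.Finite (MvPolynomial (Fin n) k)
      (RingHom.ker (algebraMap (MvPolynomial (Fin n) k) C)).Cotangent :=
    Module.Finite.of_surjective _ (Ideal.toCotangent_surjective _)
  have h13 := Groth.Agent.S4577.result (A := k₀) hsurj
  haveI : IsNoetherianRing C := Algebra.FiniteType.isNoetherianRing k C
  tfae_have 1 → 2 := by
    intro h p _
    infer_instance
  tfae_have 2 → 3 := fun h m _ => h m
  tfae_have 3 → 1 := h13.mpr
  tfae_have 3 → 4 := by
    intro h
    apply Groth.Agent.H44.GeomRegLoc.isGeometricallyRegular_of_forall_maximal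
    intro m _
    exact ((tfae_local (k₀ := k₀) (k := k) m).out 0 3).mp (h m)
  tfae_have 4 → 3 := by
    intro h m _
    exact ((tfae_local (k₀ := k₀) (k := k) m).out 0 3).mpr
      (Groth.Agent.H44.GeomRegLoc.isGeometricallyRegular_of_isLocalization k₀ C m.primeCompl
        (Localization.AtPrime m) h)
  tfae_finish

end Groth.Agent.H44.SepFT
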