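import Mathlib
import Groth.Prelude.Def_Found
import Groth.Prelude.Def_EGA4b
import Groth.Agent.S4576
import Groth.Agent.S2453
import Groth.Agent.S2451
import Groth.Agent.H44.CoeffField
import Groth.Agent.H44.SepFT
import Groth.Agent.Lead.GeomReg

/-!
# The regular locus of a finite type algebra over a field is open
-/

set_option autoImplicit false

universe u

open TensorProduct IsLocalRing

namespace Groth.Agent.H44.RegOpen

/-- For a finite type algebra over a field `k`, with prime field `F`: `S_p` is regular iff it is
formally smooth over `F`. -/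
theorem regular_iff_formallySmooth_bot {k S : Type u} [Field k] [CommRing S] [Algebra k S]
    [Algebra.FiniteType k S] (p : Ideal S) [p.IsPrime] :
    IsRegularLocalRing (Localization.AtPrime p) ↔
      Algebra.FormallySmooth (⊥ : Subfield k) (Localization.AtPrime p) := by
  haveI : IsNoetherianRing S := Algebra.FiniteType.isNoetherianRing k S
  haveI : IsNoetherianRing (Localization.AtPrime p) :=
    IsLocalization.isNoetherianRing p.primeCompl _ inferInstance
  haveI hFS : Algebra.FormallySmooth (⊥ : Subfield k) k :=
    Groth.Agent.H44.CoeffField.formallySmooth_bot k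
  have hκ : Algebra.FormallySmooth (⊥ : Subfield k) (ResidueField (Localization.AtPrime p)) :=
    Groth.Agent.H44.CoeffField.formallySmooth_bot' k _
  haveI : Algebra.IsGeometricallyReduced (⊥ : Subfield k)
      (ResidueField (Localization.AtPrime p)) := Groth.Agent.S2451.result.1 hκ
  have t := Groth.Agent.S2453.result (k := (⊥ : Subfield k)) (A := Localization.AtPrime p)
  have t2 := Groth.Agent.H44.SepFT.tfae_local (k₀ := (⊥ : Subfield k)) (k := k) p
  exact (t.out 3 0).trans (t2.out 1 0)

theorem isOpen_regLocus (k S : Type u) [Field k] [CommRing S] [Algebra k S]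
    [Algebra.FiniteType k S] : IsOpen (EGA4.regLocus S) := by
  haveI hFS : Algebra.FormallySmooth (⊥ : Subfield k) k :=
    Groth.Agent.H44.CoeffField.formallySmooth_bot k
  obtain ⟨n, f, hf⟩ := Algebra.FiniteType.iff_quotient_mvPolynomial''.mp
    (inferInstance : Algebra.FiniteType k S)
  letI : Algebra (MvPolynomial (Fin n) k) S := f.toRingHom.toAlgebra
  haveI : IsScalarTower k (MvPolynomial (Fin n) k) S :=
    IsScalarTower.of_algebraMap_eq (fun x => (f.commutes x).symm)
  haveI : IsScalarTower (⊥ : Subfield k) (MvPolynomial (Fin n) k) S :=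
    IsScalarTower.of_algebraMap_eq (fun x => by
      rw [IsScalarTower.algebraMap_apply (⊥ : Subfield k) k S,
        IsScalarTower.algebraMap_apply (⊥ : Subfield k) k (MvPolynomial (Fin n) k)]
      exact (f.commutes _).symm)
  haveI : Algebra.FormallySmooth (⊥ : Subfield k) (MvPolynomial (Fin n) k) :=
    Algebra.FormallySmooth.comp (⊥ : Subfield k) k _
  have hsurj : Function.Surjective (algebraMap (MvPolynomial (Fin n) k) S) := hf
  haveI : Module.Finite (MvPolynomial (Fin n) k)
      (RingHom.ker (algebraMap (MvPolynomial (Fin n) k) S)).Cotangent :=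
    Module.Finite.of_surjective _ (Ideal.toCotangent_surjective _)
  have hopen := Groth.Agent.S4576.result (A := (⊥ : Subfield k)) hsurj
  have heq : EGA4.regLocus S = {p : PrimeSpectrum S |
      Algebra.FormallySmooth (⊥ : Subfield k) (Localization.AtPrime p.asIdeal)} := by
    ext p
    exact regular_iff_formallySmooth_bot (k := k) p.asIdeal
  rw [heq]
  exact hopen

end Groth.Agent.H44.RegOpen
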