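import Mathlib
import Groth.Prelude.Def_EGA4b
import Groth.Agent.H44.NagataCrit
import Groth.Agent.H44.RegLocus
import Groth.Agent.H44.RegOpen

/-!
# Semi-local Noetherian rings of dimension at most one are J-2
-/

set_option autoImplicit false

universe u

open IsLocalRing

namespace Groth.Agent.H44.J2Semilocal

open Groth.Agent.H44.NagataCrit Groth.Agent.H44.RegLocus

/-- Domain with finitely many maximal ideals, of dimension at most one: some nonzero element lies
in all nonzero primes. -/
theorem exists_ne_zero_mem_of_prime (D : Type u) [CommRing D] [IsDomain D]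
    (hfin : {I : Ideal D | I.IsMaximal}.Finite) (hdim : ringKrullDim D ≤ 1) :
    ∃ g : D, g ≠ 0 ∧ ∀ P : Ideal D, P.IsPrime → P ≠ ⊥ → g ∈ P := by
  classical
  haveI : Ring.KrullDimLE 1 D := Ring.krullDimLE_iff.mpr hdim
  have key : ∀ m : Ideal D, ∃ x : D, x ≠ 0 ∧ (m ≠ ⊥ → x ∈ m) := by
    intro m
    by_cases hm : m = ⊥
    · exact ⟨1, one_ne_zero, fun h => absurd hm h⟩
    · obtain ⟨x, hx, hx0⟩ := Submodule.exists_mem_ne_zero_of_ne_bot hm
      exact ⟨x, hx0, fun _ => hx⟩
  choose x hx0 hxm using key
  refine ⟨∏ m ∈ hfin.toFinset, x m, Finset.prod_ne_zero_iff.mpr (fun m _ => hx0 m), ?_⟩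
  intro P hP hP0
  have hPmax : P.IsMaximal := hP.isMaximal_of_ne_bot hP0
  have hPmem : P ∈ hfin.toFinset := hfin.mem_toFinset.mpr hPmax
  obtain ⟨c, hc⟩ := Finset.dvd_prod_of_mem x hPmem
  rw [hc]
  exact P.mul_mem_right c (hxm P hP0)

/-- If `A₁ ⊆ D` are domains, `D` of finite type over `A₁`, and some nonzero `g ∈ A₁` lies in all
nonzero primes of `A₁` (so `A₁[1/g]` is a field), then the regular locus of `D` contains a nonempty
open set. -/
theorem exists_open_regLocus_of_generic_field (A₁ D : Type u) [CommRing A₁] [IsDomain A₁]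
    [IsNoetherianRing A₁] [CommRing D] [IsDomain D] [Algebra A₁ D] [Algebra.FiniteType A₁ D]
    (hinj : Function.Injective (algebraMap A₁ D))
    (g : A₁) (hg0 : g ≠ 0) (hg : ∀ P : Ideal A₁, P.IsPrime → P ≠ ⊥ → g ∈ P) :
    ∃ U : Set (PrimeSpectrum D), IsOpen U ∧ U.Nonempty ∧ U ⊆ EGA4.regLocus D := by
  haveI : IsNoetherianRing D := Algebra.FiniteType.isNoetherianRing A₁ D
  have hg'0 : algebraMap A₁ D g ≠ 0 := by
    intro h0
    exact hg0 (hinj (by rw [h0, map_zero]))
  haveI : IsDomain (Localization.Away (algebraMap A₁ D g)) :=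
    IsLocalization.isDomain_of_le_nonZeroDivisors (M := Submonoid.powers (algebraMap A₁ D g)) _
      (powers_le_nonZeroDivisors_of_noZeroDivisors hg'0)
  haveI : IsNoetherianRing (Localization.Away (algebraMap A₁ D g)) :=
    IsLocalization.isNoetherianRing (Submonoid.powers (algebraMap A₁ D g)) _ inferInstance
  have hunits : ∀ a : nonZeroDivisors A₁,
      IsUnit (algebraMap A₁ (Localization.Away (algebraMap A₁ D g)) (a : A₁)) := by
    intro a
    have ha0 : (a : A₁) ≠ 0 := nonZeroDivisors.ne_zero a.2
    have hrad : g ∈ (Ideal.span {(a : A₁)}).radical := by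
      rw [Ideal.radical_eq_sInf, Ideal.mem_sInf]
      rintro J ⟨hJ, hJp⟩
      apply hg J hJp
      intro hJ0
      apply ha0
      have : (a : A₁) ∈ J := hJ (Ideal.subset_span rfl)
      rw [hJ0] at this
      exact (Ideal.mem_bot).mp this
    obtain ⟨n, hn⟩ := hrad
    obtain ⟨b, hb⟩ := Ideal.mem_span_singleton'.mp hn
    have h1 : algebraMap A₁ (Localization.Away (algebraMap A₁ D g)) b *
        algebraMap A₁ (Localization.Away (algebraMap A₁ D g)) (a : A₁) =
        (algebraMap D (Localization.Away (algebraMap A₁ D g)) (algebraMap A₁ D g)) ^ n := by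
      rw [← map_mul, hb, map_pow]
      rfl
    have h2 : IsUnit ((algebraMap D (Localization.Away (algebraMap A₁ D g))
        (algebraMap A₁ D g)) ^ n) :=
      (IsLocalization.Away.algebraMap_isUnit (algebraMap A₁ D g)).pow n
    rw [← h1] at h2
    exact isUnit_of_mul_isUnit_right h2
  letI algK : Algebra (FractionRing A₁) (Localization.Away (algebraMap A₁ D g)) :=
    (IsLocalization.lift (M := nonZeroDivisors A₁) (S := FractionRing A₁)
      (g := algebraMap A₁ (Localization.Away (algebraMap A₁ D g))) hunits).toAlgebra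
  haveI : IsScalarTower A₁ (FractionRing A₁) (Localization.Away (algebraMap A₁ D g)) :=
    IsScalarTower.of_algebraMap_eq (fun x => (IsLocalization.lift_eq hunits x).symm)
  haveI : Algebra.FiniteType D (Localization.Away (algebraMap A₁ D g)) :=
    haveI := IsLocalization.Away.finitePresentation (algebraMap A₁ D g)
      (S := Localization.Away (algebraMap A₁ D g))
    inferInstance
  haveI : Algebra.FiniteType A₁ (Localization.Away (algebraMap A₁ D g)) :=
    Algebra.FiniteType.trans (S := D) inferInstance inferInstance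
  haveI : Algebra.FiniteType (FractionRing A₁) (Localization.Away (algebraMap A₁ D g)) :=
    Algebra.FiniteType.of_restrictScalars_finiteType A₁ (FractionRing A₁) _
  have hopen := Groth.Agent.H44.RegOpen.isOpen_regLocus (FractionRing A₁)
    (Localization.Away (algebraMap A₁ D g))
  exact exists_open_of_away (algebraMap A₁ D g)
    ⟨_, hopen, ⟨_, bot_mem_regLocus (Localization.Away (algebraMap A₁ D g))⟩, subset_rfl⟩

/-- `S2620`. -/
theorem isJ2_of_semilocal_dim_le_one (A : Type u) [CommRing A] [IsNoetherianRing A]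
    (hsl : {I : Ideal A | I.IsMaximal}.Finite) (hdim : ringKrullDim A ≤ 1) : EGA4.IsJ2 A := by
  intro S _ _ hft
  haveI := hft
  haveI : IsNoetherianRing S := Algebra.FiniteType.isNoetherianRing A S
  apply isOpen_regLocus_of_quotients
  intro P _
  have hfin : {I : Ideal (A ⧸ P.asIdeal.comap (algebraMap A S)) | I.IsMaximal}.Finite := by
    refine Set.Finite.of_injOn
      (f := Ideal.comap (Ideal.Quotient.mk (P.asIdeal.comap (algebraMap A S)))) ?_ ?_ hsl
    · intro I hI
      haveI : I.IsMaximal := hI
      exact Ideal.comap_isMaximal_of_surjective _ Ideal.Quotient.mk_surjective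
    · exact (Ideal.comap_injective_of_surjective _ Ideal.Quotient.mk_surjective).injOn
  have hdim' : ringKrullDim (A ⧸ P.asIdeal.comap (algebraMap A S)) ≤ 1 :=
    (ringKrullDim_quotient_le _).trans hdim
  obtain ⟨g, hg0, hg⟩ := exists_ne_zero_mem_of_prime _ hfin hdim'
  haveI : Algebra.FiniteType (A ⧸ P.asIdeal.comap (algebraMap A S)) (S ⧸ P.asIdeal) :=
    Algebra.FiniteType.of_restrictScalars_finiteType A _ _
  exact exists_open_regLocus_of_generic_field (A ⧸ P.asIdeal.comap (algebraMap A S))
    (S ⧸ P.asIdeal) Ideal.algebraMap_quotient_injective g hg0 hg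

end Groth.Agent.H44.J2Semilocal
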