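import Mathlib
import Groth.Prelude.Def_EGA4b
import Groth.Agent.H44.NagataCrit
import Groth.Agent.H44.RegLocus
import Groth.Agent.H44.RegDescend
import Groth.Agent.H44.J2Semilocal
import Groth.Agent.H44.MacLaneAll

/-!
# Dedekind domains of characteristic zero are J-2
-/

set_option autoImplicit false

universe u

open IsLocalRing

namespace Groth.Agent.H44.J2Dedekind

open Groth.Agent.H44.NagataCrit Groth.Agent.H44.RegLocus Groth.Agent.H44.RegDescend
  Groth.Agent.H44.J2Semilocal

/-- `S2619`. -/
theorem isJ2_of_isDedekindDomain_charZero (A : Type u) [CommRing A] [IsDedekindDomain A]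
    [CharZero A] : EGA4.IsJ2 A := by
  intro S _ _ hft
  haveI := hft
  haveI : IsNoetherianRing S := Algebra.FiniteType.isNoetherianRing A S
  apply isOpen_regLocus_of_quotients
  intro P _
  by_cases hp : P.asIdeal.comap (algebraMap A S) = ⊥
  · have hinj : Function.Injective (algebraMap A (S ⧸ P.asIdeal)) := by
      rw [injective_iff_map_eq_zero]
      intro a ha
      have h1 : algebraMap A S a ∈ P.asIdeal := by
        rw [IsScalarTower.algebraMap_apply A S (S ⧸ P.asIdeal), Ideal.Quotient.algebraMap_eq] at ha
        exact Ideal.Quotient.eq_zero_iff_mem.mp ha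
      have h2 : a ∈ P.asIdeal.comap (algebraMap A S) := h1
      rw [hp] at h2
      exact (Ideal.mem_bot).mp h2
    haveI : FaithfulSMul A (FractionRing (S ⧸ P.asIdeal)) :=
      (faithfulSMul_iff_algebraMap_injective _ _).mpr (by
        rw [IsScalarTower.algebraMap_eq A (S ⧸ P.asIdeal) (FractionRing (S ⧸ P.asIdeal)),
          RingHom.coe_comp]
        exact (IsFractionRing.injective (S ⧸ P.asIdeal)
          (FractionRing (S ⧸ P.asIdeal))).comp hinj)
    letI : Algebra (FractionRing A) (FractionRing (S ⧸ P.asIdeal)) :=
      FractionRing.liftAlgebra A _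
    haveI : IsScalarTower A (FractionRing A) (FractionRing (S ⧸ P.asIdeal)) :=
      FractionRing.isScalarTower_liftAlgebra A _
    haveI : CharZero (FractionRing A) :=
      charZero_of_injective_algebraMap (IsFractionRing.injective A (FractionRing A))
    haveI : Algebra.IsGeometricallyReduced (FractionRing A) (FractionRing (S ⧸ P.asIdeal)) :=
      Groth.Agent.H44.MacLane.isGeometricallyReduced_of_perfectField
    refine exists_open_regLocus_of_separable (K := FractionRing A)
      (K' := FractionRing (S ⧸ P.asIdeal)) hinj ⟨Set.univ, isOpen_univ, Set.univ_nonempty, ?_⟩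
    intro x _
    show IsRegularLocalRing (Localization.AtPrime x.asIdeal)
    infer_instance
  · haveI hmax : (P.asIdeal.comap (algebraMap A S)).IsMaximal :=
      Ideal.IsPrime.isMaximal inferInstance hp
    have hfield : IsField (A ⧸ P.asIdeal.comap (algebraMap A S)) :=
      (Ideal.Quotient.maximal_ideal_iff_isField_quotient _).mp hmax
    haveI : Algebra.FiniteType (A ⧸ P.asIdeal.comap (algebraMap A S)) (S ⧸ P.asIdeal) :=
      Algebra.FiniteType.of_restrictScalars_finiteType A _ _
    refine exists_open_regLocus_of_generic_field (A ⧸ P.asIdeal.comap (algebraMap A S))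
      (S ⧸ P.asIdeal) Ideal.algebraMap_quotient_injective
      (1 : A ⧸ P.asIdeal.comap (algebraMap A S)) one_ne_zero ?_
    intro P' hP' hP'0
    obtain ⟨x, hx, hx0⟩ := Submodule.exists_mem_ne_zero_of_ne_bot hP'0
    obtain ⟨y, hy⟩ := hfield.mul_inv_cancel hx0
    rw [← hy]
    exact P'.mul_mem_right y hx

end Groth.Agent.H44.J2Dedekind
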