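import Mathlib
import Groth.Prelude.Def_PBC
import Groth.Prelude.Def_ProEtS
import Groth.Agent.H23.WCDefs

/-!
# (L8) for helper23: a weakly contractible object of `X_proet` has sections of qc weakly étale covers
-/

set_option autoImplicit false
set_option backward.isDefEq.respectTransparency.types false
set_option linter.style.haveILetI false
universe u v
open CategoryTheory CategoryTheory.Limits AlgebraicGeometry Opposite
open Groth.Agent.H23.WCDefs

namespace Groth.Agent.H44.WC_L8

theorem exists_section_of_isWC {X : Scheme.{u}} (U : X.ProEt) (hU : ProEtS.IsWC U)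
    (Y : Scheme.{u}) [IsAffine Y] (q : Y ⟶ U.left) [WeaklyEtale q] [Surjective q]
    [QuasiCompact q] : ∃ σ : U.left ⟶ Y, σ ≫ q = 𝟙 U.left := by
  haveI : WeaklyEtale (q ≫ U.hom) := inferInstance
  let V : X.ProEt := Scheme.ProEt.mk (q ≫ U.hom)
  let π : V ⟶ U := MorphismProperty.Over.homMk (A := V) (B := U) q rfl trivial
  let J := Scheme.ProEt.topology X
  -- the singleton `π` is covering
  have hcov : Sieve.generate (Presieve.singleton π) ∈ J U := by
    apply Precoverage.generate_mem_toGrothendieck
    simp only [Scheme.ProEt.precoverage, Precoverage.mem_comap_iff, Presieve.map_singleton]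
    exact Scheme.Hom.singleton_mem_propQCPrecoverage (P := @WeaklyEtale) (f := q) inferInstance
  let φ := (GrothendieckTopology.uliftYoneda.{u + 1} J).map π
  haveI hls : Sheaf.IsLocallySurjective φ := by
    constructor
    intro W t
    have h1 : (Sieve.generate (Presieve.singleton π)).pullback t.down ∈ J W :=
      J.pullback_stable t.down hcov
    refine J.superset_covering ?_ h1
    rintro Z g ⟨Z', a, b, ⟨⟩, hab⟩
    exact ⟨⟨a⟩, by
      apply ULift.ext
      exact hab⟩
  have hepi : Epi φ := inferInstance
  obtain ⟨s, hs⟩ := hU _ _ φ hepi ⟨𝟙 U⟩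
  refine ⟨s.down.left, ?_⟩
  have h2 : s.down ≫ π = 𝟙 U := congrArg ULift.down hs
  have h3 := congrArg (fun f => f.left) h2
  exact h3

end Groth.Agent.H44.WC_L8
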