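import Mathlib
import Groth.Prelude
import Groth.Agent.S2082
import Groth.Agent.H79.RegCM

/-!
# Flatness of a regular local ring over the polynomial ring on a regular system of parameters
-/

set_option autoImplicit false
universe u

namespace Groth.Agent.H44.RegEnd

open IsLocalRing

/-- Let `Λ` be a regular local ring of dimension `d`, made into an algebra over
`k[X₁, …, X_d]` (`k` a field) so that the `X i` map to generators of the maximal ideal.
Then `Λ` is flat over the polynomial ring (miracle flatness). -/
theorem flat_mvPolynomial {k Λ : Type u} [Field k] [CommRing Λ] [IsRegularLocalRing Λ] {d : ℕ}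
    [Algebra (MvPolynomial (Fin d) k) Λ]
    (hg : Ideal.span (Set.range fun i => algebraMap (MvPolynomial (Fin d) k) Λ (MvPolynomial.X i))
      = IsLocalRing.maximalIdeal Λ)
    (hd : ringKrullDim Λ = d) : Module.Flat (MvPolynomial (Fin d) k) Λ := by
  classical
  let m : Ideal (MvPolynomial (Fin d) k) := (maximalIdeal Λ).comap (algebraMap _ Λ)
  haveI hmp : m.IsPrime := Ideal.comap_isPrime _ _
  have hXm : ∀ i, (MvPolynomial.X i : MvPolynomial (Fin d) k) ∈ m := fun i => by
    show algebraMap _ Λ (MvPolynomial.X i) ∈ maximalIdeal Λ
    rw [← hg]; exact Ideal.subset_span ⟨i, rfl⟩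
  have hunit : ∀ y : m.primeCompl, IsUnit (algebraMap (MvPolynomial (Fin d) k) Λ y) := fun y => by
    have : algebraMap (MvPolynomial (Fin d) k) Λ y ∉ maximalIdeal Λ := y.2
    exact IsLocalRing.notMem_maximalIdeal.mp this
  letI algRmΛ : Algebra (Localization.AtPrime m) Λ :=
    (IsLocalization.lift (M := m.primeCompl) (S := Localization.AtPrime m) hunit).toAlgebra
  haveI : IsScalarTower (MvPolynomial (Fin d) k) (Localization.AtPrime m) Λ :=
    IsScalarTower.of_algebraMap_eq fun r =>
      (IsLocalization.lift_eq (M := m.primeCompl) (S := Localization.AtPrime m) hunit r).symm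
  -- the map is local
  have hmapm : (maximalIdeal (Localization.AtPrime m)).map (algebraMap (Localization.AtPrime m) Λ)
      = maximalIdeal Λ := by
    rw [← Localization.AtPrime.map_eq_maximalIdeal, Ideal.map_map,
      ← IsScalarTower.algebraMap_eq]
    apply le_antisymm
    · exact Ideal.map_comap_le
    · rw [← hg, Ideal.span_le]
      rintro _ ⟨i, rfl⟩
      exact Ideal.mem_map_of_mem _ (hXm i)
  haveI hloc : IsLocalHom (algebraMap (Localization.AtPrime m) Λ) :=
    ((IsLocalRing.local_hom_TFAE (algebraMap (Localization.AtPrime m) Λ)).out 0 2).mpr hmapm.le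
  -- regularity of the source
  haveI : IsRegularLocalRing (Localization.AtPrime m) := inferInstance
  -- Cohen–Macaulay target
  haveI hCM : LocCoh.IsCohenMacaulayLocalRing Λ :=
    { supportDim_eq_depth :=
        Groth.Agent.H79.RegCM.isCM_of_sop Λ d hd
          (fun i => algebraMap (MvPolynomial (Fin d) k) Λ (MvPolynomial.X i)) hg }
  -- dimension of the source
  have hdimle : ringKrullDim (Localization.AtPrime m) ≤ d := by
    rw [IsLocalization.AtPrime.ringKrullDim_eq_height m]
    refine (Ideal.height_le_ringKrullDim_of_ne_top hmp.ne_top).trans ?_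
    rw [MvPolynomial.ringKrullDim_of_isNoetherianRing, ringKrullDim_eq_zero_of_field]
    simp
  have hcomap : (maximalIdeal Λ).comap (algebraMap (Localization.AtPrime m) Λ) =
      maximalIdeal (Localization.AtPrime m) :=
    ((IsLocalRing.local_hom_TFAE (algebraMap (Localization.AtPrime m) Λ)).out 0 4).mp hloc
  haveI hlo : (maximalIdeal Λ).LiesOver (maximalIdeal (Localization.AtPrime m)) :=
    ⟨hcomap.symm⟩
  have hdimge : (d : WithBot ℕ∞) ≤ ringKrullDim (Localization.AtPrime m) := by
    have h1 := Ideal.height_le_height_add_of_liesOver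
      (maximalIdeal (Localization.AtPrime m)) (maximalIdeal Λ)
    have h2 : ((maximalIdeal Λ).map (Ideal.Quotient.mk
        ((maximalIdeal (Localization.AtPrime m)).map
          (algebraMap (Localization.AtPrime m) Λ)))).height = 0 := by
      have : (maximalIdeal Λ).map (Ideal.Quotient.mk
          ((maximalIdeal (Localization.AtPrime m)).map
            (algebraMap (Localization.AtPrime m) Λ))) = ⊥ := by
        rw [hmapm]; exact Ideal.map_quotient_self _
      rw [this]
      exact Ideal.height_bot
    rw [h2, add_zero] at h1
    rw [← hd, ← IsLocalRing.maximalIdeal_height_eq_ringKrullDim,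
      ← IsLocalRing.maximalIdeal_height_eq_ringKrullDim]
    exact_mod_cast h1
  have hdimRm : ringKrullDim (Localization.AtPrime m) = d := le_antisymm hdimle hdimge
  have hquot : ringKrullDim (Λ ⧸ (maximalIdeal (Localization.AtPrime m)).map
      (algebraMap (Localization.AtPrime m) Λ)) = 0 := by
    rw [hmapm]
    letI : Field (Λ ⧸ maximalIdeal Λ) := Ideal.Quotient.field _
    exact ringKrullDim_eq_zero_of_field _
  haveI : Module.Flat (Localization.AtPrime m) Λ :=
    Groth.Agent.S2082.result (R := Localization.AtPrime m) (S := Λ) (by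
      rw [hd, hdimRm, hquot, add_zero])
  exact Module.Flat.trans (MvPolynomial (Fin d) k) (Localization.AtPrime m) Λ

end Groth.Agent.H44.RegEnd
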