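import Mathlib
import Groth.Prelude
import Groth.Agent.S2022
import Groth.Agent.H44.RegEnd
import Groth.Agent.H44.RegEnd2
import Groth.Agent.H44.ResStep2

/-!
# Side conditions and the Artinian endgame for the regular / separable residue field case

`R = k[X₁, …, X_d]`, `Λ` regular local of dimension `d`, `X i ↦` regular system of parameters.

* `mem_of_mul_X_pow_mem` : `X i ^ M` is a nonzerodivisor modulo `(X j ^ N : j ∈ S)`, `i ∉ S`.
* `hR_poly`, `hΛ_poly` : the annihilator hypotheses of `Groth.Agent.S6822.result` for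
  `π i = X i ^ e`.
* `indSmooth_quot` : `Λ/(X i ^ N)Λ` is ind-smooth over `R/(X i ^ N)`.
-/

set_option autoImplicit false
universe u

namespace Groth.Agent.H44.RegEnd

open IsLocalRing MvPolynomial TensorProduct Groth.Agent.H44.ResStep2

theorem mem_of_mul_X_pow_mem {k : Type u} [CommRing k] {d : ℕ} (i : Fin d) (M N : ℕ)
    (S : Set (Fin d)) (hi : i ∉ S) (p : MvPolynomial (Fin d) k)
    (h : X i ^ M * p ∈ Ideal.span ((fun j => (X j : MvPolynomial (Fin d) k) ^ N) '' S)) :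
    p ∈ Ideal.span ((fun j => (X j : MvPolynomial (Fin d) k) ^ N) '' S) := by
  classical
  have hS : ((fun j => (X j : MvPolynomial (Fin d) k) ^ N) '' S) =
      (fun s => monomial s (1 : k)) '' ((fun j => Finsupp.single j N) '' S) := by
    rw [Set.image_image]
    refine Set.image_congr fun j _ => ?_
    exact X_pow_eq_monomial
  rw [hS, mem_ideal_span_monomial_image] at h ⊢
  intro m hm
  have hm' : m + Finsupp.single i M ∈ (X i ^ M * p).support := by
    rw [mem_support_iff, X_pow_eq_monomial, mul_comm, coeff_mul_monomial, mul_one]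
    exact mem_support_iff.mp hm
  obtain ⟨s, ⟨j, hjS, rfl⟩, hle⟩ := h _ hm'
  refine ⟨_, ⟨j, hjS, rfl⟩, ?_⟩
  have hji : j ≠ i := fun hji => hi (hji ▸ hjS)
  rw [Finsupp.le_def] at hle ⊢
  intro t
  by_cases htj : t = j
  · subst htj
    have := hle t
    simpa [Finsupp.single_apply, hji, Ne.symm hji] using this
  · simp [Finsupp.single_apply, Ne.symm htj]

theorem range_pow_eq_image {k : Type u} [CommRing k] {d : ℕ} (e : ℕ) (i : Fin d) :
    (Set.range fun j : {j : Fin d // (j : ℕ) < (i : ℕ)} =>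
        ((X (j : Fin d) : MvPolynomial (Fin d) k) ^ e) ^ 8) =
      (fun j => (X j : MvPolynomial (Fin d) k) ^ (e * 8)) '' {j | (j : ℕ) < (i : ℕ)} := by
  ext y
  constructor
  · rintro ⟨⟨j, hj⟩, rfl⟩
    exact ⟨j, hj, by simp only [pow_mul]⟩
  · rintro ⟨j, hj, rfl⟩
    exact ⟨⟨j, hj⟩, by simp only [pow_mul]⟩

theorem nzd_poly {k : Type u} [CommRing k] {d : ℕ} (e : ℕ) (i : Fin d)
    (p : MvPolynomial (Fin d) k)
    (hp : (X i ^ e) ^ 2 * p ∈ Ideal.span (Set.range fun j : {j : Fin d // (j : ℕ) < (i : ℕ)} =>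
        ((X (j : Fin d) : MvPolynomial (Fin d) k) ^ e) ^ 8)) :
    p ∈ Ideal.span (Set.range fun j : {j : Fin d // (j : ℕ) < (i : ℕ)} =>
        ((X (j : Fin d) : MvPolynomial (Fin d) k) ^ e) ^ 8) := by
  rw [range_pow_eq_image] at hp ⊢
  rw [← pow_mul] at hp
  have hi : i ∉ {j : Fin d | (j : ℕ) < (i : ℕ)} := by simp
  exact mem_of_mul_X_pow_mem i (e * 2) (e * 8) {j : Fin d | (j : ℕ) < (i : ℕ)} hi p hp

theorem hR_poly' {k : Type u} [CommRing k] {d : ℕ} (e : ℕ) :
    ∀ i : Fin d, ∀ x : MvPolynomial (Fin d) k ⧸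
        Ideal.span (Set.range fun j : {j : Fin d // (j : ℕ) < (i : ℕ)} =>
          ((X (j : Fin d) : MvPolynomial (Fin d) k) ^ e) ^ 8),
      Ideal.Quotient.mk _ (X i ^ e) ^ 2 * x = 0 → Ideal.Quotient.mk _ (X i ^ e) * x = 0 := by
  intro i x hx
  obtain ⟨p, rfl⟩ := Ideal.Quotient.mk_surjective x
  rw [← map_pow, ← map_mul, Ideal.Quotient.eq_zero_iff_mem] at hx
  have hp := nzd_poly e i p hx
  rw [← map_mul, Ideal.Quotient.eq_zero_iff_mem]
  exact Ideal.mul_mem_left _ _ hp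

/-- The `hR` hypothesis of `Groth.Agent.S6822.result` for `π i = X i ^ e` in a polynomial ring. -/
theorem hR_poly {k : Type u} [CommRing k] {d : ℕ} (e : ℕ) (π : Fin d → MvPolynomial (Fin d) k)
    (hπ : ∀ i, π i = X i ^ e) :
    ∀ i : Fin d, ∀ x : MvPolynomial (Fin d) k ⧸
        Ideal.span (Set.range fun j : {j : Fin d // (j : ℕ) < (i : ℕ)} => π j ^ 8),
      Ideal.Quotient.mk _ (π i) ^ 2 * x = 0 → Ideal.Quotient.mk _ (π i) * x = 0 := by
  obtain rfl : π = fun i => X i ^ e := funext hπ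
  exact hR_poly' e

/-- Nonzerodivisors modulo an ideal stay nonzerodivisors modulo the extended ideal in a flat
algebra. -/
theorem mem_map_of_flat {R Λ : Type u} [CommRing R] [CommRing Λ] [Algebra R Λ] [Module.Flat R Λ]
    (J : Ideal R) (a : R) (h : ∀ p, a * p ∈ J → p ∈ J) (y : Λ)
    (hy : algebraMap R Λ a * y ∈ J.map (algebraMap R Λ)) : y ∈ J.map (algebraMap R Λ) := by
  let μ : (R ⧸ J) →ₗ[R] (R ⧸ J) := LinearMap.lsmul R (R ⧸ J) a
  have hμ : Function.Injective μ := by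
    rw [injective_iff_map_eq_zero]
    intro x hx
    obtain ⟨p, rfl⟩ := Ideal.Quotient.mk_surjective x
    have h1 : Ideal.Quotient.mk J (a * p) = 0 := by
      have : μ (Ideal.Quotient.mk J p) = Ideal.Quotient.mk J (a * p) := by
        show a • Ideal.Quotient.mk J p = _
        rw [Algebra.smul_def, map_mul]
        rfl
      rw [← this]; exact hx
    exact Ideal.Quotient.eq_zero_iff_mem.mpr (h p (Ideal.Quotient.eq_zero_iff_mem.mp h1))
  have hμΛ : Function.Injective (μ.rTensor Λ) :=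
    Module.Flat.rTensor_preserves_injective_linearMap μ hμ
  have key : ∀ z : Λ, (1 : R ⧸ J) ⊗ₜ[R] z = 0 ↔ z ∈ J.map (algebraMap R Λ) := by
    intro z
    rw [← Ideal.Quotient.eq_zero_iff_mem, ← tensorQuotEquiv_one_tmul (A := Λ) J z]
    constructor
    · intro hz; rw [hz, map_zero]
    · intro hz
      exact (tensorQuotEquiv (A := Λ) J).injective (by rw [hz, map_zero])
  rw [← key] at hy ⊢
  apply hμΛ
  rw [map_zero, LinearMap.rTensor_tmul]
  have : μ (1 : R ⧸ J) = a • (1 : R ⧸ J) := rfl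
  rw [this, ← TensorProduct.smul_tmul', TensorProduct.smul_tmul', TensorProduct.smul_tmul,
    Algebra.smul_def]
  exact hy

theorem hΛ_poly' {k : Type u} [CommRing k] {d : ℕ} {Λ : Type u} [CommRing Λ]
    [Algebra (MvPolynomial (Fin d) k) Λ] [Module.Flat (MvPolynomial (Fin d) k) Λ] (e : ℕ) :
    ∀ i : Fin d, ∀ x : Λ ⧸ Ideal.span (Set.range fun j : {j : Fin d // (j : ℕ) < (i : ℕ)} =>
        algebraMap (MvPolynomial (Fin d) k) Λ ((X (j : Fin d)) ^ e) ^ 8),
      Ideal.Quotient.mk _ (algebraMap (MvPolynomial (Fin d) k) Λ (X i ^ e)) ^ 2 * x = 0 →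
        Ideal.Quotient.mk _ (algebraMap (MvPolynomial (Fin d) k) Λ (X i ^ e)) * x = 0 := by
  intro i x hx
  obtain ⟨y, rfl⟩ := Ideal.Quotient.mk_surjective x
  have hJ : Ideal.span (Set.range fun j : {j : Fin d // (j : ℕ) < (i : ℕ)} =>
        algebraMap (MvPolynomial (Fin d) k) Λ ((X (j : Fin d)) ^ e) ^ 8) =
      (Ideal.span (Set.range fun j : {j : Fin d // (j : ℕ) < (i : ℕ)} =>
        ((X (j : Fin d) : MvPolynomial (Fin d) k) ^ e) ^ 8)).map
          (algebraMap (MvPolynomial (Fin d) k) Λ) := by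
    rw [Ideal.map_span, ← Set.range_comp]
    congr 2
    funext j
    simp only [Function.comp_apply, map_pow]
  rw [← map_pow, ← map_mul, Ideal.Quotient.eq_zero_iff_mem, hJ, ← map_pow] at hx
  have hy := mem_map_of_flat _ _ (nzd_poly e i) y hx
  rw [← map_mul, Ideal.Quotient.eq_zero_iff_mem, hJ]
  exact Ideal.mul_mem_left _ _ hy

/-- The `hΛ` hypothesis of `Groth.Agent.S6822.result` for `π i = X i ^ e`, for a flat algebra over
the polynomial ring. -/
theorem hΛ_poly {k : Type u} [CommRing k] {d : ℕ} {Λ : Type u} [CommRing Λ]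
    [Algebra (MvPolynomial (Fin d) k) Λ] [Module.Flat (MvPolynomial (Fin d) k) Λ]
    (e : ℕ) (π : Fin d → MvPolynomial (Fin d) k) (hπ : ∀ i, π i = X i ^ e) :
    ∀ i : Fin d, ∀ x : Λ ⧸ Ideal.span (Set.range fun j : {j : Fin d // (j : ℕ) < (i : ℕ)} =>
        algebraMap (MvPolynomial (Fin d) k) Λ (π j) ^ 8),
      Ideal.Quotient.mk _ (algebraMap (MvPolynomial (Fin d) k) Λ (π i)) ^ 2 * x = 0 →
        Ideal.Quotient.mk _ (algebraMap (MvPolynomial (Fin d) k) Λ (π i)) * x = 0 := by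
  obtain rfl : π = fun i => X i ^ e := funext hπ
  exact hΛ_poly' e

end Groth.Agent.H44.RegEnd
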