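import Mathlib
import Groth.Prelude
import Groth.Agent.S2022
import Groth.Agent.H44.RegEnd
import Groth.Agent.H44.RegEnd2
import Groth.Agent.H44.RegEnd3
import Groth.Agent.H44.ResStep2

/-!
# The Artinian endgame: `Λ/(X i ^ N)Λ` is ind-smooth over `k[X]/(X i ^ N)`
-/

set_option autoImplicit false
universe u

namespace Groth.Agent.H44.RegEnd

open IsLocalRing MvPolynomial TensorProduct Groth.Agent.H44.ResStep2

/-- Abstract form: `R/K → Λ/KΛ` flat, `I ⊆ R/K` nilpotent with `(R/K)/I = k` and `IΛ' = 𝔪_Λ Λ'`,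
residue field of `Λ` separable over `k`.  Then `Λ/KΛ` is ind-smooth over `R/K`. -/
theorem indSmooth_quot_aux {k R Λ : Type u} [Field k] [CommRing R] [Algebra k R] [CommRing Λ]
    [IsLocalRing Λ] [Algebra R Λ] [Algebra k Λ] [IsScalarTower k R Λ]
    [Algebra.IsGeometricallyReduced k (ResidueField Λ)]
    (K : Ideal R) (I : Ideal (R ⧸ K))
    [Module.Flat (R ⧸ K) (Λ ⧸ K.map (algebraMap R Λ))]
    (hKΛ : K.map (algebraMap R Λ) ≤ maximalIdeal Λ)
    (hInil : IsNilpotent I)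
    (hk : ∀ x : R ⧸ K, ∃ c : k, x - algebraMap k (R ⧸ K) c ∈ I)
    (hIΛ : I.map (algebraMap (R ⧸ K) (Λ ⧸ K.map (algebraMap R Λ))) =
      (maximalIdeal Λ).map (Ideal.Quotient.mk (K.map (algebraMap R Λ)))) :
    Smoothing.IndSmooth (R ⧸ K) (Λ ⧸ K.map (algebraMap R Λ)) := by
  classical
  have hIΛne : I.map (algebraMap (R ⧸ K) (Λ ⧸ K.map (algebraMap R Λ))) ≠ ⊤ := by
    rw [hIΛ]
    intro h
    have h2 := congrArg (Ideal.comap (Ideal.Quotient.mk (K.map (algebraMap R Λ)))) h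
    rw [Ideal.comap_map_of_surjective _ Ideal.Quotient.mk_surjective, Ideal.comap_top,
      ← RingHom.ker_eq_comap_bot, Ideal.mk_ker, sup_eq_left.mpr hKΛ] at h2
    exact (maximalIdeal.isMaximal Λ).ne_top h2
  haveI : Nontrivial ((Λ ⧸ K.map (algebraMap R Λ)) ⧸
      I.map (algebraMap (R ⧸ K) (Λ ⧸ K.map (algebraMap R Λ)))) :=
    Ideal.Quotient.nontrivial_iff.mpr hIΛne
  haveI : Nontrivial ((R ⧸ K) ⧸ I) :=
    (algebraMap ((R ⧸ K) ⧸ I) ((Λ ⧸ K.map (algebraMap R Λ)) ⧸
      I.map (algebraMap (R ⧸ K) (Λ ⧸ K.map (algebraMap R Λ))))).domain_nontrivial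
  -- the isomorphism `k ≃ (R/K)/I`
  have hψsurj : Function.Surjective (algebraMap k ((R ⧸ K) ⧸ I)) := by
    intro z
    obtain ⟨x, rfl⟩ := Ideal.Quotient.mk_surjective z
    obtain ⟨c, hc⟩ := hk x
    refine ⟨c, ?_⟩
    have h1 : algebraMap k ((R ⧸ K) ⧸ I) c = Ideal.Quotient.mk I (algebraMap k (R ⧸ K) c) := rfl
    rw [h1]
    exact (Ideal.Quotient.eq.mpr hc).symm
  let e : k ≃+* (R ⧸ K) ⧸ I :=
    RingEquiv.ofBijective (algebraMap k ((R ⧸ K) ⧸ I))
      ⟨(algebraMap k ((R ⧸ K) ⧸ I)).injective, hψsurj⟩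
  -- the isomorphism of residue rings
  let θ : Λ →+* (Λ ⧸ K.map (algebraMap R Λ)) ⧸
      I.map (algebraMap (R ⧸ K) (Λ ⧸ K.map (algebraMap R Λ))) :=
    (Ideal.Quotient.mk _).comp (Ideal.Quotient.mk _)
  have hθsurj : Function.Surjective θ :=
    Ideal.Quotient.mk_surjective.comp Ideal.Quotient.mk_surjective
  have hker : RingHom.ker θ = maximalIdeal Λ := by
    apply le_antisymm
    · exact IsLocalRing.le_maximalIdeal (RingHom.ker_ne_top θ)
    · intro y hy
      rw [RingHom.mem_ker]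
      show Ideal.Quotient.mk _ (Ideal.Quotient.mk _ y) = 0
      rw [Ideal.Quotient.eq_zero_iff_mem, hIΛ]
      exact Ideal.mem_map_of_mem _ hy
  let eΛ : ResidueField Λ ≃+* (Λ ⧸ K.map (algebraMap R Λ)) ⧸
      I.map (algebraMap (R ⧸ K) (Λ ⧸ K.map (algebraMap R Λ))) :=
    (Ideal.quotEquivOfEq hker.symm).trans (RingHom.quotientKerEquivOfSurjective hθsurj)
  have heΛ : ∀ y : Λ, eΛ (IsLocalRing.residue Λ y) = θ y := fun y => by
    show (RingHom.quotientKerEquivOfSurjective hθsurj)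
      (Ideal.quotEquivOfEq hker.symm (Ideal.Quotient.mk _ y)) = θ y
    rw [Ideal.quotEquivOfEq_mk, RingHom.quotientKerEquivOfSurjective_apply_mk]
  have hcomm : ∀ c : k, eΛ (algebraMap k (ResidueField Λ) c) =
      algebraMap ((R ⧸ K) ⧸ I) ((Λ ⧸ K.map (algebraMap R Λ)) ⧸
        I.map (algebraMap (R ⧸ K) (Λ ⧸ K.map (algebraMap R Λ)))) (e c) := by
    intro c
    have h1 : algebraMap k (ResidueField Λ) c = IsLocalRing.residue Λ (algebraMap k Λ c) := rfl
    rw [h1, heΛ, IsScalarTower.algebraMap_apply k R Λ]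
    rfl
  have hfield : Smoothing.IndSmooth k (ResidueField Λ) := indSmooth_field
  have hbase := indSmooth_of_equiv e eΛ hcomm hfield
  exact Groth.Agent.S2022.result I hInil hbase

/-- Let `Λ` be a regular local ring of dimension `d` whose residue field is separable over the
field `k`, viewed as an algebra over `R = k[X₁, …, X_d]` with the `X i` mapping to a regular system
of parameters.  Then for `K = (X₁^N, …, X_d^N)`, `Λ/KΛ` is ind-smooth over `R/K`. -/
theorem indSmooth_quot {k Λ : Type u} [Field k] [CommRing Λ] [IsRegularLocalRing Λ] {d : ℕ}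
    [Algebra (MvPolynomial (Fin d) k) Λ] [Algebra k Λ]
    [IsScalarTower k (MvPolynomial (Fin d) k) Λ]
    (hg : Ideal.span (Set.range fun i => algebraMap (MvPolynomial (Fin d) k) Λ (X i))
      = maximalIdeal Λ)
    (hd : ringKrullDim Λ = d)
    [Algebra.IsGeometricallyReduced k (ResidueField Λ)]
    (N : ℕ) (hN : 0 < N) (K : Ideal (MvPolynomial (Fin d) k))
    (hK : K = Ideal.span (Set.range fun i => (X i : MvPolynomial (Fin d) k) ^ N)) :
    Smoothing.IndSmooth (MvPolynomial (Fin d) k ⧸ K)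
      (Λ ⧸ K.map (algebraMap (MvPolynomial (Fin d) k) Λ)) := by
  classical
  haveI hflat : Module.Flat (MvPolynomial (Fin d) k) Λ := flat_mvPolynomial hg hd
  haveI : Module.Flat (MvPolynomial (Fin d) k ⧸ K)
      (Λ ⧸ K.map (algebraMap (MvPolynomial (Fin d) k) Λ)) :=
    Module.Flat.of_linearEquiv (tensorQuotEquiv (A := Λ) K).symm.toLinearEquiv
  have hXm : ∀ i, algebraMap (MvPolynomial (Fin d) k) Λ (X i) ∈ maximalIdeal Λ := fun i => by
    rw [← hg]; exact Ideal.subset_span ⟨i, rfl⟩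
  have hKm : K ≤ (maximalIdeal Λ).comap (algebraMap (MvPolynomial (Fin d) k) Λ) := by
    rw [hK, Ideal.span_le]
    rintro _ ⟨i, rfl⟩
    show algebraMap _ Λ (X i ^ N) ∈ maximalIdeal Λ
    rw [map_pow]
    exact Ideal.pow_mem_of_mem _ (hXm i) N hN
  have hKΛ : K.map (algebraMap (MvPolynomial (Fin d) k) Λ) ≤ maximalIdeal Λ :=
    Ideal.map_le_iff_le_comap.mpr hKm
  obtain ⟨I, hIdef⟩ : ∃ I : Ideal (MvPolynomial (Fin d) k ⧸ K),
      I = Ideal.span (Set.range fun i => Ideal.Quotient.mk K (X i)) := ⟨_, rfl⟩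
  have hXI : ∀ i, Ideal.Quotient.mk K (X i) ∈ I := fun i => by
    rw [hIdef]; exact Ideal.subset_span ⟨i, rfl⟩
  have hXnil : ∀ i, IsNilpotent (Ideal.Quotient.mk K (X i)) := fun i => by
    refine ⟨N, ?_⟩
    rw [← map_pow, Ideal.Quotient.eq_zero_iff_mem, hK]
    exact Ideal.subset_span ⟨i, rfl⟩
  have hIle : I ≤ nilradical (MvPolynomial (Fin d) k ⧸ K) := by
    rw [hIdef, Ideal.span_le]
    rintro _ ⟨i, rfl⟩
    exact hXnil i
  have hIfg : I.FG := by
    refine ⟨(Set.finite_range fun i : Fin d => Ideal.Quotient.mk K (X i)).toFinset, ?_⟩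
    rw [Set.Finite.coe_toFinset, hIdef]
  have hInil : IsNilpotent I := (Ideal.FG.isNilpotent_iff_le_nilradical hIfg).mpr hIle
  have hk : ∀ x : MvPolynomial (Fin d) k ⧸ K,
      ∃ c : k, x - algebraMap k (MvPolynomial (Fin d) k ⧸ K) c ∈ I := by
    intro x
    obtain ⟨p, rfl⟩ := Ideal.Quotient.mk_surjective x
    induction p using MvPolynomial.induction_on with
    | C a =>
      refine ⟨a, ?_⟩
      have : Ideal.Quotient.mk K (C a) = algebraMap k (MvPolynomial (Fin d) k ⧸ K) a := rfl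
      rw [this, sub_self]
      exact zero_mem _
    | add p q hp hq =>
      obtain ⟨a, ha⟩ := hp
      obtain ⟨b, hb⟩ := hq
      refine ⟨a + b, ?_⟩
      have : Ideal.Quotient.mk K (p + q) - algebraMap k (MvPolynomial (Fin d) k ⧸ K) (a + b) =
          (Ideal.Quotient.mk K p - algebraMap k (MvPolynomial (Fin d) k ⧸ K) a) +
          (Ideal.Quotient.mk K q - algebraMap k (MvPolynomial (Fin d) k ⧸ K) b) := by
        rw [map_add, map_add]; ring
      rw [this]
      exact I.add_mem ha hb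
    | mul_X p i _ =>
      refine ⟨0, ?_⟩
      rw [map_zero, sub_zero, map_mul]
      exact I.mul_mem_left _ (hXI i)
  have hIΛ : I.map (algebraMap (MvPolynomial (Fin d) k ⧸ K)
        (Λ ⧸ K.map (algebraMap (MvPolynomial (Fin d) k) Λ))) =
      (maximalIdeal Λ).map (Ideal.Quotient.mk (K.map (algebraMap (MvPolynomial (Fin d) k) Λ))) := by
    rw [hIdef, ← hg, Ideal.map_span, Ideal.map_span, ← Set.range_comp, ← Set.range_comp]
    rfl
  exact indSmooth_quot_aux K I hKΛ hInil hk hIΛ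

end Groth.Agent.H44.RegEnd
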