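import Mathlib
import Groth.Agent.H49.SmoothDescent
import Groth.Agent.H49.SmoothFppf
import Groth.Agent.H79.SmoothReg
import Groth.Agent.H44.MacLaneAll

/-!
# (GL) for helper3: the closed fibre of an essentially-finite-type local algebra is formally smooth
if a geometric point of it is regular
-/

set_option autoImplicit false
set_option linter.style.haveILetI false
universe u
open TensorProduct IsLocalRing

namespace Groth.Agent.H44.PD_GL

section Core

open Algebra Groth.Agent.H49.SmoothDescent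

variable (R S T S' : Type u) [CommRing R] [CommRing S] [CommRing T] [CommRing S']
  [Algebra R S] [Algebra R T] [Algebra R S'] [Algebra S S'] [Algebra T S']
  [IsScalarTower R S S'] [IsScalarTower R T S'] [Algebra.IsPushout R T S S'] [Module.Flat R T]
  (S'' : Type u) [CommRing S'']
  [Algebra S' S''] [Algebra T S''] [IsScalarTower T S' S'']
  [Algebra S S''] [IsScalarTower S S' S'']
  (M' : Submonoid S') [IsLocalization M' S'']
  [Module.FaithfullyFlat S S''] [Module.FinitePresentation S Ω[S⁄R]]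

include M' in
/-- variant of `H49.SmoothDescent.formallySmooth_of_formallySmooth_localization_pushout` without a
finitely presented model: `S' = T ⊗[R] S` with `R → T` flat, `S''` a localization of `S'` with
`S → S''` faithfully flat, `Ω[S/R]` finitely presented.  If `S''` is formally smooth over `T` then
`S` is formally smooth over `R`. -/
theorem formallySmooth_of_formallySmooth_localization_pushout'
    [Algebra.FormallySmooth T S''] : Algebra.FormallySmooth R S := by
  obtain ⟨hproj, hsub⟩ := (Algebra.formallySmooth_iff T S'').mp inferInstance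
  rw [Algebra.formallySmooth_iff]
  haveI : FormallyEtale S' S'' := FormallyEtale.of_isLocalization (Rₘ := S'') M'
  constructor
  · let E : S'' ⊗[S] Ω[S⁄R] ≃ₗ[S''] Ω[S''⁄T] :=
      (AlgebraTensorModule.cancelBaseChange S S' S'' S'' Ω[S⁄R]).symm ≪≫ₗ
      (AlgebraTensorModule.congr (LinearEquiv.refl S'' S'')
        (KaehlerDifferential.tensorKaehlerEquiv R T S S')) ≪≫ₗ
      (KaehlerDifferential.tensorKaehlerEquivOfFormallyEtale T S' S'')
    haveI : Module.Flat S'' (S'' ⊗[S] Ω[S⁄R]) := .of_linearEquiv E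
    haveI : Module.Flat S Ω[S⁄R] := Module.Flat.of_flat_tensorProduct S _ S''
    exact Module.Flat.projective_of_finitePresentation
  · let E : S'' ⊗[S] H1Cotangent R S ≃ₗ[S''] H1Cotangent T S'' :=
      (AlgebraTensorModule.cancelBaseChange S S' S'' S'' (H1Cotangent R S)).symm ≪≫ₗ
      (AlgebraTensorModule.congr (LinearEquiv.refl S'' S'')
        (tensorH1CotangentOfFlatPushout R S T S')) ≪≫ₗ
      (tensorH1CotangentOfIsLocalization T S'' M')
    haveI : Subsingleton (S'' ⊗[S] H1Cotangent R S) := E.subsingleton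
    exact Module.FaithfullyFlat.lTensor_reflects_triviality S S'' (H1Cotangent R S)

end Core

section Abstract

attribute [local instance] Algebra.TensorProduct.rightAlgebra

/-- abstract form: `Bb` a local algebra essentially of finite type over a field `k`, `Ω` an
algebraically closed extension of `k`, `𝔪'` a maximal ideal of `Ω ⊗[k] Bb` containing the image
of the maximal ideal of `Bb`, with regular local ring.  Then `Bb` is formally smooth over `k`. -/
theorem formallySmooth_of_regular_point (k Ω Bb : Type u) [Field k] [Field Ω] [IsAlgClosed Ω]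
    [Algebra k Ω] [CommRing Bb] [IsLocalRing Bb] [Algebra k Bb] [Algebra.EssFiniteType k Bb]
    (𝔪' : Ideal (Ω ⊗[k] Bb)) [𝔪'.IsMaximal]
    (hmem : ∀ x : Bb, ¬ IsUnit x → (1 : Ω) ⊗ₜ[k] x ∈ 𝔪')
    (hreg : IsRegularLocalRing (Localization.AtPrime 𝔪')) :
    Algebra.FormallySmooth k Bb := by
  haveI : Algebra.EssFiniteType (Ω ⊗[k] Bb) (Localization.AtPrime 𝔪') :=
    Algebra.EssFiniteType.of_isLocalization _ 𝔪'.primeCompl
  haveI : Algebra.EssFiniteType Ω (Localization.AtPrime 𝔪') :=
    Algebra.EssFiniteType.comp Ω (Ω ⊗[k] Bb) (Localization.AtPrime 𝔪')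
  have hκ : Algebra.FormallySmooth Ω (ResidueField (Localization.AtPrime 𝔪')) :=
    Groth.Agent.H44.MacLane.formallySmooth_iff_isGeometricallyReduced.mpr
      (Groth.Agent.H49.SmoothFppf.isGeometricallyReduced_of_isAlgClosed Ω _)
  haveI : Algebra.FormallySmooth Ω (Localization.AtPrime 𝔪') :=
    (Groth.Agent.H79.SmoothReg.formallySmooth_iff_isRegularLocalRing Ω
      (Localization.AtPrime 𝔪') hκ).mpr hreg
  -- flatness
  haveI : Module.Flat Bb (Ω ⊗[k] Bb) :=
    Module.Flat.isBaseChange k Bb Ω (Ω ⊗[k] Bb)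
      (Algebra.IsPushout.out (R := k) (S := Bb) (R' := Ω) (S' := Ω ⊗[k] Bb))
  haveI : Module.Flat (Ω ⊗[k] Bb) (Localization.AtPrime 𝔪') :=
    IsLocalization.flat _ 𝔪'.primeCompl
  haveI : Module.Flat Bb (Localization.AtPrime 𝔪') :=
    Module.Flat.trans Bb (Ω ⊗[k] Bb) (Localization.AtPrime 𝔪')
  haveI : IsLocalHom (algebraMap Bb (Localization.AtPrime 𝔪')) := ⟨fun x hx => by
    by_contra hnu
    have h1 : algebraMap Bb (Ω ⊗[k] Bb) x ∈ 𝔪' := hmem x hnu
    have h2 : algebraMap (Ω ⊗[k] Bb) (Localization.AtPrime 𝔪') (algebraMap Bb (Ω ⊗[k] Bb) x) ∈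
        maximalIdeal (Localization.AtPrime 𝔪') :=
      (IsLocalization.AtPrime.to_map_mem_maximal_iff (Localization.AtPrime 𝔪') 𝔪' _).mpr h1
    rw [← IsScalarTower.algebraMap_apply] at h2
    exact (mem_maximalIdeal _).mp h2 hx⟩
  haveI : Module.FaithfullyFlat Bb (Localization.AtPrime 𝔪') :=
    Module.FaithfullyFlat.of_flat_of_isLocalHom
  haveI : IsNoetherianRing Bb := Algebra.EssFiniteType.isNoetherianRing k Bb
  haveI : Module.FinitePresentation Bb Ω[Bb⁄k] := Module.finitePresentation_of_finite Bb _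
  exact formallySmooth_of_formallySmooth_localization_pushout' k Bb Ω (Ω ⊗[k] Bb)
    (Localization.AtPrime 𝔪') 𝔪'.primeCompl

end Abstract

/-- (GL) -/
theorem formallySmooth_closedFibre_of_regular {A B : Type u} [CommRing A] [CommRing B]
    [Algebra A B] [IsNoetherianRing A] [IsLocalRing A] [IsLocalRing B]
    [IsLocalHom (algebraMap A B)] [Algebra.EssFiniteType A B]
    (Ω : Type u) [Field Ω] [IsAlgClosed Ω] [Algebra A Ω] [Algebra B Ω] [IsScalarTower A B Ω]
    (hχ : RingHom.ker (algebraMap B Ω) = maximalIdeal B)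
    (π : Ω ⊗[A] B →ₐ[Ω] Ω) (hπ : ∀ b : B, π (1 ⊗ₜ[A] b) = algebraMap B Ω b)
    (𝔪 : Ideal (Ω ⊗[A] B)) [𝔪.IsMaximal] (h𝔪 : RingHom.ker π.toRingHom = 𝔪)
    (hreg : IsRegularLocalRing (Localization.AtPrime 𝔪)) :
    Algebra.FormallySmooth (ResidueField A) (ResidueField A ⊗[A] B) := by
  -- the `k`-algebra structure on `Ω`
  haveI : IsLocalHom (algebraMap A Ω) := ⟨fun a ha => by
    by_contra hnu
    have h1 : ¬ IsUnit (algebraMap A B a) :=
      fun h => hnu (isUnit_of_map_unit (algebraMap A B) a h)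
    have h2 : algebraMap A B a ∈ RingHom.ker (algebraMap B Ω) := by
      rw [hχ]; exact (mem_maximalIdeal _).mpr h1
    rw [RingHom.mem_ker, ← IsScalarTower.algebraMap_apply] at h2
    rw [h2] at ha
    exact not_isUnit_zero ha⟩
  letI algkΩ : Algebra (ResidueField A) Ω := (ResidueField.lift (algebraMap A Ω)).toAlgebra
  haveI : IsScalarTower A (ResidueField A) Ω := .of_algebraMap_eq (fun a => by
    rw [RingHom.algebraMap_toAlgebra, ResidueField.algebraMap_eq, ResidueField.lift_residue_apply])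
  -- `B → k ⊗ B` is surjective
  have hsurj : Function.Surjective
      (Algebra.TensorProduct.includeRight : B →ₐ[A] ResidueField A ⊗[A] B) := by
    intro x
    induction x using TensorProduct.induction_on with
    | zero => exact ⟨0, map_zero _⟩
    | tmul c b =>
      obtain ⟨a, rfl⟩ := residue_surjective c
      refine ⟨a • b, ?_⟩
      rw [Algebra.TensorProduct.includeRight_apply, ← ResidueField.algebraMap_eq,
        Algebra.algebraMap_eq_smul_one, TensorProduct.smul_tmul]
    | add x y hx hy =>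
      obtain ⟨x', rfl⟩ := hx
      obtain ⟨y', rfl⟩ := hy
      exact ⟨x' + y', map_add _ _ _⟩
  let e : Ω ⊗[ResidueField A] (ResidueField A ⊗[A] B) ≃+* Ω ⊗[A] B :=
    (Algebra.TensorProduct.cancelBaseChange A (ResidueField A) Ω Ω B).toRingEquiv
  have he : ∀ b : B, e ((1 : Ω) ⊗ₜ[ResidueField A] ((1 : ResidueField A) ⊗ₜ[A] b)) =
      (1 : Ω) ⊗ₜ[A] b := by
    intro b
    simp [e]
  haveI : Nontrivial (ResidueField A ⊗[A] B) :=
    (π.toRingHom.comp ((e : Ω ⊗[ResidueField A] (ResidueField A ⊗[A] B) →+* Ω ⊗[A] B).comp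
      (Algebra.TensorProduct.includeRight :
        ResidueField A ⊗[A] B →ₐ[ResidueField A]
          Ω ⊗[ResidueField A] (ResidueField A ⊗[A] B)).toRingHom)).domain_nontrivial
  haveI : IsLocalRing (ResidueField A ⊗[A] B) :=
    IsLocalRing.of_surjective' (Algebra.TensorProduct.includeRight :
      B →ₐ[A] ResidueField A ⊗[A] B).toRingHom hsurj
  haveI : (𝔪.comap (e : Ω ⊗[ResidueField A] (ResidueField A ⊗[A] B) →+* Ω ⊗[A] B)).IsMaximal := Ideal.comap_isMaximal_of_equiv e
  have hmem : ∀ x : ResidueField A ⊗[A] B, ¬ IsUnit x →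
      (1 : Ω) ⊗ₜ[ResidueField A] x ∈ 𝔪.comap (e : Ω ⊗[ResidueField A] (ResidueField A ⊗[A] B) →+* Ω ⊗[A] B) := by
    intro x hx
    obtain ⟨b, rfl⟩ := hsurj x
    have hb : ¬ IsUnit b := fun h => hx (h.map _)
    have hb' : algebraMap B Ω b = 0 := by
      rw [← RingHom.mem_ker, hχ]; exact (mem_maximalIdeal _).mpr hb
    rw [Ideal.mem_comap, Algebra.TensorProduct.includeRight_apply]
    show e _ ∈ 𝔪
    rw [he, ← h𝔪, RingHom.mem_ker]
    show π _ = 0
    rw [hπ, hb']
  have hreg' : IsRegularLocalRing (Localization.AtPrime (𝔪.comap (e : Ω ⊗[ResidueField A] (ResidueField A ⊗[A] B) →+* Ω ⊗[A] B))) :=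
    IsRegularLocalRing.of_ringEquiv
      (Localization.localRingEquiv (𝔪.comap (e : Ω ⊗[ResidueField A] (ResidueField A ⊗[A] B) →+* Ω ⊗[A] B)) 𝔪 e rfl).symm
  exact formallySmooth_of_regular_point (ResidueField A) Ω (ResidueField A ⊗[A] B)
    (𝔪.comap (e : Ω ⊗[ResidueField A] (ResidueField A ⊗[A] B) →+* Ω ⊗[A] B)) hmem hreg'

end Groth.Agent.H44.PD_GL
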