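import Groth.Prelude.Def_C1
import Groth.Prelude.Def_Cyc
import Groth.Prelude.Def_Pic
import Groth.Prelude.Def_Omega4
import Groth.Agent.H95.SecOrd
import Groth.Agent.H22.PullGen
import Groth.Agent.H39.PullTrack5
import Groth.Agent.H54.KeyCIa

/-!
# Piece (SC) of the S1924 squad (helper34), in hypothesis form w.r.t. (SB)
-/

set_option autoImplicit false
universe u
open CategoryTheory AlgebraicGeometry TopologicalSpace Opposite

namespace Groth.Agent.H44.StubSub_SC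

open Groth.Agent.H18.TensorGen (IsGen exists_isGen)
open OmegaSh (pullSect)
open Groth.Agent.H95.SecOrd
open Groth.Agent.H95.AssGen (GenAt genAt_of_isGen germ_eq_smul_germ isUnit_germ_of_genAt)

variable {X Y : Scheme.{u}}

/-- (SC), with (SB) as a hypothesis. -/
theorem secOrdAt_pullback_closedImmersion_of (ι : Y ⟶ X) [IsClosedImmersion ι] {L : X.Modules}
    (hL : PicF.IsInvertible L)
    (hSB : ∀ (V : X.Opens) (τ : Γ(L, V)), IsGen L V τ →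
      IsGen ((Scheme.Modules.pullback ι).obj L) (ι ⁻¹ᵁ V) (pullSect ι L V τ))
    (y : Y)
    (u : Cyc.secFibre ((Scheme.Modules.pullback ι).obj L) y) (hu : u ≠ 0)
    (v : Cyc.secFibre L (ι y)) (hv : v ≠ 0) :
    ∃ g : X.residueField (ι y), g ≠ 0 ∧ ∀ (y' : Y) (h : y ⤳ y') (h' : ι y ⤳ ι y'),
      Cyc.secOrdAt ((Scheme.Modules.pullback ι).obj L) y y' h u =
        Cyc.secOrdAt L (ι y) (ι y') h' v + Cyc.ordAt (ι y') (ι y) h' g := by
  classical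
  obtain ⟨V₀, τ₀, hyV₀, hτ₀⟩ := exists_isGen hL (ι y)
  have hτ₀' := hSB V₀ τ₀ hτ₀
  have hyV₀' : y ∈ ι ⁻¹ᵁ V₀ := hyV₀
  obtain ⟨φ, hφ⟩ := exists_eq_smul_mk hτ₀' y hyV₀' u
  have hφu : IsUnit φ := isUnit_of_mk_ne_zero y hyV₀' u hu φ hφ
  obtain ⟨ψ, hψ⟩ := exists_eq_smul_mk hτ₀ (ι y) hyV₀ v
  have hψu : IsUnit ψ := isUnit_of_mk_ne_zero (ι y) hyV₀ v hv ψ hψ
  obtain ⟨φ', hφ'⟩ := ι.stalkMap_surjective y φ
  have hφ'u : IsUnit φ' := by
    have h1 : IsUnit ((ι.stalkMap y).hom φ') := by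
      rw [show (ι.stalkMap y).hom φ' = φ from hφ']
      exact hφu
    exact isUnit_of_map_unit (ι.stalkMap y).hom φ' h1
  refine ⟨X.residue (ι y) φ' * (X.residue (ι y) ψ)⁻¹,
    mul_ne_zero (residue_ne_zero_of_isUnit hφ'u) (inv_ne_zero (residue_ne_zero_of_isUnit hψu)), ?_⟩
  intro y' h h'
  obtain ⟨V, τ, hy'V, hτ⟩ := exists_isGen hL (ι y')
  have hyV : ι y ∈ V := h'.mem_open V.isOpen hy'V
  have hτ' := hSB V τ hτ
  have hyP : ι y ∈ V ⊓ V₀ := ⟨hyV, hyV₀⟩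
  obtain ⟨a, ha⟩ := (hτ (V ⊓ V₀) inf_le_left).2
    (L.presheaf.map (homOfLE (inf_le_right : V ⊓ V₀ ≤ V₀)).op τ₀)
  have ha' : L.presheaf.map (homOfLE (inf_le_right : V ⊓ V₀ ≤ V₀)).op τ₀ =
      a • L.presheaf.map (homOfLE (inf_le_left : V ⊓ V₀ ≤ V)).op τ := ha.symm
  have hαu : IsUnit (X.presheaf.germ (V ⊓ V₀) (ι y) hyP a) :=
    isUnit_germ_of_genAt hτ τ₀ a ha' (ι y) hyV hyV₀ hyP (genAt_of_isGen hτ₀ (ι y) hyV₀)
  have hgermX : L.presheaf.germ V₀ (ι y) hyV₀ τ₀ =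
      X.presheaf.germ (V ⊓ V₀) (ι y) hyP a • L.presheaf.germ V (ι y) hyV τ :=
    germ_eq_smul_germ τ τ₀ a ha' (ι y) hyV hyV₀ hyP
  have hyP' : y ∈ ι ⁻¹ᵁ (V ⊓ V₀) := hyP
  have hyV' : y ∈ ι ⁻¹ᵁ V := hyV
  have hy'V' : y' ∈ ι ⁻¹ᵁ V := hy'V
  have hgermY : ((Scheme.Modules.pullback ι).obj L).presheaf.germ (ι ⁻¹ᵁ V₀) y hyV₀'
      (pullSect ι L V₀ τ₀) =
      (ι.stalkMap y).hom (X.presheaf.germ (V ⊓ V₀) (ι y) hyP a) •
        ((Scheme.Modules.pullback ι).obj L).presheaf.germ (ι ⁻¹ᵁ V) y hyV' (pullSect ι L V τ) := by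
    have e1 := congrArg (pullSect ι L (V ⊓ V₀)) ha'
    rw [OmegaSh.pullSect_smul, OmegaSh.pullSect_map, OmegaSh.pullSect_map] at e1
    rw [← TopCat.Presheaf.germ_res_apply ((Scheme.Modules.pullback ι).obj L).presheaf
      (homOfLE (ι.preimage_mono (inf_le_right : V ⊓ V₀ ≤ V₀))) y hyP' (pullSect ι L V₀ τ₀), e1,
      Mero.germ_smul, TopCat.Presheaf.germ_res_apply]
    congr 1
    exact (Scheme.Hom.germ_stalkMap_apply ι (V ⊓ V₀) y hyP a).symm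
  have hv' : v = (ψ * X.presheaf.germ (V ⊓ V₀) (ι y) hyP a) •
      (Submodule.Quotient.mk (L.presheaf.germ V (ι y) hyV τ) : Cyc.secFibre L (ι y)) := by
    rw [hψ, hgermX, mul_smul, Submodule.Quotient.mk_smul]
  have hu' : u = ((ι.stalkMap y).hom (φ' * X.presheaf.germ (V ⊓ V₀) (ι y) hyP a)) •
      (Submodule.Quotient.mk (((Scheme.Modules.pullback ι).obj L).presheaf.germ (ι ⁻¹ᵁ V) y hyV'
        (pullSect ι L V τ)) : Cyc.secFibre ((Scheme.Modules.pullback ι).obj L) y) := by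
    rw [hφ, hgermY, map_mul, mul_smul, Submodule.Quotient.mk_smul,
      show (ι.stalkMap y).hom φ' = φ from hφ']
  have e1 := secOrdAt_eq_of_isGen hτ' h hy'V' hyV' u _ hu'
  have e2 := secOrdAt_eq_of_isGen hτ h' hy'V hyV v _ hv'
  rw [e1, e2]
  have e3 : Y.residue y ((ι.stalkMap y).hom (φ' * X.presheaf.germ (V ⊓ V₀) (ι y) hyP a)) =
      (ι.residueFieldMap y).hom
        (X.residue (ι y) (φ' * X.presheaf.germ (V ⊓ V₀) (ι y) hyP a)) := by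
    have := congrArg (fun φ => φ.hom (φ' * X.presheaf.germ (V ⊓ V₀) (ι y) hyP a))
      (Scheme.residue_residueFieldMap ι y)
    exact this.symm
  have hrα : X.residue (ι y) (X.presheaf.germ (V ⊓ V₀) (ι y) hyP a) ≠ 0 :=
    residue_ne_zero_of_isUnit hαu
  have hrψ : X.residue (ι y) ψ ≠ 0 := residue_ne_zero_of_isUnit hψu
  have hrφ : X.residue (ι y) φ' ≠ 0 := residue_ne_zero_of_isUnit hφ'u
  rw [e3, Groth.Agent.H54.KeyCIa.ordAt_residueFieldMap ι h h' _, map_mul, map_mul,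
    ← ordAt_mul h' (mul_ne_zero hrψ hrα) (mul_ne_zero hrφ (inv_ne_zero hrψ))]
  congr 1
  field_simp

end Groth.Agent.H44.StubSub_SC
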