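import Groth.Agent.H44.KeyRelT6
import Groth.Agent.H16.KeyRelT2

/-!
# (T6) for helper34's relative key formula squad: from (T5) only ((T2) = H16.KeyRelT2 wired in)
-/

set_option autoImplicit false
set_option linter.style.haveILetI false

universe u v

open CategoryTheory AlgebraicGeometry TopologicalSpace Opposite

namespace Groth.Agent.H44.KeyRelT6

open Groth.Agent.H34.Key Groth.Agent.H34.KeyRel

variable {X : Scheme.{u}}

theorem dim_locQuot_eq_one (δ : X → ℤ) (hX : Cyc.IsSetup X δ) {ζ ξ : X} (h : ζ ⤳ ξ)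
    (hξ : δ ξ + 1 = δ ζ) : ringKrullDim (Cyc.LocQuot ξ ζ h) = 1 := by
  obtain ⟨d, hd, hd'⟩ := Groth.Agent.H16.KeyRelT2.exists_dim_locQuot δ hX h
  have : d = 1 := by omega
  rw [hd, this]
  rfl

open Classical in
/-- (T6) from (T5). -/
theorem skl_frac_rel_of_T5 (δ : X → ℤ) (hX : Cyc.IsSetup X δ) {ζ x : X} (hx : ζ ⤳ x)
    (hδ : δ x + 2 = δ ζ)
    (hT5 : ∀ (a b : X.presheaf.stalk x), Cyc.specMap x ζ hx a ≠ 0 → Cyc.specMap x ζ hx b ≠ 0 →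
      ∑ᶠ ξ : X, (if h : ζ ⤳ ξ ∧ ξ ⤳ x ∧ δ x + 1 = δ ξ then
        Cyc.ordAt x ξ h.2.1 (resLQEquiv h.1 (CycAlg.tameSymbol (Cyc.LocQuot ξ ζ h.1)
          (Ideal.Quotient.mk (RingHom.ker (Cyc.specMap ξ ζ h.1))
            ((X.presheaf.stalkSpecializes h.2.1).hom a))
          (Ideal.Quotient.mk (RingHom.ker (Cyc.specMap ξ ζ h.1))
            ((X.presheaf.stalkSpecializes h.2.1).hom b))))
        else 0) = 0)
    (ψ χ : X.residueField ζ) (hψ : ψ ≠ 0) (hχ : χ ≠ 0) :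
    ∑ᶠ ξ : X, (if h : ζ ⤳ ξ ∧ ξ ⤳ x ∧ δ x + 1 = δ ξ then
      Cyc.ordAt x ξ h.2.1 (tameRel h.1 ψ χ) else 0) = 0 :=
  skl_frac_rel_core δ hX hx hδ (fun _ h hξ => dim_locQuot_eq_one δ hX h hξ) hT5 ψ χ hψ hχ

end Groth.Agent.H44.KeyRelT6
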