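import Mathlib

/-!
# Finite generation of the ideal generated by `g • f - f`

Lemma (P3) for helper63's S16212 squad.
-/

set_option autoImplicit false

universe u v

namespace Groth.Agent.H44.FixFG

open Ideal

theorem fg_span_smul_sub (R : Type u) [CommRing R] (B : Type u) [CommRing B] [Algebra R B]
    [Algebra.FiniteType R B] (G : Type v) [Group G] [Finite G] [MulSemiringAction G B]
    [SMulCommClass G R B] :
    (Ideal.span {x : B | ∃ (g : G) (f : B), x = g • f - f}).FG := by
  classical
  obtain ⟨s, hs⟩ := (Algebra.FiniteType.out : (⊤ : Subalgebra R B).FG)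
  haveI : Fintype G := Fintype.ofFinite G
  -- finite generating set
  let T : Set B := (fun p : G × B => p.1 • p.2 - p.2) '' ((Set.univ : Set G) ×ˢ (s : Set B))
  have hTfin : T.Finite := (Set.finite_univ.prod s.finite_toSet).image _
  let J₀ : Ideal B := Ideal.span T
  have hJ₀ : J₀.FG := ⟨hTfin.toFinset, by simp [J₀]⟩
  have key : ∀ (g : G) (b : B), g • b - b ∈ J₀ := by
    intro g
    -- subalgebra of elements with g • b - b ∈ J₀
    let A : Subalgebra R B :=
      { carrier := {b | g • b - b ∈ J₀}
        mul_mem' := by
          intro a b ha hb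
          simp only [Set.mem_setOf_eq] at ha hb ⊢
          have : g • (a * b) - a * b = (g • a) * (g • b - b) + (g • a - a) * b := by
            rw [smul_mul']; ring
          rw [this]
          exact J₀.add_mem (J₀.mul_mem_left _ hb) (J₀.mul_mem_right _ ha)
        add_mem' := by
          intro a b ha hb
          simp only [Set.mem_setOf_eq] at ha hb ⊢
          have : g • (a + b) - (a + b) = (g • a - a) + (g • b - b) := by
            rw [smul_add]; ring
          rw [this]
          exact J₀.add_mem ha hb
        algebraMap_mem' := by
          intro r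
          simp only [Set.mem_setOf_eq]
          have : g • (algebraMap R B r) = algebraMap R B r := by
            rw [Algebra.algebraMap_eq_smul_one, smul_comm, smul_one]
          rw [this, sub_self]
          exact J₀.zero_mem }
    have hsA : (s : Set B) ⊆ A := by
      intro b hb
      show g • b - b ∈ J₀
      exact Ideal.subset_span ⟨(g, b), ⟨Set.mem_univ _, hb⟩, rfl⟩
    have hA : A = ⊤ := by
      rw [eq_top_iff, ← hs]
      exact Algebra.adjoin_le hsA
    intro b
    have : b ∈ A := hA ▸ Algebra.mem_top
    exact this
  have heq : Ideal.span {x : B | ∃ (g : G) (f : B), x = g • f - f} = J₀ := by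
    apply le_antisymm
    · rw [Ideal.span_le]
      rintro x ⟨g, f, rfl⟩
      exact key g f
    · apply Ideal.span_mono
      rintro x ⟨⟨g, b⟩, -, rfl⟩
      exact ⟨g, b, rfl⟩
  rw [heq]
  exact hJ₀

end Groth.Agent.H44.FixFG
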