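import Groth.Agent.H44.DeltaZ
import Mathlib.Topology.Separation.Basic
import Mathlib.Order.RelSeries

set_option autoImplicit false
universe u

namespace Groth.Agent.H44

open Algz

variable {Y : Type u} [TopologicalSpace Y] [T0Space Y] {δ : Y → ℤ}

/-- a dimension function is monotone for specialisation. -/
lemma dimFun_mono
    (hδ : ∀ x y : Y, x ⤳ y → x ≠ y →
      δ y < δ x ∧ ((∀ z : Y, x ⤳ z → z ⤳ y → z = x ∨ z = y) → δ x = δ y + 1))
    {x y : Y} (h : x ⤳ y) : δ y ≤ δ x := by
  by_cases hxy : x = y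
  · rw [hxy]
  · exact (hδ x y h hxy).1.le

lemma codimPt_le_of_dimFun
    (hδ : ∀ x y : Y, x ⤳ y → x ≠ y →
      δ y < δ x ∧ ((∀ z : Y, x ⤳ z → z ⤳ y → z = x ∨ z = y) → δ x = δ y + 1))
    {w v : Y} (h : w ⤳ v) : codimPt w v h ≤ ((δ w - δ v).toNat : ℕ∞) := by
  unfold codimPt
  apply Order.height_le
  intro p hp
  have hmono : ∀ a b : Set.Ici (Specialization.toEquiv v), a < b →
      δ (Specialization.ofEquiv a.1) < δ (Specialization.ofEquiv b.1) := by
    intro a b hab
    have hab' : a.1 < b.1 := hab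
    have h1 : Specialization.ofEquiv b.1 ⤳ Specialization.ofEquiv a.1 := hab'.le
    have h2 : ¬ Specialization.ofEquiv a.1 ⤳ Specialization.ofEquiv b.1 := fun hh => hab'.not_ge hh
    exact (hδ _ _ h1 (fun e => h2 (specializes_of_eq e.symm))).1
  have key : ∀ i : Fin (p.length + 1),
      δ (Specialization.ofEquiv (p 0).1) + (i.val : ℤ) ≤ δ (Specialization.ofEquiv (p i).1) := by
    intro i
    induction i using Fin.induction with
    | zero => simp
    | succ i ih =>
      have hlt := hmono _ _ (p.strictMono (Fin.castSucc_lt_succ (i := i)))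
      have ih' : δ (Specialization.ofEquiv (p 0).1) + (i.val : ℤ) ≤
          δ (Specialization.ofEquiv (p i.castSucc).1) := ih
      have hval : ((i.succ).val : ℤ) = (i.val : ℤ) + 1 := by simp
      rw [hval]
      omega
  have h0 : δ v ≤ δ (Specialization.ofEquiv (p 0).1) :=
    dimFun_mono hδ (show Specialization.ofEquiv (p 0).1 ⤳ v from (p 0).2)
  have hlast : δ (Specialization.ofEquiv (p (Fin.last p.length)).1) = δ w := by
    have e : p (Fin.last p.length) = ⟨Specialization.toEquiv w, _⟩ := hp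
    rw [e]
    rfl
  have hk := key (Fin.last p.length)
  rw [hlast] at hk
  have hlen : p.length ≤ (δ w - δ v).toNat := by
    have : ((Fin.last p.length).val : ℤ) = p.length := by simp
    omega
  exact_mod_cast hlen

lemma le_codimPt_of_dimFun
    (hδ : ∀ x y : Y, x ⤳ y → x ≠ y →
      δ y < δ x ∧ ((∀ z : Y, x ⤳ z → z ⤳ y → z = x ∨ z = y) → δ x = δ y + 1))
    (v : Y) : ∀ (m : ℕ) (w : Y) (h : w ⤳ v), δ w - δ v = m → (m : ℕ∞) ≤ codimPt w v h := by
  intro m
  induction m with
  | zero =>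
    intro w h _
    simp
  | succ m ih =>
    intro w h hm
    have hne : w ≠ v := by
      rintro rfl
      simp at hm
      omega
    obtain ⟨t, ⟨z, hwz, hzv, hzw, rfl⟩, hmax⟩ := Int.exists_greatest_of_bdd
      (P := fun t => ∃ z, w ⤳ z ∧ z ⤳ v ∧ z ≠ w ∧ δ z = t)
      ⟨δ w, by
        rintro t ⟨z, hwz, -, -, rfl⟩
        exact dimFun_mono hδ hwz⟩
      ⟨δ v, v, h, specializes_rfl, hne.symm, rfl⟩
    have himm : ∀ u, w ⤳ u → u ⤳ z → u = w ∨ u = z := by
      intro u hwu huz
      by_contra hcon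
      push Not at hcon
      have h1 := hmax (δ u) ⟨u, hwu, huz.trans hzv, hcon.1, rfl⟩
      have h2 := (hδ u z huz hcon.2).1
      omega
    have h1 : δ w = δ z + 1 := (hδ w z hwz hzw.symm).2 himm
    have h2 : δ z - δ v = m := by
      push_cast at hm
      omega
    have ih' := ih z hzv h2
    have hstep : codimPt z v hzv + 1 ≤ codimPt w v h := by
      unfold codimPt
      apply Order.height_add_one_le
      rw [Subtype.mk_lt_mk]
      refine lt_of_le_not_ge (Specialization.toEquiv_le_toEquiv.mpr hwz) (fun hh => ?_)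
      have hzw' : z ⤳ w := Specialization.toEquiv_le_toEquiv.mp hh
      exact hzw ((hzw'.antisymm hwz).eq)
    calc ((m + 1 : ℕ) : ℕ∞) = (m : ℕ∞) + 1 := by push_cast; rfl
      _ ≤ codimPt z v hzv + 1 := by gcongr
      _ ≤ _ := hstep

lemma codimPt_eq_of_dimFun
    (hδ : ∀ x y : Y, x ⤳ y → x ≠ y →
      δ y < δ x ∧ ((∀ z : Y, x ⤳ z → z ⤳ y → z = x ∨ z = y) → δ x = δ y + 1))
    {w v : Y} (h : w ⤳ v) : codimPt w v h = ((δ w - δ v).toNat : ℕ∞) := by
  refine le_antisymm (codimPt_le_of_dimFun hδ h) ?_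
  have hnn : 0 ≤ δ w - δ v := sub_nonneg.mpr (dimFun_mono hδ h)
  exact le_codimPt_of_dimFun hδ v _ w h (Int.toNat_of_nonneg hnn).symm

end Groth.Agent.H44
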