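import Mathlib
import Groth.Agent.H87.IrrSUBLOC

/-!
# (MODEL) for helper38: hypersurface model of a finite type domain over a domain with perfect
fraction field
-/

set_option autoImplicit false
set_option linter.style.haveILetI false
universe u
open TensorProduct

namespace Groth.Agent.H44.IrrMODEL

open Groth.Agent.H87.IrrSUBLOC (exists_away_algEquiv_of_isFractionRing)

open Polynomial in
theorem core {A B K L : Type u} [CommRing A] [IsDomain A] [Field K] [Algebra A K]
    [IsFractionRing A K] [PerfectField K] [CommRing B] [IsDomain B] [Algebra A B]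
    [Algebra.FiniteType A B] [Field L] [Algebra B L] [IsFractionRing B L] [Algebra A L]
    [IsScalarTower A B L] [Algebra K L] [IsScalarTower A K L] :
    ∃ (r : ℕ) (F : Polynomial (MvPolynomial (Fin r) A)) (g : AdjoinRoot F) (h : B), F.Monic ∧
      (F.map (algebraMap (MvPolynomial (Fin r) A)
        (FractionRing (MvPolynomial (Fin r) A)))).Separable ∧
      Irreducible (F.map (algebraMap (MvPolynomial (Fin r) A)
        (FractionRing (MvPolynomial (Fin r) A)))) ∧
      g ≠ 0 ∧ h ≠ 0 ∧ Nonempty (Localization.Away g ≃ₐ[A] Localization.Away h) := by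
  classical
  haveI : Algebra.EssFiniteType B L := Algebra.EssFiniteType.of_isLocalization L (nonZeroDivisors B)
  haveI : Algebra.EssFiniteType A L := Algebra.EssFiniteType.comp A B L
  haveI : Algebra.EssFiniteType K L := Algebra.EssFiniteType.of_comp A K L
  obtain ⟨s, hs, hsep⟩ := exists_isTranscendenceBasis_and_isSeparable_of_perfectField K L
  let e : Fin s.card ≃ s := s.equivFin.symm
  let x : Fin s.card → L := fun i => (e i : L)
  have hxK : AlgebraicIndependent K x := hs.1.comp e e.injective
  have hrange : Set.range x = (s : Set L) := by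
    ext y
    constructor
    · rintro ⟨i, rfl⟩
      exact (e i).2
    · intro hy
      exact ⟨e.symm ⟨y, hy⟩, by simp [x]⟩
  have hinjAK : Function.Injective (algebraMap A K) := IsFractionRing.injective A K
  have hxA : AlgebraicIndependent A x := hxK.restrictScalars hinjAK
  let φ : MvPolynomial (Fin s.card) A →ₐ[A] L := MvPolynomial.aeval x
  have hφ : Function.Injective φ := hxA
  letI algPL : Algebra (MvPolynomial (Fin s.card) A) L := φ.toRingHom.toAlgebra
  have hPL : ∀ p : MvPolynomial (Fin s.card) A, algebraMap (MvPolynomial (Fin s.card) A) L p = φ p :=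
    fun _ => rfl
  haveI : IsScalarTower A (MvPolynomial (Fin s.card) A) L :=
    IsScalarTower.of_algebraMap_eq (fun a => (φ.commutes a).symm)
  haveI : FaithfulSMul (MvPolynomial (Fin s.card) A) L :=
    (faithfulSMul_iff_algebraMap_injective _ L).mpr hφ
  letI algQL : Algebra (FractionRing (MvPolynomial (Fin s.card) A)) L :=
    FractionRing.liftAlgebra (MvPolynomial (Fin s.card) A) L
  haveI : IsScalarTower (MvPolynomial (Fin s.card) A) (FractionRing (MvPolynomial (Fin s.card) A)) L :=
    FractionRing.isScalarTower_liftAlgebra (MvPolynomial (Fin s.card) A) L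
  haveI : IsScalarTower A (FractionRing (MvPolynomial (Fin s.card) A)) L :=
    IsScalarTower.of_algebraMap_eq (fun a => by
      rw [IsScalarTower.algebraMap_apply A (MvPolynomial (Fin s.card) A)
        (FractionRing (MvPolynomial (Fin s.card) A)),
        ← IsScalarTower.algebraMap_apply (MvPolynomial (Fin s.card) A)
          (FractionRing (MvPolynomial (Fin s.card) A)) L,
        ← IsScalarTower.algebraMap_apply A (MvPolynomial (Fin s.card) A) L])
  -- the image of `Q` in `L` is `K(s)`
  have hEle : ∀ c ∈ IntermediateField.adjoin K (s : Set L),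
      ∃ q : FractionRing (MvPolynomial (Fin s.card) A),
        algebraMap (FractionRing (MvPolynomial (Fin s.card) A)) L q = c := by
    let T : IntermediateField K L := Subfield.toIntermediateField
      (algebraMap (FractionRing (MvPolynomial (Fin s.card) A)) L).fieldRange (by
        intro k
        obtain ⟨a, b, hb, rfl⟩ := IsFractionRing.div_surjective (A := A) k
        rw [map_div₀, ← IsScalarTower.algebraMap_apply A K L,
          ← IsScalarTower.algebraMap_apply A K L]
        refine div_mem ?_ ?_
        · exact ⟨algebraMap A _ a, (IsScalarTower.algebraMap_apply A _ L a).symm⟩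
        · exact ⟨algebraMap A _ b, (IsScalarTower.algebraMap_apply A _ L b).symm⟩)
    have hle : IntermediateField.adjoin K (s : Set L) ≤ T := by
      rw [IntermediateField.adjoin_le_iff]
      intro y hy
      obtain ⟨i, rfl⟩ : ∃ i, x i = y := by
        rw [← hrange] at hy
        exact hy
      refine ⟨algebraMap (MvPolynomial (Fin s.card) A) _ (MvPolynomial.X i), ?_⟩
      rw [← IsScalarTower.algebraMap_apply (MvPolynomial (Fin s.card) A) _ L, hPL]
      simp [φ]
    intro c hc
    exact hle hc
  have hPE : ∀ p : MvPolynomial (Fin s.card) A,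
      algebraMap (MvPolynomial (Fin s.card) A) L p ∈ IntermediateField.adjoin K (s : Set L) := by
    intro p
    rw [hPL]
    induction p using MvPolynomial.induction_on with
    | C a =>
      have : φ (MvPolynomial.C a) = algebraMap K L (algebraMap A K a) := by
        rw [← IsScalarTower.algebraMap_apply A K L]
        simp [φ]
      rw [this]
      exact IntermediateField.algebraMap_mem _ _
    | add p q hp hq =>
      rw [map_add]
      exact add_mem hp hq
    | mul_X p i hp =>
      rw [map_mul]
      refine mul_mem hp ?_
      have : φ (MvPolynomial.X i) = x i := by simp [φ]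
      rw [this]
      exact IntermediateField.subset_adjoin K _ (by rw [← hrange]; exact ⟨i, rfl⟩)
  have hQE : ∀ q : FractionRing (MvPolynomial (Fin s.card) A),
      algebraMap (FractionRing (MvPolynomial (Fin s.card) A)) L q ∈
        IntermediateField.adjoin K (s : Set L) := by
    intro q
    obtain ⟨a, b, hb, rfl⟩ := IsFractionRing.div_surjective (A := MvPolynomial (Fin s.card) A) q
    rw [map_div₀, ← IsScalarTower.algebraMap_apply (MvPolynomial (Fin s.card) A) _ L,
      ← IsScalarTower.algebraMap_apply (MvPolynomial (Fin s.card) A) _ L]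
    exact div_mem (hPE a) (hPE b)
  let ι : FractionRing (MvPolynomial (Fin s.card) A) →+* IntermediateField.adjoin K (s : Set L) :=
    (algebraMap (FractionRing (MvPolynomial (Fin s.card) A)) L).codRestrict
      (IntermediateField.adjoin K (s : Set L)) hQE
  have hι : Function.Bijective ι := by
    refine ⟨ι.injective, fun c => ?_⟩
    obtain ⟨q, hq⟩ := hEle c c.2
    exact ⟨q, Subtype.ext hq⟩
  let e₁ : FractionRing (MvPolynomial (Fin s.card) A) ≃+* IntermediateField.adjoin K (s : Set L) :=
    RingEquiv.ofBijective ι hι
  haveI : Algebra.IsSeparable (FractionRing (MvPolynomial (Fin s.card) A)) L :=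
    Algebra.IsSeparable.of_equiv_equiv e₁.symm (RingEquiv.refl L) (by
      ext c
      show algebraMap (FractionRing (MvPolynomial (Fin s.card) A)) L (e₁.symm c) = (c : L)
      have h1 : ((e₁ (e₁.symm c) : IntermediateField.adjoin K (s : Set L)) : L) =
          algebraMap (FractionRing (MvPolynomial (Fin s.card) A)) L (e₁.symm c) := rfl
      rw [← h1, RingEquiv.apply_symm_apply])
  haveI : Algebra.EssFiniteType (FractionRing (MvPolynomial (Fin s.card) A)) L :=
    Algebra.EssFiniteType.of_comp A (FractionRing (MvPolynomial (Fin s.card) A)) L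
  haveI : Algebra.IsAlgebraic (FractionRing (MvPolynomial (Fin s.card) A)) L :=
    Algebra.IsSeparable.isAlgebraic _ _
  haveI : Module.Finite (FractionRing (MvPolynomial (Fin s.card) A)) L :=
    Algebra.finite_of_essFiniteType_of_isAlgebraic
  obtain ⟨θ, hθ⟩ := Field.exists_primitive_element (FractionRing (MvPolynomial (Fin s.card) A)) L
  have hθint : IsIntegral (FractionRing (MvPolynomial (Fin s.card) A)) θ :=
    Algebra.IsIntegral.isIntegral θ
  have hdeg : ∀ y : L, IntermediateField.adjoin (FractionRing (MvPolynomial (Fin s.card) A)) {y} = ⊤ →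
      (minpoly (FractionRing (MvPolynomial (Fin s.card) A)) y).natDegree =
        Module.finrank (FractionRing (MvPolynomial (Fin s.card) A)) L := by
    intro y hy
    rw [← IntermediateField.adjoin.finrank (Algebra.IsIntegral.isIntegral y), hy,
      IntermediateField.finrank_top']
  obtain ⟨b, hbM, hb⟩ := IsLocalization.integerNormalization_spec
    (nonZeroDivisors (MvPolynomial (Fin s.card) A))
    (minpoly (FractionRing (MvPolynomial (Fin s.card) A)) θ)
  set q := IsLocalization.integerNormalization (nonZeroDivisors (MvPolynomial (Fin s.card) A))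
    (minpoly (FractionRing (MvPolynomial (Fin s.card) A)) θ) with hq
  have hinjPQ : Function.Injective (algebraMap (MvPolynomial (Fin s.card) A)
      (FractionRing (MvPolynomial (Fin s.card) A))) := IsFractionRing.injective _ _
  have hbQ : algebraMap (MvPolynomial (Fin s.card) A)
      (FractionRing (MvPolynomial (Fin s.card) A)) b ≠ 0 := by
    rw [Ne, map_eq_zero_iff _ hinjPQ]
    exact nonZeroDivisors.ne_zero hbM
  have hq_ne : q ≠ 0 := by
    intro h
    rw [h, Polynomial.map_zero] at hb
    have h3 : (b • minpoly (FractionRing (MvPolynomial (Fin s.card) A)) θ).coeff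
        (minpoly (FractionRing (MvPolynomial (Fin s.card) A)) θ).natDegree = 0 := by
      rw [← hb, Polynomial.coeff_zero]
    rw [Polynomial.coeff_smul, Polynomial.coeff_natDegree, (minpoly.monic hθint).leadingCoeff,
      Algebra.smul_def, mul_one] at h3
    exact hbQ h3
  have hq_root : Polynomial.aeval θ q = 0 := by
    rw [← Polynomial.aeval_map_algebraMap (FractionRing (MvPolynomial (Fin s.card) A)), hb,
      ← algebraMap_smul (FractionRing (MvPolynomial (Fin s.card) A)) b, map_smul, minpoly.aeval,
      smul_zero]
  have hq_deg : q.natDegree ≤ Module.finrank (FractionRing (MvPolynomial (Fin s.card) A)) L := by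
    rw [← hdeg θ hθ, ← Polynomial.natDegree_map_eq_of_injective hinjPQ q, hb]
    exact Polynomial.natDegree_smul_le _ _
  have hlc : algebraMap (MvPolynomial (Fin s.card) A) L q.leadingCoeff ≠ 0 := by
    rw [Ne, hPL, map_eq_zero_iff _ hφ]
    exact Polynomial.leadingCoeff_ne_zero.mpr hq_ne
  -- the monic model polynomial
  have hF_monic : q.integralNormalization.Monic := Polynomial.monic_integralNormalization hq_ne
  have hF_root : Polynomial.aeval (algebraMap (MvPolynomial (Fin s.card) A) L q.leadingCoeff * θ)
      q.integralNormalization = 0 :=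
    Polynomial.integralNormalization_aeval_eq_zero hq_root (fun p hp => by
      rw [hPL] at hp
      exact (map_eq_zero_iff _ hφ).mp hp)
  set θ' : L := algebraMap (MvPolynomial (Fin s.card) A) L q.leadingCoeff * θ with hθ'
  have hθ'top : IntermediateField.adjoin (FractionRing (MvPolynomial (Fin s.card) A)) {θ'} = ⊤ := by
    rw [eq_top_iff, ← hθ, IntermediateField.adjoin_simple_le_iff]
    have h1 : θ = (algebraMap (FractionRing (MvPolynomial (Fin s.card) A)) L
        (algebraMap (MvPolynomial (Fin s.card) A) _ q.leadingCoeff))⁻¹ * θ' := by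
      rw [hθ', ← IsScalarTower.algebraMap_apply (MvPolynomial (Fin s.card) A) _ L,
        inv_mul_cancel_left₀ hlc]
    rw [h1]
    exact mul_mem (inv_mem (IntermediateField.algebraMap_mem _ _))
      (IntermediateField.mem_adjoin_simple_self _ θ')
  have hθ'int : IsIntegral (FractionRing (MvPolynomial (Fin s.card) A)) θ' :=
    Algebra.IsIntegral.isIntegral θ'
  have hFQ : q.integralNormalization.map (algebraMap (MvPolynomial (Fin s.card) A)
      (FractionRing (MvPolynomial (Fin s.card) A))) =
        minpoly (FractionRing (MvPolynomial (Fin s.card) A)) θ' := by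
    apply Polynomial.eq_of_monic_of_dvd_of_natDegree_le (minpoly.monic hθ'int) (hF_monic.map _)
    · apply minpoly.dvd
      rw [Polynomial.aeval_map_algebraMap]
      exact hF_root
    · rw [hF_monic.natDegree_map, Polynomial.natDegree_integralNormalization, hdeg θ' hθ'top]
      exact hq_deg
  have hF_irr : Irreducible (q.integralNormalization.map (algebraMap (MvPolynomial (Fin s.card) A)
      (FractionRing (MvPolynomial (Fin s.card) A)))) := by
    rw [hFQ]
    exact minpoly.irreducible hθ'int
  have hF_sep : (q.integralNormalization.map (algebraMap (MvPolynomial (Fin s.card) A)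
      (FractionRing (MvPolynomial (Fin s.card) A)))).Separable := by
    rw [hFQ]
    exact Algebra.IsSeparable.isSeparable _ θ'
  -- the map `AdjoinRoot F → L`
  let ψ : AdjoinRoot q.integralNormalization →ₐ[MvPolynomial (Fin s.card) A] L :=
    AdjoinRoot.liftAlgHom q.integralNormalization (Algebra.ofId _ L) θ' hF_root
  have hψmk : ∀ G : Polynomial (MvPolynomial (Fin s.card) A),
      ψ (AdjoinRoot.mk q.integralNormalization G) = Polynomial.aeval θ' G := fun G => rfl
  have hψ_inj : Function.Injective ψ := by
    rw [injective_iff_map_eq_zero]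
    intro z hz
    obtain ⟨G, rfl⟩ := AdjoinRoot.mk_surjective z
    rw [hψmk] at hz
    rw [AdjoinRoot.mk_eq_zero, ← Polynomial.map_dvd_map _ hinjPQ hF_monic, hFQ]
    apply minpoly.dvd
    rw [Polynomial.aeval_map_algebraMap]
    exact hz
  letI algSL : Algebra (AdjoinRoot q.integralNormalization) L := ψ.toRingHom.toAlgebra
  have hSL : ∀ z : AdjoinRoot q.integralNormalization,
      algebraMap (AdjoinRoot q.integralNormalization) L z = ψ z := fun _ => rfl
  haveI : IsScalarTower A (AdjoinRoot q.integralNormalization) L :=
    IsScalarTower.of_algebraMap_eq (fun a => by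
      rw [hSL, IsScalarTower.algebraMap_apply A (MvPolynomial (Fin s.card) A)
        (AdjoinRoot q.integralNormalization), ψ.commutes,
        ← IsScalarTower.algebraMap_apply A (MvPolynomial (Fin s.card) A) L])
  haveI : FaithfulSMul (AdjoinRoot q.integralNormalization) L :=
    (faithfulSMul_iff_algebraMap_injective _ L).mpr hψ_inj
  haveI : IsFractionRing (AdjoinRoot q.integralNormalization) L := by
    apply IsFractionRing.of_field
    intro z
    have hz : z ∈ (IntermediateField.adjoin (FractionRing (MvPolynomial (Fin s.card) A))
        {θ'}).toSubalgebra := by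
      rw [hθ'top]
      trivial
    rw [IntermediateField.adjoin_simple_toSubalgebra_of_isAlgebraic hθ'int.isAlgebraic,
      Algebra.adjoin_singleton_eq_range_aeval] at hz
    obtain ⟨G, rfl⟩ := hz
    obtain ⟨c, hcM, hc⟩ := IsLocalization.integerNormalization_spec
      (nonZeroDivisors (MvPolynomial (Fin s.card) A)) G
    refine ⟨AdjoinRoot.mk _ (IsLocalization.integerNormalization
      (nonZeroDivisors (MvPolynomial (Fin s.card) A)) G), AdjoinRoot.of _ c, ?_⟩
    have hc0 : algebraMap (MvPolynomial (Fin s.card) A) L c ≠ 0 := by
      rw [Ne, hPL, map_eq_zero_iff _ hφ]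
      exact nonZeroDivisors.ne_zero hcM
    have h1 : ψ (AdjoinRoot.of _ c) = algebraMap (MvPolynomial (Fin s.card) A) L c := by
      show ψ (algebraMap (MvPolynomial (Fin s.card) A) _ c) = _
      rw [ψ.commutes]
    rw [hSL, hSL, h1, hψmk, eq_div_iff hc0,
      ← Polynomial.aeval_map_algebraMap (FractionRing (MvPolynomial (Fin s.card) A)), hc,
      ← algebraMap_smul (FractionRing (MvPolynomial (Fin s.card) A)) c, map_smul,
      Algebra.smul_def, ← IsScalarTower.algebraMap_apply (MvPolynomial (Fin s.card) A) _ L,
      mul_comm]
    rfl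
  haveI : Algebra.FiniteType A (AdjoinRoot q.integralNormalization) := by
    haveI : Module.Finite (MvPolynomial (Fin s.card) A) (AdjoinRoot q.integralNormalization) :=
      hF_monic.finite_adjoinRoot
    exact Algebra.FiniteType.trans (S := MvPolynomial (Fin s.card) A) inferInstance inferInstance
  obtain ⟨s₁, s₂, hs₁, hs₂, hequiv⟩ := exists_away_algEquiv_of_isFractionRing (A := A)
    (S₁ := AdjoinRoot q.integralNormalization) (S₂ := B) (L := L)
  exact ⟨s.card, q.integralNormalization, s₁, s₂, hF_monic, hF_sep, hF_irr, hs₁, hs₂, hequiv⟩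

/-- (MODEL) hypersurface model of a finite type domain over a domain with perfect fraction
field. -/
theorem exists_hypersurface_model {A B : Type u} [CommRing A] [IsDomain A]
    [PerfectField (FractionRing A)] [CommRing B] [IsDomain B] [Algebra A B]
    [Algebra.FiniteType A B] (hinj : Function.Injective (algebraMap A B)) :
    ∃ (r : ℕ) (F : Polynomial (MvPolynomial (Fin r) A)) (g : AdjoinRoot F) (h : B), F.Monic ∧
      (F.map (algebraMap (MvPolynomial (Fin r) A)
        (FractionRing (MvPolynomial (Fin r) A)))).Separable ∧
      Irreducible (F.map (algebraMap (MvPolynomial (Fin r) A)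
        (FractionRing (MvPolynomial (Fin r) A)))) ∧
      g ≠ 0 ∧ h ≠ 0 ∧ Nonempty (Localization.Away g ≃ₐ[A] Localization.Away h) := by
  haveI : FaithfulSMul A (FractionRing B) := by
    rw [faithfulSMul_iff_algebraMap_injective, IsScalarTower.algebraMap_eq A B (FractionRing B)]
    exact (IsFractionRing.injective B (FractionRing B)).comp hinj
  letI : Algebra (FractionRing A) (FractionRing B) := FractionRing.liftAlgebra A (FractionRing B)
  haveI : IsScalarTower A (FractionRing A) (FractionRing B) :=
    FractionRing.isScalarTower_liftAlgebra A (FractionRing B)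
  exact core (A := A) (B := B) (K := FractionRing A) (L := FractionRing B)

end Groth.Agent.H44.IrrMODEL
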