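import Mathlib
import Groth.Agent.S0389

/-!
# (N1) for helper38: extension of geometric points along a finite type extension of domains
-/

set_option autoImplicit false
set_option linter.style.haveILetI false
universe u
open TensorProduct

namespace Groth.Agent.H44.IrrN1

/-- base change of a free nontrivial `A_f`-module to a field in which `f ≠ 0` is nontrivial. -/
theorem nontrivial_tensor_of_free {A C : Type u} [CommRing A] [CommRing C] [Algebra A C] (f : A)
    [Module.Free (Localization.Away f) (Localization.Away f ⊗[A] C)]
    [Nontrivial (Localization.Away f ⊗[A] C)]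
    (K : Type u) [Field K] [Algebra A K] (hf : algebraMap A K f ≠ 0) :
    Nontrivial (K ⊗[A] C) := by
  have hu : IsUnit (algebraMap A K f) := isUnit_iff_ne_zero.mpr hf
  letI : Algebra (Localization.Away f) K := (IsLocalization.Away.lift f hu).toAlgebra
  haveI : IsScalarTower A (Localization.Away f) K :=
    IsScalarTower.of_algebraMap_eq (fun a => (IsLocalization.Away.lift_eq f hu a).symm)
  haveI : Nontrivial (K ⊗[Localization.Away f] (Localization.Away f ⊗[A] C)) :=
    Module.FaithfullyFlat.rTensor_nontrivial _ _ K
  exact (TensorProduct.AlgebraTensorModule.cancelBaseChange A (Localization.Away f)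
    (Localization.Away f) K C).symm.toEquiv.nontrivial

/-- conversely, nontriviality descends from a field extension of `A_f`. -/
theorem nontrivial_of_nontrivial_tensor {A C : Type u} [CommRing A] [CommRing C] [Algebra A C]
    (f : A) (Ω : Type u) [Field Ω] [Algebra A Ω] (hf : algebraMap A Ω f ≠ 0)
    [Nontrivial (Ω ⊗[A] C)] : Nontrivial (Localization.Away f ⊗[A] C) := by
  have hu : IsUnit (algebraMap A Ω f) := isUnit_iff_ne_zero.mpr hf
  letI : Algebra (Localization.Away f) Ω := (IsLocalization.Away.lift f hu).toAlgebra
  haveI : IsScalarTower A (Localization.Away f) Ω :=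
    IsScalarTower.of_algebraMap_eq (fun a => (IsLocalization.Away.lift_eq f hu a).symm)
  by_contra hcon
  rw [not_nontrivial_iff_subsingleton] at hcon
  haveI : Subsingleton (Ω ⊗[Localization.Away f] (Localization.Away f ⊗[A] C)) :=
    ⟨fun x y => by
      have h0 : ∀ z : Ω ⊗[Localization.Away f] (Localization.Away f ⊗[A] C), z = 0 := by
        intro z
        induction z using TensorProduct.induction_on with
        | zero => rfl
        | tmul a b => rw [Subsingleton.elim b 0, TensorProduct.tmul_zero]
        | add a b ha hb => rw [ha, hb, add_zero]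
      rw [h0 x, h0 y]⟩
  have : Subsingleton (Ω ⊗[A] C) := (TensorProduct.AlgebraTensorModule.cancelBaseChange A
    (Localization.Away f) (Localization.Away f) Ω C).symm.toEquiv.subsingleton
  exact not_subsingleton _ this

/-- a nontrivial finite type algebra over an algebraically closed field has a rational point. -/
theorem exists_algHom_of_nontrivial (K : Type u) [Field K] [IsAlgClosed K] (D : Type u)
    [CommRing D] [Algebra K D] [Algebra.FiniteType K D] [Nontrivial D] :
    Nonempty (D →ₐ[K] K) := by
  obtain ⟨m, hm⟩ := Ideal.exists_maximal D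
  letI := Ideal.Quotient.field m
  haveI : Module.Finite K (D ⧸ m) := finite_of_finite_type_of_isJacobsonRing K (D ⧸ m)
  haveI : Algebra.IsIntegral K (D ⧸ m) := Algebra.IsIntegral.of_finite K (D ⧸ m)
  have hbij : Function.Bijective (algebraMap K (D ⧸ m)) :=
    IsAlgClosed.algebraMap_bijective_of_isIntegral
  let σ : K ≃ₐ[K] (D ⧸ m) := AlgEquiv.ofBijective (Algebra.ofId K (D ⧸ m)) hbij
  exact ⟨(σ.symm : (D ⧸ m) →ₐ[K] K).comp (Ideal.Quotient.mkₐ K m)⟩

/-- (N1) extension of geometric points along a finite type extension of domains. -/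
theorem exists_extension_ne_zero {A A₁ : Type u} [CommRing A] [IsDomain A] [CommRing A₁]
    [IsDomain A₁] [Algebra A A₁] [Algebra.FiniteType A A₁]
    (hinj : Function.Injective (algebraMap A A₁)) (a₁ : A₁) (ha₁ : a₁ ≠ 0) :
    ∃ a : A, a ≠ 0 ∧ ∀ (K : Type u) [Field K] [IsAlgClosed K] (ψ : A →+* K), ψ a ≠ 0 →
      ∃ ψ₁ : A₁ →+* K, ψ₁.comp (algebraMap A A₁) = ψ ∧ ψ₁ a₁ ≠ 0 := by
  haveI : Algebra.FiniteType A₁ (Localization.Away a₁) :=
    IsLocalization.finiteType_of_monoid_fg (Submonoid.powers a₁) _
  haveI : Algebra.FiniteType A (Localization.Away a₁) :=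
    Algebra.FiniteType.trans (S := A₁) inferInstance inferInstance
  haveI : IsDomain (Localization.Away a₁) :=
    IsLocalization.isDomain_localization (powers_le_nonZeroDivisors_of_noZeroDivisors ha₁)
  have hinjC : Function.Injective (algebraMap A (Localization.Away a₁)) := by
    rw [IsScalarTower.algebraMap_eq A A₁ (Localization.Away a₁)]
    exact (IsLocalization.injective (Localization.Away a₁)
      (powers_le_nonZeroDivisors_of_noZeroDivisors ha₁)).comp hinj
  obtain ⟨f, hf, -, hfree, -, -⟩ := Groth.Agent.S0389.result (R := A) (S := Localization.Away a₁)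
    (M := Localization.Away a₁)
  haveI := hfree
  -- nontriviality of the localized algebra
  haveI : Nontrivial (Localization.Away f ⊗[A] Localization.Away a₁) := by
    have hfC : IsUnit (algebraMap A (FractionRing (Localization.Away a₁)) f) := by
      rw [isUnit_iff_ne_zero, IsScalarTower.algebraMap_apply A (Localization.Away a₁)
        (FractionRing (Localization.Away a₁)), Ne, map_eq_zero_iff _
        (IsFractionRing.injective _ _), map_eq_zero_iff _ hinjC]
      exact hf
    let g₁ : Localization.Away f →ₐ[A] FractionRing (Localization.Away a₁) :=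
      { IsLocalization.Away.lift f hfC with
        commutes' := fun a => IsLocalization.Away.lift_eq f hfC a }
    let g₂ : Localization.Away a₁ →ₐ[A] FractionRing (Localization.Away a₁) :=
      IsScalarTower.toAlgHom A _ _
    exact (Algebra.TensorProduct.productMap g₁ g₂).toRingHom.domain_nontrivial
  refine ⟨f, hf, fun K _ _ ψ hψ => ?_⟩
  letI : Algebra A K := ψ.toAlgebra
  haveI : Nontrivial (K ⊗[A] Localization.Away a₁) :=
    nontrivial_tensor_of_free f K hψ
  obtain ⟨τ⟩ := exists_algHom_of_nontrivial K (K ⊗[A] Localization.Away a₁)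
  refine ⟨(τ.toRingHom.comp (Algebra.TensorProduct.includeRight (R := A) (A := K)
    (B := Localization.Away a₁)).toRingHom).comp (algebraMap A₁ (Localization.Away a₁)), ?_, ?_⟩
  · ext a
    show τ ((1 : K) ⊗ₜ[A] (algebraMap A₁ (Localization.Away a₁) (algebraMap A A₁ a))) = ψ a
    rw [← IsScalarTower.algebraMap_apply A A₁ (Localization.Away a₁), Algebra.algebraMap_eq_smul_one,
      ← TensorProduct.smul_tmul, ← Algebra.algebraMap_eq_smul_one]
    have : (algebraMap A K a ⊗ₜ[A] (1 : Localization.Away a₁)) =
        algebraMap K (K ⊗[A] Localization.Away a₁) (ψ a) := rfl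
    rw [this, τ.commutes]
    rfl
  · have hu : IsUnit (algebraMap A₁ (Localization.Away a₁) a₁) :=
      IsLocalization.Away.algebraMap_isUnit a₁
    exact (hu.map ((τ.toRingHom.comp (Algebra.TensorProduct.includeRight (R := A) (A := K)
      (B := Localization.Away a₁)).toRingHom))).ne_zero

end Groth.Agent.H44.IrrN1
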