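import Mathlib
import Groth.Agent.S0389
import Groth.Agent.H44.IrrN1

/-!
# (N2) for helper38: non-nilpotence spreads out
-/

set_option autoImplicit false
set_option linter.style.haveILetI false
universe u
open TensorProduct

namespace Groth.Agent.H44.IrrN2

open Groth.Agent.H44.IrrN1

/-- (N2) non-nilpotence spreads out. -/
theorem not_isNilpotent_spread {A B : Type u} [CommRing A] [IsDomain A] [CommRing B] [Algebra A B]
    [Algebra.FiniteType A B] (u : B) {Ω : Type u} [Field Ω] [Algebra A Ω]
    (hinj : Function.Injective (algebraMap A Ω)) (hu : ¬ IsNilpotent ((1 : Ω) ⊗ₜ[A] u)) :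
    ∃ a : A, a ≠ 0 ∧ ∀ (K : Type u) [Field K] [Algebra A K], algebraMap A K a ≠ 0 →
      ¬ IsNilpotent ((1 : K) ⊗ₜ[A] u) := by
  haveI : Algebra.FiniteType B (Localization.Away u) :=
    IsLocalization.finiteType_of_monoid_fg (Submonoid.powers u) _
  haveI : Algebra.FiniteType A (Localization.Away u) :=
    Algebra.FiniteType.trans (S := B) inferInstance inferInstance
  obtain ⟨f, hf, -, hfree, -, -⟩ := Groth.Agent.S0389.result (R := A) (S := Localization.Away u)
    (M := Localization.Away u)
  haveI := hfree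
  -- `Ω ⊗ C` is nontrivial
  haveI : Nontrivial (Ω ⊗[A] Localization.Away u) := by
    let e := IsLocalization.Away.tensorProductEquivTMulRight A Ω u (Localization.Away u)
    haveI : Nontrivial (Localization.Away ((1 : Ω) ⊗ₜ[A] u)) := by
      rw [← not_subsingleton_iff_nontrivial, IsLocalization.subsingleton_iff
        (M := Submonoid.powers ((1 : Ω) ⊗ₜ[A] u))]
      rintro ⟨n, hn⟩
      exact hu ⟨n, hn⟩
    exact e.toEquiv.nontrivial
  haveI : Nontrivial (Localization.Away f ⊗[A] Localization.Away u) :=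
    nontrivial_of_nontrivial_tensor f Ω (by rwa [Ne, map_eq_zero_iff _ hinj])
  refine ⟨f, hf, fun K _ _ hK hnil => ?_⟩
  haveI : Nontrivial (K ⊗[A] Localization.Away u) := nontrivial_tensor_of_free f K hK
  obtain ⟨n, hn⟩ := hnil
  have h1 : (Algebra.TensorProduct.map (AlgHom.id A K) (IsScalarTower.toAlgHom A B (Localization.Away u)))
      (((1 : K) ⊗ₜ[A] u) ^ n) = 0 := by rw [hn, map_zero]
  rw [map_pow, Algebra.TensorProduct.map_tmul] at h1
  have hunit : IsUnit ((1 : K) ⊗ₜ[A] (algebraMap B (Localization.Away u) u)) := by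
    have h2 : IsUnit (algebraMap B (Localization.Away u) u) :=
      IsLocalization.Away.algebraMap_isUnit u
    exact h2.map (Algebra.TensorProduct.includeRight (R := A) (A := K)
      (B := Localization.Away u))
  have h3 : IsUnit (((1 : K) ⊗ₜ[A] (algebraMap B (Localization.Away u) u)) ^ n) := hunit.pow n
  have h4 : ((AlgHom.id A K) 1 ⊗ₜ[A] (IsScalarTower.toAlgHom A B (Localization.Away u)) u) ^ n =
      ((1 : K) ⊗ₜ[A] (algebraMap B (Localization.Away u) u)) ^ n := rfl
  rw [h4] at h1
  rw [h1] at h3
  exact not_isUnit_zero h3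

end Groth.Agent.H44.IrrN2
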