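import Groth.Prelude.Def_NonAbH2
import Groth.Prelude.Def_Red2
import Groth.Prelude.Def_TwC
import Groth.Agent.H43.GaGmFn
import Groth.Agent.H91.GaDict
import Groth.Agent.H91.GaPt
import Groth.Agent.H27.OverPullback
import Mathlib

/-! (F) for S6008 (Artin–Schreier): the endomorphism `x ↦ x - x^p` of `𝔾_a` is flat, surjective
and quasi-compact. -/

set_option autoImplicit false
set_option linter.style.haveILetI false
universe u
open CategoryTheory CategoryTheory.Limits MonoidalCategory CartesianMonoidalCategory MonObj GrpObj AlgebraicGeometry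

namespace Groth.Agent.H44.AS_F

open Groth.Agent.H91.GaDict (Sym tt symIso specPt ringHomOfPt)
open Polynomial

noncomputable section

variable (p : ℕ)

/-- `t ↦ t - t^p` on the coordinate ring of `𝔾_a`. -/
def phi : Sym.{u} →ₐ[ULift.{u} ℤ] Sym.{u} :=
  SymmetricAlgebra.lift (LinearMap.toSpanSingleton _ _ (tt - tt ^ p))

theorem phi_tt : phi.{u} p tt = tt - tt ^ p := by
  rw [phi]
  erw [SymmetricAlgebra.lift_ι_apply]
  show (1 : ULift.{u} ℤ) • (tt - tt ^ p) = tt - tt ^ p
  exact one_smul _ _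

/-- `X^p - (X - t)`. -/
def f : (Sym.{u})[X] := X ^ p - (X - C tt)

instance : Nontrivial Sym.{u} := by
  have h : Function.Injective (algebraMap (ULift.{u} ℤ) Sym.{u}) :=
    Function.LeftInverse.injective (g := SymmetricAlgebra.algebraMapInv (R := ULift.{u} ℤ) (M := ULift.{u} ℤ))
      (SymmetricAlgebra.algebraMap_leftInverse (R := ULift.{u} ℤ) (M := ULift.{u} ℤ))
  exact h.nontrivial

theorem f_monic (hp : 2 ≤ p) : (f.{u} p).Monic := by
  apply monic_X_pow_sub
  rw [degree_X_sub_C]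
  exact_mod_cast hp

theorem root_rel : (AdjoinRoot.root (f.{u} p)) - (AdjoinRoot.root (f.{u} p)) ^ p =
    AdjoinRoot.of (f.{u} p) tt := by
  have h : AdjoinRoot.mk (f.{u} p) (X ^ p - (X - C tt)) = 0 := AdjoinRoot.mk_self
  rw [map_sub, map_sub, map_pow, AdjoinRoot.mk_X, AdjoinRoot.mk_C] at h
  linear_combination -h

/-- `Sym[X]/(X^p - X + t) → Sym`, `X ↦ t`. -/
def toA : AdjoinRoot (f.{u} p) →+* Sym.{u} :=
  AdjoinRoot.lift (phi.{u} p).toRingHom tt (by
    simp only [f, eval₂_sub, eval₂_pow, eval₂_X, eval₂_C]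
    show tt ^ p - (tt - phi.{u} p tt) = 0
    rw [phi_tt]; ring)

/-- `Sym → Sym[X]/(X^p - X + t)`, `t ↦ X`. -/
def fromA : Sym.{u} →+* AdjoinRoot (f.{u} p) :=
  Groth.Agent.H93.GaGmLaw.gaHom.{u} (AdjoinRoot.root (f.{u} p))

theorem fromA_tt : fromA.{u} p tt = AdjoinRoot.root (f.{u} p) :=
  Groth.Agent.H93.GaGmLaw.gaHom_tt.{u} (AdjoinRoot.root (f.{u} p))

theorem toA_fromA : (toA.{u} p).comp (fromA.{u} p) = RingHom.id _ := by
  apply Groth.Agent.H93.GaGmLaw.sym_hom_ext
  show toA.{u} p (fromA.{u} p tt) = tt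
  rw [fromA_tt, toA, AdjoinRoot.lift_root]

theorem fromA_phi : (fromA.{u} p).comp (phi.{u} p).toRingHom = AdjoinRoot.of (f.{u} p) := by
  apply Groth.Agent.H93.GaGmLaw.sym_hom_ext
  show fromA.{u} p (phi.{u} p tt) = AdjoinRoot.of (f.{u} p) tt
  rw [phi_tt, map_sub, map_pow, fromA_tt, root_rel]

theorem fromA_toA : (fromA.{u} p).comp (toA.{u} p) = RingHom.id _ := by
  have h1 : ((fromA.{u} p).comp (toA.{u} p)).comp (AdjoinRoot.of (f.{u} p)) = AdjoinRoot.of (f.{u} p) := by
    rw [RingHom.comp_assoc, toA, AdjoinRoot.lift_comp_of, fromA_phi]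
  have h2 : ((fromA.{u} p).comp (toA.{u} p)) (AdjoinRoot.root _) = AdjoinRoot.root _ := by
    rw [RingHom.comp_apply, toA, AdjoinRoot.lift_root, fromA_tt]
  refine RingHom.ext fun x => ?_
  induction x using AdjoinRoot.induction_on with
  | ih q =>
    induction q using Polynomial.induction_on' with
    | add q r hq hr => rw [map_add, map_add, hq, hr, map_add]
    | monomial m a =>
      rw [← C_mul_X_pow_eq_monomial, map_mul, map_pow, AdjoinRoot.mk_C, AdjoinRoot.mk_X, map_mul, map_pow, h2]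
      rw [RingHom.id_apply]
      congr 1
      exact DFunLike.congr_fun h1 a

/-- the ring isomorphism. -/
def e : AdjoinRoot (f.{u} p) ≃+* Sym.{u} :=
  RingEquiv.ofRingHom (toA.{u} p) (fromA.{u} p) (toA_fromA p) (fromA_toA p)

theorem e_comp : ((e.{u} p : _ →+* _)).comp (algebraMap _ (AdjoinRoot (f.{u} p))) = (phi.{u} p).toRingHom := by
  refine RingHom.ext fun x => ?_
  show toA.{u} p (AdjoinRoot.of _ x) = _
  rw [toA, AdjoinRoot.lift_of]

theorem phi_faithfullyFlat (hp : 2 ≤ p) : (phi.{u} p).toRingHom.FaithfullyFlat := by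
  rw [← e_comp p]
  have := (f_monic.{u} p hp).free_adjoinRoot
  have : Nontrivial (AdjoinRoot (f.{u} p)) := (e.{u} p).toEquiv.nontrivial
  refine RingHom.FaithfullyFlat.stableUnderComposition _ _ ?_ (RingHom.FaithfullyFlat.of_bijective (e.{u} p).bijective)
  exact RingHom.faithfullyFlat_algebraMap_iff.mpr inferInstance

open GmPts (baseZ toBaseZ)

/-- `℘ = id - F` on `𝔾_a` over `ℤ`. -/
def pZ : Red.GaZ.{u} ⟶ Red.GaZ.{u} :=
  (Spec.map (CommRingCat.ofHom (phi.{u} p).toRingHom)).asOver (Spec (CommRingCat.of (ULift.{u} ℤ)))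

theorem pZ_left : (pZ.{u} p).left = Spec.map (CommRingCat.ofHom (phi.{u} p).toRingHom) := rfl

theorem pZ_left_props (hp : 2 ≤ p) :
    Flat (pZ.{u} p).left ∧ Surjective (pZ.{u} p).left ∧ QuasiCompact (pZ.{u} p).left := by
  have h1 : Flat (Spec.map (CommRingCat.ofHom (phi.{u} p).toRingHom)) ∧
      Surjective (Spec.map (CommRingCat.ofHom (phi.{u} p).toRingHom)) :=
    (flat_and_surjective_SpecMap_iff _).mpr (phi_faithfullyFlat p hp)
  have h3 : ∀ {R R' : CommRingCat.{u}} (g : R ⟶ R'), QuasiCompact (Spec.map g) := by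
    intro R R' g
    infer_instance
  exact ⟨h1.1, h1.2, h3 _⟩

variable (S : Scheme.{u})

/-- `℘ = id - F` on `𝔾_{a,S}`. -/
def w : Red.Ga S ⟶ Red.Ga S := (Over.pullback (toBaseZ S)).map (pZ.{u} p)

theorem w_left_props (hp : 2 ≤ p) :
    Flat (w p S).left ∧ Surjective (w p S).left ∧ QuasiCompact (w p S).left := by
  obtain ⟨h1, h2, h3⟩ := pZ_left_props.{u} p hp
  exact ⟨Groth.Agent.H27.pullback_map_left_of_stable @Flat _ _ h1,
    Groth.Agent.H27.pullback_map_left_of_stable @Surjective _ _ h2,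
    Groth.Agent.H27.pullback_map_left_of_stable @QuasiCompact _ _ h3⟩

variable {S}

theorem gaFn_w {T : Over S} (x : T ⟶ Red.Ga S) :
    Red.gaFn (x ≫ w p S) = Red.gaFn x - Red.gaFn x ^ p := by
  change ((x ≫ w p S).left ≫ pullback.fst Red.GaZ.hom (toBaseZ S)).appTop Red.gaCoord = _
  rw [Over.comp_left, Category.assoc, w, GmPts.pullback_map_left_fst, ← Category.assoc]
  refine (GmPts.appTop_comp_apply _ _ _).trans ?_
  change (specPt x).appTop
    ((Spec.map (CommRingCat.ofHom (phi.{u} p).toRingHom)).appTop (symIso.inv tt)) = _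
  rw [Groth.Agent.H91.GaDict.specMap_appTop_symIso_inv]
  change ringHomOfPt x (phi.{u} p tt) = _
  rw [phi_tt, map_sub, map_pow]
  rfl

end

set_option linter.dupNamespace false in
theorem AS_F (p : ℕ) [Fact p.Prime] {S : Scheme.{u}} (v : Red.Ga S ⟶ Red.Ga S)
    (hv : ∀ (T : Over S) (x : T ⟶ Red.Ga S), Red.gaFn (x ≫ v) = Red.gaFn x - Red.gaFn x ^ p) :
    Flat v.left ∧ Surjective v.left ∧ QuasiCompact v.left := by
  have hp : 2 ≤ p := (Fact.out : p.Prime).two_le
  have hvw : v = w p S := by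
    have h := Groth.Agent.H91.GaDict.gaFn_injective
      ((hv _ (𝟙 (Red.Ga S))).trans (gaFn_w p (𝟙 (Red.Ga S))).symm)
    simpa using h
  rw [hvw]
  exact w_left_props p S hp

end Groth.Agent.H44.AS_F
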