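import Mathlib
import Groth.Agent.H75.FunctApprox
import Groth.Agent.H34.AdicFib

/-!
# Artin approximation for functors, henselian pair over a G-ring (S14050), assuming Popescu
-/

set_option autoImplicit false
universe u
open CategoryTheory CategoryTheory.Limits

namespace Groth.Agent.H44.ApproxPair

/-- statement of S14050, assuming Popescu's theorem (S0595) -/
theorem main (hP : Groth.Agent.H75.ArtinApprox.Popescu.{u}) (A : Type u) [CommRing A]
    (I : Ideal A) [HenselianRing A I] (hG : CAlg.IsGRing A)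
    (F : Under (CommRingCat.of A) ⥤ Type u)
    (hF : ∀ (J : Type u) [SmallCategory J] [IsFiltered J], PreservesColimitsOfShape J F)
    (n : ℕ)
    (π : Under.mk (CommRingCat.ofHom (algebraMap A (AdicCompletion I A))) ⟶
      Under.mk (CommRingCat.ofHom (algebraMap A (A ⧸ I ^ (n + 1)))))
    (hπ : π.right = CommRingCat.ofHom
      (AdicCompletion.evalₐ I (n + 1) : AdicCompletion I A →ₐ[A] A ⧸ I ^ (n + 1)).toRingHom)
    (ρ : Under.mk (𝟙 (CommRingCat.of A)) ⟶
      Under.mk (CommRingCat.ofHom (algebraMap A (A ⧸ I ^ (n + 1)))))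
    (ξ : F.obj (Under.mk (CommRingCat.ofHom (algebraMap A (AdicCompletion I A))))) :
    ∃ η : F.obj (Under.mk (𝟙 (CommRingCat.of A))), F.map ρ η = F.map π ξ := by
  haveI : IsNoetherianRing A := hG.1
  exact Groth.Agent.H75.FunctApprox.main_pair hP A I (Groth.Agent.H34.AdicFib.regular A hG I)
    F hF (n + 1) (Nat.le_add_left 1 n) π hπ ρ ξ

end Groth.Agent.H44.ApproxPair
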