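import Groth.Agent.H44.Conormal
import Mathlib.FieldTheory.IsAlgClosed.AlgebraicClosure
import Mathlib.RingTheory.LocalRing.ResidueField.Basic
import Mathlib.RingTheory.Polynomial.Basic
import Mathlib.Algebra.TrivSqZeroExt.Basic

/-!
# The ring `A[T₁,…,T_r]/(T_i^p - f_i)` over an Artinian local ring with `m² = 0` of char. `p`
-/

set_option autoImplicit false

universe u

open IsLocalRing KaehlerDifferential TensorProduct Module

namespace Groth.Agent.H44.ArtinP

open Groth.Agent.H44.Fredholm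

variable {A : Type u} [CommRing A] (p : ℕ) {r : ℕ} (f : Fin r → A)

/-- the ideal of relations -/
noncomputable abbrev Irel : Ideal (MvPolynomial (Fin r) A) :=
  Ideal.span (Set.range fun i => MvPolynomial.X i ^ p - MvPolynomial.C (f i))

/-- the ring `B = A[T]/(T_i^p - f_i)` -/
abbrev Bq : Type u := MvPolynomial (Fin r) A ⧸ Irel p f

/-- the class of `T_i` -/
noncomputable def tq (i : Fin r) : Bq p f := Ideal.Quotient.mk _ (MvPolynomial.X i)

theorem tq_pow (i : Fin r) : tq p f i ^ p = algebraMap A (Bq p f) (f i) := by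
  rw [← sub_eq_zero]
  show Ideal.Quotient.mk (Irel p f) (MvPolynomial.X i) ^ p -
    Ideal.Quotient.mk (Irel p f) (MvPolynomial.C (f i)) = 0
  rw [← map_pow, ← map_sub, Ideal.Quotient.eq_zero_iff_mem]
  exact Ideal.subset_span ⟨i, rfl⟩

section lift

variable {C : Type*} [CommRing C] (ψ : A →+* C) (c : Fin r → C) (h : ∀ i, c i ^ p = ψ (f i))

/-- ring homomorphisms out of `B` -/
noncomputable def liftB : Bq p f →+* C :=
  Ideal.Quotient.lift _ (MvPolynomial.eval₂Hom ψ c) (by
    intro q hq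
    have hle : Irel p f ≤ RingHom.ker (MvPolynomial.eval₂Hom ψ c) := by
      rw [Ideal.span_le]
      rintro _ ⟨i, rfl⟩
      rw [SetLike.mem_coe, RingHom.mem_ker, map_sub, map_pow, MvPolynomial.eval₂Hom_X',
        MvPolynomial.eval₂Hom_C, h i, sub_self]
    exact hle hq)

theorem liftB_algebraMap (a : A) : liftB p f ψ c h (algebraMap A (Bq p f) a) = ψ a := by
  show liftB p f ψ c h (Ideal.Quotient.mk _ (MvPolynomial.C a)) = ψ a
  rw [liftB, Ideal.Quotient.lift_mk, MvPolynomial.eval₂Hom_C]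

theorem liftB_tq (i : Fin r) : liftB p f ψ c h (tq p f i) = c i := by
  rw [tq, liftB, Ideal.Quotient.lift_mk, MvPolynomial.eval₂Hom_X']

end lift

section loc

variable [IsLocalRing A]

theorem nontrivial_Bq (hp : 0 < p) : Nontrivial (Bq p f) := by
  let Kb := AlgebraicClosure (ResidueField A)
  let ψ : A →+* Kb := (algebraMap (ResidueField A) Kb).comp (residue A)
  have hc : ∀ i, ∃ z : Kb, z ^ p = ψ (f i) := fun i => IsAlgClosed.exists_pow_nat_eq _ hp
  choose c hc using hc
  exact (liftB p f ψ c hc).domain_nontrivial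

variable [Fact p.Prime] [CharP A p]

theorem charP_Bq : CharP (Bq p f) p := by
  haveI := nontrivial_Bq p f (Fact.out : p.Prime).pos
  have h0 : ((p : ℕ) : Bq p f) = 0 := by
    rw [← map_natCast (algebraMap A (Bq p f)), CharP.cast_eq_zero, map_zero]
  exact ringChar.of_eq (CharP.ringChar_of_prime_eq_zero Fact.out h0)

theorem exists_pow_eq (b : Bq p f) : ∃ a : A, b ^ p = algebraMap A (Bq p f) a := by
  haveI := charP_Bq p f
  obtain ⟨q, rfl⟩ := Ideal.Quotient.mk_surjective b
  induction q using MvPolynomial.induction_on with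
  | C a =>
    refine ⟨a ^ p, ?_⟩
    show (algebraMap A (Bq p f) a) ^ p = _
    rw [map_pow]
  | add q₁ q₂ h₁ h₂ =>
    obtain ⟨a₁, h₁⟩ := h₁
    obtain ⟨a₂, h₂⟩ := h₂
    exact ⟨a₁ + a₂, by rw [map_add, add_pow_char, h₁, h₂, map_add]⟩
  | mul_X q i h =>
    obtain ⟨a, h⟩ := h
    refine ⟨a * f i, ?_⟩
    rw [map_mul, mul_pow, h, map_mul]
    congr 1
    exact tq_pow p f i

theorem isUnit_or_isNilpotent (hm : maximalIdeal A ^ 2 = ⊥) (b : Bq p f) :
    IsUnit b ∨ IsNilpotent b := by
  obtain ⟨a, ha⟩ := exists_pow_eq p f b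
  by_cases hu : IsUnit a
  · left
    have h1 : IsUnit (b ^ p) := ha ▸ hu.map (algebraMap A (Bq p f))
    exact (isUnit_pow_iff (Fact.out : p.Prime).ne_zero).mp h1
  · right
    have hmem : a ∈ maximalIdeal A := (mem_maximalIdeal a).mpr hu
    have h2 : a ^ 2 = 0 := by
      have h3 : a ^ 2 ∈ maximalIdeal A ^ 2 := Ideal.pow_mem_pow hmem 2
      rwa [hm, Ideal.mem_bot] at h3
    exact ⟨p * 2, by rw [pow_mul, ha, ← map_pow, h2, map_zero]⟩

theorem isLocalRing_Bq (hm : maximalIdeal A ^ 2 = ⊥) : IsLocalRing (Bq p f) := by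
  haveI := nontrivial_Bq p f (Fact.out : p.Prime).pos
  refine IsLocalRing.of_nonunits_add ?_
  intro x y hx hy
  obtain ⟨n, hn⟩ := Commute.isNilpotent_add (Commute.all x y)
    ((isUnit_or_isNilpotent p f hm x).resolve_left hx)
    ((isUnit_or_isNilpotent p f hm y).resolve_left hy)
  intro hu
  have h1 := hu.pow n
  rw [hn] at h1
  exact not_isUnit_zero h1

theorem isLocalHom_algebraMap (hm : maximalIdeal A ^ 2 = ⊥) :
    IsLocalHom (algebraMap A (Bq p f)) := by
  haveI := nontrivial_Bq p f (Fact.out : p.Prime).pos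
  refine ⟨fun a ha => ?_⟩
  by_contra hu
  have hmem : a ∈ maximalIdeal A := (mem_maximalIdeal a).mpr hu
  have h2 : a ^ 2 = 0 := by
    have h3 : a ^ 2 ∈ maximalIdeal A ^ 2 := Ideal.pow_mem_pow hmem 2
    rwa [hm, Ideal.mem_bot] at h3
  have h4 : IsUnit ((algebraMap A (Bq p f) a) ^ 2) := ha.pow 2
  rw [← map_pow, h2, map_zero] at h4
  exact not_isUnit_zero h4

theorem isNilpotent_maximalIdeal_Bq (hm : maximalIdeal A ^ 2 = ⊥) [IsNoetherianRing A]
    [hB : IsLocalRing (Bq p f)] : IsNilpotent (maximalIdeal (Bq p f)) := by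
  rw [Ideal.FG.isNilpotent_iff_le_nilradical (IsNoetherian.noetherian _)]
  intro x hx
  rw [mem_nilradical]
  exact (isUnit_or_isNilpotent p f hm x).resolve_left ((mem_maximalIdeal x).mp hx)

theorem finite_Bq : Module.Finite A (Bq p f) := by
  haveI : Algebra.IsIntegral A (Bq p f) := ⟨fun b => by
    obtain ⟨a, ha⟩ := exists_pow_eq p f b
    refine ⟨Polynomial.X ^ p - Polynomial.C a,
      Polynomial.monic_X_pow_sub_C a (Fact.out : p.Prime).ne_zero, ?_⟩
    simp [ha]⟩
  haveI : Algebra.FiniteType A (Bq p f) :=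
    Algebra.FiniteType.of_surjective (Ideal.Quotient.mkₐ A (Irel p f))
      (Ideal.Quotient.mkₐ_surjective A _)
  exact Algebra.IsIntegral.finite

set_option backward.isDefEq.respectTransparency false in
theorem finrank_tensor_kaehler [hB : IsLocalRing (Bq p f)] :
    Module.Finite (ResidueField (Bq p f)) (ResidueField (Bq p f) ⊗[Bq p f] Ω[Bq p f⁄A]) ∧
      Module.finrank (ResidueField (Bq p f)) (ResidueField (Bq p f) ⊗[Bq p f] Ω[Bq p f⁄A]) = r := by
  let P : Algebra.Generators A (Bq p f) (Fin r) := Algebra.Generators.naive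
  have hker : P.ker = Irel p f := Algebra.Generators.ker_naive _ _
  have hcc : P.toExtension.cotangentComplex = 0 := by
    have hspan := Algebra.Extension.Cotangent.span_eq_top_of_span_eq_ker (P := P.toExtension)
      (fun i : Fin r => (MvPolynomial.X i ^ p - MvPolynomial.C (f i) : MvPolynomial (Fin r) A))
      hker.symm
    apply LinearMap.ext_on hspan
    rintro _ ⟨i, rfl⟩
    rw [Algebra.Extension.cotangentComplex_mk, LinearMap.zero_apply]
    have h0 : KaehlerDifferential.D A (MvPolynomial (Fin r) A)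
        (MvPolynomial.X i ^ p - MvPolynomial.C (f i)) = 0 := by
      rw [map_sub, Derivation.leibniz_pow, ← MvPolynomial.algebraMap_eq,
        Derivation.map_algebraMap, sub_zero,
        ← Nat.cast_smul_eq_nsmul (MvPolynomial (Fin r) A), CharP.cast_eq_zero, zero_smul]
    exact (congrArg _ h0).trans (TensorProduct.tmul_zero _ _)
  have hinj : Function.Injective P.toExtension.toKaehler := by
    rw [injective_iff_map_eq_zero]
    intro x hx
    obtain ⟨y, rfl⟩ := (P.toExtension.exact_cotangentComplex_toKaehler x).mp hx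
    rw [hcc, LinearMap.zero_apply]
  let e : P.toExtension.CotangentSpace ≃ₗ[Bq p f] Ω[Bq p f⁄A] :=
    LinearEquiv.ofBijective P.toExtension.toKaehler ⟨hinj, P.toExtension.toKaehler_surjective⟩
  let b : Basis (Fin r) (Bq p f) Ω[Bq p f⁄A] := P.cotangentSpaceBasis.map e
  haveI : Module.Free (Bq p f) Ω[Bq p f⁄A] := Module.Free.of_basis b
  haveI : Module.Finite (Bq p f) Ω[Bq p f⁄A] := Module.Finite.of_basis b
  refine ⟨inferInstance, ?_⟩
  rw [Module.finrank_baseChange, Module.finrank_eq_card_basis b, Fintype.card_fin]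

end loc

end Groth.Agent.H44.ArtinP
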