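import Groth.Agent.H44.ArtinP

/-!
# The retraction of `K' ⊗_A Ω_A → K' ⊗_B Ω_B` modulo the classes `1 ⊗ d f_i`
-/

set_option autoImplicit false

universe u

open IsLocalRing KaehlerDifferential TensorProduct Module

namespace Groth.Agent.H44.ArtinP

variable {A : Type u} [CommRing A] (p : ℕ) {r : ℕ} (f : Fin r → A)

section retraction

variable [hB : IsLocalRing (Bq p f)]

theorem exists_retraction_aux {N : Type*} [AddCommGroup N] [Module (ResidueField (Bq p f)) N]
    (d : A → N) (hadd : ∀ a b, d (a + b) = d a + d b)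
    (hmul : ∀ a b, d (a * b) = algebraMap A (ResidueField (Bq p f)) a • d b +
      algebraMap A (ResidueField (Bq p f)) b • d a)
    (hf : ∀ i, d (f i) = 0) :
    ∃ ρ : ResidueField (Bq p f) ⊗[Bq p f] Ω[Bq p f⁄ℤ] →ₗ[ResidueField (Bq p f)] N,
      ∀ a : A, ρ (1 ⊗ₜ KaehlerDifferential.D ℤ (Bq p f) (algebraMap A (Bq p f) a)) = d a := by
  classical
  letI : Module (ResidueField (Bq p f))ᵐᵒᵖ N :=
    Module.compHom _ ((RingHom.id (ResidueField (Bq p f))).fromOpposite mul_comm)
  haveI : IsCentralScalar (ResidueField (Bq p f)) N := ⟨fun r m => rfl⟩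
  have hd0 : d 0 = 0 := by
    have h1 := hadd 0 0
    rw [add_zero] at h1
    exact left_eq_add.mp h1
  have hd1 : d 1 = 0 := by
    have h1 := hmul 1 1
    rw [mul_one, map_one, one_smul] at h1
    exact left_eq_add.mp h1
  let θ₀ : A →+* TrivSqZeroExt (ResidueField (Bq p f)) N :=
    { toFun := fun a => TrivSqZeroExt.inl (algebraMap A (ResidueField (Bq p f)) a) +
        TrivSqZeroExt.inr (d a)
      map_one' := by
        rw [map_one, hd1, TrivSqZeroExt.inr_zero, add_zero, TrivSqZeroExt.inl_one]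
      map_mul' := fun a b => by
        apply TrivSqZeroExt.ext
        · simp only [TrivSqZeroExt.fst_add, TrivSqZeroExt.fst_mul, TrivSqZeroExt.fst_inl,
            TrivSqZeroExt.fst_inr, add_zero, map_mul]
        · simp only [TrivSqZeroExt.snd_add, TrivSqZeroExt.snd_mul, TrivSqZeroExt.snd_inl,
            TrivSqZeroExt.snd_inr, TrivSqZeroExt.fst_add, TrivSqZeroExt.fst_inl,
            TrivSqZeroExt.fst_inr, zero_add, add_zero, op_smul_eq_smul, hmul]
      map_zero' := by
        rw [map_zero, hd0, TrivSqZeroExt.inr_zero, add_zero, TrivSqZeroExt.inl_zero]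
      map_add' := fun a b => by
        rw [map_add, hadd, TrivSqZeroExt.inl_add, TrivSqZeroExt.inr_add]
        abel }
  have hθ₀ : ∀ a, θ₀ a = TrivSqZeroExt.inl (algebraMap A (ResidueField (Bq p f)) a) +
        TrivSqZeroExt.inr (d a) := fun a => rfl
  let τ : Fin r → ResidueField (Bq p f) := fun i => residue (Bq p f) (tq p f i)
  have hτ : ∀ i, τ i ^ p = algebraMap A (ResidueField (Bq p f)) (f i) := by
    intro i
    show residue (Bq p f) (tq p f i) ^ p = _
    rw [← map_pow, tq_pow]
    rfl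
  have hθc : ∀ i, (TrivSqZeroExt.inl (τ i) : TrivSqZeroExt (ResidueField (Bq p f)) N) ^ p =
      θ₀ (f i) := by
    intro i
    rw [hθ₀, hf, TrivSqZeroExt.inr_zero, add_zero, TrivSqZeroExt.inl_pow, hτ]
  let θ : Bq p f →+* TrivSqZeroExt (ResidueField (Bq p f)) N :=
    liftB p f θ₀ (fun i => TrivSqZeroExt.inl (τ i)) hθc
  have hθa : ∀ a, θ (algebraMap A (Bq p f) a) = θ₀ a := fun a => liftB_algebraMap p f θ₀ _ hθc a
  have hθt : ∀ i, θ (tq p f i) = TrivSqZeroExt.inl (τ i) := fun i => liftB_tq p f θ₀ _ hθc i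
  have hfst : ∀ b : Bq p f, (θ b).fst = residue (Bq p f) b := by
    intro b
    obtain ⟨q, rfl⟩ := Ideal.Quotient.mk_surjective b
    induction q using MvPolynomial.induction_on with
    | C a =>
      show (θ (algebraMap A (Bq p f) a)).fst = residue (Bq p f) (algebraMap A (Bq p f) a)
      rw [hθa, hθ₀, TrivSqZeroExt.fst_add, TrivSqZeroExt.fst_inl, TrivSqZeroExt.fst_inr, add_zero]
      rfl
    | add q₁ q₂ h₁ h₂ =>
      rw [map_add, map_add, TrivSqZeroExt.fst_add, h₁, h₂, map_add]
    | mul_X q i h =>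
      rw [map_mul, map_mul, TrivSqZeroExt.fst_mul, h, map_mul]
      congr 1
      show (θ (tq p f i)).fst = _
      rw [hθt, TrivSqZeroExt.fst_inl]
      rfl
  letI mB : Module (Bq p f) N := Module.compHom N (algebraMap (Bq p f) (ResidueField (Bq p f)))
  haveI tB : IsScalarTower (Bq p f) (ResidueField (Bq p f)) N := ⟨fun b k n => by
    show (b • k) • n = algebraMap (Bq p f) (ResidueField (Bq p f)) b • (k • n)
    rw [Algebra.smul_def, mul_smul]⟩
  let D_B : Derivation ℤ (Bq p f) N :=
    { toLinearMap := AddMonoidHom.toIntLinearMap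
        { toFun := fun b => (θ b).snd
          map_zero' := by rw [map_zero, TrivSqZeroExt.snd_zero]
          map_add' := fun x y => by rw [map_add, TrivSqZeroExt.snd_add] }
      map_one_eq_zero' := by
        show (θ 1).snd = 0
        rw [map_one, TrivSqZeroExt.snd_one]
      leibniz' := fun x y => by
        show (θ (x * y)).snd = x • (θ y).snd + y • (θ x).snd
        rw [map_mul, TrivSqZeroExt.snd_mul, hfst, hfst, op_smul_eq_smul]
        rfl }
  have hD : ∀ b, D_B b = (θ b).snd := fun b => rfl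
  refine ⟨(D_B.liftKaehlerDifferential).liftBaseChange (ResidueField (Bq p f)), fun a => ?_⟩
  rw [LinearMap.liftBaseChange_tmul, one_smul, Derivation.liftKaehlerDifferential_comp_D, hD, hθa,
    hθ₀, TrivSqZeroExt.snd_add, TrivSqZeroExt.snd_inl, TrivSqZeroExt.snd_inr, zero_add]

end retraction

end Groth.Agent.H44.ArtinP
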