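import Groth.Agent.H44.ArtinP2
import Mathlib.LinearAlgebra.Dimension.OrzechProperty

/-!
# The index computation comparing the embedding dimensions of `A` and `B`
-/

set_option autoImplicit false

universe u

open IsLocalRing KaehlerDifferential TensorProduct Module

namespace Groth.Agent.H44.ArtinP

open Groth.Agent.H44.Fredholm Groth.Agent.H44

attribute [local instance] SMulCommClass.of_commMonoid

theorem span_one_tmul_D (R : Type*) (L : Type*) [CommRing R] [CommRing L] [Algebra R L] :
    Submodule.span L (Set.range fun a : R => (1 : L) ⊗ₜ[R] KaehlerDifferential.D ℤ R a) = ⊤ := by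
  rw [_root_.eq_top_iff]
  rintro x -
  induction x using TensorProduct.induction_on with
  | zero => exact zero_mem _
  | add x y hx hy => exact add_mem hx hy
  | tmul l ω =>
    have hω : ω ∈ Submodule.span R (Set.range (KaehlerDifferential.D ℤ R)) := by
      rw [KaehlerDifferential.span_range_derivation]
      trivial
    induction hω using Submodule.span_induction generalizing l with
    | mem y hy =>
      obtain ⟨a, rfl⟩ := hy
      have h1 : l ⊗ₜ[R] KaehlerDifferential.D ℤ R a =
          l • ((1 : L) ⊗ₜ[R] KaehlerDifferential.D ℤ R a) := by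
        rw [TensorProduct.smul_tmul', smul_eq_mul, mul_one]
      rw [h1]
      exact Submodule.smul_mem _ _ (Submodule.subset_span ⟨a, rfl⟩)
    | zero =>
      rw [TensorProduct.tmul_zero]
      exact zero_mem _
    | add y z _ _ hy hz =>
      rw [TensorProduct.tmul_add]
      exact add_mem (hy l) (hz l)
    | smul s y _ hy =>
      rw [TensorProduct.tmul_smul, TensorProduct.smul_tmul']
      exact hy (s • l)

theorem hasIndex_of_exact_ker {F : Type*} [Field F] {V W X : Type*} [AddCommGroup V] [Module F V]
    [AddCommGroup W] [Module F W] [AddCommGroup X] [Module F X] (g : V →ₗ[F] W) (h : W →ₗ[F] X)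
    (e2 : Function.Exact g h) [Module.Finite F (LinearMap.ker g)]
    [Module.Finite F (LinearMap.range h)] :
    HasIndex g ((Module.finrank F (LinearMap.ker g) : ℤ) -
      Module.finrank F (LinearMap.range h)) := by
  have h1 := hasIndex_of_exact (LinearMap.ker g).subtype g h (LinearMap.exact_subtype_ker_map g) e2
  rw [LinearMap.finrank_range_of_inj (Submodule.injective_subtype _)] at h1
  exact h1

section abstract

variable {A B : Type u} [CommRing A] [CommRing B] [IsLocalRing A] [IsLocalRing B] [Algebra A B]
  [IsLocalHom (algebraMap A B)] {r : ℕ} (f : Fin r → A)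

/-- span of the classes `1 ⊗ d f_i` -/
noncomputable def Sspan : Submodule (ResidueField B) (ResidueField B ⊗[A] Ω[A⁄ℤ]) :=
  Submodule.span _ (Set.range fun i => (1 : ResidueField B) ⊗ₜ[A] KaehlerDifferential.D ℤ A (f i))

set_option maxHeartbeats 1000000 in
theorem abstract_main {eA eB : ℕ}
    (iA : HasIndex (KaehlerDifferential.mapBaseChange ℤ A (ResidueField A)) eA)
    (iB : HasIndex (KaehlerDifferential.mapBaseChange ℤ B (ResidueField B)) eB)
    [Module.Finite (ResidueField A) (ResidueField B)]
    [Module.Finite (ResidueField B) (ResidueField B ⊗[B] Ω[B⁄A])]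
    (hQ : Module.finrank (ResidueField B) (ResidueField B ⊗[B] Ω[B⁄A]) = r)
    (hker : ∀ i, (1 : ResidueField B) ⊗ₜ[B] KaehlerDifferential.D ℤ B (algebraMap A B (f i)) = 0)
    (hρ : ∃ ρ : ResidueField B ⊗[B] Ω[B⁄ℤ] →ₗ[ResidueField B]
        (ResidueField B ⊗[A] Ω[A⁄ℤ]) ⧸ Sspan (B := B) f,
      ∀ a : A, ρ (1 ⊗ₜ KaehlerDifferential.D ℤ B (algebraMap A B a)) =
        (Sspan (B := B) f).mkQ (1 ⊗ₜ KaehlerDifferential.D ℤ A a)) :
    eA = eB ↔ LinearIndependent (ResidueField A)
      (fun i => (1 : ResidueField A) ⊗ₜ[A] KaehlerDifferential.D ℤ A (f i)) := by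
  classical
  obtain ⟨ρ, hρ⟩ := hρ
  have hspanV := span_one_tmul_D A (ResidueField B)
  let e_A := TensorProduct.AlgebraTensorModule.cancelBaseChange A (ResidueField A)
    (ResidueField B) (ResidueField B) Ω[A⁄ℤ]
  let e_B := TensorProduct.AlgebraTensorModule.cancelBaseChange A B
    (ResidueField B) (ResidueField B) Ω[A⁄ℤ]
  let a : ResidueField B ⊗[A] Ω[A⁄ℤ] →ₗ[ResidueField B] ResidueField B ⊗[ResidueField A]
      Ω[ResidueField A⁄ℤ] :=
    ((KaehlerDifferential.mapBaseChange ℤ A (ResidueField A)).baseChange (ResidueField B)) ∘ₗ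
      e_A.symm.toLinearMap
  let u : ResidueField B ⊗[A] Ω[A⁄ℤ] →ₗ[ResidueField B] ResidueField B ⊗[B] Ω[B⁄ℤ] :=
    ((KaehlerDifferential.mapBaseChange ℤ A B).baseChange (ResidueField B)) ∘ₗ
      e_B.symm.toLinearMap
  let v : ResidueField B ⊗[B] Ω[B⁄ℤ] →ₗ[ResidueField B] ResidueField B ⊗[B] Ω[B⁄A] :=
    (KaehlerDifferential.map ℤ A B B).baseChange (ResidueField B)
  have ha : ∀ x : A, a (1 ⊗ₜ KaehlerDifferential.D ℤ A x) =
      1 ⊗ₜ KaehlerDifferential.D ℤ (ResidueField A) (residue A x) := by
    intro x
    show ((KaehlerDifferential.mapBaseChange ℤ A (ResidueField A)).baseChange (ResidueField B))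
      (e_A.symm (1 ⊗ₜ KaehlerDifferential.D ℤ A x)) = _
    rw [TensorProduct.AlgebraTensorModule.cancelBaseChange_symm_tmul, LinearMap.baseChange_tmul,
      KaehlerDifferential.mapBaseChange_tmul, one_smul, KaehlerDifferential.map_D]
    rfl
  have hu : ∀ x : A, u (1 ⊗ₜ KaehlerDifferential.D ℤ A x) =
      1 ⊗ₜ KaehlerDifferential.D ℤ B (algebraMap A B x) := by
    intro x
    show ((KaehlerDifferential.mapBaseChange ℤ A B).baseChange (ResidueField B))
      (e_B.symm (1 ⊗ₜ KaehlerDifferential.D ℤ A x)) = _
    rw [TensorProduct.AlgebraTensorModule.cancelBaseChange_symm_tmul, LinearMap.baseChange_tmul,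
      KaehlerDifferential.mapBaseChange_tmul, one_smul, KaehlerDifferential.map_D]
  have hπB : ∀ b : B, KaehlerDifferential.mapBaseChange ℤ B (ResidueField B)
      (1 ⊗ₜ KaehlerDifferential.D ℤ B b) = KaehlerDifferential.D ℤ (ResidueField B) (residue B b) := by
    intro b
    rw [KaehlerDifferential.mapBaseChange_tmul, one_smul, KaehlerDifferential.map_D]
    rfl
  have hc : ∀ k : ResidueField A, KaehlerDifferential.mapBaseChange ℤ (ResidueField A) (ResidueField B)
      (1 ⊗ₜ KaehlerDifferential.D ℤ (ResidueField A) k) =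
      KaehlerDifferential.D ℤ (ResidueField B) (algebraMap (ResidueField A) (ResidueField B) k) := by
    intro k
    rw [KaehlerDifferential.mapBaseChange_tmul, one_smul, KaehlerDifferential.map_D]
  have hsq : (KaehlerDifferential.mapBaseChange ℤ B (ResidueField B)) ∘ₗ u =
      (KaehlerDifferential.mapBaseChange ℤ (ResidueField A) (ResidueField B)) ∘ₗ a := by
    apply LinearMap.ext_on hspanV
    rintro _ ⟨x, rfl⟩
    show (KaehlerDifferential.mapBaseChange ℤ B (ResidueField B))
        (u (1 ⊗ₜ KaehlerDifferential.D ℤ A x)) =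
      (KaehlerDifferential.mapBaseChange ℤ (ResidueField A) (ResidueField B))
        (a (1 ⊗ₜ KaehlerDifferential.D ℤ A x))
    rw [ha, hu, hπB, hc]
    rfl
  -- index of `a`
  have ia : HasIndex a eA := by
    have h1 := (hasIndex_equiv e_A.symm).comp (iA.baseChange (F' := ResidueField B))
    rw [zero_add] at h1
    exact h1
  -- index of `c`
  haveI : Algebra.EssFiniteType (ResidueField A) (ResidueField B) := inferInstance
  obtain ⟨c1, c2, c3⟩ := Cartier.cartier (ResidueField A) (ResidueField B)
  haveI := c1
  haveI := c2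
  have ic := hasIndex_of_exact (Algebra.H1Cotangent.δ ℤ (ResidueField A) (ResidueField B))
    (KaehlerDifferential.mapBaseChange ℤ (ResidueField A) (ResidueField B))
    (KaehlerDifferential.map ℤ (ResidueField A) (ResidueField B) (ResidueField B))
    (Algebra.H1Cotangent.exact_δ_mapBaseChange ℤ (ResidueField A) (ResidueField B))
    (KaehlerDifferential.exact_mapBaseChange_map ℤ (ResidueField A) (ResidueField B))
  have r1 : Module.finrank (ResidueField B)
      (LinearMap.range (Algebra.H1Cotangent.δ ℤ (ResidueField A) (ResidueField B))) =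
      Module.finrank (ResidueField B) (Algebra.H1Cotangent (ResidueField A) (ResidueField B)) :=
    LinearMap.finrank_range_of_inj (Cartier.δ_int_injective (ResidueField A) (ResidueField B))
  have r2 : Module.finrank (ResidueField B) (LinearMap.range
      (KaehlerDifferential.map ℤ (ResidueField A) (ResidueField B) (ResidueField B))) =
      Module.finrank (ResidueField B) Ω[ResidueField B⁄ResidueField A] := by
    rw [LinearMap.range_eq_top.mpr (KaehlerDifferential.map_surjective ℤ (ResidueField A)
        (ResidueField B)), finrank_top]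
  have ht : Algebra.trdeg (ResidueField A) (ResidueField B) = 0 := trdeg_eq_zero
  rw [ht, map_zero, Nat.cast_zero] at c3
  -- index of `u`
  have hkeru : LinearMap.ker u = Sspan (B := B) f := by
    apply le_antisymm
    · intro x hx
      have h2 : ρ ∘ₗ u = (Sspan (B := B) f).mkQ := by
        apply LinearMap.ext_on hspanV
        rintro _ ⟨y, rfl⟩
        show ρ (u (1 ⊗ₜ KaehlerDifferential.D ℤ A y)) =
          (Sspan (B := B) f).mkQ (1 ⊗ₜ KaehlerDifferential.D ℤ A y)
        rw [hu, hρ]
      have h1 : ρ (u x) = (Sspan (B := B) f).mkQ x := LinearMap.congr_fun h2 x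
      rw [LinearMap.mem_ker.mp hx, map_zero] at h1
      exact (Submodule.Quotient.mk_eq_zero _).mp h1.symm
    · rw [Sspan, Submodule.span_le]
      rintro _ ⟨i, rfl⟩
      rw [SetLike.mem_coe, LinearMap.mem_ker, hu, hker]
  have hvs : Function.Surjective v :=
    LinearMap.lTensor_surjective (ResidueField B) (KaehlerDifferential.map_surjective ℤ A B)
  have hexuv : Function.Exact u v := by
    have h0 : Function.Exact
        ((KaehlerDifferential.mapBaseChange ℤ A B).baseChange (ResidueField B)) v :=
      lTensor_exact (ResidueField B) (KaehlerDifferential.exact_mapBaseChange_map ℤ A B)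
        (KaehlerDifferential.map_surjective ℤ A B)
    intro y
    rw [h0 y]
    constructor
    · rintro ⟨z, rfl⟩
      refine ⟨e_B z, ?_⟩
      show ((KaehlerDifferential.mapBaseChange ℤ A B).baseChange (ResidueField B))
        (e_B.symm (e_B z)) = _
      rw [LinearEquiv.symm_apply_apply]
    · rintro ⟨x, rfl⟩
      exact ⟨e_B.symm x, rfl⟩
  haveI : Module.Finite (ResidueField B) (Sspan (B := B) f) :=
    Module.Finite.span_of_finite _ (Set.finite_range _)
  haveI : Module.Finite (ResidueField B) (LinearMap.ker u) := by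
    rw [hkeru]
    infer_instance
  have iu := hasIndex_of_exact_ker u v hexuv
  have r3 : Module.finrank (ResidueField B) (LinearMap.ker u) =
      Module.finrank (ResidueField B) (Sspan (B := B) f) :=
    (LinearEquiv.ofEq _ _ hkeru).finrank_eq
  have r4 : Module.finrank (ResidueField B) (LinearMap.range v) = r := by
    rw [LinearMap.range_eq_top.mpr hvs, finrank_top, hQ]
  have h1 := iu.comp iB
  have h2 := ia.comp ic
  rw [hsq] at h1
  have h3 := h1.unique h2
  -- linear independence
  have hg : LinearIndependent (ResidueField B)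
      (fun i => (1 : ResidueField B) ⊗ₜ[A] KaehlerDifferential.D ℤ A (f i)) ↔
      Module.finrank (ResidueField B) (Sspan (B := B) f) = r := by
    rw [linearIndependent_iff_card_eq_finrank_span, Fintype.card_fin]
    exact eq_comm
  have hcomp : ∀ i, e_A ((1 : ResidueField B) ⊗ₜ[ResidueField A]
      ((1 : ResidueField A) ⊗ₜ[A] KaehlerDifferential.D ℤ A (f i))) =
      (1 : ResidueField B) ⊗ₜ[A] KaehlerDifferential.D ℤ A (f i) := by
    intro i
    rw [TensorProduct.AlgebraTensorModule.cancelBaseChange_tmul, one_smul]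
  have hwg : LinearIndependent (ResidueField A)
      (fun i => (1 : ResidueField A) ⊗ₜ[A] KaehlerDifferential.D ℤ A (f i)) ↔
      LinearIndependent (ResidueField B)
        (fun i => (1 : ResidueField B) ⊗ₜ[A] KaehlerDifferential.D ℤ A (f i)) := by
    constructor
    · intro hv
      have h4 := (Module.Flat.linearIndependent_one_tmul (S := ResidueField B) hv).map'
        e_A.toLinearMap (LinearEquiv.ker e_A)
      have h5 : (e_A.toLinearMap ∘ fun i => (1 : ResidueField B) ⊗ₜ[ResidueField A]
          ((1 : ResidueField A) ⊗ₜ[A] KaehlerDifferential.D ℤ A (f i))) =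
          fun i => (1 : ResidueField B) ⊗ₜ[A] KaehlerDifferential.D ℤ A (f i) :=
        funext hcomp
      rw [h5] at h4
      exact h4
    · intro hv
      have hvK : LinearIndependent (ResidueField A)
          (fun i => (1 : ResidueField B) ⊗ₜ[A] KaehlerDifferential.D ℤ A (f i)) :=
        hv.restrict_scalars (fun x y hxy => (algebraMap (ResidueField A) (ResidueField B)).injective
          (by simpa only [Algebra.algebraMap_eq_smul_one] using hxy))
      let ι : ResidueField A ⊗[A] Ω[A⁄ℤ] →ₗ[ResidueField A] ResidueField B ⊗[A] Ω[A⁄ℤ] :=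
        (e_A.toLinearMap.restrictScalars (ResidueField A)) ∘ₗ
          (TensorProduct.mk (ResidueField A) (ResidueField B) (ResidueField A ⊗[A] Ω[A⁄ℤ]) 1)
      have h5 : (ι ∘ fun i => (1 : ResidueField A) ⊗ₜ[A] KaehlerDifferential.D ℤ A (f i)) =
          fun i => (1 : ResidueField B) ⊗ₜ[A] KaehlerDifferential.D ℤ A (f i) :=
        funext hcomp
      exact LinearIndependent.of_comp ι (h5 ▸ hvK)
  rw [hwg, hg]
  omega

end abstract

end Groth.Agent.H44.ArtinP
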