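import Mathlib

/-!
# (A5) for helper88 (S4406): for a graded base change `A = R ⊗_{R'} B`, a relation in `A` among
elements of degree `m` is a relation in `R ⊗ ℬ m`
-/

set_option autoImplicit false
set_option linter.unusedSectionVars false
universe u
open CategoryTheory CategoryTheory.Limits AlgebraicGeometry Opposite TopologicalSpace TensorProduct
open scoped HomogeneousIdeal

namespace Groth.Agent.H44.BCTw_A5

section BC

variable {R R' A B : Type u} [CommRing R'] [CommRing R] [Algebra R' R]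
    [CommRing B] [Algebra R' B] (ℬ : ℕ → Submodule R' B) [GradedAlgebra ℬ]
    [CommRing A] [Algebra R A] [Algebra R' A] [IsScalarTower R' R A] (𝒜 : ℕ → Submodule R A)
    [GradedAlgebra 𝒜]
    [Algebra B A] [IsScalarTower R' B A] [Algebra.IsPushout R' R B A]
    (φ : ℬ →+*ᵍ 𝒜) (hφA : ∀ b : B, φ b = algebraMap B A b)
    (hφ : HomogeneousIdeal.irrelevant 𝒜 ≤ (HomogeneousIdeal.irrelevant ℬ).map φ) (n : ℤ)

/-- the `R'`-linear retraction `B → ℬ m`. -/
noncomputable def retr (m : ℕ) : B →ₗ[R'] ℬ m :=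
  (DirectSum.component R' ℕ (fun i => ℬ i) m).comp
    (DirectSum.decomposeLinearEquiv ℬ).toLinearMap

theorem retr_coe (m : ℕ) (b : ℬ m) : retr ℬ m (b : B) = b := by
  show DirectSum.component R' ℕ (fun i => ℬ i) m (DirectSum.decompose ℬ (b : B)) = b
  rw [DirectSum.decompose_coe]
  exact DirectSum.of_eq_same (β := fun i => ℬ i) m b

include hφA in
/-- (A5) a relation in `A = R ⊗ B` among elements of degree `m` is a relation in `R ⊗ ℬ m`. -/
theorem sum_tmul_eq_zero (m : ℕ) (l : ℕ) (r : Fin l → R) (b : Fin l → ℬ m)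
    (h : ∑ j, r j • φ (b j : B) = 0) : ∑ j, r j ⊗ₜ[R'] b j = (0 : R ⊗[R'] ℬ m) := by
  have h1 : ∑ j, r j ⊗ₜ[R'] ((b j : ℬ m) : B) = (0 : R ⊗[R'] B) := by
    apply (Algebra.IsPushout.equiv R' R B A).injective
    rw [map_sum, map_zero, ← h]
    refine Finset.sum_congr rfl fun j _ => ?_
    rw [Algebra.IsPushout.equiv_tmul, hφA, Algebra.smul_def]
  have h2 := congrArg (LinearMap.lTensor R (retr ℬ m)) h1
  rw [map_sum, map_zero] at h2
  rw [← h2]
  refine Finset.sum_congr rfl fun j _ => ?_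
  rw [LinearMap.lTensor_tmul, retr_coe]

end BC

end Groth.Agent.H44.BCTw_A5
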