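import Mathlib
import Groth.Prelude.Def_CAlgX
import Groth.Agent.H61.H1RegLoc
import Groth.Agent.H79.RegKindFlat

/-!
# Toolkit for `H₁`-regular sequences (helper44)

* `h1_of_span_eq_top`: a sequence generating the unit ideal is `H₁`-regular;
* `h1_of_faithfullyFlat`: faithfully flat descent for a fixed sequence;
* `h1_of_forall_maximal`: local-global principle;
* `le_of_h1`: minimality of the length;
* `h1_of_same_span`: independence of the generators (same length, same ideal).
-/

set_option autoImplicit false
universe u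
open TensorProduct

namespace Groth.Agent.H44.H1Tool

section basic

variable {R : Type u} [CommRing R] {c : ℕ}

/-- the submodule of trivial relations -/
def Triv (f : Fin c → R) : Submodule R (Fin c → R) :=
  Submodule.span R {v | ∃ i j : Fin c, v = Pi.single i (f j) - Pi.single j (f i)}

lemma isH1Regular_iff (f : Fin c → R) :
    CAlgX.IsH1Regular f ↔ ∀ a : Fin c → R, ∑ i, a i * f i = 0 → a ∈ Triv f := Iff.rfl

lemma gen_mem (f : Fin c → R) (i j : Fin c) :
    Pi.single i (f j) - Pi.single j (f i) ∈ Triv f :=
  Submodule.subset_span ⟨i, j, rfl⟩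

/-- components of trivial relations lie in the ideal -/
lemma triv_apply_mem (f : Fin c → R) {v : Fin c → R} (hv : v ∈ Triv f) (l : Fin c) :
    v l ∈ Ideal.span (Set.range f) := by
  classical
  induction hv using Submodule.span_induction with
  | mem v hv =>
    obtain ⟨i, j, rfl⟩ := hv
    simp only [Pi.sub_apply, Pi.single_apply]
    apply Ideal.sub_mem
    · split_ifs
      · exact Ideal.subset_span ⟨_, rfl⟩
      · exact zero_mem _
    · split_ifs
      · exact Ideal.subset_span ⟨_, rfl⟩
      · exact zero_mem _
  | zero => exact zero_mem _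
  | add v w _ _ hv hw => exact Ideal.add_mem _ hv hw
  | smul r v _ hv => exact Ideal.mul_mem_left _ r hv

/-- a sequence generating the unit ideal is `H₁`-regular -/
theorem h1_of_span_eq_top (f : Fin c → R) (h : Ideal.span (Set.range f) = ⊤) :
    CAlgX.IsH1Regular f := by
  classical
  intro a ha
  obtain ⟨d, hd⟩ := Ideal.mem_span_range_iff_exists_fun.1
    (h ▸ Submodule.mem_top : (1 : R) ∈ Ideal.span (Set.range f))
  have key : a = ∑ i, ∑ j, (d j * a i) • (Pi.single i (f j) - Pi.single j (f i)) := by
    funext k
    have e1 : ∑ j, d j * a k * f j = a k := by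
      calc ∑ j, d j * a k * f j = a k * ∑ j, d j * f j := by
            rw [Finset.mul_sum]; exact Finset.sum_congr rfl (fun j _ => by ring)
        _ = a k := by rw [hd, mul_one]
    have e2 : ∑ i, d k * a i * f i = 0 := by
      calc ∑ i, d k * a i * f i = d k * ∑ i, a i * f i := by
            rw [Finset.mul_sum]; exact Finset.sum_congr rfl (fun i _ => by ring)
        _ = 0 := by rw [ha, mul_zero]
    simp only [Finset.sum_apply, Pi.smul_apply, Pi.sub_apply, Pi.single_apply, smul_eq_mul,
      mul_sub, mul_ite, mul_zero, Finset.sum_sub_distrib]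
    rw [Finset.sum_comm]
    simp only [Finset.sum_ite_eq, Finset.mem_univ, if_true]
    rw [e1, e2, sub_zero]
  rw [key]
  refine Submodule.sum_mem _ (fun i _ => Submodule.sum_mem _ (fun j _ => ?_))
  exact Submodule.smul_mem _ _ (gen_mem f i j)

end basic

section descent

variable {A : Type u} [CommRing A] {c : ℕ} (f : Fin c → A)

/-- the key transfer lemma: if the image of `f` in `B` is `H₁`-regular, every relation of `f` dies
in any `B`-module receiving `A^c / Triv f`. -/
theorem map_mk_eq_zero {B : Type u} [CommRing B] [Algebra A B]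
    (hB : CAlgX.IsH1Regular (fun i => algebraMap A B (f i)))
    {N : Type u} [AddCommGroup N] [Module A N] [Module B N] [IsScalarTower A B N]
    (ι : ((Fin c → A) ⧸ Triv f) →ₗ[A] N) (a : Fin c → A) (ha : ∑ i, a i * f i = 0) :
    ι (Submodule.Quotient.mk a) = 0 := by
  classical
  let v : Fin c → N := fun i => ι (Submodule.Quotient.mk (Pi.single i 1))
  let Φ : (Fin c → B) →ₗ[B] N := Fintype.linearCombination B v
  have hv : ∀ (i : Fin c) (r : A), algebraMap A B r • v i =
      ι (Submodule.Quotient.mk (Pi.single i r)) := by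
    intro i r
    rw [algebraMap_smul, ← map_smul, ← Submodule.Quotient.mk_smul]
    congr 2
    funext k
    simp [Pi.single_apply]
  have h1 : Φ (fun i => algebraMap A B (a i)) = ι (Submodule.Quotient.mk a) := by
    rw [Fintype.linearCombination_apply]
    simp only [hv]
    show ∑ i, (ι.comp (Triv f).mkQ) (Pi.single i (a i)) = (ι.comp (Triv f).mkQ) a
    rw [← map_sum]
    congr 1
    funext k
    simp [Finset.sum_apply, Pi.single_apply]
  have h2 : ∀ w ∈ Triv (fun i => algebraMap A B (f i)), Φ w = 0 := by
    intro w hw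
    induction hw using Submodule.span_induction with
    | mem w hw =>
      obtain ⟨i, j, rfl⟩ := hw
      rw [map_sub, Fintype.linearCombination_apply_single,
        Fintype.linearCombination_apply_single, hv, hv, ← map_sub,
        ← Submodule.Quotient.mk_sub, (Submodule.Quotient.mk_eq_zero _).mpr (gen_mem f i j),
        map_zero]
    | zero => exact map_zero _
    | add x y _ _ hx hy => rw [map_add, hx, hy, add_zero]
    | smul r x _ hx => rw [map_smul, hx, smul_zero]
  have hrel : ∑ i, algebraMap A B (a i) * algebraMap A B (f i) = 0 := by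
    rw [← map_zero (algebraMap A B), ← ha, map_sum]
    simp
  rw [← h1]
  exact h2 _ (hB _ hrel)

/-- faithfully flat descent of `H₁`-regularity of a fixed sequence -/
theorem h1_of_faithfullyFlat {B : Type u} [CommRing B] [Algebra A B] [Module.FaithfullyFlat A B]
    (hB : CAlgX.IsH1Regular (fun i => algebraMap A B (f i))) : CAlgX.IsH1Regular f := by
  intro a ha
  have h := map_mk_eq_zero f hB (N := B ⊗[A] ((Fin c → A) ⧸ Triv f))
    (TensorProduct.mk A B _ 1) a ha
  rw [TensorProduct.mk_apply, Module.FaithfullyFlat.one_tmul_eq_zero_iff] at h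
  exact (Submodule.Quotient.mk_eq_zero _).mp h

/-- local-global principle for `H₁`-regularity -/
theorem h1_of_forall_maximal
    (H : ∀ (𝔪 : Ideal A) [𝔪.IsMaximal],
      CAlgX.IsH1Regular (fun i => algebraMap A (Localization.AtPrime 𝔪) (f i))) :
    CAlgX.IsH1Regular f := by
  intro a ha
  show a ∈ Triv f
  rw [← Submodule.Quotient.mk_eq_zero]
  apply Module.eq_zero_of_localization_maximal (R := A) (M := (Fin c → A) ⧸ Triv f)
    (fun P _ => LocalizedModule P.primeCompl ((Fin c → A) ⧸ Triv f))
    (fun P _ => LocalizedModule.mkLinearMap P.primeCompl ((Fin c → A) ⧸ Triv f))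
  intro P hP
  exact map_mk_eq_zero f (H P) (LocalizedModule.mkLinearMap P.primeCompl _) a ha

end descent

section minimal

variable {R : Type u} [CommRing R]

/-- the transition matrices between an `H₁`-regular sequence and another generating family
compose to the identity modulo the ideal -/
lemma rel_mem {r s : ℕ} (φ : Fin s → R) (hφ : CAlgX.IsH1Regular φ) (a : Fin r → R)
    (c : Fin r → Fin s → R) (hc : ∀ k, ∑ j, c k j * φ j = a k)
    (dd : Fin s → Fin r → R) (hdd : ∀ j, ∑ k, dd j k * a k = φ j) (j l : Fin s) :
    (∑ k, dd j k * c k l) - (if j = l then 1 else 0) ∈ Ideal.span (Set.range φ) := by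
  classical
  set e : Fin s → R := fun l => (∑ k, dd j k * c k l) - (if j = l then 1 else 0) with he
  have hsum : ∑ l, e l * φ l = 0 := by
    simp only [he, sub_mul, Finset.sum_sub_distrib]
    have h1 : ∑ l, (∑ k, dd j k * c k l) * φ l = φ j := by
      simp_rw [Finset.sum_mul]
      rw [Finset.sum_comm]
      rw [← hdd j]
      refine Finset.sum_congr rfl fun k _ => ?_
      rw [← hc k, Finset.mul_sum]
      refine Finset.sum_congr rfl fun l _ => by ring
    rw [h1]
    simp
  exact triv_apply_mem φ (hφ e hsum) l

/-- An `H₁`-regular sequence of length `s` generating a proper ideal cannot be replaced by fewer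
generators. -/
theorem le_of_h1 {r s : ℕ} (φ : Fin s → R) (hφ : CAlgX.IsH1Regular φ) (a : Fin r → R)
    (hspan : Ideal.span (Set.range φ) = Ideal.span (Set.range a))
    (hne : Ideal.span (Set.range φ) ≠ ⊤) : s ≤ r := by
  classical
  set J := Ideal.span (Set.range φ) with hJ
  have ha : ∀ k, ∃ c : Fin s → R, ∑ j, c j * φ j = a k := fun k =>
    Ideal.mem_span_range_iff_exists_fun.1 (hspan ▸ Ideal.subset_span ⟨k, rfl⟩ : a k ∈ J)
  have hφa : ∀ j, ∃ dd : Fin r → R, ∑ k, dd k * a k = φ j := fun j =>
    Ideal.mem_span_range_iff_exists_fun.1 (hspan ▸ Ideal.subset_span ⟨j, rfl⟩)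
  choose c hc using ha
  choose dd hdd using hφa
  have hrel : ∀ j l, (∑ k, dd j k * c k l) - (if j = l then 1 else 0) ∈ J :=
    rel_mem φ hφ a c hc dd hdd
  haveI : Nontrivial (R ⧸ J) := Ideal.Quotient.nontrivial_iff.2 hne
  let D : Matrix (Fin s) (Fin r) (R ⧸ J) := fun j k => Ideal.Quotient.mk J (dd j k)
  let Cm : Matrix (Fin r) (Fin s) (R ⧸ J) := fun k l => Ideal.Quotient.mk J (c k l)
  have hDC : D * Cm = 1 := by
    ext j l
    rw [Matrix.mul_apply, Matrix.one_apply]
    have := hrel j l
    rw [← Ideal.Quotient.eq_zero_iff_mem, map_sub, sub_eq_zero, map_sum] at this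
    simp only [map_mul] at this
    rw [this]
    split_ifs <;> simp
  have hsurj : Function.Surjective (Matrix.toLin' D) := by
    intro y
    refine ⟨Matrix.toLin' Cm y, ?_⟩
    rw [← LinearMap.comp_apply, ← Matrix.toLin'_mul, hDC, Matrix.toLin'_one]
    rfl
  exact le_of_fin_surjective (R ⧸ J) (Matrix.toLin' D) hsurj

end minimal

section indep

open Matrix

/-- independence of generators in a local ring -/
theorem h1_of_same_span_local {L : Type u} [CommRing L] [IsLocalRing L] {n : ℕ}
    (g g' : Fin n → L) (hg : CAlgX.IsH1Regular g)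
    (h : Ideal.span (Set.range g') = Ideal.span (Set.range g))
    (hne : Ideal.span (Set.range g) ≠ ⊤) : CAlgX.IsH1Regular g' := by
  classical
  set J := Ideal.span (Set.range g) with hJ
  have h1 : ∀ i, ∃ m : Fin n → L, ∑ j, m j * g j = g' i := fun i =>
    Ideal.mem_span_range_iff_exists_fun.1 (h ▸ Ideal.subset_span ⟨i, rfl⟩ : g' i ∈ J)
  have h2 : ∀ i, ∃ m : Fin n → L, ∑ j, m j * g' j = g i := fun i =>
    Ideal.mem_span_range_iff_exists_fun.1
      (h.symm ▸ Ideal.subset_span ⟨i, rfl⟩ : g i ∈ Ideal.span (Set.range g'))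
  choose M hM using h1
  choose N hN using h2
  have hrel : ∀ i l, (∑ k, N i k * M k l) - (if i = l then 1 else 0) ∈ J :=
    rel_mem g hg g' M hM N hN
  let M' : Matrix (Fin n) (Fin n) L := Matrix.of M
  let N' : Matrix (Fin n) (Fin n) L := Matrix.of N
  have hJle : J ≤ IsLocalRing.maximalIdeal L := IsLocalRing.le_maximalIdeal hne
  have hres : (N' * M').map (IsLocalRing.residue L) = 1 := by
    ext i l
    rw [Matrix.map_apply, Matrix.mul_apply, Matrix.one_apply]
    have h3 := hJle (hrel i l)
    rw [← IsLocalRing.residue_eq_zero_iff, map_sub, sub_eq_zero] at h3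
    rw [show ∑ k, N' i k * M' k l = ∑ k, N i k * M k l from rfl, h3]
    split_ifs <;> simp
  have hdet : IsUnit (N' * M').det := by
    rw [← IsLocalRing.notMem_maximalIdeal, ← IsLocalRing.residue_eq_zero_iff,
      RingHom.map_det, RingHom.mapMatrix_apply, hres, Matrix.det_one]
    exact one_ne_zero
  have hdetM : IsUnit M'.det := by
    rw [Matrix.det_mul] at hdet
    exact isUnit_of_mul_isUnit_right hdet
  set W : Matrix (Fin n) (Fin n) L := M'⁻¹ with hW
  have hWM : W * M' = 1 := Matrix.nonsing_inv_mul M' hdetM
  have hMW : M' * W = 1 := Matrix.mul_nonsing_inv M' hdetM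
  have hMg : M' *ᵥ g = g' := by
    funext i
    simp only [Matrix.mulVec, dotProduct]
    exact hM i
  have hWg : W *ᵥ g' = g := by
    rw [← hMg, Matrix.mulVec_mulVec, hWM, Matrix.one_mulVec]
  have hWg' : ∀ j, ∑ l, W j l * g' l = g j := fun j => by
    have := congrFun hWg j
    simpa only [Matrix.mulVec, dotProduct] using this
  -- the transport of trivial relations
  have htriv : ∀ v ∈ Triv g, v ᵥ* W ∈ Triv g' := by
    intro v hv
    induction hv using Submodule.span_induction with
    | mem v hv =>
      obtain ⟨i, j, rfl⟩ := hv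
      have key : (Pi.single i (g j) - Pi.single j (g i)) ᵥ* W =
          ∑ k, ∑ l, (W i k * W j l) • (Pi.single k (g' l) - Pi.single l (g' k)) := by
        rw [Matrix.sub_vecMul, Matrix.single_vecMul, Matrix.single_vecMul]
        funext m
        have e1 : ∑ l, W i m * W j l * g' l = W i m * g j := by
          rw [← hWg' j, Finset.mul_sum]
          exact Finset.sum_congr rfl (fun l _ => by ring)
        have e2 : ∑ k, W i k * W j m * g' k = W j m * g i := by
          rw [← hWg' i, Finset.mul_sum]
          exact Finset.sum_congr rfl (fun k _ => by ring)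
        simp only [Pi.sub_apply, Pi.smul_apply, Matrix.row_apply, smul_eq_mul, Finset.sum_apply,
          Pi.single_apply, mul_sub, mul_ite, mul_zero, Finset.sum_sub_distrib]
        rw [Finset.sum_comm]
        simp only [Finset.sum_ite_eq, Finset.mem_univ, if_true]
        rw [e1, e2]
        ring
      rw [key]
      refine Submodule.sum_mem _ (fun k _ => Submodule.sum_mem _ (fun l _ => ?_))
      exact Submodule.smul_mem _ _ (gen_mem g' k l)
    | zero => rw [Matrix.zero_vecMul]; exact zero_mem _
    | add x y _ _ hx hy => rw [Matrix.add_vecMul]; exact add_mem hx hy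
    | smul r x _ hx => rw [Matrix.smul_vecMul]; exact Submodule.smul_mem _ _ hx
  intro b hb
  have hb' : ∑ j, (b ᵥ* M') j * g j = 0 := by
    have h3 : (b ᵥ* M') ⬝ᵥ g = b ⬝ᵥ (M' *ᵥ g) := (Matrix.dotProduct_mulVec b M' g).symm
    rw [hMg] at h3
    simp only [dotProduct] at h3
    rw [h3]
    exact hb
  have h4 := htriv _ (hg _ hb')
  rwa [Matrix.vecMul_vecMul, hMW, Matrix.vecMul_one] at h4

/-- **Independence of generators** for `H₁`-regular sequences. -/
theorem h1_of_same_span {A : Type u} [CommRing A] {n : ℕ} (f f' : Fin n → A)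
    (hf : CAlgX.IsH1Regular f) (h : Ideal.span (Set.range f') = Ideal.span (Set.range f)) :
    CAlgX.IsH1Regular f' := by
  apply h1_of_forall_maximal
  intro 𝔪 h𝔪
  have hg := Groth.Agent.H61.H1RegLoc.isH1Regular_map_of_isLocalization
    (R' := Localization.AtPrime 𝔪) 𝔪.primeCompl f hf
  have hsp : ∀ φ : Fin n → A, Ideal.span (Set.range fun i =>
      algebraMap A (Localization.AtPrime 𝔪) (φ i)) =
      (Ideal.span (Set.range φ)).map (algebraMap A (Localization.AtPrime 𝔪)) := by
    intro φ
    rw [Ideal.map_span, ← Set.range_comp]; rfl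
  have hspan : Ideal.span (Set.range fun i => algebraMap A (Localization.AtPrime 𝔪) (f' i)) =
      Ideal.span (Set.range fun i => algebraMap A (Localization.AtPrime 𝔪) (f i)) := by
    rw [hsp, hsp, h]
  by_cases htop : Ideal.span (Set.range fun i =>
      algebraMap A (Localization.AtPrime 𝔪) (f i)) = ⊤
  · exact h1_of_span_eq_top _ (hspan.trans htop)
  · exact h1_of_same_span_local _ _ hg hspan htop

/-- invariance under ring isomorphisms -/
theorem h1_ringEquiv {R R' : Type u} [CommRing R] [CommRing R'] (e : R ≃+* R') {c : ℕ}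
    (f : Fin c → R) (hf : CAlgX.IsH1Regular f) : CAlgX.IsH1Regular (fun i => e (f i)) := by
  letI : Algebra R R' := e.toRingHom.toAlgebra
  haveI : IsLocalization.Away (1 : R) R' :=
    IsLocalization.away_of_isUnit_of_bijective R' isUnit_one e.bijective
  exact Groth.Agent.H61.H1RegLoc.isH1Regular_map_of_isLocalization (R' := R')
    (Submonoid.powers (1 : R)) f hf

end indep

end Groth.Agent.H44.H1Tool
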