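import Mathlib
import Groth.Prelude.Def_CAlgX
import Groth.Agent.H59.KRegFF
import Groth.Agent.H44.H1Tool

/-!
# Faithfully flat descent of locally `H₁`-regular ideals (helper44)

Port of helper46's `H46.QRDesc`/`QRDesc2` (itself a port of helper59's `H59.KRegFF`) to
`H₁`-regular sequences, using the toolkit `H44.H1Tool`.
-/

set_option autoImplicit false

namespace Groth.Agent.H44.H1Desc

universe u

open Groth.Agent.H59.Kosz Groth.Agent.H44.H1Tool

/-- `J` is locally (on basic opens around each prime containing it) generated by an `H₁`-regular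
sequence; same shape as `PP16.IsLocallyQuasiRegular`. -/
def LocallyH1 (R : Type u) [CommRing R] (J : Ideal R) : Prop :=
  ∀ (P : Ideal R) [P.IsPrime], J ≤ P → ∃ g : R, g ∉ P ∧ ∃ (r : ℕ) (f : Fin r → Localization.Away g),
    CAlgX.IsH1Regular f ∧ Ideal.span (Set.range f) = J.map (algebraMap R (Localization.Away g))

theorem span_range_comp {R S : Type u} [CommRing R] [CommRing S] {r : ℕ} (ψ : R →+* S)
    (f : Fin r → R) :
    Ideal.span (Set.range fun i => ψ (f i)) = (Ideal.span (Set.range f)).map ψ := by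
  rw [Ideal.map_span, ← Set.range_comp]; rfl

section Away

variable {B : Type u} [CommRing B]

/-- passing from a basic open neighbourhood to the local ring -/
theorem h1_atPrime_of_away (J : Ideal B) (q : Ideal B) [q.IsPrime]
    (h : B) (hq : h ∉ q) {n : ℕ} (φ : Fin n → Localization.Away h)
    (hφ : CAlgX.IsH1Regular φ)
    (hspan : Ideal.span (Set.range φ) = J.map (algebraMap B (Localization.Away h))) :
    ∃ φ' : Fin n → Localization.AtPrime q, CAlgX.IsH1Regular φ' ∧
      J.map (algebraMap B (Localization.AtPrime q)) = Ideal.span (Set.range φ') := by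
  have hle : Submonoid.powers h ≤ q.primeCompl := Submonoid.powers_le.mpr hq
  letI : Algebra (Localization.Away h) (Localization.AtPrime q) :=
    IsLocalization.localizationAlgebraOfSubmonoidLe (Localization.Away h)
      (Localization.AtPrime q) (Submonoid.powers h) q.primeCompl hle
  haveI : IsScalarTower B (Localization.Away h) (Localization.AtPrime q) :=
    IsLocalization.localization_isScalarTower_of_submonoid_le (Localization.Away h)
      (Localization.AtPrime q) (Submonoid.powers h) q.primeCompl hle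
  haveI : IsLocalization (q.primeCompl.map (algebraMap B (Localization.Away h)))
      (Localization.AtPrime q) :=
    IsLocalization.isLocalization_of_submonoid_le (Localization.Away h)
      (Localization.AtPrime q) (Submonoid.powers h) q.primeCompl hle
  refine ⟨fun i => algebraMap (Localization.Away h) (Localization.AtPrime q) (φ i),
    Groth.Agent.H61.H1RegLoc.isH1Regular_map_of_isLocalization
      (q.primeCompl.map (algebraMap B (Localization.Away h))) φ hφ, ?_⟩
  rw [span_range_comp, hspan, Ideal.map_map,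
    ← IsScalarTower.algebraMap_eq B (Localization.Away h) (Localization.AtPrime q)]

/-- `CH J q n`: near `q`, `J` is generated by a H₁-regular sequence of length `n`. -/
def CH (J : Ideal B) (q : Ideal B) (n : ℕ) : Prop :=
  ∃ h : B, h ∉ q ∧ ∃ φ : Fin n → Localization.Away h, CAlgX.IsH1Regular φ ∧
    Ideal.span (Set.range φ) = J.map (algebraMap B (Localization.Away h))

theorem CH.atPrime {J : Ideal B} {q : Ideal B} [q.IsPrime] {n : ℕ} (h : CH J q n) :
    ∃ φ' : Fin n → Localization.AtPrime q, CAlgX.IsH1Regular φ' ∧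
      J.map (algebraMap B (Localization.AtPrime q)) = Ideal.span (Set.range φ') := by
  obtain ⟨h₁, hh₁, φ, hφ, hspan⟩ := h
  exact h1_atPrime_of_away J q h₁ hh₁ φ hφ hspan

/-- a locally H₁-regular ideal is finitely generated -/
theorem fg_of_locallyH1 {J : Ideal B} (h : LocallyH1 B J) : J.FG := by
  classical
  set t : Set B := {g | (J.map (algebraMap B (Localization.Away g))).FG} with ht
  apply Ideal.fg_of_localizationSpan t ?_ (fun g => g.2)
  by_contra hne
  obtain ⟨m, hm, hle⟩ := Ideal.exists_le_maximal _ hne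
  haveI := hm.isPrime
  by_cases hJm : J ≤ m
  · obtain ⟨g, hg, r, φ, -, hspan⟩ := h m hJm
    apply hg
    apply hle
    apply Ideal.subset_span
    show (J.map (algebraMap B (Localization.Away g))).FG
    rw [← hspan]
    exact ⟨Finset.univ.image φ, by simp⟩
  · obtain ⟨x, hxJ, hxm⟩ := SetLike.not_le_iff_exists.mp hJm
    apply hxm
    apply hle
    apply Ideal.subset_span
    show (J.map (algebraMap B (Localization.Away x))).FG
    have : J.map (algebraMap B (Localization.Away x)) = ⊤ :=
      Ideal.eq_top_of_isUnit_mem _ (Ideal.mem_map_of_mem _ hxJ)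
        (IsLocalization.Away.algebraMap_isUnit x)
    rw [this]
    exact ⟨{1}, by simp⟩

end Away

section main

variable {A B : Type u} [CommRing A] [CommRing B] [Algebra A B]

theorem range_get_map {T : Type u} [CommRing T] (ψ : A →+* T) (a : List A) :
    Set.range (fun i : Fin a.length => ψ (a.get i)) = {y | y ∈ a.map ψ} := by
  ext y
  simp only [Set.mem_range, Set.mem_setOf_eq, List.mem_map]
  constructor
  · rintro ⟨i, rfl⟩; exact ⟨a.get i, List.get_mem _ _, rfl⟩
  · rintro ⟨x, hx, rfl⟩
    obtain ⟨i, rfl⟩ := List.get_of_mem hx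
    exact ⟨i, rfl⟩

theorem setOf_mem_ofFn {T : Type u} {n : ℕ} (φ : Fin n → T) :
    {x | x ∈ List.ofFn φ} = Set.range φ := by
  ext x
  simp [List.mem_ofFn]

/-- H₁-regularity of the chosen generators at `p = q ∩ A` -/
lemma h1_atPrime_comap_of_CH [Module.Flat A B] (I : Ideal A) (a : List A)
    (haI : ∀ x ∈ a, x ∈ I)
    (g : A) (hgI : ∀ x ∈ I, g * x ∈ Ideal.span {y | y ∈ a}) (q : Ideal B) [q.IsPrime]
    (hg : g ∉ q.comap (algebraMap A B)) (hCH : CH (I.map (algebraMap A B)) q a.length) :
    CAlgX.IsH1Regular (fun i : Fin a.length =>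
      algebraMap A (Localization.AtPrime (q.comap (algebraMap A B))) (a.get i)) := by
  obtain ⟨φ', hφ', hspan'⟩ := hCH.atPrime
  let ψ : A →+* Localization.AtPrime q :=
    (algebraMap B (Localization.AtPrime q)).comp (algebraMap A B)
  have hu : IsUnit (ψ g) :=
    IsLocalization.map_units (Localization.AtPrime q) (⟨algebraMap A B g, hg⟩ : q.primeCompl)
  have h1 : I.map ψ = Ideal.span {y | y ∈ a.map ψ} := map_eq_span_of_mul_mem I a haI g hgI ψ hu
  have h2 : CAlgX.IsH1Regular (fun i : Fin a.length => ψ (a.get i)) := by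
    apply h1_of_same_span φ' _ hφ'
    rw [range_get_map, ← h1, ← Ideal.map_map, hspan']
  letI : Algebra (Localization.AtPrime (q.comap (algebraMap A B))) (Localization.AtPrime q) :=
    (Localization.localRingHom (q.comap (algebraMap A B)) q (algebraMap A B) rfl).toAlgebra
  haveI : Module.FaithfullyFlat (Localization.AtPrime (q.comap (algebraMap A B)))
      (Localization.AtPrime q) := faithfullyFlat_localRingHom q
  apply h1_of_faithfullyFlat (B := Localization.AtPrime q)
  have hcomp : ∀ x : A, algebraMap (Localization.AtPrime (q.comap (algebraMap A B)))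
      (Localization.AtPrime q)
      (algebraMap A (Localization.AtPrime (q.comap (algebraMap A B))) x) = ψ x := fun x =>
    Localization.localRingHom_to_map (q.comap (algebraMap A B)) q (algebraMap A B) rfl x
  simp only [hcomp]
  exact h2

/-- comparison of lengths at two primes over the same prime of `A` -/
lemma len_le' [Module.Flat A B] (I : Ideal A) (hI : I.FG) (q q' : Ideal B) [q.IsPrime]
    [q'.IsPrime] (hqq' : q.comap (algebraMap A B) = q'.comap (algebraMap A B))
    (hJq' : I.map (algebraMap A B) ≤ q') {r n' : ℕ} (hr : CH (I.map (algebraMap A B)) q r)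
    (hn' : CH (I.map (algebraMap A B)) q' n') : n' ≤ r := by
  obtain ⟨φ, -, hφspan⟩ := hr.atPrime
  have hlspan : (I.map (algebraMap A B)).map (algebraMap B (Localization.AtPrime q)) =
      Ideal.span {x | x ∈ List.ofFn φ} := by
    rw [hφspan, setOf_mem_ofFn]
  obtain ⟨a, halen, haI, g, hg, hgI⟩ :=
    exists_generators_of_atPrime I hI q (List.ofFn φ) hlspan
  obtain ⟨φ'', hφ'', hφ''span⟩ := hn'.atPrime
  let ψ : A →+* Localization.AtPrime q' :=
    (algebraMap B (Localization.AtPrime q')).comp (algebraMap A B)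
  have hg' : algebraMap A B g ∉ q' := by
    intro hm
    apply hg
    rw [hqq']
    exact hm
  have hu : IsUnit (ψ g) :=
    IsLocalization.map_units (Localization.AtPrime q') (⟨algebraMap A B g, hg'⟩ : q'.primeCompl)
  have h1 : I.map ψ = Ideal.span {y | y ∈ a.map ψ} := map_eq_span_of_mul_mem I a haI g hgI ψ hu
  have hr' : a.length = r := by rw [halen, List.length_ofFn]
  have hIψ : I.map ψ = (I.map (algebraMap A B)).map (algebraMap B (Localization.AtPrime q')) := by
    rw [Ideal.map_map]
  have key := le_of_h1 φ'' hφ'' (fun i : Fin a.length => ψ (a.get i)) (by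
    rw [range_get_map, ← h1, hIψ, hφ''span]) (by
    rw [← hφ''span]
    intro htop
    have hle : (I.map (algebraMap A B)).map (algebraMap B (Localization.AtPrime q')) ≤
        IsLocalRing.maximalIdeal (Localization.AtPrime q') := by
      rw [← Localization.AtPrime.map_eq_maximalIdeal]
      exact Ideal.map_mono hJq'
    rw [htop] at hle
    exact (IsLocalRing.maximalIdeal.isMaximal _).ne_top (top_le_iff.mp hle))
  omega

/-- **Faithfully flat descent of locally H₁-regular ideals.** -/
theorem locallyH1_of_faithfullyFlat [Module.FaithfullyFlat A B] (I : Ideal A)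
    (h : LocallyH1 B (I.map (algebraMap A B))) :
    LocallyH1 A I := by
  classical
  set J := I.map (algebraMap A B) with hJdef
  have hIfg : I.FG := Ideal.FG.of_FG_map_of_faithfullyFlat (S := B) (fg_of_locallyH1 h)
  have hCH : ∀ q : PrimeSpectrum B, J ≤ q.asIdeal → ∃ n, CH J q.asIdeal n := by
    intro q hq
    obtain ⟨g, hg, r, φ, hφ, hspan⟩ := h q.asIdeal hq
    exact ⟨r, g, hg, φ, hφ, hspan⟩
  have hJle : ∀ q : PrimeSpectrum B, J ≤ q.asIdeal ↔
      I ≤ (PrimeSpectrum.comap (algebraMap A B) q).asIdeal := by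
    intro q; exact Ideal.map_le_iff_le_comap
  intro P hPprime hIP
  obtain ⟨𝔮₀, h𝔮₀⟩ := PrimeSpectrum.comap_surjective_of_faithfullyFlat (A := A) (B := B)
    (⟨P, hPprime⟩ : PrimeSpectrum A)
  have hP𝔮₀ : (PrimeSpectrum.comap (algebraMap A B) 𝔮₀).asIdeal = P :=
    congrArg PrimeSpectrum.asIdeal h𝔮₀
  obtain ⟨r, hr⟩ := hCH 𝔮₀ ((hJle 𝔮₀).mpr (hP𝔮₀ ▸ hIP))
  -- the saturated open set
  set N : Set (PrimeSpectrum B) := {q | ¬ J ≤ q.asIdeal} ∪ {q | CH J q.asIdeal r} with hN
  have hNopen : IsOpen N := by
    apply IsOpen.union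
    · have : {q : PrimeSpectrum B | ¬ J ≤ q.asIdeal} = (PrimeSpectrum.zeroLocus (J : Set B))ᶜ := by
        ext q; simp [PrimeSpectrum.mem_zeroLocus]
      rw [this]; exact (PrimeSpectrum.isClosed_zeroLocus _).isOpen_compl
    · rw [isOpen_iff_forall_mem_open]
      rintro q ⟨h₁, hh₁, φ, hφ, hspan⟩
      refine ⟨PrimeSpectrum.basicOpen h₁, ?_, (PrimeSpectrum.basicOpen h₁).isOpen, hh₁⟩
      intro q' hq'
      exact ⟨h₁, hq', φ, hφ, hspan⟩
  have hNsat : ∀ q q' : PrimeSpectrum B, PrimeSpectrum.comap (algebraMap A B) q =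
      PrimeSpectrum.comap (algebraMap A B) q' → q ∈ N → q' ∈ N := by
    intro q q' hqq' hqN
    by_cases hJq' : J ≤ q'.asIdeal
    · right
      have hJq : J ≤ q.asIdeal := by rw [hJle, hqq', ← hJle]; exact hJq'
      rcases hqN with hqN | hqN
      · exact absurd hJq hqN
      · obtain ⟨n', hn'⟩ := hCH q' hJq'
        have hids : q.asIdeal.comap (algebraMap A B) = q'.asIdeal.comap (algebraMap A B) :=
          congrArg PrimeSpectrum.asIdeal hqq'
        have h1 : n' ≤ r := len_le' I hIfg q.asIdeal q'.asIdeal hids hJq' hqN hn'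
        have h2 : r ≤ n' := len_le' I hIfg q'.asIdeal q.asIdeal hids.symm hJq hn' hqN
        have : n' = r := le_antisymm h1 h2
        show CH J q'.asIdeal r
        rw [← this]; exact hn'
    · left; exact hJq'
  have hquot : Topology.IsQuotientMap (PrimeSpectrum.comap (algebraMap A B)) :=
    PrimeSpectrum.isQuotientMap_of_generalizingMap
      PrimeSpectrum.comap_surjective_of_faithfullyFlat
      (RingHom.Flat.generalizingMap_comap (RingHom.flat_algebraMap_iff.mpr inferInstance))
  set T : Set (PrimeSpectrum A) := PrimeSpectrum.comap (algebraMap A B) '' N with hT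
  have hpre : PrimeSpectrum.comap (algebraMap A B) ⁻¹' T = N := by
    ext q; constructor
    · rintro ⟨q₁, hq₁, heq⟩; exact hNsat q₁ q heq hq₁
    · intro hq; exact ⟨q, hq, rfl⟩
  have hTopen : IsOpen T := by rw [← hquot.isOpen_preimage, hpre]; exact hNopen
  have h𝔭T : (⟨P, hPprime⟩ : PrimeSpectrum A) ∈ T := ⟨𝔮₀, Or.inr hr, h𝔮₀⟩
  obtain ⟨_, ⟨g₁, rfl⟩, hg₁mem, hg₁T⟩ :=
    PrimeSpectrum.isTopologicalBasis_basic_opens.exists_subset_of_mem_open h𝔭T hTopen
  -- generators
  obtain ⟨φ₀, -, hφ₀span⟩ := hr.atPrime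
  have hlspan : (I.map (algebraMap A B)).map (algebraMap B (Localization.AtPrime 𝔮₀.asIdeal)) =
      Ideal.span {x | x ∈ List.ofFn φ₀} := by
    rw [hφ₀span, setOf_mem_ofFn]
  obtain ⟨a, halen, haI, g₀, hg₀, hg₀I⟩ :=
    exists_generators_of_atPrime I hIfg 𝔮₀.asIdeal (List.ofFn φ₀) hlspan
  have hra : a.length = r := by rw [halen, List.length_ofFn]
  have hg₀P : g₀ ∉ P := by
    intro hm; apply hg₀; rw [← hP𝔮₀] at hm; exact hm
  have hgI : ∀ x ∈ I, g₀ * g₁ * x ∈ Ideal.span {y | y ∈ a} := by
    intro x hx
    rw [mul_comm g₀ g₁, mul_assoc]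
    exact Ideal.mul_mem_left _ _ (hg₀I x hx)
  refine ⟨g₀ * g₁, ?_, a.length,
    fun i => algebraMap A (Localization.Away (g₀ * g₁)) (a.get i), ?_, ?_⟩
  · intro hm
    rcases Ideal.IsPrime.mem_or_mem hPprime hm with hm | hm
    · exact hg₀P hm
    · exact hg₁mem hm
  · apply h1_of_forall_maximal
    intro 𝔪 h𝔪
    set p₂ : Ideal A := 𝔪.comap (algebraMap A (Localization.Away (g₀ * g₁))) with hp₂
    haveI hp₂prime : p₂.IsPrime := Ideal.comap_isPrime _ _
    have hgp₂ : g₀ * g₁ ∉ p₂ := by
      intro hm
      have : algebraMap A (Localization.Away (g₀ * g₁)) (g₀ * g₁) ∈ 𝔪 := hm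
      exact h𝔪.ne_top (Ideal.eq_top_of_isUnit_mem _ this
        (IsLocalization.Away.algebraMap_isUnit (g₀ * g₁)))
    have hk : CAlgX.IsH1Regular (fun i : Fin a.length =>
        algebraMap A (Localization.AtPrime p₂) (a.get i)) := by
      by_cases hIp : I ≤ p₂
      · have hg₁p : g₁ ∉ p₂ := fun hm => hgp₂ (Ideal.mul_mem_left _ _ hm)
        obtain ⟨q, hqN, hqp⟩ := hg₁T (show (⟨p₂, hp₂prime⟩ : PrimeSpectrum A) ∈
          (PrimeSpectrum.basicOpen g₁ : Set (PrimeSpectrum A)) from hg₁p)
        have hJq : J ≤ q.asIdeal := by rw [hJle, hqp]; exact hIp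
        have hqCH : CH J q.asIdeal r := hqN.resolve_left (not_not.mpr hJq)
        have hp₂eq : p₂ = q.asIdeal.comap (algebraMap A B) :=
          (congrArg PrimeSpectrum.asIdeal hqp).symm
        rw [← hra] at hqCH
        have hgq : g₀ * g₁ ∉ q.asIdeal.comap (algebraMap A B) := hp₂eq ▸ hgp₂
        have := h1_atPrime_comap_of_CH I a haI (g₀ * g₁) hgI q.asIdeal hgq hqCH
        clear_value p₂
        subst hp₂eq
        exact this
      · apply h1_of_span_eq_top
        obtain ⟨x, hxa, hxp⟩ : ∃ x ∈ a, x ∉ p₂ := by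
          by_contra hcon
          push Not at hcon
          apply hIp
          intro y hy
          have h1 : g₀ * g₁ * y ∈ p₂ := by
            have : Ideal.span {y | y ∈ a} ≤ p₂ := by
              rw [Ideal.span_le]; exact hcon
            exact this (hgI y hy)
          exact (Ideal.IsPrime.mem_or_mem hp₂prime h1).resolve_left hgp₂
        obtain ⟨i, rfl⟩ := List.get_of_mem hxa
        exact Ideal.eq_top_of_isUnit_mem _ (Ideal.subset_span ⟨i, rfl⟩)
          (IsLocalization.map_units _ (⟨a.get i, hxp⟩ : p₂.primeCompl))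
    -- transfer to the localisation of `A_g` at `𝔪`
    haveI : IsLocalization.AtPrime (Localization.AtPrime 𝔪) p₂ :=
      IsLocalization.isLocalization_isLocalization_atPrime_isLocalization
        (Submonoid.powers (g₀ * g₁)) (Localization.AtPrime 𝔪) 𝔪
    let e : Localization.AtPrime p₂ ≃ₐ[A] Localization.AtPrime 𝔪 :=
      IsLocalization.algEquiv p₂.primeCompl _ _
    have := h1_ringEquiv e.toRingEquiv _ hk
    have he : ∀ x : A, e.toRingEquiv (algebraMap A (Localization.AtPrime p₂) x) =
        algebraMap (Localization.Away (g₀ * g₁)) (Localization.AtPrime 𝔪)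
          (algebraMap A (Localization.Away (g₀ * g₁)) x) := by
      intro x
      rw [← IsScalarTower.algebraMap_apply]
      exact e.commutes x
    simp only [he] at this
    exact this
  · have hu : IsUnit (algebraMap A (Localization.Away (g₀ * g₁)) (g₀ * g₁)) :=
      IsLocalization.Away.algebraMap_isUnit (S := Localization.Away (g₀ * g₁)) (g₀ * g₁)
    rw [map_eq_span_of_mul_mem I a haI (g₀ * g₁) hgI
      (algebraMap A (Localization.Away (g₀ * g₁))) hu, ← range_get_map]

end main

end Groth.Agent.H44.H1Desc
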