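import Groth.Agent.H44.CancelK
import Groth.Agent.H44.H1Tool
import Groth.Agent.H44.H1Desc
import Groth.Agent.H46.QRDesc2
import Groth.Agent.H19.QReg
import Groth.Agent.H79.RegKindFlat

/-!
# The kinds `h1`, `quasi`, `koszul` satisfy `GoodC` (helper44)

Cancellation of one element for `H_1`-regular and quasi-regular families, the list wrapper, and the
three instances of `H44.CancelK.GoodC`.
-/

set_option autoImplicit false
set_option linter.style.haveILetI false
universe u

namespace Groth.Agent.H44.CancelKinds

open Groth.Agent.H44.RegImmK Groth.Agent.H44.CancelK Groth.Agent.H59.Kosz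

/-- cancellation of the first element of an `H_1`-regular family -/
theorem h1_cancel_one {R R' : Type u} [CommRing R] [CommRing R'] (φ : R →+* R')
    (hφ : Function.Surjective φ) {n : ℕ} (f : Fin (n + 1) → R)
    (hker : RingHom.ker φ = Ideal.span {f 0}) (hf : CAlgX.IsH1Regular f) :
    CAlgX.IsH1Regular (fun i : Fin n => φ (f i.succ)) := by
  classical
  intro ā hā
  choose a ha using fun i => hφ (ā i)
  have hφ0 : φ (f 0) = 0 := by
    rw [← RingHom.mem_ker, hker]
    exact Ideal.mem_span_singleton_self _
  have h1 : ∑ i, a i * f i.succ ∈ RingHom.ker φ := by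
    rw [RingHom.mem_ker, map_sum, ← hā]
    refine Finset.sum_congr rfl fun i _ => ?_
    rw [map_mul, ha]
  rw [hker, Ideal.mem_span_singleton'] at h1
  obtain ⟨c, hc⟩ := h1
  set a' : Fin (n + 1) → R := Fin.cons (-c) a with ha'
  have hrel : ∑ i, a' i * f i = 0 := by
    rw [Fin.sum_univ_succ]
    simp only [ha', Fin.cons_zero, Fin.cons_succ]
    rw [← hc]
    ring
  have hmem := hf a' hrel
  set g : Fin n → R' := fun i => φ (f i.succ) with hg
  have key : ∀ v ∈ Submodule.span R
      {v : Fin (n + 1) → R | ∃ i j : Fin (n + 1), v = Pi.single i (f j) - Pi.single j (f i)},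
      (fun i : Fin n => φ (v i.succ)) ∈ Submodule.span R'
        {w : Fin n → R' | ∃ i j : Fin n, w = Pi.single i (g j) - Pi.single j (g i)} := by
    intro v hv
    induction hv using Submodule.span_induction with
    | mem v hv =>
      obtain ⟨i, j, rfl⟩ := hv
      induction i using Fin.cases with
      | zero =>
        induction j using Fin.cases with
        | zero =>
          have : (fun k : Fin n => φ ((Pi.single (0 : Fin (n + 1)) (f 0) -
              Pi.single (0 : Fin (n + 1)) (f 0) : Fin (n + 1) → R) k.succ)) = 0 := by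
            funext k
            simp
          rw [this]
          exact Submodule.zero_mem _
        | succ q =>
          have : (fun k : Fin n => φ ((Pi.single (0 : Fin (n + 1)) (f q.succ) -
              Pi.single q.succ (f 0) : Fin (n + 1) → R) k.succ)) = 0 := by
            funext k
            simp [Pi.single_apply, Fin.succ_ne_zero, hφ0, apply_ite φ]
          rw [this]
          exact Submodule.zero_mem _
      | succ p =>
        induction j using Fin.cases with
        | zero =>
          have : (fun k : Fin n => φ ((Pi.single p.succ (f 0) -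
              Pi.single (0 : Fin (n + 1)) (f p.succ) : Fin (n + 1) → R) k.succ)) = 0 := by
            funext k
            simp [Pi.single_apply, Fin.succ_ne_zero, hφ0, apply_ite φ]
          rw [this]
          exact Submodule.zero_mem _
        | succ q =>
          have : (fun k : Fin n => φ ((Pi.single p.succ (f q.succ) -
              Pi.single q.succ (f p.succ) : Fin (n + 1) → R) k.succ)) =
              Pi.single p (g q) - Pi.single q (g p) := by
            funext k
            simp [Pi.single_apply, Fin.succ_inj, apply_ite φ, hg]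
          rw [this]
          exact Submodule.subset_span ⟨p, q, rfl⟩
    | zero =>
      have : (fun i : Fin n => φ ((0 : Fin (n + 1) → R) i.succ)) = 0 := by
        funext i
        simp
      rw [this]
      exact Submodule.zero_mem _
    | add x y _ _ hx hy =>
      have : (fun i : Fin n => φ ((x + y) i.succ)) =
          (fun i => φ (x i.succ)) + (fun i => φ (y i.succ)) := by
        funext i
        simp
      rw [this]
      exact Submodule.add_mem _ hx hy
    | smul r x _ hx =>
      have : (fun i : Fin n => φ ((r • x) i.succ)) = φ r • (fun i => φ (x i.succ)) := by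
        funext i
        simp
      rw [this]
      exact Submodule.smul_mem _ _ hx
  have h2 := key a' hmem
  have h3 : (fun i : Fin n => φ (a' i.succ)) = ā := by
    funext i
    simp [ha', ha]
  rw [h3] at h2
  exact h2

section quasi

open MvPolynomial Groth.Agent.H19.QReg

variable {R : Type u} [CommRing R]

/-- for a quasi-regular family, multiplication by the first element is injective on the
associated graded ring -/
theorem qr_mem_pow_of_mul_mem {n : ℕ} (f : Fin (n + 1) → R) (hf : CAlgX.IsQuasiRegular f) :
    ∀ (k M : ℕ) (a : R), k ≤ M → f 0 * a ∈ Ideal.span (Set.range f) ^ (M + 1) →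
      a ∈ Ideal.span (Set.range f) ^ k := by
  intro k
  induction k with
  | zero => intro M a _ _; simp
  | succ k ih =>
    intro M a hkM ha
    have hak : a ∈ Ideal.span (Set.range f) ^ k := ih M a (by omega) ha
    obtain ⟨A, hA, hAa⟩ := (Ideal.mem_span_pow_iff_exists_isHomogeneous f a).1 hak
    have hXA : (X 0 * A : MvPolynomial (Fin (n + 1)) R).IsHomogeneous (k + 1) := by
      have := (isHomogeneous_X R (0 : Fin (n + 1))).mul hA
      rwa [add_comm 1 k] at this
    have hev : eval f (X 0 * A) ∈ Ideal.span (Set.range f) ^ (k + 1 + 1) := by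
      rw [map_mul, eval_X, hAa]
      exact Ideal.pow_le_pow_right (by omega) ha
    have hcoef : ∀ d, coeff d A ∈ Ideal.span (Set.range f) := by
      intro d
      have := hf (k + 1) (X 0 * A) hXA hev (Finsupp.single 0 1 + d)
      rwa [coeff_X_mul] at this
    have hAm : A ∈ (Ideal.span (Set.range f)).map (C : R →+* MvPolynomial (Fin (n + 1)) R) := by
      rw [MvPolynomial.mem_map_C_iff]
      exact hcoef
    have h2 := eval_mem_mul_pow f _ k hA hAm
    rw [hAa] at h2
    rw [pow_succ']
    exact h2

/-- cancellation of the first element of a quasi-regular family -/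
theorem qr_cancel_one {R' : Type u} [CommRing R'] (φ : R →+* R')
    (hφ : Function.Surjective φ) {n : ℕ} (f : Fin (n + 1) → R)
    (hker : RingHom.ker φ = Ideal.span {f 0}) (hf : CAlgX.IsQuasiRegular f) :
    CAlgX.IsQuasiRegular (fun i : Fin n => φ (f i.succ)) := by
  classical
  set J : Ideal R := Ideal.span (Set.range f) with hJ
  set g : Fin n → R' := fun i => φ (f i.succ) with hg
  have hφ0 : φ (f 0) = 0 := by
    rw [← RingHom.mem_ker, hker]
    exact Ideal.mem_span_singleton_self _
  have hf0J : f 0 ∈ J := Ideal.subset_span ⟨0, rfl⟩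
  have hJ' : Ideal.span (Set.range g) = J.map φ := by
    apply le_antisymm
    · rw [Ideal.span_le]
      rintro _ ⟨i, rfl⟩
      exact Ideal.mem_map_of_mem _ (Ideal.subset_span ⟨i.succ, rfl⟩)
    · rw [Ideal.map_le_iff_le_comap, Ideal.span_le]
      intro x hx
      obtain ⟨i, rfl⟩ := hx
      show φ (f i) ∈ Ideal.span (Set.range g)
      induction i using Fin.cases with
      | zero =>
        rw [hφ0]
        exact Ideal.zero_mem _
      | succ i => exact Ideal.subset_span ⟨i, rfl⟩
  intro N P' hP' hev d
  -- lift `P'` to a homogeneous polynomial over `R`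
  obtain ⟨P₀, hP₀⟩ := MvPolynomial.map_surjective φ hφ P'
  set P : MvPolynomial (Fin n) R := homogeneousComponent N P₀ with hPdef
  have hP : P.IsHomogeneous N := homogeneousComponent_isHomogeneous N P₀
  have hPmap : MvPolynomial.map φ P = P' := by
    ext d'
    rw [coeff_map, hPdef, coeff_homogeneousComponent]
    split_ifs with hd'
    · rw [← hP₀, coeff_map]
    · rw [map_zero]
      exact (hP'.coeff_eq_zero hd').symm
  set Q : MvPolynomial (Fin (n + 1)) R := rename Fin.succ P with hQdef
  have hQ : Q.IsHomogeneous N := hP.rename_isHomogeneous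
  have hQev : φ (eval f Q) = eval g P' := by
    rw [hQdef, eval_rename, map_eval', hPmap]
    rfl
  have hQJ : eval f Q ∈ J ^ N :=
    (Ideal.mem_span_pow_iff_exists_isHomogeneous f _).2 ⟨Q, hQ, rfl⟩
  -- `eval f Q = y + a * f 0` with `y ∈ J ^ (N + 1)`
  rw [hJ', ← Ideal.map_pow, ← hQev] at hev
  obtain ⟨y, hy, hyφ⟩ := (Ideal.mem_map_iff_of_surjective φ hφ).1 hev
  have h1 : eval f Q - y ∈ RingHom.ker φ := by
    rw [RingHom.mem_ker, map_sub, hyφ, sub_self]
  rw [hker, Ideal.mem_span_singleton'] at h1
  obtain ⟨a, ha⟩ := h1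
  have hcoefQ : coeff (Finsupp.mapDomain Fin.succ d) Q = coeff d P :=
    coeff_rename_mapDomain Fin.succ (Fin.succ_injective n) P d
  have hd0 : (Finsupp.mapDomain Fin.succ d) (0 : Fin (n + 1)) = 0 := by
    apply Finsupp.mapDomain_notin_range
    rintro ⟨i, hi⟩
    exact Fin.succ_ne_zero i hi
  have hgoal : coeff d P ∈ J := by
    rcases N with _ | M
    · have hQJ1 : eval f Q ∈ Ideal.span (Set.range f) ^ (0 + 1) := by
        have : eval f Q = y + a * f 0 := by rw [ha]; ring
        rw [this]
        refine Ideal.add_mem _ hy ?_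
        rw [zero_add, pow_one]
        exact Ideal.mul_mem_left _ _ hf0J
      have := hf 0 Q hQ hQJ1 (Finsupp.mapDomain Fin.succ d)
      rwa [hcoefQ] at this
    · have hfa : f 0 * a ∈ J ^ (M + 1) := by
        have : f 0 * a = eval f Q - y := by rw [← ha]; ring
        rw [this]
        exact Ideal.sub_mem _ hQJ (Ideal.pow_le_pow_right (Nat.le_succ _) hy)
      have haM : a ∈ J ^ M := qr_mem_pow_of_mul_mem f hf M M a le_rfl hfa
      obtain ⟨H', hH', hH'a⟩ := (Ideal.mem_span_pow_iff_exists_isHomogeneous f a).1 haM
      have hXH : (X 0 * H' : MvPolynomial (Fin (n + 1)) R).IsHomogeneous (M + 1) := by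
        have := (isHomogeneous_X R (0 : Fin (n + 1))).mul hH'
        rwa [add_comm 1 M] at this
      have hQt : (Q - X 0 * H').IsHomogeneous (M + 1) := hQ.sub hXH
      have hQtev : eval f (Q - X 0 * H') ∈ Ideal.span (Set.range f) ^ (M + 1 + 1) := by
        have : eval f (Q - X 0 * H') = y := by
          rw [map_sub, map_mul, eval_X, hH'a]
          have : f 0 * a = eval f Q - y := by rw [← ha]; ring
          rw [this]
          ring
        rw [this]
        exact hy
      have := hf (M + 1) (Q - X 0 * H') hQt hQtev (Finsupp.mapDomain Fin.succ d)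
      rw [coeff_sub, hcoefQ, coeff_X_mul', if_neg, sub_zero] at this
      · exact this
      · rw [Finsupp.mem_support_iff, hd0]
        exact fun h => h rfl
  rw [← hPmap, coeff_map, hJ']
  exact Ideal.mem_map_of_mem _ hgoal

end quasi

section wrapper

variable {K : ∀ {R : Type u} [CommRing R] {r : ℕ}, (Fin r → R) → Prop}

/-- cancellation of a whole list from cancellation of one element -/
theorem cancel_list (hgood : Good K)
    (same : ∀ {R : Type u} [CommRing R] (l l' : List R), K l.get → l.length = l'.length →
      Ideal.span {x | x ∈ l} = Ideal.span {x | x ∈ l'} → K l'.get)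
    (one : ∀ {R R' : Type u} [CommRing R] [CommRing R'] (φ : R →+* R'), Function.Surjective φ →
      ∀ {n : ℕ} (f : Fin (n + 1) → R), RingHom.ker φ = Ideal.span {f 0} → K f →
      K (fun i : Fin n => φ (f i.succ))) :
    ∀ (n : ℕ) {R R' : Type u} [CommRing R] [CommRing R'] (φ : R →+* R'),
      Function.Surjective φ → ∀ (E : List R), E.length = n →
      RingHom.ker φ = Ideal.span {x | x ∈ E} → ∀ b : List R, K (b ++ E).get →
      K (b.map φ).get := by
  intro n
  induction n with
  | zero =>
    intro R R' _ _ φ hφ E hn hker b hb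
    have hE : E = [] := List.length_eq_zero_iff.mp hn
    subst hE
    have hinj : Function.Injective φ := by
      rw [RingHom.injective_iff_ker_eq_bot, hker]
      simp
    let e : R ≃+* R' := RingEquiv.ofBijective φ ⟨hinj, hφ⟩
    rw [List.append_nil] at hb
    exact hgood.map_list_equiv e b hb
  | succ n ih =>
    intro R R' _ _ φ hφ E hn hker b hb
    obtain ⟨e, E', rfl⟩ : ∃ e E', E = e :: E' := by
      cases E with
      | nil => simp at hn
      | cons e E' => exact ⟨e, E', rfl⟩
    have hn' : E'.length = n := by simpa using hn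
    -- move `e` to the front
    have hb' : K (e :: (b ++ E')).get := by
      refine same (b ++ e :: E') (e :: (b ++ E')) hb
        (by simp only [List.length_append, List.length_cons]; omega) ?_
      congr 1
      ext y
      simp only [List.mem_append, List.mem_cons, Set.mem_ofPred_eq]
      tauto
    let φ₁ : R →+* R ⧸ Ideal.span {e} := Ideal.Quotient.mk (Ideal.span {e})
    have hφ₁ : Function.Surjective φ₁ := Ideal.Quotient.mk_surjective
    have hker₁ : RingHom.ker φ₁ = Ideal.span {e} := Ideal.mk_ker
    have h1 : K (fun i : Fin (b ++ E').length => φ₁ ((e :: (b ++ E')).get i.succ)) :=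
      one φ₁ hφ₁ (n := (b ++ E').length) (e :: (b ++ E')).get hker₁ hb'
    have h2 : K ((b ++ E').map φ₁).get := by
      refine K_congr (K := K) (List.length_map (as := b ++ E') φ₁).symm _ _ ?_ h1
      intro i
      rw [List.get_eq_getElem, List.getElem_map]
      rfl
    rw [List.map_append] at h2
    have heker : e ∈ RingHom.ker φ := by
      rw [hker]
      exact Ideal.subset_span List.mem_cons_self
    let φ' : R ⧸ Ideal.span {e} →+* R' := Ideal.Quotient.lift (Ideal.span {e}) φ (by
      intro x hx
      obtain ⟨c, rfl⟩ := Ideal.mem_span_singleton'.mp hx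
      rw [map_mul, RingHom.mem_ker.mp heker, mul_zero])
    have hφ'mk : ∀ x, φ' (φ₁ x) = φ x := fun x => Ideal.Quotient.lift_mk _ _ _
    have hφ' : Function.Surjective φ' := by
      intro y
      obtain ⟨x, rfl⟩ := hφ y
      exact ⟨φ₁ x, hφ'mk x⟩
    have hker' : RingHom.ker φ' = Ideal.span {x | x ∈ E'.map φ₁} := by
      rw [← span_list_map]
      ext xb
      obtain ⟨x, rfl⟩ := hφ₁ xb
      rw [RingHom.mem_ker, hφ'mk, ← RingHom.mem_ker, hker, ← Ideal.mem_comap,
        Ideal.comap_map_of_surjective φ₁ hφ₁, ← RingHom.ker_eq_comap_bot, hker₁]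
      have : Ideal.span {x | x ∈ e :: E'} = Ideal.span {e} ⊔ Ideal.span {x | x ∈ E'} :=
        Ideal.ofList_cons e E'
      rw [this, sup_comm]
    have h3 := ih φ' hφ' (E'.map φ₁) (by simpa using hn') hker' (b.map φ₁) h2
    rw [List.map_map] at h3
    have h4 : (φ' ∘ φ₁ : R → R') = φ := funext hφ'mk
    rw [h4] at h3
    exact h3

end wrapper

section instances

theorem range_cast_get {R : Type u} (l : List R) {m : ℕ} (h : m = l.length) :
    Set.range (fun i : Fin m => l.get (Fin.cast h i)) = {y | y ∈ l} := by
  subst h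
  exact range_get l

variable {R : Type u} [CommRing R]

theorem h1_same (l l' : List R) (hl : CAlgX.IsH1Regular l.get)
    (hlen : l.length = l'.length)
    (hspan : Ideal.span {x | x ∈ l} = Ideal.span {x | x ∈ l'}) :
    CAlgX.IsH1Regular l'.get := by
  have hf : CAlgX.IsH1Regular (fun i : Fin l'.length => l.get (Fin.cast hlen.symm i)) := by
    refine K_congr (K := @CAlgX.IsH1Regular) hlen l.get _ ?_ hl
    intro i
    simp
  refine Groth.Agent.H44.H1Tool.h1_of_same_span _ l'.get hf ?_
  rw [range_get, range_cast_get l hlen.symm]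
  exact hspan.symm

theorem h1_min (l a : List R) (hl : CAlgX.IsH1Regular l.get)
    (hspan : Ideal.span {x | x ∈ l} = Ideal.span {x | x ∈ a})
    (hne : Ideal.span {x | x ∈ l} ≠ ⊤) : l.length ≤ a.length :=
  Groth.Agent.H44.H1Tool.le_of_h1 l.get hl a.get (by rw [range_get, range_get]; exact hspan)
    (by rw [range_get]; exact hne)

theorem good_h1 : Good (@CAlgX.IsH1Regular) :=
  ⟨fun f hf => Groth.Agent.H79.RegKindFlat.isH1Regular_of_flat f hf,
    fun I hI => Groth.Agent.H44.H1Desc.locallyH1_of_faithfullyFlat I hI⟩

theorem goodC_h1 : GoodC (@CAlgX.IsH1Regular) where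
  good := good_h1
  same := h1_same
  min := h1_min
  cancel := fun φ hφ E _ hker b hb =>
    cancel_list good_h1 h1_same (fun φ hφ _ f hker hf => h1_cancel_one φ hφ f hker hf)
      E.length φ hφ E rfl hker b hb

theorem qr_same (l l' : List R) (hl : CAlgX.IsQuasiRegular l.get)
    (hlen : l.length = l'.length)
    (hspan : Ideal.span {x | x ∈ l} = Ideal.span {x | x ∈ l'}) :
    CAlgX.IsQuasiRegular l'.get := by
  have hf : CAlgX.IsQuasiRegular (fun i : Fin l'.length => l.get (Fin.cast hlen.symm i)) := by
    refine K_congr (K := @CAlgX.IsQuasiRegular) hlen l.get _ ?_ hl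
    intro i
    simp
  refine Groth.Agent.S3824.result _ l'.get hf ?_
  rw [range_get, range_cast_get l hlen.symm]
  exact hspan.symm

theorem qr_min (l a : List R) (hl : CAlgX.IsQuasiRegular l.get)
    (hspan : Ideal.span {x | x ∈ l} = Ideal.span {x | x ∈ a})
    (hne : Ideal.span {x | x ∈ l} ≠ ⊤) : l.length ≤ a.length :=
  Groth.Agent.H46.QRDesc.le_of_qr l.get hl a.get (by rw [range_get, range_get]; exact hspan)
    (by rw [range_get]; exact hne)

theorem good_qr : Good (@CAlgX.IsQuasiRegular) :=
  ⟨fun f hf => Groth.Agent.H79.RegKindFlat.isQuasiRegular_of_flat f hf,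
    fun I hI => Groth.Agent.H46.QRDesc.locallyQR_of_faithfullyFlat I hI⟩

theorem goodC_qr : GoodC (@CAlgX.IsQuasiRegular) where
  good := good_qr
  same := qr_same
  min := qr_min
  cancel := fun φ hφ E _ hker b hb =>
    cancel_list good_qr qr_same (fun φ hφ _ f hker hf => qr_cancel_one φ hφ f hker hf)
      E.length φ hφ E rfl hker b hb

/-- the Koszul kind, in family form -/
def Kkz : ∀ {R : Type u} [CommRing R] {r : ℕ}, (Fin r → R) → Prop :=
  fun {R} _ {_} f => LCI.IsKoszulRegularSeq R (List.ofFn f)

theorem Kkz_get (l : List R) : Kkz l.get ↔ LCI.IsKoszulRegularSeq R l := by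
  unfold Kkz
  rw [List.ofFn_get]

theorem locK_kz_iff (J : Ideal R) : LocK Kkz R J ↔ LCI.IsKoszulRegularIdeal J := by
  constructor
  · intro h 𝔭 h𝔭
    obtain ⟨g, hg, r, f, hf, hspan⟩ := h 𝔭.asIdeal h𝔭
    exact ⟨g, hg, List.ofFn f, hf, by rw [setOf_mem_ofFn, hspan]⟩
  · intro h P hP hle
    obtain ⟨g, hg, l, hl, hspan⟩ := h ⟨P, hP⟩ hle
    exact ⟨g, hg, l.length, l.get, (Kkz_get l).mpr hl, by rw [range_get]; exact hspan.symm⟩

theorem good_kz : Good Kkz where
  flat := by
    intro R S _ _ _ _ r f hf
    show LCI.IsKoszulRegularSeq S (List.ofFn fun i => algebraMap R S (f i))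
    have : (List.ofFn fun i => algebraMap R S (f i)) = (List.ofFn f).map (algebraMap R S) :=
      List.map_ofFn.symm
    rw [this]
    exact isKoszulRegularSeq_of_flat _ hf
  desc := fun I hI =>
    (locK_kz_iff I).mpr (kregIdeal_of_faithfullyFlat I ((locK_kz_iff _).mp hI))

theorem goodC_kz : GoodC Kkz where
  good := good_kz
  same := fun l l' hl hlen hspan =>
    (Kkz_get l').mpr (isKoszulRegularSeq_of_same_length l l' ((Kkz_get l).mp hl) hlen
      (fun x hx => hspan ▸ Ideal.subset_span hx))
  min := by
    intro R _ l a hl hspan hne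
    by_contra hlt
    push Not at hlt
    have := span_eq_top_of_kreg_of_length_lt l a ((Kkz_get l).mp hl) hlt
      (fun x hx => hspan ▸ Ideal.subset_span hx)
    exact hne (hspan.trans this)
  cancel := fun φ hφ E hE hker b hb =>
    (Kkz_get _).mpr ((Groth.Agent.H56.KzSwap.isKoszulRegularSeq_append_iff φ hφ E hE hker b).mp
      ((Kkz_get _).mp hb))

open AlgebraicGeometry CategoryTheory in
theorem regImmK_kz_iff {X Z : Scheme.{u}} (i : Z ⟶ X) :
    RegImmK Kkz i ↔ RegImm.IsRegularImmersion RegImm.Kind.koszul i := by
  constructor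
  · rintro ⟨h1, h2⟩
    refine ⟨h1, fun z => ?_⟩
    obtain ⟨U, hU, hcl, rs, hrs, hker⟩ := h2 z
    exact ⟨U, hU, hcl, rs, (Kkz_get rs).mp hrs, hker⟩
  · rintro ⟨h1, h2⟩
    refine ⟨h1, fun z => ?_⟩
    obtain ⟨U, hU, hcl, rs, hrs, hker⟩ := h2 z
    exact ⟨U, hU, hcl, rs, (Kkz_get rs).mpr hrs, hker⟩

end instances

end Groth.Agent.H44.CancelKinds
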