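import Groth.Agent.H44.FredholmBC
import Groth.Agent.H44.CoeffField
import Mathlib.RingTheory.Smooth.Kaehler
import Mathlib.Algebra.Field.ULift
import Mathlib.RingTheory.Noetherian.Nilpotent

/-!
# The conormal sequence of a local ring of characteristic `p` with nilpotent maximal ideal
-/

set_option autoImplicit false

universe u

open IsLocalRing KaehlerDifferential TensorProduct Module

namespace Groth.Agent.H44.Conormal

open Groth.Agent.H44.Fredholm

variable (p : ℕ) [Fact p.Prime] (R : Type u) [CommRing R] [IsLocalRing R] [CharP R p]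

theorem charP_residueField : CharP (ResidueField R) p := by
  have h0 : ((p : ℕ) : ResidueField R) = 0 := by
    rw [← map_natCast (residue R), CharP.cast_eq_zero, map_zero]
  exact ringChar.of_eq (CharP.ringChar_of_prime_eq_zero (Fact.out : p.Prime) h0)

include p in
theorem exists_residue_section (hnil : IsNilpotent (maximalIdeal R)) :
    ∃ σ : ResidueField R →+* R, ∀ x, residue R (σ x) = x := by
  haveI := charP_residueField p R
  letI aR : Algebra (ULift.{u} (ZMod p)) R :=
    ((ZMod.castHom (dvd_refl p) R).comp
      (ULift.ringEquiv : ULift.{u} (ZMod p) ≃+* ZMod p).toRingHom).toAlgebra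
  haveI : ExpChar (ULift.{u} (ZMod p)) p := ExpChar.prime Fact.out
  haveI : PerfectRing (ULift.{u} (ZMod p)) p := inferInstance
  haveI : Algebra.FormallySmooth (ULift.{u} (ZMod p)) (ResidueField R) :=
    CoeffField.formallySmooth_of_charP_perfect p
  let g : R →ₐ[ULift.{u} (ZMod p)] ResidueField R :=
    IsScalarTower.toAlgHom (ULift.{u} (ZMod p)) R (ResidueField R)
  have hg : Function.Surjective g := residue_surjective
  have hker : RingHom.ker (g : R →+* ResidueField R) = maximalIdeal R := by
    ext x
    rw [RingHom.mem_ker]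
    exact residue_eq_zero_iff x
  have hg' : IsNilpotent (RingHom.ker (g : R →+* ResidueField R)) := by
    rw [hker]; exact hnil
  exact ⟨(Algebra.FormallySmooth.liftOfSurjective (AlgHom.id _ (ResidueField R)) g hg hg').toRingHom,
    fun x => Algebra.FormallySmooth.liftOfSurjective_apply _ g hg hg' x⟩

variable {R}

omit [Fact p.Prime] [CharP R p] in
theorem kerCotangentToTensor_injective (σ : ResidueField R →+* R)
    (hσ : ∀ x, residue R (σ x) = x) :
    Function.Injective (KaehlerDifferential.kerCotangentToTensor ℤ R (ResidueField R)) := by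
  have hf : Function.Surjective (algebraMap R (ResidueField R)) := residue_surjective
  obtain ⟨l, hl⟩ := (retractionKerCotangentToTensorEquivSection (R := ℤ) hf).symm
    ⟨((Ideal.Quotient.mk _).comp σ).toIntAlgHom, by
      ext x
      exact hσ x⟩
  exact Function.LeftInverse.injective (g := l) (fun x => LinearMap.congr_fun hl x)

variable (R)

include p in
theorem hasIndex_mapBaseChange_residue [IsNoetherianRing R] (hnil : IsNilpotent (maximalIdeal R)) :
    HasIndex (KaehlerDifferential.mapBaseChange ℤ R (ResidueField R))
      (Module.finrank (ResidueField R) (CotangentSpace R)) := by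
  obtain ⟨σ, hσ⟩ := exists_residue_section p R hnil
  have hinj := kerCotangentToTensor_injective σ hσ
  have hf : Function.Surjective (algebraMap R (ResidueField R)) := residue_surjective
  have hex := KaehlerDifferential.exact_kerCotangentToTensor_mapBaseChange ℤ R (ResidueField R) hf
  have heq : RingHom.ker (algebraMap R (ResidueField R)) = maximalIdeal R := by
    ext x
    rw [RingHom.mem_ker]
    exact residue_eq_zero_iff x
  have hle : maximalIdeal R ≤ (RingHom.ker (algebraMap R (ResidueField R))).comap (AlgHom.id R R) := by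
    intro x hx
    rw [Ideal.mem_comap, heq]
    exact hx
  let jR : (maximalIdeal R).Cotangent →ₗ[R] ResidueField R ⊗[R] Ω[R⁄ℤ] :=
    (KaehlerDifferential.kerCotangentToTensor ℤ R (ResidueField R)) ∘ₗ
      (Ideal.mapCotangent (maximalIdeal R) (RingHom.ker (algebraMap R (ResidueField R)))
        (AlgHom.id R R) hle)
  let j : CotangentSpace R →ₗ[ResidueField R] ResidueField R ⊗[R] Ω[R⁄ℤ] :=
    jR.extendScalarsOfSurjective hf
  have hj : ∀ x, j x = jR x := fun x => rfl
  have hjinj : Function.Injective j := by
    rw [injective_iff_map_eq_zero]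
    intro x hx
    obtain ⟨y, rfl⟩ := Ideal.toCotangent_surjective _ x
    rw [hj] at hx
    have h1 : KaehlerDifferential.kerCotangentToTensor ℤ R (ResidueField R)
        (Ideal.toCotangent _ ⟨y.1, hle y.2⟩) = 0 := hx
    have h2 := hinj (h1.trans (map_zero _).symm)
    rw [Ideal.toCotangent_eq_zero] at h2 ⊢
    have h3 : (y : R) ∈ RingHom.ker (algebraMap R (ResidueField R)) ^ 2 := h2
    rw [heq] at h3
    exact h3
  have hjex : Function.Exact j (KaehlerDifferential.mapBaseChange ℤ R (ResidueField R)) := by
    intro z
    rw [hex z]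
    constructor
    · rintro ⟨w, rfl⟩
      obtain ⟨y, rfl⟩ := Ideal.toCotangent_surjective _ w
      exact ⟨Ideal.toCotangent _ ⟨y.1, heq ▸ y.2⟩, rfl⟩
    · rintro ⟨w, rfl⟩
      exact ⟨_, rfl⟩
  have hsurj : Function.Surjective (KaehlerDifferential.mapBaseChange ℤ R (ResidueField R)) :=
    KaehlerDifferential.mapBaseChange_surjective ℤ R (ResidueField R) hf
  have h := hasIndex_of_exact j _ (0 : Ω[ResidueField R⁄ℤ] →ₗ[ResidueField R] ResidueField R)
    hjex ((LinearMap.exact_zero_iff_surjective _ _).mpr hsurj)
  have z2 : Module.finrank (ResidueField R) (LinearMap.range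
      (0 : Ω[ResidueField R⁄ℤ] →ₗ[ResidueField R] ResidueField R)) = 0 := by
    rw [LinearMap.range_zero, finrank_bot]
  rw [z2, LinearMap.finrank_range_of_inj hjinj] at h
  simpa using h

end Groth.Agent.H44.Conormal
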