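import Mathlib
import Groth.Prelude.Def_EGA41

/-!
# The rank of `Δ(M/K, k/k₀)` in a tower `K ⊆ L ⊆ M`
-/

set_option autoImplicit false

universe u u' w

open scoped TensorProduct
open KaehlerDifferential

namespace Groth.Agent.H44.DeltaTower

theorem span_one_tmul_D (A : Type*) (R : Type*) (L : Type*) [CommRing A] [CommRing R] [CommRing L]
    [Algebra A R] [Algebra R L] :
    Submodule.span L (Set.range fun a : R => (1 : L) ⊗ₜ[R] KaehlerDifferential.D A R a) = ⊤ := by
  rw [_root_.eq_top_iff]
  rintro x -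
  induction x using TensorProduct.induction_on with
  | zero => exact zero_mem _
  | add x y hx hy => exact add_mem hx hy
  | tmul l ω =>
    have hω : ω ∈ Submodule.span R (Set.range (KaehlerDifferential.D A R)) := by
      rw [KaehlerDifferential.span_range_derivation]
      trivial
    induction hω using Submodule.span_induction generalizing l with
    | mem y hy =>
      obtain ⟨a, rfl⟩ := hy
      have h1 : l ⊗ₜ[R] KaehlerDifferential.D A R a =
          l • ((1 : L) ⊗ₜ[R] KaehlerDifferential.D A R a) := by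
        rw [TensorProduct.smul_tmul', smul_eq_mul, mul_one]
      rw [h1]
      exact Submodule.smul_mem _ _ (Submodule.subset_span ⟨a, rfl⟩)
    | zero =>
      rw [TensorProduct.tmul_zero]
      exact zero_mem _
    | add y z _ _ hy hz =>
      rw [TensorProduct.tmul_add]
      exact add_mem (hy l) (hz l)
    | smul s y _ hy =>
      rw [TensorProduct.tmul_smul, TensorProduct.smul_tmul']
      exact hy (s • l)

section linalg

theorem rank_eq_add_of_map_eq {F : Type*} [Field F] {W Y : Type w} [AddCommGroup W] [Module F W]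
    [AddCommGroup Y] [Module F Y] (f : W →ₗ[F] Y) (D : Submodule F W) (T : Submodule F Y)
    (N : Submodule F W) (hT : D.map f = T) (hN : D ⊓ LinearMap.ker f = N) :
    Module.rank F D = Module.rank F T + Module.rank F N := by
  have h := LinearMap.rank_range_add_rank_ker (f.domRestrict D)
  rw [LinearMap.range_domRestrict, LinearMap.ker_domRestrict, hT] at h
  have h1 : Submodule.comap D.subtype (LinearMap.ker f) = Submodule.comap D.subtype N := by
    rw [← hN]
    ext x
    simp only [Submodule.mem_comap, Submodule.subtype_apply, Submodule.mem_inf, LinearMap.mem_ker]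
    exact ⟨fun hx => ⟨x.2, hx⟩, fun hx => hx.2⟩
  have hle : N ≤ D := hN ▸ inf_le_left
  rw [h1, (Submodule.comapSubtypeEquivOfLe hle).rank_eq] at h
  exact h.symm

variable {L M : Type w} [Field L] [Field M] [Algebra L M]

theorem rank_ker_baseChange {V : Type w} {P : Type*} [AddCommGroup V] [Module L V]
    [AddCommGroup P] [Module L P] (f : V →ₗ[L] P) :
    Module.rank M ↥(LinearMap.ker (f.baseChange M)) = Module.rank L ↥(LinearMap.ker f) := by
  have e1 : Function.Exact ((LinearMap.ker f).subtype.baseChange M) (f.baseChange M) :=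
    Module.Flat.lTensor_exact M (LinearMap.exact_subtype_ker_map f)
  have i1 : Function.Injective ((LinearMap.ker f).subtype.baseChange M) :=
    Module.Flat.lTensor_preserves_injective_linearMap _ (Submodule.injective_subtype _)
  rw [LinearMap.exact_iff.mp e1, rank_range_of_injective _ i1, Module.rank_baseChange,
    Cardinal.lift_id]

theorem ker_baseChange_prod {V P Q : Type*} [AddCommGroup V] [Module L V]
    [AddCommGroup P] [Module L P] [AddCommGroup Q] [Module L Q] (a : V →ₗ[L] P) (b : V →ₗ[L] Q) :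
    LinearMap.ker ((a.prod b).baseChange M) =
      LinearMap.ker (a.baseChange M) ⊓ LinearMap.ker (b.baseChange M) := by
  have h1 : (LinearMap.fst L P Q).baseChange M ∘ₗ (a.prod b).baseChange M = a.baseChange M := by
    rw [← LinearMap.baseChange_comp, LinearMap.fst_prod]
  have h2 : (LinearMap.snd L P Q).baseChange M ∘ₗ (a.prod b).baseChange M = b.baseChange M := by
    rw [← LinearMap.baseChange_comp, LinearMap.snd_prod]
  have hid : (LinearMap.inl L P Q) ∘ₗ (LinearMap.fst L P Q) +
      (LinearMap.inr L P Q) ∘ₗ (LinearMap.snd L P Q) = LinearMap.id :=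
    LinearMap.ext fun x => by simp
  ext w
  rw [Submodule.mem_inf, LinearMap.mem_ker, LinearMap.mem_ker, LinearMap.mem_ker]
  constructor
  · intro h
    refine ⟨?_, ?_⟩
    · rw [← h1, LinearMap.comp_apply, h, map_zero]
    · rw [← h2, LinearMap.comp_apply, h, map_zero]
  · rintro ⟨ha, hb⟩
    have e1 : ((LinearMap.fst L P Q).baseChange M) (((a.prod b).baseChange M) w) =
        (a.baseChange M) w := by
      rw [← LinearMap.comp_apply, h1]
    have e2 : ((LinearMap.snd L P Q).baseChange M) (((a.prod b).baseChange M) w) =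
        (b.baseChange M) w := by
      rw [← LinearMap.comp_apply, h2]
    have h3 : ((a.prod b).baseChange M) w =
        ((LinearMap.id : (P × Q) →ₗ[L] (P × Q)).baseChange M) (((a.prod b).baseChange M) w) := by
      rw [LinearMap.baseChange_id]
      rfl
    rw [h3, ← hid, LinearMap.baseChange_add, LinearMap.add_apply, LinearMap.baseChange_comp,
      LinearMap.baseChange_comp, LinearMap.comp_apply, LinearMap.comp_apply, e1, e2, ha, hb,
      map_zero, map_zero, add_zero]

end linalg

section kaehler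

variable (k₀ : Type u) (k : Type u') (K L M : Type w)
    [Field k₀] [Field k] [Field K] [Field L] [Field M] [Algebra k₀ k]
    [Algebra k₀ K] [Algebra k K] [IsScalarTower k₀ k K] [Algebra k₀ L] [Algebra k L]
    [IsScalarTower k₀ k L]
    [Algebra K L] [Algebra K M] [Algebra L M] [IsScalarTower K L M]
    [Algebra k₀ M] [Algebra k M] [IsScalarTower k₀ K L] [IsScalarTower k K L]
    [IsScalarTower k₀ K M] [IsScalarTower k K M] [IsScalarTower k₀ L M] [IsScalarTower k L M]

set_option quotPrecheck false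

local notation "mapa" => (KaehlerDifferential.mapBaseChange k₀ K L)
local notation "mapb" => ((KaehlerDifferential.map k₀ k K K).baseChange L)
local notation "mapc" => (KaehlerDifferential.mapBaseChange k₀ L M)
local notation "mapd" => ((KaehlerDifferential.map k₀ k L L).baseChange M)
local notation "mapA" => (KaehlerDifferential.mapBaseChange k₀ K M)
local notation "mapB" => ((KaehlerDifferential.map k₀ k K K).baseChange M)
local notation "ee" => (TensorProduct.AlgebraTensorModule.cancelBaseChange K L M M Ω[K⁄k₀])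
local notation "ee'" => (TensorProduct.AlgebraTensorModule.cancelBaseChange K L M M Ω[K⁄k])
local notation "mapaM" => ((KaehlerDifferential.mapBaseChange k₀ K L).baseChange M)
local notation "mapbM" => (((KaehlerDifferential.map k₀ k K K).baseChange L).baseChange M)

/-- `L ⊗[k] Ω[k/k₀] → L ⊗[K] Ω[K/k₀]` -/
noncomputable def theta : L ⊗[k] Ω[k⁄k₀] →ₗ[L] L ⊗[K] Ω[K⁄k₀] :=
  ((KaehlerDifferential.mapBaseChange k₀ k K).baseChange L) ∘ₗ
    (TensorProduct.AlgebraTensorModule.cancelBaseChange k K L L Ω[k⁄k₀]).symm.toLinearMap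

theorem theta_one_tmul_D (x : k) :
    theta k₀ k K L ((1 : L) ⊗ₜ[k] D k₀ k x) = (1 : L) ⊗ₜ[K] D k₀ K (algebraMap k K x) := by
  show ((KaehlerDifferential.mapBaseChange k₀ k K).baseChange L)
      ((TensorProduct.AlgebraTensorModule.cancelBaseChange k K L L Ω[k⁄k₀]).symm
        ((1 : L) ⊗ₜ[k] D k₀ k x)) = _
  rw [TensorProduct.AlgebraTensorModule.cancelBaseChange_symm_tmul, LinearMap.baseChange_tmul,
    KaehlerDifferential.mapBaseChange_tmul, one_smul, KaehlerDifferential.map_D]

theorem mapa_comp_theta :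
    mapa ∘ₗ theta k₀ k K L = KaehlerDifferential.mapBaseChange k₀ k L := by
  apply LinearMap.ext_on (span_one_tmul_D k₀ k L)
  rintro _ ⟨x, rfl⟩
  show mapa (theta k₀ k K L ((1 : L) ⊗ₜ[k] D k₀ k x)) =
    (KaehlerDifferential.mapBaseChange k₀ k L) ((1 : L) ⊗ₜ[k] D k₀ k x)
  rw [theta_one_tmul_D]
  simp only [KaehlerDifferential.mapBaseChange_tmul, one_smul, KaehlerDifferential.map_D]
  rw [IsScalarTower.algebraMap_apply k K L x]

theorem mapb_comp_theta : mapb ∘ₗ theta k₀ k K L = 0 := by
  apply LinearMap.ext_on (span_one_tmul_D k₀ k L)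
  rintro _ ⟨x, rfl⟩
  show mapb (theta k₀ k K L ((1 : L) ⊗ₜ[k] D k₀ k x)) = 0
  rw [theta_one_tmul_D, LinearMap.baseChange_tmul, KaehlerDifferential.map_D]
  show (1 : L) ⊗ₜ[K] D k K (algebraMap k K x) = 0
  rw [Derivation.map_algebraMap, TensorProduct.tmul_zero]

theorem map_comp_mapa :
    (KaehlerDifferential.map k₀ k L L) ∘ₗ mapa =
      (KaehlerDifferential.mapBaseChange k K L) ∘ₗ mapb := by
  apply LinearMap.ext_on (span_one_tmul_D k₀ K L)
  rintro _ ⟨y, rfl⟩
  show (KaehlerDifferential.map k₀ k L L) (mapa ((1 : L) ⊗ₜ[K] D k₀ K y)) =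
    (KaehlerDifferential.mapBaseChange k K L) (mapb ((1 : L) ⊗ₜ[K] D k₀ K y))
  simp only [KaehlerDifferential.mapBaseChange_tmul, one_smul, KaehlerDifferential.map_D,
    LinearMap.baseChange_tmul]
  rfl

theorem mapA_cancel (w : M ⊗[L] (L ⊗[K] Ω[K⁄k₀])) :
    mapA (ee w) = mapc (mapaM w) := by
  have h : mapA = mapc ∘ₗ mapaM ∘ₗ (ee).symm.toLinearMap := by
    apply LinearMap.ext_on (span_one_tmul_D k₀ K M)
    rintro _ ⟨y, rfl⟩
    show mapA ((1 : M) ⊗ₜ[K] D k₀ K y) =
      mapc (mapaM ((ee).symm ((1 : M) ⊗ₜ[K] D k₀ K y)))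
    rw [TensorProduct.AlgebraTensorModule.cancelBaseChange_symm_tmul, LinearMap.baseChange_tmul]
    simp only [KaehlerDifferential.mapBaseChange_tmul, one_smul, KaehlerDifferential.map_D]
    rw [IsScalarTower.algebraMap_apply K L M y]
  have h2 := LinearMap.congr_fun h (ee w)
  rw [h2]
  show mapc (mapaM ((ee).symm (ee w))) = _
  rw [LinearEquiv.symm_apply_apply]

theorem mapB_cancel (w : M ⊗[L] (L ⊗[K] Ω[K⁄k₀])) :
    mapB (ee w) = ee' (mapbM w) := by
  have h : mapB = (ee').toLinearMap ∘ₗ mapbM ∘ₗ (ee).symm.toLinearMap := by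
    apply LinearMap.ext_on (span_one_tmul_D k₀ K M)
    rintro _ ⟨y, rfl⟩
    show mapB ((1 : M) ⊗ₜ[K] D k₀ K y) =
      ee' (mapbM ((ee).symm ((1 : M) ⊗ₜ[K] D k₀ K y)))
    simp only [TensorProduct.AlgebraTensorModule.cancelBaseChange_symm_tmul,
      LinearMap.baseChange_tmul, TensorProduct.AlgebraTensorModule.cancelBaseChange_tmul, one_smul]
  have h2 := LinearMap.congr_fun h (ee w)
  rw [h2]
  show ee' (mapbM ((ee).symm (ee w))) = _
  rw [LinearEquiv.symm_apply_apply]

set_option maxHeartbeats 1000000 in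
theorem rank_tower :
    Module.rank M ↥(EGA41.imperfection k₀ K M ⊓
          LinearMap.ker ((KaehlerDifferential.map k₀ k K K).baseChange M)) =
      Module.rank M ↥(EGA41.imperfection k₀ L M ⊓
            LinearMap.ker ((KaehlerDifferential.map k₀ k L L).baseChange M)) +
        Module.rank L ↥(EGA41.imperfection k₀ K L ⊓
            LinearMap.ker ((KaehlerDifferential.map k₀ k K K).baseChange L)) := by
  have hmem : ∀ w : M ⊗[L] (L ⊗[K] Ω[K⁄k₀]),
      ee w ∈ (EGA41.imperfection k₀ K M ⊓ LinearMap.ker mapB) ↔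
        mapc (mapaM w) = 0 ∧ mapbM w = 0 := by
    intro w
    rw [Submodule.mem_inf, LinearMap.mem_ker]
    show (mapA (ee w) = 0 ∧ mapB (ee w) = 0) ↔ _
    rw [mapA_cancel, mapB_cancel, LinearEquiv.map_eq_zero_iff]
  have hrank1 : Module.rank M ↥(EGA41.imperfection k₀ K M ⊓ LinearMap.ker mapB) =
      Module.rank M ↥((EGA41.imperfection k₀ K M ⊓ LinearMap.ker mapB).comap (ee).toLinearMap) :=
    (LinearEquiv.ofSubmodule' ee (EGA41.imperfection k₀ K M ⊓ LinearMap.ker mapB)).rank_eq.symm
  have hmem' : ∀ w : M ⊗[L] (L ⊗[K] Ω[K⁄k₀]),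
      w ∈ (EGA41.imperfection k₀ K M ⊓ LinearMap.ker mapB).comap (ee).toLinearMap ↔
        mapc (mapaM w) = 0 ∧ mapbM w = 0 := fun w =>
    Submodule.mem_comap.trans (hmem w)
  have hC3 : mapd ∘ₗ mapaM =
      (KaehlerDifferential.mapBaseChange k K L).baseChange M ∘ₗ mapbM := by
    rw [← LinearMap.baseChange_comp, ← LinearMap.baseChange_comp, map_comp_mapa]
  have hex : Function.Exact ((KaehlerDifferential.mapBaseChange k₀ k L).baseChange M) mapd :=
    Module.Flat.lTensor_exact M (KaehlerDifferential.exact_mapBaseChange_map k₀ k L)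
  have hT : ((EGA41.imperfection k₀ K M ⊓ LinearMap.ker mapB).comap (ee).toLinearMap).map
      mapaM = EGA41.imperfection k₀ L M ⊓ LinearMap.ker mapd := by
    ext y
    rw [Submodule.mem_map, Submodule.mem_inf, LinearMap.mem_ker]
    constructor
    · rintro ⟨w, hw, rfl⟩
      obtain ⟨h1, h2⟩ := (hmem' w).mp hw
      refine ⟨h1, ?_⟩
      have h3 := LinearMap.congr_fun hC3 w
      rw [LinearMap.comp_apply, LinearMap.comp_apply, h2, map_zero] at h3
      exact h3
    · rintro ⟨hc, hd⟩
      obtain ⟨z, hz⟩ := (hex y).mp hd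
      refine ⟨(theta k₀ k K L).baseChange M z, ?_, ?_⟩
      · rw [hmem']
        have e1 : mapaM ((theta k₀ k K L).baseChange M z) = y := by
          rw [← LinearMap.comp_apply, ← LinearMap.baseChange_comp, mapa_comp_theta]
          exact hz
        have e2 : mapbM ((theta k₀ k K L).baseChange M z) = 0 := by
          rw [← LinearMap.comp_apply, ← LinearMap.baseChange_comp, mapb_comp_theta,
            LinearMap.baseChange_zero, LinearMap.zero_apply]
        rw [e1, e2]
        exact ⟨hc, rfl⟩
      · rw [← LinearMap.comp_apply, ← LinearMap.baseChange_comp, mapa_comp_theta]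
        exact hz
  have hN : (EGA41.imperfection k₀ K M ⊓ LinearMap.ker mapB).comap (ee).toLinearMap ⊓
      LinearMap.ker mapaM =
      LinearMap.ker mapaM ⊓ LinearMap.ker mapbM := by
    ext w
    rw [Submodule.mem_inf, Submodule.mem_inf, hmem', LinearMap.mem_ker, LinearMap.mem_ker]
    constructor
    · rintro ⟨⟨_, h2⟩, h3⟩
      exact ⟨h3, h2⟩
    · rintro ⟨h3, h2⟩
      refine ⟨⟨?_, h2⟩, h3⟩
      rw [h3, map_zero]
  have hmain := rank_eq_add_of_map_eq mapaM _ _ _ hT hN
  have hflat : Module.rank M ↥(LinearMap.ker mapaM ⊓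
      LinearMap.ker mapbM) =
      Module.rank L ↥(LinearMap.ker mapa ⊓ LinearMap.ker mapb) := by
    rw [← ker_baseChange_prod, rank_ker_baseChange, LinearMap.ker_prod]
  rw [hrank1, hmain, hflat]
  rfl

end kaehler

end Groth.Agent.H44.DeltaTower
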