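import Groth.Prelude.Def_Algz
import Mathlib.Order.KrullDimension
import Mathlib.Topology.Specialization

set_option autoImplicit false
universe u

namespace Groth.Agent.H44

open Algz

variable {Y : Type u} [TopologicalSpace Y]

lemma codimPt_congr {w w' v v' : Y} (hw : w = w') (hv : v = v') (h : w ⤳ v) (h' : w' ⤳ v') :
    codimPt w v h = codimPt w' v' h' := by
  subst hw
  subst hv
  rfl

lemma codimPt_eq_zero {w v : Y} (h : w ⤳ v) (h' : v ⤳ w) : codimPt w v h = 0 := by
  unfold codimPt
  rw [Order.height_eq_zero]
  intro b _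
  have hb : Specialization.toEquiv v ≤ b.1 := b.2
  exact (show Specialization.toEquiv w ≤ Specialization.toEquiv v from h').trans hb

lemma one_le_codimPt {w v : Y} (h : w ⤳ v) (h' : ¬ v ⤳ w) : 1 ≤ codimPt w v h := by
  unfold codimPt
  have hlt : (⟨Specialization.toEquiv v, Set.mem_Ici.mpr le_rfl⟩ : Set.Ici (Specialization.toEquiv v)) <
      ⟨Specialization.toEquiv w, Specialization.toEquiv_le_toEquiv.mpr h⟩ := by
    rw [Subtype.mk_lt_mk]
    exact lt_of_le_not_ge (Specialization.toEquiv_le_toEquiv.mpr h)
      (fun hh => h' (Specialization.toEquiv_le_toEquiv.mp hh))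
  exact le_add_self.trans (Order.height_add_one_le hlt)

lemma codimPt_eq_one {w v : Y} (h : w ⤳ v) (h' : ¬ v ⤳ w)
    (himm : ∀ z : Y, w ⤳ z → z ⤳ v → z = w ∨ z = v) : codimPt w v h = 1 := by
  refine le_antisymm ?_ (one_le_codimPt h h')
  unfold codimPt
  rw [← Nat.cast_one, Order.height_le_coe_iff]
  intro b hb
  have hb1 : b.1 < Specialization.toEquiv w := hb
  have hbv : Specialization.toEquiv v ≤ b.1 := b.2
  have hwz : w ⤳ Specialization.ofEquiv b.1 := hb1.le
  have hzv : Specialization.ofEquiv b.1 ⤳ v := hbv
  have hzw : ¬ Specialization.ofEquiv b.1 ⤳ w := fun hh => hb1.not_ge hh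
  rcases himm _ hwz hzv with h1 | h1
  · exact absurd (specializes_of_eq h1) hzw
  · have h0 : Order.height b = 0 := by
      rw [Order.height_eq_zero]
      intro c _
      have hc : Specialization.toEquiv v ≤ c.1 := c.2
      show b.1 ≤ c.1
      have hbeq : b.1 = Specialization.toEquiv v := congrArg Specialization.toEquiv h1
      rw [hbeq]
      exact hc
    rw [h0]
    simp

/-- more room below: the codimension grows when the smaller point is specialised. -/
lemma codimPt_mono_right {w v v' : Y} (h : w ⤳ v) (hv : v ⤳ v') :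
    codimPt w v h ≤ codimPt w v' (h.trans hv) := by
  unfold codimPt
  let f : Set.Ici (Specialization.toEquiv v) → Set.Ici (Specialization.toEquiv v') :=
    fun a => ⟨a.1, (show Specialization.toEquiv v' ≤ Specialization.toEquiv v from hv).trans a.2⟩
  have hf : StrictMono f := fun a b hab => hab
  exact Order.height_le_height_apply_of_strictMono f hf _

end Groth.Agent.H44
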