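import Mathlib
import Groth.Prelude.Def_FlatCA
import Groth.Agent.H20.ShrinkSch

/-!
# (E46) for helper20: elements of a complete dévissage from a neighbourhood of the point of `S`
-/

set_option autoImplicit false
set_option linter.style.haveILetI false
universe u
open TensorProduct

namespace Groth.Agent.H44.DevE46

/-- finite + unique prime: an element outside the unique prime over `P` divides the image of an
element outside `P`. -/
theorem exists_mul_eq_of_uniq {B A : Type u} [CommRing B] [CommRing A] [Algebra B A]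
    [Module.Finite B A] (P : Ideal B) [P.IsPrime] (Q : Ideal A)
    (huniq : ∀ (Q₁ : Ideal A) [Q₁.IsPrime], Q₁.LiesOver P → Q₁ = Q)
    (t : A) (ht : t ∉ Q) : ∃ v : B, v ∉ P ∧ ∃ y : A, t * y = algebraMap B A v := by
  haveI : Algebra.IsIntegral B A := Algebra.IsIntegral.of_finite B A
  by_contra hcon
  push Not at hcon
  have hle : (Ideal.span {t}).comap (algebraMap B A) ≤ P := by
    intro v hv
    by_contra hvP
    rw [Ideal.mem_comap, Ideal.mem_span_singleton'] at hv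
    obtain ⟨y, hy⟩ := hv
    exact hcon v hvP y (by rw [mul_comm]; exact hy)
  obtain ⟨Q₁, hQ₁ge, hQ₁prime, hQ₁over⟩ :=
    Ideal.exists_ideal_over_prime_of_isIntegral P (Ideal.span {t}) hle
  haveI := hQ₁prime
  have h1 : Q₁ = Q := huniq Q₁ ⟨hQ₁over.symm⟩
  apply ht
  rw [← h1]
  exact hQ₁ge (Ideal.mem_span_singleton_self t)

theorem exists_elements_of_nhd (R S : Type u) [CommRing R] [CommRing S] [Algebra R S]
    (N : Type u) [AddCommGroup N] [Module S N]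
    (p : Ideal R) [p.IsPrime] (q : Ideal S) [q.IsPrime] (𝒟 : FlatCA.CompleteDevissage R S N p)
    (𝒜 : FlatCA.CompleteDevissageAt R S N p q 𝒟)
    (u : S) (hu : u ∉ q) :
    ∃ (g : R) (x0 : S) (b0 : ∀ i : ℕ, 𝒟.B i),
      g ∉ p ∧ x0 ∉ q ∧ (∀ i, b0 i ∉ 𝒜.qB i) ∧ (∀ i, 𝒟.n ≤ i → b0 i = 1) ∧ (∃ y : S, x0 = u * y) ∧
      (∃ c d : 𝒟.A 0, algebraMap S (𝒟.A 0) x0 = algebraMap (𝒟.B 0) (𝒟.A 0) (b0 0) * c ∧
        c * d = algebraMap (𝒟.B 0) (𝒟.A 0) (b0 0)) ∧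
      (∀ i, i + 1 < 𝒟.n → ∃ c d : 𝒟.A (i + 1), algebraMap (𝒟.B i) (𝒟.A (i + 1)) (b0 i) =
        algebraMap (𝒟.B (i + 1)) (𝒟.A (i + 1)) (b0 (i + 1)) * c ∧
        c * d = algebraMap (𝒟.B (i + 1)) (𝒟.A (i + 1)) (b0 (i + 1))) ∧
      (∀ i, i < 𝒟.n → ∀ P : Ideal R, P.IsPrime → g ∉ P →
        ∃ Q : Ideal (𝒟.B i), Q.IsPrime ∧ b0 i ∉ Q ∧ Q.comap (algebraMap R (𝒟.B i)) = P) := by
  classical
  have hpos := 𝒟.pos
  have hover : ∀ i (b : 𝒟.B i), b ∈ 𝒜.qB i ↔ algebraMap (𝒟.B i) (𝒟.A i) b ∈ 𝒜.qA i := by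
    intro i b
    have h := (𝒜.overA i).over
    rw [h]
    rfl
  have hstep : ∀ i, i + 1 < 𝒟.n → ∀ b : 𝒟.B i,
      b ∈ 𝒜.qB i ↔ algebraMap (𝒟.B i) (𝒟.A (i + 1)) b ∈ 𝒜.qA (i + 1) := by
    intro i hi b
    rw [← 𝒜.qStep i hi]
    rfl
  -- the key lemma at level `i`
  have hkey : ∀ i, i < 𝒟.n → ∀ t : 𝒟.A i, t ∉ 𝒜.qA i →
      ∃ v : 𝒟.B i, v ∉ 𝒜.qB i ∧ ∃ y : 𝒟.A i, t * y = algebraMap (𝒟.B i) (𝒟.A i) v := by
    intro i hi t ht
    haveI := 𝒟.finiteBA i hi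
    haveI := 𝒜.hqB i
    exact exists_mul_eq_of_uniq (𝒜.qB i) (𝒜.qA i) (fun Q₁ _ h => 𝒜.uniq i hi Q₁ h) t ht
  -- downward induction
  have key : ∀ k (hk : k ≤ 𝒟.n - 1), ∀ t : 𝒟.A k, t ∉ 𝒜.qA k →
      ∃ b0 : ∀ i : ℕ, 𝒟.B i,
      (∀ i, k ≤ i → i < 𝒟.n → b0 i ∉ 𝒜.qB i) ∧
      (∀ i, k ≤ i → i + 1 < 𝒟.n → ∃ c d : 𝒟.A (i + 1),
        algebraMap (𝒟.B i) (𝒟.A (i + 1)) (b0 i) =
          algebraMap (𝒟.B (i + 1)) (𝒟.A (i + 1)) (b0 (i + 1)) * c ∧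
        c * d = algebraMap (𝒟.B (i + 1)) (𝒟.A (i + 1)) (b0 (i + 1))) ∧
      ∃ y : 𝒟.A k, algebraMap (𝒟.B k) (𝒟.A k) (b0 k) = t * y := by
    intro k hk
    induction hk using Nat.decreasingInduction with
    | self =>
      intro t ht
      obtain ⟨v, hv, y, hy⟩ := hkey (𝒟.n - 1) (by omega) t ht
      refine ⟨Function.update (fun i => (1 : 𝒟.B i)) (𝒟.n - 1) v, ?_, ?_, y, ?_⟩
      · intro i hi1 hi2
        have hi : i = 𝒟.n - 1 := by omega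
        subst hi
        rw [Function.update_self]
        exact hv
      · intro i hi1 hi2
        omega
      · rw [Function.update_self]
        exact hy.symm
    | of_succ k hk ih =>
      intro t ht
      have hk1 : k + 1 < 𝒟.n := by omega
      obtain ⟨v, hv, y, hy⟩ := hkey k (by omega) t ht
      have ht' : algebraMap (𝒟.B k) (𝒟.A (k + 1)) v ∉ 𝒜.qA (k + 1) := by
        rw [← hstep k hk1]
        exact hv
      obtain ⟨b0, hb2, hb3, y', hy'⟩ := ih _ ht'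
      obtain ⟨ℓ, hℓ⟩ := 𝒟.surjBA' k hk1 (algebraMap (𝒟.B (k + 1)) (𝒟.A (k + 1)) (b0 (k + 1)))
      have hℓq : ℓ ∉ 𝒜.qB k := by
        rw [hstep k hk1, hℓ, ← hover]
        exact hb2 (k + 1) le_rfl hk1
      have hℓv : ℓ * v ∉ 𝒜.qB k := fun h =>
        ((𝒜.hqB k).mem_or_mem h).elim hℓq hv
      refine ⟨Function.update b0 k (ℓ * v), ?_, ?_, y * algebraMap (𝒟.B k) (𝒟.A k) ℓ, ?_⟩
      · intro i hi1 hi2
        by_cases hik : i = k
        · subst hik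
          rw [Function.update_self]
          exact hℓv
        · rw [Function.update_of_ne hik]
          exact hb2 i (by omega) hi2
      · intro i hi1 hi2
        by_cases hik : i = k
        · subst hik
          rw [Function.update_self, Function.update_of_ne (by omega)]
          refine ⟨algebraMap (𝒟.B i) (𝒟.A (i + 1)) v, y', ?_, ?_⟩
          · rw [map_mul, hℓ]
          · exact hy'.symm
        · rw [Function.update_of_ne hik, Function.update_of_ne (by omega)]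
          exact hb3 i (by omega) hi2
      · rw [Function.update_self, map_mul, ← hy]
        ring
  have ht0 : algebraMap S (𝒟.A 0) u ∉ 𝒜.qA 0 := by
    intro h
    apply hu
    rw [← 𝒜.q0]
    exact h
  obtain ⟨b, hb2, hb3, y0, hy0⟩ := key 0 (Nat.zero_le _) _ ht0
  -- reset outside the range
  let b0 : ∀ i : ℕ, 𝒟.B i := fun i => if i < 𝒟.n then b i else 1
  have hb0 : ∀ i, i < 𝒟.n → b0 i = b i := fun i hi => if_pos hi
  have hb0' : ∀ i, 𝒟.n ≤ i → b0 i = 1 := fun i hi => if_neg (by omega)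
  have hb0q : ∀ i, b0 i ∉ 𝒜.qB i := by
    intro i
    by_cases hi : i < 𝒟.n
    · rw [hb0 i hi]
      exact hb2 i (Nat.zero_le _) hi
    · rw [hb0' i (by omega)]
      exact (Ideal.ne_top_iff_one _).mp (𝒜.hqB i).ne_top
  -- the element of `S`
  obtain ⟨ℓ, hℓ⟩ := 𝒟.surjSA (algebraMap (𝒟.B 0) (𝒟.A 0) (b0 0))
  have hℓq : ℓ ∉ q := by
    rw [← 𝒜.q0]
    show ¬ algebraMap S (𝒟.A 0) ℓ ∈ 𝒜.qA 0
    rw [hℓ, ← hover]
    exact hb0q 0
  have hx0q : u * ℓ ∉ q := fun h => ((‹q.IsPrime›).mem_or_mem h).elim hu hℓq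
  -- the base element
  have hg : ∀ i, ∃ g : R, g ∉ p ∧ (i < 𝒟.n → ∀ P : Ideal R, P.IsPrime → g ∉ P →
      ∃ Q : Ideal (𝒟.B i), Q.IsPrime ∧ b0 i ∉ Q ∧ Q.comap (algebraMap R (𝒟.B i)) = P) := by
    intro i
    by_cases hi : i < 𝒟.n
    · haveI := 𝒜.hqB i
      haveI := 𝒜.overB i
      obtain ⟨g, hg1, hg2⟩ := Groth.Agent.H20.ShrinkSch.exists_base_shrink (𝒜.d i)
        (𝒜.relDim i hi) p (𝒜.qB i) (b0 i) (hb0q i)
      exact ⟨g, hg1, fun _ => hg2⟩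
    · exact ⟨1, (Ideal.ne_top_iff_one _).mp (‹p.IsPrime›).ne_top, fun h => absurd h hi⟩
  choose g hg1 hg2 using hg
  refine ⟨∏ i ∈ Finset.range 𝒟.n, g i, u * ℓ, b0, ?_, hx0q, hb0q, hb0', ⟨ℓ, rfl⟩, ?_, ?_, ?_⟩
  · rw [Ideal.IsPrime.prod_mem_iff]
    rintro ⟨i, _, hi⟩
    exact hg1 i hi
  · refine ⟨algebraMap S (𝒟.A 0) u, y0, ?_, ?_⟩
    · rw [map_mul, hℓ, mul_comm]
    · rw [hb0 0 hpos]
      exact hy0.symm
  · intro i hi
    rw [hb0 i (by omega), hb0 (i + 1) hi]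
    exact hb3 i (Nat.zero_le _) hi
  · intro i hi P hP hgP
    refine hg2 i hi P hP ?_
    intro hgi
    apply hgP
    rw [Ideal.IsPrime.prod_mem_iff]
    exact ⟨i, Finset.mem_range.mpr hi, hgi⟩

end Groth.Agent.H44.DevE46
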