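import Mathlib
import Groth.Prelude.Def_FlatCA
import Groth.Agent.H20.ShrinkSch

/-!
# (E47) for helper20: elements of a complete dévissage from an element of the last smooth algebra
-/

set_option autoImplicit false
set_option linter.style.haveILetI false
universe u
open TensorProduct

namespace Groth.Agent.H44.DevE47

theorem exists_elements_of_last (R S : Type u) [CommRing R] [CommRing S] [Algebra R S]
    (N : Type u) [AddCommGroup N] [Module S N]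
    (p : Ideal R) [p.IsPrime] (q : Ideal S) [q.IsPrime] (𝒟 : FlatCA.CompleteDevissage R S N p)
    (𝒜 : FlatCA.CompleteDevissageAt R S N p q 𝒟)
    (w : 𝒟.B (𝒟.n - 1)) (hw : w ∉ 𝒜.qB (𝒟.n - 1)) :
    ∃ (g : R) (x0 : S) (b0 : ∀ i : ℕ, 𝒟.B i),
      g ∉ p ∧ x0 ∉ q ∧ (∀ i, b0 i ∉ 𝒜.qB i) ∧ (∀ i, 𝒟.n ≤ i → b0 i = 1) ∧ b0 (𝒟.n - 1) = w ∧
      algebraMap S (𝒟.A 0) x0 = algebraMap (𝒟.B 0) (𝒟.A 0) (b0 0) ∧
      (∀ i, i + 1 < 𝒟.n → algebraMap (𝒟.B i) (𝒟.A (i + 1)) (b0 i) =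
        algebraMap (𝒟.B (i + 1)) (𝒟.A (i + 1)) (b0 (i + 1))) ∧
      (∀ i, i < 𝒟.n → ∀ P : Ideal R, P.IsPrime → g ∉ P →
        ∃ Q : Ideal (𝒟.B i), Q.IsPrime ∧ b0 i ∉ Q ∧ Q.comap (algebraMap R (𝒟.B i)) = P) := by
  classical
  have hpos := 𝒟.pos
  -- membership transfer: `b ∈ qB i ↔ image in A i ∈ qA i`
  have hover : ∀ i (b : 𝒟.B i), b ∈ 𝒜.qB i ↔ algebraMap (𝒟.B i) (𝒟.A i) b ∈ 𝒜.qA i := by
    intro i b
    have h := (𝒜.overA i).over
    rw [h]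
    rfl
  have hstep : ∀ i, i + 1 < 𝒟.n → ∀ b : 𝒟.B i,
      b ∈ 𝒜.qB i ↔ algebraMap (𝒟.B i) (𝒟.A (i + 1)) b ∈ 𝒜.qA (i + 1) := by
    intro i hi b
    rw [← 𝒜.qStep i hi]
    rfl
  -- downward induction
  have key : ∀ k (hk : k ≤ 𝒟.n - 1), ∃ b0 : ∀ i : ℕ, 𝒟.B i, b0 (𝒟.n - 1) = w ∧
      (∀ i, k ≤ i → i < 𝒟.n → b0 i ∉ 𝒜.qB i) ∧
      (∀ i, k ≤ i → i + 1 < 𝒟.n → algebraMap (𝒟.B i) (𝒟.A (i + 1)) (b0 i) =
        algebraMap (𝒟.B (i + 1)) (𝒟.A (i + 1)) (b0 (i + 1))) := by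
    intro k hk
    induction hk using Nat.decreasingInduction with
    | self =>
      refine ⟨Function.update (fun i => (1 : 𝒟.B i)) (𝒟.n - 1) w, ?_, ?_, ?_⟩
      · rw [Function.update_self]
      · intro i hi1 hi2
        have hi : i = 𝒟.n - 1 := by omega
        subst hi
        rw [Function.update_self]
        exact hw
      · intro i hi1 hi2
        omega
    | of_succ k hk ih =>
      obtain ⟨b0, hb1, hb2, hb3⟩ := ih
      have hk1 : k + 1 < 𝒟.n := by omega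
      obtain ⟨ℓ, hℓ⟩ := 𝒟.surjBA' k hk1 (algebraMap (𝒟.B (k + 1)) (𝒟.A (k + 1)) (b0 (k + 1)))
      have hℓq : ℓ ∉ 𝒜.qB k := by
        rw [hstep k hk1, hℓ, ← hover]
        exact hb2 (k + 1) le_rfl hk1
      refine ⟨Function.update b0 k ℓ, ?_, ?_, ?_⟩
      · rw [Function.update_of_ne (by omega)]
        exact hb1
      · intro i hi1 hi2
        by_cases hik : i = k
        · subst hik
          rw [Function.update_self]
          exact hℓq
        · rw [Function.update_of_ne hik]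
          exact hb2 i (by omega) hi2
      · intro i hi1 hi2
        by_cases hik : i = k
        · subst hik
          rw [Function.update_self, Function.update_of_ne (by omega)]
          exact hℓ
        · rw [Function.update_of_ne hik, Function.update_of_ne (by omega)]
          exact hb3 i (by omega) hi2
  obtain ⟨b, hb1, hb2, hb3⟩ := key 0 (Nat.zero_le _)
  -- reset outside the range
  let b0 : ∀ i : ℕ, 𝒟.B i := fun i => if i < 𝒟.n then b i else 1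
  have hb0 : ∀ i, i < 𝒟.n → b0 i = b i := fun i hi => if_pos hi
  have hb0' : ∀ i, 𝒟.n ≤ i → b0 i = 1 := fun i hi => if_neg (by omega)
  have hb0q : ∀ i, b0 i ∉ 𝒜.qB i := by
    intro i
    by_cases hi : i < 𝒟.n
    · rw [hb0 i hi]
      exact hb2 i (Nat.zero_le _) hi
    · rw [hb0' i (by omega)]
      exact (Ideal.ne_top_iff_one _).mp (𝒜.hqB i).ne_top
  -- the element of `S`
  obtain ⟨x0, hx0⟩ := 𝒟.surjSA (algebraMap (𝒟.B 0) (𝒟.A 0) (b0 0))
  have hx0q : x0 ∉ q := by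
    rw [← 𝒜.q0]
    show ¬ algebraMap S (𝒟.A 0) x0 ∈ 𝒜.qA 0
    rw [hx0, ← hover]
    exact hb0q 0
  -- the base element
  have hg : ∀ i, ∃ g : R, g ∉ p ∧ (i < 𝒟.n → ∀ P : Ideal R, P.IsPrime → g ∉ P →
      ∃ Q : Ideal (𝒟.B i), Q.IsPrime ∧ b0 i ∉ Q ∧ Q.comap (algebraMap R (𝒟.B i)) = P) := by
    intro i
    by_cases hi : i < 𝒟.n
    · haveI := 𝒜.hqB i
      haveI := 𝒜.overB i
      obtain ⟨g, hg1, hg2⟩ := Groth.Agent.H20.ShrinkSch.exists_base_shrink (𝒜.d i)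
        (𝒜.relDim i hi) p (𝒜.qB i) (b0 i) (hb0q i)
      exact ⟨g, hg1, fun _ => hg2⟩
    · exact ⟨1, (Ideal.ne_top_iff_one _).mp (‹p.IsPrime›).ne_top, fun h => absurd h hi⟩
  choose g hg1 hg2 using hg
  refine ⟨∏ i ∈ Finset.range 𝒟.n, g i, x0, b0, ?_, hx0q, hb0q, hb0', ?_, hx0, ?_, ?_⟩
  · rw [Ideal.IsPrime.prod_mem_iff]
    rintro ⟨i, _, hi⟩
    exact hg1 i hi
  · rw [hb0 _ (by omega)]
    exact hb1
  · intro i hi
    rw [hb0 i (by omega), hb0 (i + 1) hi]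
    exact hb3 i (Nat.zero_le _) hi
  · intro i hi P hP hgP
    refine hg2 i hi P hP ?_
    intro hgi
    apply hgP
    rw [Ideal.IsPrime.prod_mem_iff]
    exact ⟨i, Finset.mem_range.mpr hi, hgi⟩

end Groth.Agent.H44.DevE47
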