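import Mathlib
import Groth.Prelude.Def_Found

/-!
# Geometric regularity over a directed union of subfields
-/

set_option autoImplicit false

universe u

open TensorProduct Module

namespace Groth.Agent.H44.DirSub

theorem exists_index_finset (k : Type u) [Field k] {ι : Type u}
    (K : ι → Type u) [∀ i, Field (K i)] [∀ i, Algebra (K i) k]
    (hdir : ∀ i j, ∃ l, Set.range (algebraMap (K i) k) ⊆ Set.range (algebraMap (K l) k) ∧
      Set.range (algebraMap (K j) k) ⊆ Set.range (algebraMap (K l) k))
    (hcov : ∀ x : k, ∃ i, x ∈ Set.range (algebraMap (K i) k)) (s : Finset k) :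
    ∃ i, ∀ x ∈ s, x ∈ Set.range (algebraMap (K i) k) := by
  classical
  induction s using Finset.induction_on with
  | empty =>
    obtain ⟨i, _⟩ := hcov 0
    exact ⟨i, fun x hx => absurd hx (Finset.notMem_empty x)⟩
  | insert a s ha ih =>
    obtain ⟨i, hi⟩ := ih
    obtain ⟨j, hj⟩ := hcov a
    obtain ⟨l, hil, hjl⟩ := hdir i j
    refine ⟨l, fun x hx => ?_⟩
    rcases Finset.mem_insert.mp hx with rfl | hx
    · exact hjl hj
    · exact hil (hi x hx)

set_option maxHeartbeats 1000000 in
theorem isRegularRing_tensor_of_subfield {F k k' A : Type u} [Field F] [Field k] [Field k']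
    [CommRing A] [Algebra F k] [Algebra k k'] [Algebra k A] [Algebra F A] [IsScalarTower F k A]
    [Module.Finite k k']
    (hF : CAlg.IsGeometricallyRegular F A)
    (hc : ∀ i j l, (Module.finBasis k k').repr (Module.finBasis k k' i * Module.finBasis k k' j) l ∈
      Set.range (algebraMap F k))
    (hu : ∀ l, (Module.finBasis k k').repr 1 l ∈ Set.range (algebraMap F k)) :
    IsRegularRing (k' ⊗[k] A) := by
  classical
  obtain ⟨b, hb⟩ : ∃ b : Basis (Fin (Module.finrank k k')) k k', b = Module.finBasis k k' :=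
    ⟨_, rfl⟩
  rw [← hb] at hc hu
  letI algFk' : Algebra F k' := ((algebraMap k k').comp (algebraMap F k)).toAlgebra
  haveI : IsScalarTower F k k' := IsScalarTower.of_algebraMap_eq (fun x => rfl)
  obtain ⟨p, hp⟩ : ∃ p : Submodule F k', p = Submodule.span F (Set.range b) := ⟨_, rfl⟩
  have hbp : ∀ j, b j ∈ p := fun j => hp ▸ Submodule.subset_span ⟨j, rfl⟩
  have hsm : ∀ (c : k) (x : k'), c ∈ Set.range (algebraMap F k) → x ∈ p → c • x ∈ p := by
    rintro c x ⟨f, rfl⟩ hx
    rw [algebraMap_smul]
    exact p.smul_mem f hx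
  have hone : (1 : k') ∈ p := by
    rw [← b.sum_repr 1]
    exact Submodule.sum_mem _ (fun l _ => hsm _ _ (hu l) (hbp l))
  have hbb : ∀ i j, b i * b j ∈ p := by
    intro i j
    rw [← b.sum_repr (b i * b j)]
    exact Submodule.sum_mem _ (fun l _ => hsm _ _ (hc i j l) (hbp l))
  have hmul : ∀ x y, x ∈ p → y ∈ p → x * y ∈ p := by
    intro x y hx hy
    have h1 : x * y ∈ p * p := Submodule.mul_mem_mul hx hy
    have h2 : p * p ≤ p := by
      conv_lhs => rw [hp, Submodule.span_mul_span]
      rw [Submodule.span_le]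
      rintro _ ⟨_, ⟨i, rfl⟩, _, ⟨j, rfl⟩, rfl⟩
      exact hbb i j
    exact h2 h1
  obtain ⟨B, hB⟩ : ∃ B : Subalgebra F k', Subalgebra.toSubmodule B = p :=
    ⟨p.toSubalgebra hone hmul, Submodule.toSubalgebra_toSubmodule p hone hmul⟩
  have hBmem : ∀ x, x ∈ B ↔ x ∈ p := fun x => by rw [← hB]; exact Iff.rfl
  haveI : Module.Finite F B := by
    show Module.Finite F ↥(Subalgebra.toSubmodule B)
    rw [hB, hp]
    exact Module.Finite.span_of_finite F (Set.finite_range b)
  haveI : Algebra.IsIntegral F B := Algebra.IsIntegral.of_finite F B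
  have hBf : IsField B := isField_of_isIntegral_of_isField' (Field.toIsField F)
  let vB : Fin (Module.finrank k k') → B := fun j => ⟨b j, (hBmem _).mpr (hbp j)⟩
  have hli : LinearIndependent F vB := by
    have h1 : LinearIndependent F b :=
      b.linearIndependent.restrict_scalars (R := F) (K := k) (by
        intro x y hxy
        apply (algebraMap F k).injective
        simpa [Algebra.algebraMap_eq_smul_one] using hxy)
    exact LinearIndependent.of_comp B.val.toLinearMap h1
  have hsp : Submodule.span F (Set.range vB) = ⊤ := by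
    apply Submodule.map_injective_of_injective (Subalgebra.toSubmodule B).injective_subtype
    rw [Submodule.map_span, ← Set.range_comp, Submodule.map_top, Submodule.range_subtype]
    have h3 : (⇑(Subalgebra.toSubmodule B).subtype ∘ vB) = ⇑b := rfl
    rw [h3, hB, hp]
  let bB : Basis (Fin (Module.finrank k k')) F B := Basis.mk hli hsp.ge
  have hbB : ∀ j, bB j = vB j := fun j => by rw [Basis.mk_apply]
  let Φ₁ : A ⊗[F] B →ₐ[A] A ⊗[F] k' := Algebra.TensorProduct.map (AlgHom.id A A) B.val
  let Φ₂ : A ⊗[F] k' →ₐ[A] A ⊗[k] k' := Algebra.TensorProduct.mapOfCompatibleSMul k F A A k'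
  let Φ : A ⊗[F] B →ₐ[A] A ⊗[k] k' := Φ₂.comp Φ₁
  have hΦ : ∀ j, Φ ((1 : A) ⊗ₜ[F] vB j) = (1 : A) ⊗ₜ[k] b j := fun j => rfl
  let e₁ := Algebra.TensorProduct.basis A bB
  let e₂ := Algebra.TensorProduct.basis A b
  have hΦe : Φ.toLinearMap = (e₁.equiv e₂ (Equiv.refl _)).toLinearMap := by
    apply e₁.ext
    intro j
    rw [LinearEquiv.coe_coe, Basis.equiv_apply, Equiv.refl_apply,
      Algebra.TensorProduct.basis_apply, Algebra.TensorProduct.basis_apply, hbB]
    exact hΦ j
  have hbij : Function.Bijective Φ := by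
    have h1 := (e₁.equiv e₂ (Equiv.refl _)).bijective
    have h2 : (⇑Φ : A ⊗[F] B → A ⊗[k] k') = ⇑(e₁.equiv e₂ (Equiv.refl _)) := by
      funext x
      exact LinearMap.congr_fun hΦe x
    rw [h2]
    exact h1
  let E : A ⊗[F] B ≃ₐ[A] A ⊗[k] k' := AlgEquiv.ofBijective Φ hbij
  letI : Field B := hBf.toField
  haveI : IsRegularRing (B ⊗[F] A) := hF B inferInstance
  exact IsRegularRing.of_ringEquiv (R := B ⊗[F] A)
    (((Algebra.TensorProduct.comm F B A).toRingEquiv.trans E.toRingEquiv).trans
      (Algebra.TensorProduct.comm k A k').toRingEquiv)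

theorem main (k : Type u) [Field k] {ι : Type u}
    (K : ι → Type u) [∀ i, Field (K i)] [∀ i, Algebra (K i) k]
    (hdir : ∀ i j, ∃ l, Set.range (algebraMap (K i) k) ⊆ Set.range (algebraMap (K l) k) ∧
      Set.range (algebraMap (K j) k) ⊆ Set.range (algebraMap (K l) k))
    (hcov : ∀ x : k, ∃ i, x ∈ Set.range (algebraMap (K i) k))
    (A : Type u) [CommRing A] [Algebra k A] [∀ i, Algebra (K i) A]
    [∀ i, IsScalarTower (K i) k A] (h : ∀ i, CAlg.IsGeometricallyRegular (K i) A) :
    CAlg.IsGeometricallyRegular k A := by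
  classical
  intro k' _ _ hfin
  haveI := hfin
  obtain ⟨i, hi⟩ := exists_index_finset k K hdir hcov
    ((Finset.univ.image fun t : Fin (Module.finrank k k') × Fin (Module.finrank k k') ×
        Fin (Module.finrank k k') =>
      (Module.finBasis k k').repr (Module.finBasis k k' t.1 * Module.finBasis k k' t.2.1) t.2.2) ∪
      (Finset.univ.image fun l => (Module.finBasis k k').repr 1 l))
  exact isRegularRing_tensor_of_subfield (F := K i) (h i)
    (fun a b' l => hi _ (Finset.mem_union_left _
      (Finset.mem_image.mpr ⟨(a, b', l), Finset.mem_univ _, rfl⟩)))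
    (fun l => hi _ (Finset.mem_union_right _
      (Finset.mem_image.mpr ⟨l, Finset.mem_univ _, rfl⟩)))

end Groth.Agent.H44.DirSub
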