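import Mathlib
import Groth.Agent.H3.PH7
import Groth.Agent.H75.FunctApprox
import Groth.Agent.H34.AdicFib

/-!
# Étale-neighbourhood form of Artin approximation for functors (assuming Popescu)

* `exists_factor`: a map from a finitely presented algebra to the henselization of a pair factors
  through an étale neighbourhood of the pair;
* `core`: assuming Popescu, a map `C → Â` from a finitely presented `A`-algebra to the `I`-adic
  completion agrees modulo `I ^ n` with a map `C → A'` to an étale `A`-algebra with a point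
  `A' → A / I ^ n`.
-/

set_option autoImplicit false
set_option linter.style.haveILetI false
universe u
open CategoryTheory CategoryTheory.Limits

namespace Groth.Agent.H44.EtApprox

open Groth.Agent.H3.PH

section factor

variable {A : Type u} [CommRing A] (I : Ideal A) (B : Type u) [CommRing B] [Algebra A B]
  (hB : Hens2.IsPairHenselization A I B)

include hB

/-- kill finitely many elements of the kernel of `A' → A^h` in a further étale neighbourhood -/
theorem exists_nbhd_kill_finset (A' : Type u) [CommRing A'] [Algebra A A'] [Algebra.Etale A A']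
    (hq : Function.Bijective (Ideal.quotientMap (I.map (algebraMap A A')) (algebraMap A A')
      Ideal.le_comap_map))
    (φ : A' →ₐ[A] B) (T : Finset A') (hT : ∀ t ∈ T, φ t = 0) :
    ∃ (A'' : Type u) (_ : CommRing A'') (_ : Algebra A A'') (_ : Algebra.Etale A A''),
      Function.Bijective (Ideal.quotientMap (I.map (algebraMap A A'')) (algebraMap A A'')
        Ideal.le_comap_map) ∧
      ∃ ψ : A' →ₐ[A] A'', ∀ t ∈ T, ψ t = 0 := by
  classical
  induction T using Finset.induction_on with
  | empty =>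
    exact ⟨A', inferInstance, inferInstance, inferInstance, hq, AlgHom.id A A', by simp⟩
  | insert t T' ht ih =>
    obtain ⟨A₁, _, _, _, hq₁, ψ₁, hψ₁⟩ := ih (fun x hx => hT x (Finset.mem_insert_of_mem hx))
    obtain ⟨u₁⟩ := unique_algHom_of_nbhd I B hB A₁ hq₁
    obtain ⟨u⟩ := unique_algHom_of_nbhd I B hB A' hq
    let φ₁ : A₁ →ₐ[A] B := u₁.default
    have hcomp : φ₁.comp ψ₁ = φ := (u.uniq _).trans (u.uniq _).symm
    have h0 : φ₁ (ψ₁ t) = 0 := by
      rw [← AlgHom.comp_apply, hcomp]
      exact hT t (Finset.mem_insert_self _ _)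
    obtain ⟨A₂, _, _, _, hq₂, ψ₂, hψ₂⟩ := exists_nbhd_kill I B hB A₁ hq₁ φ₁ (ψ₁ t) h0
    refine ⟨A₂, inferInstance, inferInstance, inferInstance, hq₂, ψ₂.comp ψ₁, ?_⟩
    intro x hx
    rcases Finset.mem_insert.mp hx with rfl | hx
    · exact hψ₂
    · rw [AlgHom.comp_apply, hψ₁ x hx, map_zero]

/-- a map from a finitely presented algebra to the henselization factors through an étale
neighbourhood -/
theorem exists_factor (C : Type u) [CommRing C] [Algebra A C] [Algebra.FinitePresentation A C]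
    (τ : C →ₐ[A] B) :
    ∃ (A' : Type u) (_ : CommRing A') (_ : Algebra A A') (_ : Algebra.Etale A A'),
      Function.Bijective (Ideal.quotientMap (I.map (algebraMap A A')) (algebraMap A A')
        Ideal.le_comap_map) ∧
      ∃ (g : C →ₐ[A] A') (φ : A' →ₐ[A] B), φ.comp g = τ := by
  classical
  obtain ⟨n, f, hf, rels, hrels⟩ := Algebra.FinitePresentation.out (R := A) (A := C)
  obtain ⟨A₀, _, _, _, hq₀, φ₀, hφ₀⟩ := exists_nbhd_rep_finset I B hB
    (Finset.univ.image fun i : Fin n => τ (f (MvPolynomial.X i)))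
  choose! y hy using hφ₀
  let yy : Fin n → A₀ := fun i => y (τ (f (MvPolynomial.X i)))
  have hyy : ∀ i, φ₀ (yy i) = τ (f (MvPolynomial.X i)) := fun i =>
    hy _ (Finset.mem_image_of_mem _ (Finset.mem_univ i))
  have hφ₀aeval : ∀ p : MvPolynomial (Fin n) A, φ₀ (MvPolynomial.aeval yy p) = τ (f p) := by
    intro p
    have h1 : φ₀.comp (MvPolynomial.aeval yy) = τ.comp f :=
      MvPolynomial.algHom_ext (fun i => by
        rw [AlgHom.comp_apply, MvPolynomial.aeval_X, hyy, AlgHom.comp_apply])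
    exact AlgHom.congr_fun h1 p
  obtain ⟨A₁, _, _, _, hq₁, ψ, hψ⟩ := exists_nbhd_kill_finset I B hB A₀ hq₀ φ₀
    (rels.image (MvPolynomial.aeval yy)) (by
      intro t ht
      obtain ⟨p, hp, rfl⟩ := Finset.mem_image.mp ht
      rw [hφ₀aeval]
      have h2 : p ∈ RingHom.ker f.toRingHom := hrels ▸ Ideal.subset_span hp
      have h3 : f p = 0 := h2
      rw [h3, map_zero])
  let G : MvPolynomial (Fin n) A →ₐ[A] A₁ := ψ.comp (MvPolynomial.aeval yy)
  have hG : RingHom.ker f.toRingHom ≤ RingHom.ker G.toRingHom := by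
    rw [← hrels, Ideal.span_le]
    intro p hp
    exact hψ _ (Finset.mem_image_of_mem _ hp)
  let g : C →ₐ[A] A₁ := AlgHom.liftOfSurjective f hf G hG
  obtain ⟨u₁⟩ := unique_algHom_of_nbhd I B hB A₁ hq₁
  obtain ⟨u₀⟩ := unique_algHom_of_nbhd I B hB A₀ hq₀
  let φ₁ : A₁ →ₐ[A] B := u₁.default
  have hcomp : φ₁.comp ψ = φ₀ := (u₀.uniq _).trans (u₀.uniq _).symm
  refine ⟨A₁, inferInstance, inferInstance, inferInstance, hq₁, g, φ₁, ?_⟩
  ext c
  obtain ⟨p, rfl⟩ := hf c
  rw [AlgHom.comp_apply, AlgHom.liftOfSurjective_apply]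
  show φ₁ (ψ (MvPolynomial.aeval yy p)) = _
  rw [← AlgHom.comp_apply φ₁ ψ, hcomp, hφ₀aeval]

end factor

section core

/-- **Core**: assuming Popescu, a map from a finitely presented `A`-algebra to the completion is
congruent modulo `I ^ n` to a map into an étale `A`-algebra with an `A / I ^ n`-point. -/
theorem core (hP : Groth.Agent.H75.ArtinApprox.Popescu.{u}) (A : Type u) [CommRing A]
    [IsNoetherianRing A] (I : Ideal A)
    (hreg : CAlg.IsRegularHom A (AdicCompletion I A)) (n : ℕ)
    (C : Type u) [CommRing C] [Algebra A C] [Algebra.FinitePresentation A C]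
    (f : C →ₐ[A] AdicCompletion I A) :
    ∃ (A' : Type u) (_ : CommRing A') (_ : Algebra A A') (_ : Algebra.Etale A A')
      (g : C →ₐ[A] A') (ψ : A' →ₐ[A] A ⧸ I ^ n),
      ψ.comp g = (AdicCompletion.evalₐ I n).comp f := by
  have hIfg : I.FG := IsNoetherian.noetherian I
  haveI : IsNoetherianRing (AdicCompletion I A) :=
    Groth.Agent.Lead.isNoetherianRing_adicCompletion I hIfg
  obtain ⟨B, _, _, hsm, g₀, h, hgf⟩ := hP A (AdicCompletion I A) hreg C f
  haveI := hsm
  have hAh : Hens2.IsPairHenselization A (I ^ n) (H A (A ⧸ I ^ n)) :=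
    isPairHenselization_H A (I ^ n)
  haveI : HenselianRing (H A (A ⧸ I ^ n)) ((I ^ n).map (algebraMap A (H A (A ⧸ I ^ n)))) :=
    hAh.1
  let σ : B →ₐ[A] A ⧸ I ^ n := (AdicCompletion.evalₐ I n).comp h
  let e : A ⧸ I ^ n →ₐ[A]
      H A (A ⧸ I ^ n) ⧸ (I ^ n).map (algebraMap A (H A (A ⧸ I ^ n))) :=
    Ideal.quotientMapₐ ((I ^ n).map (algebraMap A (H A (A ⧸ I ^ n))))
      (Algebra.ofId A (H A (A ⧸ I ^ n))) Ideal.le_comap_map
  obtain ⟨τ, hτ⟩ := Groth.Agent.S0536.result A B (H A (A ⧸ I ^ n))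
    ((I ^ n).map (algebraMap A (H A (A ⧸ I ^ n)))) (e.comp σ)
  obtain ⟨A', _, _, _, -, g', φ', hfac⟩ := exists_factor (I ^ n) (H A (A ⧸ I ^ n)) hAh B τ
  let χ : H A (A ⧸ I ^ n) →ₐ[A] A ⧸ I ^ n :=
    { toRingHom := ε A (A ⧸ I ^ n)
      commutes' := ε_algebraMap A (A ⧸ I ^ n) }
  have hχτ : ∀ b, χ (τ b) = σ b := by
    intro b
    obtain ⟨a, ha⟩ := Ideal.Quotient.mk_surjective (σ b)
    have h1 : Ideal.Quotient.mk _ (τ b) = e (σ b) := AlgHom.congr_fun hτ b
    rw [← ha] at h1
    have h2 : e (Ideal.Quotient.mk _ a) =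
        Ideal.Quotient.mk _ (algebraMap A (H A (A ⧸ I ^ n)) a) := rfl
    rw [h2, Ideal.Quotient.eq] at h1
    have h3 := map_le_ker_ε A (I ^ n) h1
    rw [RingHom.mem_ker, map_sub, sub_eq_zero, ε_algebraMap] at h3
    show ε A (A ⧸ I ^ n) (τ b) = σ b
    rw [h3, ← ha]
    rfl
  refine ⟨A', inferInstance, inferInstance, inferInstance, g'.comp g₀, χ.comp φ', ?_⟩
  ext c
  show χ (φ' (g' (g₀ c))) = AdicCompletion.evalₐ I n (f c)
  rw [← AlgHom.comp_apply φ' g', hfac, hχτ]
  show AdicCompletion.evalₐ I n (h (g₀ c)) = _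
  rw [← AlgHom.comp_apply h g₀, hgf]

end core

section under

open Groth.Agent.H75.FunctApprox

/-- Étale-neighbourhood approximation for functors on `Under A` preserving filtered colimits
(assuming Popescu). -/
theorem main_under (hP : Groth.Agent.H75.ArtinApprox.Popescu.{u}) (A : Type u) [CommRing A]
    [IsNoetherianRing A] (I : Ideal A)
    (hreg : CAlg.IsRegularHom A (AdicCompletion I A))
    (F : Under (CommRingCat.of A) ⥤ Type u)
    (hF : ∀ (J : Type u) [SmallCategory J] [IsFiltered J], PreservesColimitsOfShape J F)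
    (n : ℕ)
    (π : Under.mk (CommRingCat.ofHom (algebraMap A (AdicCompletion I A))) ⟶
      Under.mk (CommRingCat.ofHom (algebraMap A (A ⧸ I ^ n))))
    (hπ : π.right = CommRingCat.ofHom
      (AdicCompletion.evalₐ I n : AdicCompletion I A →ₐ[A] A ⧸ I ^ n).toRingHom)
    (ξ : F.obj (Under.mk (CommRingCat.ofHom (algebraMap A (AdicCompletion I A))))) :
    ∃ (A' : Type u) (_ : CommRing A') (_ : Algebra A A') (_ : Algebra.Etale A A')
      (φ : Under.mk (CommRingCat.ofHom (algebraMap A A')) ⟶
        Under.mk (CommRingCat.ofHom (algebraMap A (A ⧸ I ^ n))))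
      (ξ' : F.obj (Under.mk (CommRingCat.ofHom (algebraMap A A')))),
      F.map φ ξ' = F.map π ξ := by
  classical
  obtain ⟨s, ξs, hξs⟩ := exists_fg A (AdicCompletion I A) F hF ξ
  haveI : Algebra.FiniteType A (Algebra.adjoin A (s : Set (AdicCompletion I A))) :=
    (Subalgebra.fg_iff_finiteType _).mp (Subalgebra.fg_adjoin_finset s)
  haveI : Algebra.FinitePresentation A (Algebra.adjoin A (s : Set (AdicCompletion I A))) :=
    Algebra.FinitePresentation.of_finiteType.mp inferInstance
  obtain ⟨A', _, _, hEt, g, ψ, hgψ⟩ := core hP A I hreg n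
    (Algebra.adjoin A (s : Set (AdicCompletion I A)))
    (Algebra.adjoin A (s : Set (AdicCompletion I A))).val
  have heq : uHom g ≫ uHom ψ = uHom (Algebra.adjoin A (s : Set (AdicCompletion I A))).val ≫ π := by
    apply Under.UnderMorphism.ext
    rw [Under.comp_right, Under.comp_right, hπ]
    ext x
    exact AlgHom.congr_fun hgψ x
  refine ⟨A', inferInstance, inferInstance, hEt, uHom ψ, F.map (uHom g) ξs, ?_⟩
  rw [← hξs, ← Functor.map_comp_apply, ← Functor.map_comp_apply, heq]

/-- statement of S16106, assuming Popescu's theorem (S0595) -/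
theorem main_local (hP : Groth.Agent.H75.ArtinApprox.Popescu.{u}) (A : Type u) [CommRing A]
    [IsLocalRing A] (hG : CAlg.IsGRing A)
    (F : Under (CommRingCat.of A) ⥤ Type u)
    (hF : ∀ (J : Type u) [SmallCategory J] [IsFiltered J], PreservesColimitsOfShape J F)
    (N : ℕ)
    (π : Under.mk (CommRingCat.ofHom (algebraMap A
        (AdicCompletion (IsLocalRing.maximalIdeal A) A))) ⟶
      Under.mk (CommRingCat.ofHom (algebraMap A (A ⧸ IsLocalRing.maximalIdeal A ^ (N + 1)))))
    (hπ : π.right = CommRingCat.ofHom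
      (AdicCompletion.evalₐ (IsLocalRing.maximalIdeal A) (N + 1) :
        AdicCompletion (IsLocalRing.maximalIdeal A) A →ₐ[A]
          A ⧸ IsLocalRing.maximalIdeal A ^ (N + 1)).toRingHom)
    (ξ : F.obj (Under.mk (CommRingCat.ofHom (algebraMap A
        (AdicCompletion (IsLocalRing.maximalIdeal A) A))))) :
    ∃ (A' : Type u) (_ : CommRing A') (_ : Algebra A A') (_ : Algebra.Etale A A')
      (φ : Under.mk (CommRingCat.ofHom (algebraMap A A')) ⟶
        Under.mk (CommRingCat.ofHom (algebraMap A (A ⧸ IsLocalRing.maximalIdeal A ^ (N + 1)))))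
      (ξ' : F.obj (Under.mk (CommRingCat.ofHom (algebraMap A A')))),
      F.map φ ξ' = F.map π ξ := by
  haveI : IsNoetherianRing A := hG.1
  exact main_under hP A (IsLocalRing.maximalIdeal A)
    (Groth.Agent.H34.AdicFib.regular A hG _) F hF (N + 1) π hπ ξ

end under

end Groth.Agent.H44.EtApprox
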