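import Mathlib
import Groth.Agent.H44.EtApprox
import Groth.Agent.H20.PolyGRing2

/-!
# Étale-neighbourhood approximation of maps of completions over a G-ring (S8823), assuming Popescu
-/

set_option autoImplicit false
set_option linter.style.haveILetI false
universe u
open TensorProduct

namespace Groth.Agent.H44.EtApprox2

open Groth.Agent.H3.PH Groth.Agent.H44.EtApprox

/-- **Core with neighbourhood property**: as `EtApprox.core`, but the étale algebra `A'` is a
neighbourhood of `V(I ^ n)` and the kernel of the point `ψ` is `I ^ n A'`. -/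
theorem core' (hP : Groth.Agent.H75.ArtinApprox.Popescu.{u}) (A : Type u) [CommRing A]
    [IsNoetherianRing A] (I : Ideal A)
    (hreg : CAlg.IsRegularHom A (AdicCompletion I A)) (n : ℕ)
    (C : Type u) [CommRing C] [Algebra A C] [Algebra.FinitePresentation A C]
    (f : C →ₐ[A] AdicCompletion I A) :
    ∃ (A' : Type u) (_ : CommRing A') (_ : Algebra A A') (_ : Algebra.Etale A A')
      (g : C →ₐ[A] A') (ψ : A' →ₐ[A] A ⧸ I ^ n),
      ψ.comp g = (AdicCompletion.evalₐ I n).comp f ∧
      (∀ x : A', ∃ a : A, x - algebraMap A A' a ∈ (I ^ n).map (algebraMap A A')) ∧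
      (∀ x : A', ψ x = 0 → x ∈ (I ^ n).map (algebraMap A A')) := by
  have hIfg : I.FG := IsNoetherian.noetherian I
  haveI : IsNoetherianRing (AdicCompletion I A) :=
    Groth.Agent.Lead.isNoetherianRing_adicCompletion I hIfg
  obtain ⟨B, _, _, hsm, g₀, h, hgf⟩ := hP A (AdicCompletion I A) hreg C f
  haveI := hsm
  have hAh : Hens2.IsPairHenselization A (I ^ n) (H A (A ⧸ I ^ n)) :=
    isPairHenselization_H A (I ^ n)
  haveI : HenselianRing (H A (A ⧸ I ^ n)) ((I ^ n).map (algebraMap A (H A (A ⧸ I ^ n)))) :=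
    hAh.1
  let σ : B →ₐ[A] A ⧸ I ^ n := (AdicCompletion.evalₐ I n).comp h
  let e : A ⧸ I ^ n →ₐ[A]
      H A (A ⧸ I ^ n) ⧸ (I ^ n).map (algebraMap A (H A (A ⧸ I ^ n))) :=
    Ideal.quotientMapₐ ((I ^ n).map (algebraMap A (H A (A ⧸ I ^ n))))
      (Algebra.ofId A (H A (A ⧸ I ^ n))) Ideal.le_comap_map
  obtain ⟨τ, hτ⟩ := Groth.Agent.S0536.result A B (H A (A ⧸ I ^ n))
    ((I ^ n).map (algebraMap A (H A (A ⧸ I ^ n)))) (e.comp σ)
  obtain ⟨A', _, _, _, hq, g', φ', hfac⟩ := exists_factor (I ^ n) (H A (A ⧸ I ^ n)) hAh B τ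
  let χ : H A (A ⧸ I ^ n) →ₐ[A] A ⧸ I ^ n :=
    { toRingHom := ε A (A ⧸ I ^ n)
      commutes' := ε_algebraMap A (A ⧸ I ^ n) }
  have hχτ : ∀ b, χ (τ b) = σ b := by
    intro b
    obtain ⟨a, ha⟩ := Ideal.Quotient.mk_surjective (σ b)
    have h1 : Ideal.Quotient.mk _ (τ b) = e (σ b) := AlgHom.congr_fun hτ b
    rw [← ha] at h1
    have h2 : e (Ideal.Quotient.mk _ a) =
        Ideal.Quotient.mk _ (algebraMap A (H A (A ⧸ I ^ n)) a) := rfl
    rw [h2, Ideal.Quotient.eq] at h1
    have h3 := map_le_ker_ε A (I ^ n) h1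
    rw [RingHom.mem_ker, map_sub, sub_eq_zero, ε_algebraMap] at h3
    show ε A (A ⧸ I ^ n) (τ b) = σ b
    rw [h3, ← ha]
    rfl
  have hsurj : ∀ x : A', ∃ a : A, x - algebraMap A A' a ∈ (I ^ n).map (algebraMap A A') := by
    intro x
    obtain ⟨y, hy⟩ := hq.2 (Ideal.Quotient.mk _ x)
    obtain ⟨a, rfl⟩ := Ideal.Quotient.mk_surjective y
    refine ⟨a, ?_⟩
    rw [← Ideal.Quotient.eq]
    exact hy.symm
  have hkill : ∀ y ∈ (I ^ n).map (algebraMap A A'), (χ.comp φ') y = 0 := by
    have hle : (I ^ n).map (algebraMap A A') ≤ RingHom.ker (χ.comp φ').toRingHom := by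
      rw [Ideal.map_le_iff_le_comap]
      intro j hj
      show (χ.comp φ') (algebraMap A A' j) = 0
      rw [AlgHom.commutes]
      exact Ideal.Quotient.eq_zero_iff_mem.mpr hj
    exact fun y hy => hle hy
  refine ⟨A', inferInstance, inferInstance, inferInstance, g'.comp g₀, χ.comp φ', ?_, hsurj, ?_⟩
  · ext c
    show χ (φ' (g' (g₀ c))) = AdicCompletion.evalₐ I n (f c)
    rw [← AlgHom.comp_apply φ' g', hfac, hχτ]
    show AdicCompletion.evalₐ I n (h (g₀ c)) = _
    rw [← AlgHom.comp_apply h g₀, hgf]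
  · intro x hx
    obtain ⟨a, ha⟩ := hsurj x
    have h1 : (χ.comp φ') (x - algebraMap A A' a) = 0 := hkill _ ha
    rw [map_sub, hx, zero_sub, neg_eq_zero, AlgHom.commutes] at h1
    have h2 : a ∈ I ^ n := Ideal.Quotient.eq_zero_iff_mem.mp h1
    have h3 : x = (x - algebraMap A A' a) + algebraMap A A' a := by ring
    rw [h3]
    exact Ideal.add_mem _ ha (Ideal.mem_map_of_mem _ h2)

/-- statement of S8823, assuming Popescu's theorem (S0595) -/
theorem main (hP : Groth.Agent.H75.ArtinApprox.Popescu.{u}) (A : Type u) [CommRing A]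
    (hA : CAlg.IsGRing A) (I : Ideal A) (B C : Type u) [CommRing B] [Algebra A B]
    [Algebra.FiniteType A B] [CommRing C] [Algebra A C] [Algebra.FiniteType A C]
    (φ : (AdicCompletion (I.map (algebraMap A B)) B) →ₐ[A]
      (AdicCompletion (I.map (algebraMap A C)) C)) (N : ℕ) (hN : 1 ≤ N) :
    ∃ (C' : Type u) (_ : CommRing C') (_ : Algebra C C') (_ : Algebra A C')
      (_ : IsScalarTower A C C') (_ : Algebra.Etale C C') (ψ : B →ₐ[A] C'),
      ((∀ c' : C', ∃ c : C, algebraMap C C' c - c' ∈ I.map (algebraMap A C')) ∧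
        ∀ c : C, algebraMap C C' c ∈ I.map (algebraMap A C') → c ∈ I.map (algebraMap A C)) ∧
      ∀ b : B, ∃ c : C, ψ b - algebraMap C C' c ∈ (I.map (algebraMap A C')) ^ N ∧
        AdicCompletion.eval (I.map (algebraMap A C)) C N
          (φ (AdicCompletion.of (I.map (algebraMap A B)) B b)) = Submodule.Quotient.mk c := by
  haveI : IsNoetherianRing A := hA.1
  have hGC : CAlg.IsGRing C := Groth.Agent.H20.PolyGRing.isGRing_of_finiteType A hA C
  haveI : IsNoetherianRing C := hGC.1
  haveI : Algebra.FinitePresentation A B := Algebra.FinitePresentation.of_finiteType.mp inferInstance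
  have hreg : CAlg.IsRegularHom C (AdicCompletion (I.map (algebraMap A C)) C) :=
    Groth.Agent.H34.AdicFib.regular C hGC (I.map (algebraMap A C))
  haveI : IsScalarTower A B (AdicCompletion (I.map (algebraMap A B)) B) :=
    IsScalarTower.of_algebraMap_eq (fun _ => rfl)
  haveI : IsScalarTower A C (AdicCompletion (I.map (algebraMap A C)) C) :=
    IsScalarTower.of_algebraMap_eq (fun _ => rfl)
  let β : B →ₐ[A] AdicCompletion (I.map (algebraMap A C)) C :=
    φ.comp (IsScalarTower.toAlgHom A B (AdicCompletion (I.map (algebraMap A B)) B))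
  have hβ : ∀ b, β b = φ (AdicCompletion.of (I.map (algebraMap A B)) B b) := fun b => rfl
  let f : C ⊗[A] B →ₐ[C] AdicCompletion (I.map (algebraMap A C)) C :=
    Algebra.TensorProduct.lift (Algebra.ofId C (AdicCompletion (I.map (algebraMap A C)) C)) β
      (fun _ _ => Commute.all _ _)
  obtain ⟨C', _, _, hEt, g, ψ, hgψ, hsurj, hker⟩ := core' hP C (I.map (algebraMap A C)) hreg N (C ⊗[A] B) f
  letI : Algebra A C' := ((algebraMap C C').comp (algebraMap A C)).toAlgebra
  haveI : IsScalarTower A C C' := IsScalarTower.of_algebraMap_eq (fun _ => rfl)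
  have hmap : I.map (algebraMap A C') = (I.map (algebraMap A C)).map (algebraMap C C') := by
    rw [Ideal.map_map]
    rfl
  let ψB : B →ₐ[A] C' := (g.restrictScalars A).comp Algebra.TensorProduct.includeRight
  have hψB : ∀ b, ψ (ψB b) = AdicCompletion.evalₐ (I.map (algebraMap A C)) N (β b) := by
    intro b
    have h1 := AlgHom.congr_fun hgψ ((1 : C) ⊗ₜ[A] b)
    have h2 : f ((1 : C) ⊗ₜ[A] b) = β b := by
      show Algebra.TensorProduct.lift _ _ _ _ = _
      rw [Algebra.TensorProduct.lift_tmul, map_one, one_mul]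
    rw [AlgHom.comp_apply, AlgHom.comp_apply, h2] at h1
    exact h1
  have hpowle : (I.map (algebraMap A C)) ^ N ≤ (I.map (algebraMap A C)) := Ideal.pow_le_self (by omega)
  refine ⟨C', inferInstance, inferInstance, inferInstance, inferInstance, hEt, ψB, ⟨?_, ?_⟩, ?_⟩
  · intro c'
    obtain ⟨c, hc⟩ := hsurj c'
    refine ⟨c, ?_⟩
    rw [hmap]
    have h1 : c' - algebraMap C C' c ∈ (I.map (algebraMap A C)).map (algebraMap C C') := Ideal.map_mono hpowle hc
    have h2 : algebraMap C C' c - c' = -(c' - algebraMap C C' c) := by ring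
    rw [h2]
    exact Ideal.neg_mem_iff _ |>.mpr h1
  · intro c hc
    rw [hmap] at hc
    -- the point modulo (I.map (algebraMap A C))
    let ψ₁ : C' →ₐ[C] C ⧸ (I.map (algebraMap A C)) := (Ideal.Quotient.factorₐ C hpowle).comp ψ
    have hle : (I.map (algebraMap A C)).map (algebraMap C C') ≤ RingHom.ker ψ₁.toRingHom := by
      rw [Ideal.map_le_iff_le_comap]
      intro j hj
      show ψ₁ (algebraMap C C' j) = 0
      rw [AlgHom.commutes]
      exact Ideal.Quotient.eq_zero_iff_mem.mpr hj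
    have h1 : ψ₁ (algebraMap C C' c) = 0 := hle hc
    rw [AlgHom.commutes] at h1
    exact Ideal.Quotient.eq_zero_iff_mem.mp h1
  · intro b
    obtain ⟨c, hc⟩ := Ideal.Quotient.mk_surjective (ψ (ψB b))
    refine ⟨c, ?_, ?_⟩
    · rw [hmap, ← Ideal.map_pow]
      apply hker
      rw [map_sub, AlgHom.commutes, ← hc]
      exact sub_self _
    · rw [← hβ, ← AdicCompletion.factor_evalₐ_eq_eval (I := (I.map (algebraMap A C))) (β b)
        (by rw [Ideal.smul_eq_mul, Ideal.mul_top]), ← hψB, ← hc]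
      rfl

end Groth.Agent.H44.EtApprox2
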