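import Mathlib
import Groth.Agent.H44.EtApprox
import Groth.Agent.H44.DVRExc
import Groth.Agent.H20.PolyGRing2

/-!
# Artin approximation for functors on `CommAlgCat A`, affine form (S18340), assuming Popescu
-/

set_option autoImplicit false
set_option linter.style.haveILetI false
universe u
open CategoryTheory CategoryTheory.Limits

namespace Groth.Agent.H44.EtApproxC

/-- a field is a G-ring -/
theorem isGRing_of_field (k : Type u) [Field k] : CAlg.IsGRing k := by
  refine ⟨inferInstance, fun p _ => ?_⟩
  apply Groth.Agent.H44.DVRExc.isRegularHom_cpl_of_isField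
  have hp : p = ⊥ := by
    rcases Ideal.eq_bot_or_top p with h | h
    · exact h
    · exact absurd h (Ideal.IsPrime.ne_top inferInstance)
  subst hp
  exact Groth.Agent.H44.DVRExc.isField_localization_bot k

section colim

variable (A : Type u) [CommRing A] (B : Type u) [CommRing B] [Algebra A B]

/-- The diagram of finitely generated subalgebras of `B`, indexed by finite subsets. -/
noncomputable def diagC : Finset B ⥤ CommAlgCat.{u} A where
  obj s := CommAlgCat.of A (Algebra.adjoin A (s : Set B))
  map {s t} h := CommAlgCat.ofHom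
    (Subalgebra.inclusion (Algebra.adjoin_mono (Finset.coe_subset.mpr (leOfHom h))))
  map_id s := by
    ext x
    rfl
  map_comp f g := by
    ext x
    rfl

/-- The cocone of inclusions of the finitely generated subalgebras. -/
noncomputable def coconeC : Cocone (diagC A B) where
  pt := CommAlgCat.of A B
  ι :=
    { app := fun s => CommAlgCat.ofHom (Algebra.adjoin A (s : Set B)).val
      naturality := fun s t h => by
        ext x
        rfl }

variable {A B}
variable (c' : Cocone (diagC A B))

/-- Component algebra homomorphisms of a cocone. -/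
noncomputable def compC (s : Finset B) : Algebra.adjoin A (s : Set B) →ₐ[A] c'.pt :=
  (c'.ι.app s).hom

lemma compC_incl {s t : Finset B} (h : s ≤ t) (z : Algebra.adjoin A (s : Set B)) :
    compC c' t (Subalgebra.inclusion (Algebra.adjoin_mono (Finset.coe_subset.mpr h)) z) =
      compC c' s z := by
  have h1 := c'.w (homOfLE h)
  have h2 := congrArg (fun m => m.hom z) h1
  exact h2

/-- The underlying function of the descent map. -/
noncomputable def descFunC (x : B) : c'.pt :=
  compC c' {x} ⟨x, Algebra.subset_adjoin (by simp)⟩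

lemma compC_eq (s : Finset B) (z : Algebra.adjoin A (s : Set B)) :
    compC c' s z = descFunC c' z.1 := by
  classical
  have h1 := compC_incl c' (s := s) (t := s ∪ {z.1}) Finset.subset_union_left z
  have h2 := compC_incl c' (s := {z.1}) (t := s ∪ {z.1}) Finset.subset_union_right
    ⟨z.1, Algebra.subset_adjoin (by simp)⟩
  rw [← h1]
  exact h2

/-- The descent algebra homomorphism. -/
noncomputable def descHomC : B →ₐ[A] c'.pt where
  toFun := descFunC c'
  map_one' := by
    have := compC_eq c' {1} 1
    rw [map_one] at this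
    exact this.symm
  map_mul' x y := by
    classical
    have hx : x ∈ Algebra.adjoin A (({x, y} : Finset B) : Set B) :=
      Algebra.subset_adjoin (by simp)
    have hy : y ∈ Algebra.adjoin A (({x, y} : Finset B) : Set B) :=
      Algebra.subset_adjoin (by simp)
    have h1 := compC_eq c' {x, y} (⟨x, hx⟩ * ⟨y, hy⟩)
    have h2 := compC_eq c' {x, y} ⟨x, hx⟩
    have h3 := compC_eq c' {x, y} ⟨y, hy⟩
    rw [map_mul, h2, h3] at h1
    exact h1.symm
  map_zero' := by
    have := compC_eq c' {0} 0
    rw [map_zero] at this
    exact this.symm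
  map_add' x y := by
    classical
    have hx : x ∈ Algebra.adjoin A (({x, y} : Finset B) : Set B) :=
      Algebra.subset_adjoin (by simp)
    have hy : y ∈ Algebra.adjoin A (({x, y} : Finset B) : Set B) :=
      Algebra.subset_adjoin (by simp)
    have h1 := compC_eq c' {x, y} (⟨x, hx⟩ + ⟨y, hy⟩)
    have h2 := compC_eq c' {x, y} ⟨x, hx⟩
    have h3 := compC_eq c' {x, y} ⟨y, hy⟩
    rw [map_add, h2, h3] at h1
    exact h1.symm
  commutes' a := by
    have h1 := compC_eq c' ∅ (algebraMap A (Algebra.adjoin A ((∅ : Finset B) : Set B)) a)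
    rw [AlgHom.commutes] at h1
    exact h1.symm

variable (A B) in
/-- `B` is the filtered colimit of its finitely generated subalgebras, in `CommAlgCat A`. -/
noncomputable def isColimitCoconeC : IsColimit (coconeC A B) where
  desc c' := CommAlgCat.ofHom (descHomC c')
  fac c' s := by
    ext z
    exact (compC_eq c' s z).symm
  uniq c' m hm := by
    ext x
    have hx : (x : B) ∈ Algebra.adjoin A ((({(x : B)} : Finset B)) : Set B) :=
      Algebra.subset_adjoin (Finset.mem_coe.mpr (Finset.mem_singleton_self _))
    have h1 := congrArg (fun q => q.hom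
      (⟨(x : B), hx⟩ : Algebra.adjoin A ((({(x : B)} : Finset B)) : Set B))) (hm {(x : B)})
    exact h1

variable (A B) in
/-- An element of `F(B)` comes from a finitely generated subalgebra, if `F` preserves filtered
colimits. -/
theorem exists_fgC (F : CommAlgCat.{u} A ⥤ Type u) [PreservesFilteredColimits F]
    (ξ : F.obj (CommAlgCat.of A B)) :
    ∃ (s : Finset B) (ξs : F.obj (CommAlgCat.of A (Algebra.adjoin A (s : Set B)))),
      F.map (CommAlgCat.ofHom (Algebra.adjoin A (s : Set B)).val) ξs = ξ := by
  classical
  have : PreservesColimitsOfShape (Finset B) F :=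
    PreservesFilteredColimitsOfSize.preserves_filtered_colimits (Finset B)
  have hc := isColimitOfPreserves F (isColimitCoconeC A B)
  obtain ⟨s, y, hy⟩ := Types.jointly_surjective_of_isColimit hc ξ
  exact ⟨s, y, hy⟩

end colim

/-- statement of S18340, assuming Popescu's theorem (S0595) -/
theorem main (hP : Groth.Agent.H75.ArtinApprox.Popescu.{u}) (k : Type u) [Field k]
    (A : Type u) [CommRing A] [Algebra k A] [Algebra.FiniteType k A] (m : Ideal A)
    (F : CommAlgCat.{u} A ⥤ Type u) [Limits.PreservesFilteredColimits F]
    (ξ : F.obj (CommAlgCat.of A (AdicCompletion m A))) (N : ℕ) :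
    ∃ (A' : Type u) (_ : CommRing A') (_ : Algebra A A') (_ : Algebra.Etale A A')
      (ψ : A' →ₐ[A] (A ⧸ m ^ (N + 1))) (_ : Function.Surjective ψ)
      (ξ' : F.obj (CommAlgCat.of A A')),
      F.map (CommAlgCat.ofHom ψ) ξ' =
        F.map (CommAlgCat.ofHom (AdicCompletion.evalₐ m (N + 1))) ξ := by
  classical
  have hG : CAlg.IsGRing A :=
    Groth.Agent.H20.PolyGRing.isGRing_of_finiteType k (isGRing_of_field k) A
  haveI : IsNoetherianRing A := hG.1
  obtain ⟨s, ξs, hξs⟩ := exists_fgC A (AdicCompletion m A) F ξ
  haveI : Algebra.FiniteType A (Algebra.adjoin A (s : Set (AdicCompletion m A))) :=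
    (Subalgebra.fg_iff_finiteType _).mp (Subalgebra.fg_adjoin_finset s)
  haveI : Algebra.FinitePresentation A (Algebra.adjoin A (s : Set (AdicCompletion m A))) :=
    Algebra.FinitePresentation.of_finiteType.mp inferInstance
  obtain ⟨A', _, _, hEt, g, ψ, hgψ⟩ := Groth.Agent.H44.EtApprox.core hP A m
    (Groth.Agent.H34.AdicFib.regular A hG m) (N + 1)
    (Algebra.adjoin A (s : Set (AdicCompletion m A)))
    (Algebra.adjoin A (s : Set (AdicCompletion m A))).val
  have hsurj : Function.Surjective ψ := by
    intro x
    obtain ⟨a, rfl⟩ := Ideal.Quotient.mk_surjective x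
    exact ⟨algebraMap A A' a, ψ.commutes a⟩
  refine ⟨A', inferInstance, inferInstance, hEt, ψ, hsurj, F.map (CommAlgCat.ofHom g) ξs, ?_⟩
  rw [← hξs, ← Functor.map_comp_apply, ← Functor.map_comp_apply, ← CommAlgCat.ofHom_comp,
    ← CommAlgCat.ofHom_comp, hgψ]

end Groth.Agent.H44.EtApproxC
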