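import Mathlib
import Groth.Prelude.Def_FEt
import Groth.Agent.H69.FEtColim.Defs2
import Groth.Agent.H44.FEtColim_UCDCore
import Groth.Agent.H64.FEtColim_UTR
import Groth.Agent.H64.FEtColim_ULOC
import Groth.Agent.H97.FEtColim_UD

/-!
# (UCD) for helper69 (S0285): universal equalizers in the split case (exact statement)
-/

set_option autoImplicit false
universe u
open TensorProduct
open CategoryTheory CategoryTheory.Limits AlgebraicGeometry
open Groth.Agent.H69.FEtColim

namespace Groth.Agent.H44.FEtColim_UCD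

/-- (UCD) -/
theorem uIsEq_split (R : Type u) [CommRing R] (n m : ℕ)
    (φ ψ : (Fin n → R) →ₐ[R] (Fin m → R))
    (E : Type u) [CommRing E] [Algebra R E] (ι : E →ₐ[R] (Fin n → R))
    (h : IsEq ι φ ψ) : UIsEq ι φ ψ :=
  uIsEq_split_core
    (fun h => Groth.Agent.H64.FEtColim_ULOC.uIsEq_of_locally h)
    (fun h eA eB φ' ψ' h1 h2 => Groth.Agent.H64.FEtColim_UTR.uIsEq_of_equiv h eA eB φ' ψ' h1 h2)
    (fun R _ n m a b E _ _ ι h => Groth.Agent.H97.FEtColim_UD.uIsEq_const R n m a b E ι h)
    R n m φ ψ E ι h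

end Groth.Agent.H44.FEtColim_UCD
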