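import Mathlib
import Groth.Agent.H47.HensNoeth
import Groth.Agent.S7127

/-!
# (Q3) for helper47: ind-étale base change of the integral closure (surjectivity part)
-/

set_option autoImplicit false
set_option linter.style.haveILetI false
universe u
open IsLocalRing TensorProduct

namespace Groth.Agent.H44.FEtShQ3

/-- base change of a module along a faithfully flat algebra map is injective, in the form
`B' ⊗[A] E → R ⊗[A] E`. -/
theorem map_injective_of_faithfullyFlat (A B' R E : Type u) [CommRing A] [CommRing B'] [CommRing R]
    [Algebra A B'] [Algebra A R] [Algebra B' R] [IsScalarTower A B' R]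
    [Module.FaithfullyFlat B' R] [CommRing E] [Algebra A E] :
    Function.Injective (Algebra.TensorProduct.map (IsScalarTower.toAlgHom A B' R)
      (AlgHom.id A E)) := by
  have h1 : Function.Injective (TensorProduct.mk B' R (B' ⊗[A] E) 1) :=
    Module.FaithfullyFlat.tensorProduct_mk_injective (A := B') (B := R) (B' ⊗[A] E)
  let c := TensorProduct.AlgebraTensorModule.cancelBaseChange A B' B' R E
  have h2 : ∀ z : B' ⊗[A] E, c (TensorProduct.mk B' R (B' ⊗[A] E) 1 z) =
      Algebra.TensorProduct.map (IsScalarTower.toAlgHom A B' R) (AlgHom.id A E) z := by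
    intro z
    induction z using TensorProduct.induction_on with
    | zero => simp
    | tmul b e =>
      show c ((1 : R) ⊗ₜ[B'] (b ⊗ₜ[A] e)) = _
      rw [TensorProduct.AlgebraTensorModule.cancelBaseChange_tmul, Algebra.TensorProduct.map_tmul,
        Algebra.smul_def, mul_one]
      rfl
    | add a b ha hb => rw [map_add, map_add, map_add, ha, hb]
  intro z₁ z₂ h
  rw [← h2, ← h2] at h
  exact h1 (c.injective h)

/-- the descent step: an element of `B' ⊗[A] E` whose image in `R ⊗[A] E` satisfies a monic equation
coming from `B'` comes from `B' ⊗[A] integralClosure A E`, when `B'` is a localization of an étale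
`A`-algebra and `R` is faithfully flat over `B'`. -/
theorem aux (A A' B' R E : Type u) [CommRing A] [CommRing A'] [CommRing B'] [CommRing R]
    [Algebra A A'] [Algebra.Etale A A'] [Algebra A' B'] (M : Submonoid A') [IsLocalization M B']
    [Algebra A B'] [IsScalarTower A A' B'] [Algebra A R] [Algebra B' R] [IsScalarTower A B' R]
    [Module.FaithfullyFlat B' R] [CommRing E] [Algebra A E] (y' : B' ⊗[A] E)
    (P' : Polynomial B') (hP' : P'.Monic)
    (hroot : Polynomial.aeval (Algebra.TensorProduct.map (IsScalarTower.toAlgHom A B' R)
      (AlgHom.id A E) y') (P'.map (algebraMap B' R)) = 0) :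
    Algebra.TensorProduct.map (IsScalarTower.toAlgHom A B' R) (AlgHom.id A E) y' ∈
      Set.range (Algebra.TensorProduct.map (AlgHom.id R R) (integralClosure A E).val) := by
  -- `y'` is integral over `B'`
  have hint : IsIntegral B' y' := by
    refine ⟨P', hP', ?_⟩
    apply map_injective_of_faithfullyFlat A B' R E
    rw [map_zero, ← hroot]
    rw [Polynomial.eval₂_eq_sum_range, Polynomial.aeval_def, Polynomial.eval₂_eq_sum_range,
      map_sum, Polynomial.natDegree_map_eq_of_injective
        (FaithfulSMul.algebraMap_injective B' R)]
    apply Finset.sum_congr rfl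
    intro i _
    rw [map_mul, map_pow, Polynomial.coeff_map]
    congr 1
  -- base change preserves integral closure along `A → A' → B'`
  have hbij : Function.Bijective (TensorProduct.toIntegralClosure A B' E) :=
    TensorProduct.toIntegralClosure_bijective_of_tower (S := A')
      TensorProduct.toIntegralClosure_bijective_of_smooth
      (TensorProduct.toIntegralClosure_bijective_of_isLocalization M)
  obtain ⟨w, hw⟩ := hbij.2 ⟨y', hint⟩
  have hw' : Algebra.TensorProduct.map (AlgHom.id B' B') (integralClosure A E).val w = y' :=
    congrArg Subtype.val hw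
  refine ⟨Algebra.TensorProduct.map (IsScalarTower.toAlgHom A B' R)
    (AlgHom.id A (integralClosure A E)) w, ?_⟩
  rw [← hw']
  have hcomp : ∀ z : B' ⊗[A] integralClosure A E,
      Algebra.TensorProduct.map (AlgHom.id R R) (integralClosure A E).val
        (Algebra.TensorProduct.map (IsScalarTower.toAlgHom A B' R)
          (AlgHom.id A (integralClosure A E)) z) =
      Algebra.TensorProduct.map (IsScalarTower.toAlgHom A B' R) (AlgHom.id A E)
        (Algebra.TensorProduct.map (AlgHom.id B' B') (integralClosure A E).val z) := by
    intro z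
    induction z using TensorProduct.induction_on with
    | zero => simp
    | tmul b e => simp
    | add a b ha hb => rw [map_add, map_add, map_add, map_add, ha, hb]
  exact hcomp w

/-- the same for an étale stage `A'` over which `R` is flat (`R` local): localize `A'` at the prime
under the maximal ideal of `R`. -/
theorem stage (A A' R E : Type u) [CommRing A] [CommRing A'] [CommRing R] [IsLocalRing R]
    [Algebra A A'] [Algebra.Etale A A'] [Algebra A R] [Algebra A' R] [IsScalarTower A A' R]
    [Module.Flat A' R] [CommRing E] [Algebra A E] (y'' : A' ⊗[A] E)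
    (P'' : Polynomial A') (hP'' : P''.Monic)
    (hroot : Polynomial.aeval (Algebra.TensorProduct.map (IsScalarTower.toAlgHom A A' R)
      (AlgHom.id A E) y'') (P''.map (algebraMap A' R)) = 0) :
    Algebra.TensorProduct.map (IsScalarTower.toAlgHom A A' R) (AlgHom.id A E) y'' ∈
      Set.range (Algebra.TensorProduct.map (AlgHom.id R R) (integralClosure A E).val) := by
  classical
  -- localize at the prime under the maximal ideal
  let q : Ideal A' := (maximalIdeal R).comap (algebraMap A' R)
  haveI hq : q.IsPrime := Ideal.comap_isPrime _ _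
  have hunit : ∀ t : q.primeCompl, IsUnit (algebraMap A' R t) := by
    intro t
    by_contra hcon
    exact t.2 ((mem_maximalIdeal _).mpr hcon)
  let B' := Localization.AtPrime q
  let g : B' →+* R := IsLocalization.lift (M := q.primeCompl) (S := B') hunit
  have hg : ∀ a : A', g (algebraMap A' B' a) = algebraMap A' R a :=
    fun a => IsLocalization.lift_eq hunit a
  letI algB'R : Algebra B' R := g.toAlgebra
  haveI : IsScalarTower A' B' R := IsScalarTower.of_algebraMap_eq (fun a => (hg a).symm)
  haveI : IsScalarTower A B' R := IsScalarTower.of_algebraMap_eq (fun a => by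
    rw [IsScalarTower.algebraMap_apply A A' B', ← IsScalarTower.algebraMap_apply A' B' R,
      ← IsScalarTower.algebraMap_apply A A' R])
  haveI : Module.Flat B' R :=
    (Module.flat_iff_of_isLocalization (S := B') (p := q.primeCompl) (M := R)).mpr inferInstance
  haveI hloc : IsLocalHom (algebraMap B' R) := ⟨fun x hx => by
    obtain ⟨⟨a, s⟩, hxs⟩ := IsLocalization.surj q.primeCompl x
    have h1 : IsUnit (algebraMap A' R a) := by
      have : algebraMap B' R (x * algebraMap A' B' s) = algebraMap A' R a := by
        rw [hxs, ← IsScalarTower.algebraMap_apply]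
      rw [← this, map_mul]
      exact hx.mul (by rw [← IsScalarTower.algebraMap_apply]; exact hunit s)
    have h2 : a ∈ q.primeCompl := fun ha => (mem_maximalIdeal _).mp ha h1
    have h3 : IsUnit (algebraMap A' B' a) := IsLocalization.map_units B' ⟨a, h2⟩
    rw [← hxs] at h3
    exact isUnit_of_mul_isUnit_left h3⟩
  haveI : Module.FaithfullyFlat B' R := Module.FaithfullyFlat.of_flat_of_isLocalHom
  have key := aux A A' B' R E q.primeCompl
    (Algebra.TensorProduct.map (IsScalarTower.toAlgHom A A' B') (AlgHom.id A E) y'')
    (P''.map (algebraMap A' B')) (hP''.map _)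
  have hcomp : ∀ z : A' ⊗[A] E,
      Algebra.TensorProduct.map (IsScalarTower.toAlgHom A B' R) (AlgHom.id A E)
        (Algebra.TensorProduct.map (IsScalarTower.toAlgHom A A' B') (AlgHom.id A E) z) =
      Algebra.TensorProduct.map (IsScalarTower.toAlgHom A A' R) (AlgHom.id A E) z := by
    intro z
    induction z using TensorProduct.induction_on with
    | zero => simp
    | tmul b e =>
      simp only [Algebra.TensorProduct.map_tmul, IsScalarTower.coe_toAlgHom', AlgHom.coe_id, id]
      rw [← IsScalarTower.algebraMap_apply]
    | add a b ha hb => rw [map_add, map_add, map_add, ha, hb]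
  rw [hcomp, Polynomial.map_map, ← IsScalarTower.algebraMap_eq] at key
  exact key hroot

/-- (Q3) ind-étale base change of the integral closure (surjectivity part). -/
theorem mem_range_of_isIntegral (A R E : Type u) [CommRing A] [IsLocalRing A] [CommRing R]
    [IsLocalRing R] [Algebra A R] [IsLocalHom (algebraMap A R)]
    (h : Groth.Agent.H47.HensNoeth.IsIndEtaleLocal A R) [Algebra.WeaklyEtale A R]
    [CommRing E] [Algebra A E] (y : R ⊗[A] E) (hy : IsIntegral R y) :
    y ∈ Set.range (Algebra.TensorProduct.map (AlgHom.id R R) (integralClosure A E).val) := by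
  classical
  obtain ⟨P, hPmonic, hPy⟩ := hy
  obtain ⟨S, hS⟩ := TensorProduct.exists_finset y
  -- the étale stage
  obtain ⟨A', _, _, _, φ, hφ⟩ := h.rep (S.image Prod.fst ∪ P.coeffs)
  letI algA'R : Algebra A' R := φ.toRingHom.toAlgebra
  haveI : IsScalarTower A A' R := IsScalarTower.of_algebraMap_eq (fun a => (φ.commutes a).symm)
  haveI : Algebra.WeaklyEtale A' R := Groth.Agent.S7127.result A A' R
  haveI : Module.Flat A' R := inferInstance
  haveI : Nontrivial A' := (algebraMap A' R).domain_nontrivial
  -- lift the polynomial
  have hPl : P ∈ Polynomial.lifts (algebraMap A' R) := by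
    rw [Polynomial.lifts_iff_coeff_lifts]
    intro n
    by_cases hn : P.coeff n = 0
    · exact ⟨0, by rw [map_zero, hn]⟩
    · exact hφ _ (Finset.mem_union_right _ (Polynomial.coeff_mem_coeffs hn))
  obtain ⟨P'', hP''map, -, hP''monic⟩ := Polynomial.lifts_and_degree_eq_and_monic hPl hPmonic
  -- lift the element
  have hlift : ∀ r : R, ∃ a : A', (r ∈ S.image Prod.fst → algebraMap A' R a = r) := by
    intro r
    by_cases hr : r ∈ S.image Prod.fst
    · obtain ⟨a, ha⟩ := hφ r (Finset.mem_union_left _ hr)
      exact ⟨a, fun _ => ha⟩
    · exact ⟨0, fun h' => absurd h' hr⟩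
  choose a ha using hlift
  have hy'' : Algebra.TensorProduct.map (IsScalarTower.toAlgHom A A' R) (AlgHom.id A E)
      (∑ i ∈ S, a i.1 ⊗ₜ[A] i.2) = y := by
    rw [hS, map_sum]
    apply Finset.sum_congr rfl
    intro i hi
    rw [Algebra.TensorProduct.map_tmul]
    congr 1
    exact ha i.1 (Finset.mem_image_of_mem _ hi)
  have key := stage A A' R E (∑ i ∈ S, a i.1 ⊗ₜ[A] i.2) P'' hP''monic
  rw [hy'', hP''map] at key
  exact key hPy

end Groth.Agent.H44.FEtShQ3
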