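import Mathlib
import Groth.Prelude.Def_AlgSpModX
import Groth.Prelude.Def_AlgSp3
import Groth.Agent.H25.WeakAssPush

/-!
# Piece (FINBC) for helper32's S10746: base change of an affine object along a finite
representable morphism of algebraic spaces is affine, with finite map on global sections.
-/

set_option autoImplicit false
set_option linter.style.haveILetI false
universe u
open CategoryTheory Opposite Limits AlgebraicGeometry AlgSp

namespace Groth.Agent.H44.FPres_FINBC

/-- **(FINBC)** -/
theorem finite_bc {S : Scheme.{u}} {X Y : AlgSp.Sp S} {f : X ⟶ Y} (hf : AlgSp.Representable f)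
    (hfin : AlgSp.IsFiniteMor f) (E : AlgSp.EtOver Y) (hE : IsAffine E.obj.left.left) :
    IsAffine ((AlgSp.EtOver.bc hf).obj E).obj.left.left ∧
      (hf.snd E.obj.hom).left.appTop.hom.Finite := by
  obtain ⟨W, i, fst, sq, hW, hi⟩ := hfin hE E.obj.hom
  have sq' := hf.isPullback E.obj.hom
  let e : (yon S).obj (hf.pullback E.obj.hom) ≅ (yon S).obj W := sq'.isoIsPullback _ _ sq
  let e' : hf.pullback E.obj.hom ≅ W := (yon S).preimageIso e
  let e'' : (hf.pullback E.obj.hom).left ≅ W.left := (Over.forget S).mapIso e'
  have haff : IsAffine ((AlgSp.EtOver.bc hf).obj E).obj.left.left :=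
    @IsAffine.of_isIso _ _ e''.hom (Iso.isIso_hom e'') hW
  refine ⟨haff, ?_⟩
  have h1 : e.hom ≫ (yon S).map i = (yon S).map (hf.snd E.obj.hom) :=
    IsPullback.isoIsPullback_hom_snd _ _ sq' sq
  have h2 : e'.hom ≫ i = hf.snd E.obj.hom := by
    apply (yon S).map_injective
    rw [Functor.map_comp]
    have : (yon S).map e'.hom = e.hom := by
      simp [e']
    rw [this, h1]
  have h3 : (hf.snd E.obj.hom).left = e''.hom ≫ i.left := by
    rw [← h2]
    rfl
  haveI := hi
  haveI : IsFinite (hf.snd E.obj.hom).left := by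
    rw [h3]
    infer_instance
  haveI := hE
  exact Scheme.Hom.finite_appTop (hf.snd E.obj.hom).left

end Groth.Agent.H44.FPres_FINBC
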