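import Mathlib

/-!
# Stable affine neighbourhoods of fixed points of a finite group action

Lemma (P2) for helper63's S16212 squad.
-/

set_option autoImplicit false

universe u v

open AlgebraicGeometry CategoryTheory Limits

namespace Groth.Agent.H44.FixAffine

theorem mem_iInf_fin {α : Type*} [TopologicalSpace α] {ι : Type*} [Finite ι]
    (U : ι → TopologicalSpace.Opens α) (x : α) : x ∈ ⨅ i, U i ↔ ∀ i, x ∈ U i := by
  rw [← SetLike.mem_coe, TopologicalSpace.Opens.coe_iInf, Set.mem_iInter]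
  rfl

/-- For a separated morphism, finite nonempty intersections of affine opens lying over a
common affine open are affine. -/
theorem isAffineOpen_iInf_of_le {X Y : Scheme.{u}} (f : X ⟶ Y) [IsSeparated f]
    {V : Y.Opens} (hV : IsAffineOpen V) {ι : Sort*} [Finite ι] [Nonempty ι]
    (W : ι → X.Opens) (hW : ∀ i, IsAffineOpen (W i)) (hWV : ∀ i, W i ≤ f ⁻¹ᵁ V) :
    IsAffineOpen (⨅ i, W i) := by
  have hdiag : IsAffineHom (pullback.diagonal f) := inferInstance
  have key := isAffineHom_diagonal_iff.mp hdiag V hV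
  have hclosed : InfClosed {U : X.Opens | IsAffineOpen U ∧ U ≤ f ⁻¹ᵁ V} := by
    intro U₁ h₁ U₂ h₂
    exact ⟨key U₁ h₁.2 U₂ h₂.2 h₁.1 h₂.1, inf_le_left.trans h₁.2⟩
  exact (hclosed.iInf_mem_of_nonempty (f := W) fun i => ⟨hW i, hWV i⟩).1

theorem exists_stable_affine (S : Scheme.{u}) (X : Over S) [IsSeparated X.hom] (G : Type v)
    [Group G] [Finite G] (ρ : G →* Aut X) (x : X.left)
    (hx : ∀ g : G, (ρ g).hom.left.base x = x) :
    ∃ (V : S.Opens) (U : X.left.Opens), IsAffineOpen V ∧ IsAffineOpen U ∧ x ∈ U ∧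
      U ≤ X.hom ⁻¹ᵁ V ∧ ∀ g : G, (ρ g).hom.left ⁻¹ᵁ U = U := by
  obtain ⟨V, hV, hxV, -⟩ := exists_isAffineOpen_mem_and_subset
    (x := X.hom.base x) (U := ⊤) trivial
  obtain ⟨U₀, hU₀, hxU₀, hU₀V⟩ := exists_isAffineOpen_mem_and_subset
    (x := x) (U := X.hom ⁻¹ᵁ V) hxV
  have hw : ∀ g : G, (ρ g).hom.left ≫ X.hom = X.hom := fun g => Over.w (ρ g).hom
  let W : G → X.left.Opens := fun g => (ρ g).hom.left ⁻¹ᵁ U₀
  have hWaff : ∀ g, IsAffineOpen (W g) := by
    intro g
    have hi : IsIso (ρ g).hom := Iso.isIso_hom (ρ g)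
    have : IsIso (ρ g).hom.left := (Over.forget S).map_isIso (ρ g).hom
    exact hU₀.preimage _
  have hWV : ∀ g, W g ≤ X.hom ⁻¹ᵁ V := by
    intro g y hy
    have h1 : (ρ g).hom.left.base y ∈ X.hom ⁻¹ᵁ V := hU₀V hy
    have h2 : X.hom.base ((ρ g).hom.left.base y) = X.hom.base y := by
      rw [← Scheme.Hom.comp_apply, hw g]
    show X.hom.base y ∈ V
    rw [← h2]; exact h1
  refine ⟨V, ⨅ g, W g, hV, isAffineOpen_iInf_of_le X.hom hV W hWaff hWV, ?_, ?_, ?_⟩
  · rw [mem_iInf_fin]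
    intro g
    show (ρ g).hom.left.base x ∈ U₀
    rw [hx g]; exact hxU₀
  · exact (iInf_le W 1).trans (hWV 1)
  · intro h
    ext y
    have hmul : ∀ g : G, (ρ g).hom.left.base ((ρ h).hom.left.base y) =
        (ρ (g * h)).hom.left.base y := by
      intro g
      have e : (ρ (g * h)).hom = (ρ h).hom ≫ (ρ g).hom := by
        rw [map_mul]; rfl
      rw [e, Over.comp_left, Scheme.Hom.comp_apply]
    constructor
    · intro hy
      have hy' : (ρ h).hom.left.base y ∈ ⨅ g, W g := hy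
      rw [mem_iInf_fin] at hy'
      show y ∈ ⨅ g, W g
      rw [mem_iInf_fin]
      intro g
      have := hy' (g * h⁻¹)
      have h3 : (ρ (g * h⁻¹)).hom.left.base ((ρ h).hom.left.base y) ∈ U₀ := this
      rw [hmul, inv_mul_cancel_right] at h3
      exact h3
    · intro hy
      have hy' : y ∈ ⨅ g, W g := hy
      rw [mem_iInf_fin] at hy'
      show (ρ h).hom.left.base y ∈ ⨅ g, W g
      rw [mem_iInf_fin]
      intro g
      show (ρ g).hom.left.base ((ρ h).hom.left.base y) ∈ U₀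
      rw [hmul]
      exact hy' (g * h)

end Groth.Agent.H44.FixAffine
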