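import Mathlib
import Groth.Agent.H44.Cartier

/-!
# Kähler differentials in a tower `k ⊆ L₀ ⊆ L` with `L₀/k` separable and `L/L₀` finite
-/

set_option autoImplicit false
universe u
open TensorProduct KaehlerDifferential

namespace Groth.Agent.H44.KaehlerTower

variable (k L₀ L : Type u) [Field k] [Field L₀] [Field L] [Algebra k L₀] [Algebra L₀ L]
  [Algebra k L] [IsScalarTower k L₀ L]

/-- `H¹(L/k) → H¹(L/L₀)` is injective when `L₀/k` is formally smooth. -/
theorem h1_map_injective [Algebra.FormallySmooth k L₀] :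
    Function.Injective (Algebra.H1Cotangent.map k L₀ L L) := by
  rw [injective_iff_map_eq_zero]
  intro x hx
  obtain ⟨y, rfl⟩ := (Algebra.H1Cotangent.exact_liftBaseChange_map_of_flat k L₀ L x).mp hx
  have hy : ∀ y : L ⊗[L₀] Algebra.H1Cotangent k L₀, y = 0 := by
    intro y
    induction y using TensorProduct.induction_on with
    | zero => rfl
    | tmul a h => rw [Subsingleton.elim h 0, TensorProduct.tmul_zero]
    | add a b ha hb => rw [ha, hb, add_zero]
  rw [hy y, map_zero]

/-- The structure of `Ω_{L/k}` in a tower `k ⊆ L₀ ⊆ L` with `L₀/k` formally smooth (separable) and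
`L/L₀` finite: the module of imperfection `Υ_{L/k}` is finite-dimensional and
`rank Ω_{L₀/k} = e + ρ`, `rank Ω_{L/k} = ρ + e + dim Υ_{L/k}` for some natural number `e` and
cardinal `ρ`. -/
theorem tower [Algebra.FormallySmooth k L₀] [FiniteDimensional L₀ L] :
    Module.Finite L (LinearMap.ker (KaehlerDifferential.mapBaseChange ℤ k L)) ∧
    ∃ (e : ℕ) (ρ : Cardinal.{u}),
      Module.rank L₀ Ω[L₀⁄k] = (e : Cardinal.{u}) + ρ ∧
      Module.rank L Ω[L⁄k] = ρ + (e : Cardinal.{u}) +
        (Module.finrank L (LinearMap.ker (KaehlerDifferential.mapBaseChange ℤ k L)) :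
          Cardinal.{u}) := by
  classical
  haveI : Algebra.EssFiniteType L₀ L := inferInstance
  obtain ⟨hΩfin, hH1fin, hcart⟩ := Groth.Agent.H44.Cartier.cartier L₀ L
  haveI := hΩfin
  haveI := hH1fin
  have htr : Algebra.trdeg L₀ L = 0 := _root_.trdeg_eq_zero
  have hd : Module.finrank L Ω[L⁄L₀] = Module.finrank L (Algebra.H1Cotangent L₀ L) := by
    rw [htr, map_zero, Nat.cast_zero] at hcart
    omega
  have hj := h1_map_injective k L₀ L
  haveI : Module.Finite L (Algebra.H1Cotangent k L) := Module.Finite.of_injective _ hj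
  obtain ⟨hΥfin, hΥrank⟩ := Groth.Agent.H44.Cartier.imperfection_int k L
  have hΥfin' : Module.Finite L (LinearMap.ker (KaehlerDifferential.mapBaseChange ℤ k L)) := hΥfin
  have hΥrank' : Module.finrank L (LinearMap.ker (KaehlerDifferential.mapBaseChange ℤ k L)) =
      Module.finrank L (Algebra.H1Cotangent k L) := hΥrank
  refine ⟨hΥfin', ?_⟩
  have ex1 : Function.Exact (Algebra.H1Cotangent.map k L₀ L L) (Algebra.H1Cotangent.δ k L₀ L) :=
    Algebra.H1Cotangent.exact_map_δ k L₀ L
  have ex2 : Function.Exact (Algebra.H1Cotangent.δ k L₀ L)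
      (KaehlerDifferential.mapBaseChange k L₀ L) :=
    Algebra.H1Cotangent.exact_δ_mapBaseChange k L₀ L
  have ex3 : Function.Exact (KaehlerDifferential.mapBaseChange k L₀ L)
      (KaehlerDifferential.map k L₀ L L) :=
    KaehlerDifferential.exact_mapBaseChange_map k L₀ L
  have hsurj : Function.Surjective (KaehlerDifferential.map k L₀ L L) :=
    KaehlerDifferential.map_surjective k L₀ L
  refine ⟨Module.finrank L (LinearMap.range (Algebra.H1Cotangent.δ k L₀ L)),
    Module.rank L (LinearMap.range (KaehlerDifferential.mapBaseChange k L₀ L)), ?_, ?_⟩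
  · have h1 := LinearMap.rank_range_add_rank_ker (KaehlerDifferential.mapBaseChange k L₀ L)
    rw [LinearMap.exact_iff.mp ex2] at h1
    have h2 : Module.rank L (L ⊗[L₀] Ω[L₀⁄k]) = Module.rank L₀ Ω[L₀⁄k] := by
      rw [Module.rank_baseChange, Cardinal.lift_id]
    rw [← h2, ← h1, Module.finrank_eq_rank, add_comm]
  · have h1 := LinearMap.rank_eq_of_surjective hsurj
    rw [LinearMap.exact_iff.mp ex3] at h1
    have h3 := LinearMap.finrank_range_add_finrank_ker (Algebra.H1Cotangent.δ k L₀ L)
    rw [LinearMap.exact_iff.mp ex1, LinearMap.finrank_range_of_inj hj] at h3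
    rw [h1, ← Module.finrank_eq_rank L Ω[L⁄L₀], hd, ← h3, hΥrank']
    push_cast
    ring

end Groth.Agent.H44.KaehlerTower
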