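import Mathlib
import Groth.Agent.H44.MacLaneAll

/-!
# The fraction field of `k[[T₁,…,Tₙ]]` is separable over `k`, and `rank Ω ≥ n`
-/

set_option autoImplicit false
universe u
open TensorProduct

namespace Groth.Agent.H44.PSGeomRed

section psi

variable (k E : Type u) [Field k] [Field E] [Algebra k E] (σ : Type) 

/-- The comparison map `k[[T]] ⊗_k E → E[[T]]`. -/
noncomputable def psi : MvPowerSeries σ k ⊗[k] E →ₐ[k] MvPowerSeries σ E :=
  Algebra.TensorProduct.productMap (MvPowerSeries.mapAlgHom (Algebra.ofId k E))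
    ((Algebra.ofId E (MvPowerSeries σ E)).restrictScalars k)

theorem coeff_psi_tmul (f : MvPowerSeries σ k) (b : E) (α : σ →₀ ℕ) :
    MvPowerSeries.coeff α (psi k E σ (f ⊗ₜ[k] b)) = MvPowerSeries.coeff α f • b := by
  unfold psi
  rw [Algebra.TensorProduct.productMap_apply_tmul, MvPowerSeries.mapAlgHom_apply]
  show MvPowerSeries.coeff α (MvPowerSeries.map (algebraMap k E) f *
    algebraMap E (MvPowerSeries σ E) b) = _
  rw [MvPowerSeries.algebraMap_apply, Algebra.algebraMap_self, RingHom.id_apply,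
    MvPowerSeries.coeff_mul_C, MvPowerSeries.coeff_map, Algebra.smul_def]

theorem psi_injective [FiniteDimensional k E] : Function.Injective (psi k E σ) := by
  classical
  rw [injective_iff_map_eq_zero]
  intro z hz
  let b := Module.finBasis k E
  obtain ⟨c, rfl⟩ := TensorProduct.eq_repr_basis_right b z
  have hc : ∀ i, c i = 0 := by
    intro i
    refine MvPowerSeries.ext fun α => ?_
    have h1 := congrArg (MvPowerSeries.coeff α) hz
    rw [Finsupp.sum_fintype _ _ (fun i => by rw [TensorProduct.zero_tmul]), map_sum, map_sum,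
      map_zero] at h1
    simp only [coeff_psi_tmul] at h1
    rw [map_zero]
    exact Fintype.linearIndependent_iff.mp b.linearIndependent _ h1 i
  have hc0 : c = 0 := Finsupp.ext hc
  rw [hc0, Finsupp.sum_zero_index]

theorem isReduced_tensor [FiniteDimensional k E] : IsReduced (MvPowerSeries σ k ⊗[k] E) :=
  isReduced_of_injective (psi k E σ) (psi_injective k E σ)

end psi

section frac

variable (k A K E : Type u) [Field k] [CommRing A] [IsDomain A] [Field K] [Algebra A K]
  [IsFractionRing A K] [Algebra k A] [Algebra k K] [IsScalarTower k A K] [CommRing E] [Algebra k E]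

/-- Reducedness of `A ⊗ E` passes to `Frac(A) ⊗ E`. -/
theorem isReduced_tensor_fraction [IsReduced (A ⊗[k] E)] : IsReduced (K ⊗[k] E) := by
  classical
  let ι : A ⊗[k] E →ₐ[k] K ⊗[k] E :=
    Algebra.TensorProduct.map (IsScalarTower.toAlgHom k A K) (AlgHom.id k E)
  have hι : Function.Injective ι :=
    Module.Flat.rTensor_preserves_injective_linearMap (IsScalarTower.toAlgHom k A K).toLinearMap
      (IsFractionRing.injective A K)
  have hιtmul : ∀ (a : A) (b : E), ι (a ⊗ₜ[k] b) = algebraMap A K a ⊗ₜ[k] b := fun a b => rfl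
  have hclear : ∀ x : K ⊗[k] E, ∃ s : A, s ≠ 0 ∧ ∃ y : A ⊗[k] E,
      (algebraMap A K s ⊗ₜ[k] (1 : E)) * x = ι y := by
    intro x
    induction x using TensorProduct.induction_on with
    | zero => exact ⟨1, one_ne_zero, 0, by rw [mul_zero, map_zero]⟩
    | tmul g b =>
      obtain ⟨a, s, hs, rfl⟩ := IsFractionRing.div_surjective (A := A) g
      have hs0 : algebraMap A K s ≠ 0 := by
        rw [Ne, map_eq_zero_iff _ (IsFractionRing.injective A K)]
        exact nonZeroDivisors.ne_zero hs
      refine ⟨s, nonZeroDivisors.ne_zero hs, a ⊗ₜ[k] b, ?_⟩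
      rw [Algebra.TensorProduct.tmul_mul_tmul, one_mul, hιtmul, mul_div_cancel₀ _ hs0]
    | add x₁ x₂ h₁ h₂ =>
      obtain ⟨s₁, hs₁, y₁, hy₁⟩ := h₁
      obtain ⟨s₂, hs₂, y₂, hy₂⟩ := h₂
      refine ⟨s₁ * s₂, mul_ne_zero hs₁ hs₂,
        (s₂ ⊗ₜ[k] (1 : E)) * y₁ + (s₁ ⊗ₜ[k] (1 : E)) * y₂, ?_⟩
      have h3 : (algebraMap A K (s₁ * s₂) ⊗ₜ[k] (1 : E)) =
          (algebraMap A K s₁ ⊗ₜ[k] (1 : E)) * (algebraMap A K s₂ ⊗ₜ[k] (1 : E)) := by
        rw [Algebra.TensorProduct.tmul_mul_tmul, one_mul, map_mul]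
      have h4 : ι ((s₂ ⊗ₜ[k] (1 : E)) * y₁ + (s₁ ⊗ₜ[k] (1 : E)) * y₂) =
          (algebraMap A K s₂ ⊗ₜ[k] (1 : E)) * ι y₁ + (algebraMap A K s₁ ⊗ₜ[k] (1 : E)) * ι y₂ := by
        simp only [map_add, map_mul, hιtmul]
      rw [h4, ← hy₁, ← hy₂, h3]
      ring
  refine ⟨fun x hx => ?_⟩
  obtain ⟨n, hn⟩ := hx
  obtain ⟨s, hs, y, hy⟩ := hclear x
  have hs0 : algebraMap A K s ≠ 0 := by
    rw [Ne, map_eq_zero_iff _ (IsFractionRing.injective A K)]
    exact hs
  have hyn : y ^ n = 0 := by
    apply hι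
    rw [map_pow, ← hy, mul_pow, hn, mul_zero, map_zero]
  have hy0 : y = 0 := IsReduced.eq_zero y ⟨n, hyn⟩
  rw [hy0, map_zero] at hy
  have hunit : ((algebraMap A K s)⁻¹ ⊗ₜ[k] (1 : E)) * (algebraMap A K s ⊗ₜ[k] (1 : E)) = 1 := by
    rw [Algebra.TensorProduct.tmul_mul_tmul, one_mul, inv_mul_cancel₀ hs0]
    rfl
  calc x = (((algebraMap A K s)⁻¹ ⊗ₜ[k] (1 : E)) * (algebraMap A K s ⊗ₜ[k] (1 : E))) * x := by
        rw [hunit, one_mul]
    _ = 0 := by rw [mul_assoc, hy, mul_zero]

end frac

section main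

/-- The fraction field of `k[[T₁,…,Tₙ]]` is geometrically reduced (separable) over `k`. -/
theorem isGeometricallyReduced_fraction (k : Type u) [Field k] (n : ℕ) (K : Type u) [Field K]
    [Algebra (MvPowerSeries (Fin n) k) K] [IsFractionRing (MvPowerSeries (Fin n) k) K]
    [Algebra k K] [IsScalarTower k (MvPowerSeries (Fin n) k) K] :
    Algebra.IsGeometricallyReduced k K := by
  classical
  haveI : IsDomain (MvPowerSeries (Fin n) k) := NoZeroDivisors.to_isDomain _
  rw [Algebra.isGeometricallyReduced_field_iff]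
  have h2 : IsReduced (K ⊗[k] AlgebraicClosure k) := by
    apply IsReduced.tensorProduct_of_flat_of_forall_fg
    intro B hB
    obtain ⟨s, hs⟩ := hB
    let E : IntermediateField k (AlgebraicClosure k) :=
      IntermediateField.adjoin k (s : Set (AlgebraicClosure k))
    have hBE : ∀ x ∈ B, x ∈ E := by
      intro x hx
      rw [← hs] at hx
      exact IntermediateField.algebra_adjoin_le_adjoin k _ hx
    haveI : FiniteDimensional k E :=
      IntermediateField.finiteDimensional_adjoin (fun x _ => Algebra.IsIntegral.isIntegral x)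
    haveI : IsReduced (MvPowerSeries (Fin n) k ⊗[k] E) := isReduced_tensor k E (Fin n)
    haveI : IsReduced (K ⊗[k] E) := isReduced_tensor_fraction k (MvPowerSeries (Fin n) k) K E
    let g : B →ₐ[k] E :=
      { toFun := fun x => ⟨x.1, hBE x.1 x.2⟩
        map_one' := rfl
        map_mul' := fun _ _ => rfl
        map_zero' := rfl
        map_add' := fun _ _ => rfl
        commutes' := fun _ => rfl }
    have hg : Function.Injective g := fun x y h =>
      Subtype.ext (congrArg (fun z : E => (z : AlgebraicClosure k)) h)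
    have h_inj : Function.Injective (Algebra.TensorProduct.map (AlgHom.id K K) g) :=
      Module.Flat.lTensor_preserves_injective_linearMap _ hg
    exact isReduced_of_injective _ h_inj
  exact isReduced_of_injective (Algebra.TensorProduct.comm k (AlgebraicClosure k) K)
    (AlgEquiv.injective _)

/-- The fraction field of `k[[T₁,…,Tₙ]]` is formally smooth over `k`. -/
theorem formallySmooth_fraction (k : Type u) [Field k] (n : ℕ) (K : Type u) [Field K]
    [Algebra (MvPowerSeries (Fin n) k) K] [IsFractionRing (MvPowerSeries (Fin n) k) K]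
    [Algebra k K] [IsScalarTower k (MvPowerSeries (Fin n) k) K] :
    Algebra.FormallySmooth k K := by
  haveI := isGeometricallyReduced_fraction k n K
  exact Groth.Agent.H44.MacLane.formallySmooth_iff_isGeometricallyReduced.mpr inferInstance

open MvPowerSeries in
/-- `dT₁, …, dTₙ` are linearly independent in `Ω_{K/k}`: `rank Ω_{K/k} ≥ n`. -/
theorem le_rank_kaehler (k : Type u) [Field k] (n : ℕ) (K : Type u) [Field K]
    [Algebra (MvPowerSeries (Fin n) k) K] [IsFractionRing (MvPowerSeries (Fin n) k) K]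
    [Algebra k K] [IsScalarTower k (MvPowerSeries (Fin n) k) K] :
    (n : Cardinal.{u}) ≤ Module.rank K Ω[K⁄k] := by
  classical
  haveI : Algebra.FormallyEtale (MvPowerSeries (Fin n) k) K :=
    Algebra.FormallyEtale.of_isLocalization (nonZeroDivisors (MvPowerSeries (Fin n) k))
  let eΩ := KaehlerDifferential.tensorKaehlerEquivOfFormallyEtale k (MvPowerSeries (Fin n) k) K
  let Dᵢ : Fin n → Derivation k (MvPowerSeries (Fin n) k) K := fun i =>
    (Algebra.linearMap (MvPowerSeries (Fin n) k) K).compDer (MvPowerSeries.pderiv k i)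
  let φ : Fin n → (K ⊗[MvPowerSeries (Fin n) k] Ω[MvPowerSeries (Fin n) k⁄k] →ₗ[K] K) := fun i =>
    LinearMap.liftBaseChange K (Dᵢ i).liftKaehlerDifferential
  let Φ : K ⊗[MvPowerSeries (Fin n) k] Ω[MvPowerSeries (Fin n) k⁄k] →ₗ[K] (Fin n → K) :=
    LinearMap.pi φ
  have hΦ : ∀ j, Φ ((1 : K) ⊗ₜ[MvPowerSeries (Fin n) k]
      KaehlerDifferential.D k (MvPowerSeries (Fin n) k) (X j)) = Pi.single j 1 := by
    intro j
    funext i
    have hΦi : ∀ x i, Φ x i = φ i x := fun x i => rfl
    rw [hΦi]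
    show LinearMap.liftBaseChange K (Dᵢ i).liftKaehlerDifferential _ = _
    rw [LinearMap.liftBaseChange_tmul, Derivation.liftKaehlerDifferential_comp_D, one_smul]
    show algebraMap (MvPowerSeries (Fin n) k) K (MvPowerSeries.pderiv k i (X j)) = _
    by_cases hij : j = i
    · subst hij
      rw [MvPowerSeries.pderiv_X_self, map_one, Pi.single_eq_same]
    · rw [MvPowerSeries.pderiv_X_of_ne hij, map_zero, Pi.single_eq_of_ne (Ne.symm hij)]
  have hsurj : Function.Surjective Φ := by
    intro v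
    refine ⟨∑ j, v j • ((1 : K) ⊗ₜ[MvPowerSeries (Fin n) k]
      KaehlerDifferential.D k (MvPowerSeries (Fin n) k) (X j)), ?_⟩
    rw [map_sum]
    simp only [map_smul, hΦ]
    funext i
    rw [Finset.sum_apply]
    simp only [Pi.smul_apply, Pi.single_apply, smul_eq_mul, mul_ite, mul_one, mul_zero]
    rw [Finset.sum_ite_eq, if_pos (Finset.mem_univ _)]
  have h1 := LinearMap.rank_le_of_surjective Φ hsurj
  rw [rank_fin_fun, eΩ.rank_eq] at h1
  exact h1

end main

end Groth.Agent.H44.PSGeomRed
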