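import Mathlib
import Groth.Agent.H44.KaehlerTower
import Groth.Agent.H44.PSGeomRed
import Groth.Agent.S2460
import Groth.Agent.H54.IntegralDim
import Groth.Agent.H15.PSRegular

/-!
# Kähler differentials of the fraction field of a complete local domain over a field
(EGA 0_IV 21.9-type statements)
-/

set_option autoImplicit false
universe u
open TensorProduct KaehlerDifferential IsLocalRing

namespace Groth.Agent.H44.FracKaehler

/-- Let `C` be a complete Noetherian local domain, a `k`-algebra with residue field finite over `k`,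
of dimension `n`, with fraction field `L`.  Then `Υ_{L/k}` is finite-dimensional, and there are a
natural number `e` and a cardinal `ρ` with `rank Ω_{L₀/k} = e + ρ` (`L₀ = Frac k[[T₁,…,Tₙ]]`) and
`rank Ω_{L/k} = ρ + e + dim Υ_{L/k}`.  Moreover `C` is finite over `k[[T₁,…,Tₙ]]`. -/
theorem main (k C L : Type u) [Field k] [CommRing C] [IsDomain C] [IsNoetherianRing C]
    [IsLocalRing C] [Algebra k C] [IsAdicComplete (maximalIdeal C) C]
    [Module.Finite k (ResidueField C)] (n : ℕ) (hn : ringKrullDim C = n)
    [Field L] [Algebra C L] [IsFractionRing C L] [Algebra k L] [IsScalarTower k C L] :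
    Module.Finite L (LinearMap.ker (KaehlerDifferential.mapBaseChange ℤ k L)) ∧
    (∃ (e : ℕ) (ρ : Cardinal.{u}),
      Module.rank (FractionRing (MvPowerSeries (Fin n) k))
        Ω[FractionRing (MvPowerSeries (Fin n) k)⁄k] = (e : Cardinal.{u}) + ρ ∧
      Module.rank L Ω[L⁄k] = ρ + (e : Cardinal.{u}) +
        (Module.finrank L (LinearMap.ker (KaehlerDifferential.mapBaseChange ℤ k L)) :
          Cardinal.{u})) ∧
    ∃ w : MvPowerSeries (Fin n) k →ₐ[k] C, Function.Injective w ∧ w.toRingHom.Finite := by
  classical
  obtain ⟨m, w, hwinj, -, hwfin⟩ := Groth.Agent.S2460.result (k₀ := k) (A := C)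
  have hm : m = n := by
    have h1 : ringKrullDim C = ringKrullDim (MvPowerSeries (Fin m) k) :=
      Groth.Agent.H54.ringKrullDim_eq_of_ringHom_isIntegral_of_injective w.toRingHom
        hwfin.to_isIntegral hwinj
    rw [Groth.Agent.H15.PSRegular.ringKrullDim_mvPowerSeries, ringKrullDim_eq_zero_of_field,
      zero_add, hn] at h1
    exact_mod_cast h1.symm
  subst hm
  refine ⟨?_, ?_, ⟨w, hwinj, hwfin⟩⟩ <;>
  · letI algAC : Algebra (MvPowerSeries (Fin m) k) C := w.toRingHom.toAlgebra
    haveI : IsScalarTower k (MvPowerSeries (Fin m) k) C :=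
      IsScalarTower.of_algebraMap_eq (fun c => (w.commutes c).symm)
    haveI : Module.Finite (MvPowerSeries (Fin m) k) C := hwfin
    letI algAL : Algebra (MvPowerSeries (Fin m) k) L :=
      ((algebraMap C L).comp w.toRingHom).toAlgebra
    haveI : IsScalarTower (MvPowerSeries (Fin m) k) C L :=
      IsScalarTower.of_algebraMap_eq (fun _ => rfl)
    haveI : IsScalarTower k (MvPowerSeries (Fin m) k) L :=
      IsScalarTower.of_algebraMap_eq (fun c => by
        show algebraMap k L c = algebraMap C L (w (algebraMap k (MvPowerSeries (Fin m) k) c))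
        rw [w.commutes, ← IsScalarTower.algebraMap_apply])
    have hinjC : Function.Injective (algebraMap (MvPowerSeries (Fin m) k) C) := hwinj
    have hinjL : Function.Injective (algebraMap (MvPowerSeries (Fin m) k) L) :=
      (IsFractionRing.injective C L).comp hwinj
    haveI : FaithfulSMul (MvPowerSeries (Fin m) k) C :=
      (faithfulSMul_iff_algebraMap_injective _ _).mpr hinjC
    haveI : FaithfulSMul (MvPowerSeries (Fin m) k) L :=
      (faithfulSMul_iff_algebraMap_injective _ _).mpr hinjL
    haveI : IsDomain (MvPowerSeries (Fin m) k) := NoZeroDivisors.to_isDomain _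
    letI algL₀L : Algebra (FractionRing (MvPowerSeries (Fin m) k)) L :=
      FractionRing.liftAlgebra (MvPowerSeries (Fin m) k) L
    haveI : IsScalarTower (MvPowerSeries (Fin m) k) (FractionRing (MvPowerSeries (Fin m) k)) L :=
      FractionRing.isScalarTower_liftAlgebra (MvPowerSeries (Fin m) k) L
    haveI : IsScalarTower k (FractionRing (MvPowerSeries (Fin m) k)) L :=
      IsScalarTower.of_algebraMap_eq (fun c => by
        rw [IsScalarTower.algebraMap_apply k (MvPowerSeries (Fin m) k)
            (FractionRing (MvPowerSeries (Fin m) k)),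
          ← IsScalarTower.algebraMap_apply (MvPowerSeries (Fin m) k)
            (FractionRing (MvPowerSeries (Fin m) k)) L,
          ← IsScalarTower.algebraMap_apply k (MvPowerSeries (Fin m) k) L])
    haveI : Algebra.IsAlgebraic (MvPowerSeries (Fin m) k) C := inferInstance
    haveI : IsLocalization
        (Algebra.algebraMapSubmonoid C (nonZeroDivisors (MvPowerSeries (Fin m) k))) L :=
      inferInstance
    haveI : FiniteDimensional (FractionRing (MvPowerSeries (Fin m) k)) L :=
      Module.Finite.of_isLocalization (MvPowerSeries (Fin m) k) C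
        (nonZeroDivisors (MvPowerSeries (Fin m) k))
    haveI : Algebra.FormallySmooth k (FractionRing (MvPowerSeries (Fin m) k)) :=
      Groth.Agent.H44.PSGeomRed.formallySmooth_fraction k m _
    first
    | exact (Groth.Agent.H44.KaehlerTower.tower k (FractionRing (MvPowerSeries (Fin m) k)) L).1
    | exact (Groth.Agent.H44.KaehlerTower.tower k (FractionRing (MvPowerSeries (Fin m) k)) L).2

/-- `S5988`. -/
theorem rank_ge (k C L : Type u) [Field k] [CommRing C] [IsDomain C] [IsNoetherianRing C]
    [IsLocalRing C] [Algebra k C] [IsAdicComplete (maximalIdeal C) C]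
    [Module.Finite k (ResidueField C)] (n : ℕ) (hn : ringKrullDim C = n)
    [Field L] [Algebra C L] [IsFractionRing C L] [Algebra k L] [IsScalarTower k C L] :
    Module.Finite L (LinearMap.ker (KaehlerDifferential.mapBaseChange ℤ k L)) ∧
      (n : Cardinal.{u}) + Module.rank L (LinearMap.ker (KaehlerDifferential.mapBaseChange ℤ k L)) ≤
        Module.rank L (Ω[L⁄k]) := by
  obtain ⟨hfin, ⟨e, ρ, h1, h2⟩, -⟩ := main k C L n hn
  haveI := hfin
  refine ⟨hfin, ?_⟩
  haveI : IsDomain (MvPowerSeries (Fin n) k) := NoZeroDivisors.to_isDomain _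
  have h3 : (n : Cardinal.{u}) ≤ (e : Cardinal.{u}) + ρ := by
    rw [← h1]
    exact Groth.Agent.H44.PSGeomRed.le_rank_kaehler k n _
  rw [h2, ← Module.finrank_eq_rank]
  calc (n : Cardinal.{u}) +
        (Module.finrank L (LinearMap.ker (KaehlerDifferential.mapBaseChange ℤ k L)) : Cardinal.{u})
      ≤ ((e : Cardinal.{u}) + ρ) +
        (Module.finrank L (LinearMap.ker (KaehlerDifferential.mapBaseChange ℤ k L)) :
          Cardinal.{u}) := by gcongr
    _ = _ := by rw [add_comm (e : Cardinal.{u}) ρ]

end Groth.Agent.H44.FracKaehler
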