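import Mathlib
import Groth.Agent.H44.PSFamily
import Groth.Agent.H44.PSGeomRed

/-!
# `Ω_{k[[T]]/k}` when `[k : k^p] < ∞`: generated by `dT₁, …, dTₙ`
-/

set_option autoImplicit false
set_option linter.style.haveILetI false
universe u
open TensorProduct

namespace Groth.Agent.H44.PSKaehlerFin

open Groth.Agent.H44.PSFamily

section

variable (p : ℕ) [hp : Fact p.Prime] {k : Type u} [Field k] [CharP k p]

/-- A field with finite Frobenius is finite over its subfield of `p`-th powers. -/
theorem finite_kp (hk : (frobenius k p).Finite) : Module.Finite (kp p k) k := by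
  classical
  have hk' : @Module.Finite k k _ _ (RingHom.toAlgebra (frobenius k p)).toModule := hk
  obtain ⟨s, hs⟩ := hk'.fg_top
  refine ⟨⟨s, ?_⟩⟩
  rw [eq_top_iff]
  rintro x -
  have hx : x ∈ @Submodule.span k k _ _ (RingHom.toAlgebra (frobenius k p)).toModule
      (s : Set k) := by
    rw [hs]; trivial
  refine @Submodule.span_induction k k _ _ (RingHom.toAlgebra (frobenius k p)).toModule (s : Set k)
    (fun y _ => y ∈ Submodule.span (kp p k) (s : Set k)) ?_ ?_ ?_ ?_ x hx
  · intro y hy
    exact Submodule.subset_span hy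
  · exact Submodule.zero_mem _
  · intro y z _ _ hy hz
    exact Submodule.add_mem _ hy hz
  · intro a y _ hy
    show frobenius k p a * y ∈ _
    have h1 : frobenius k p a * y = (⟨a ^ p, pow_mem_kp p a⟩ : kp p k) • y := by
      rw [Subfield.smul_def, smul_eq_mul, frobenius_def]
    rw [h1]
    exact Submodule.smul_mem _ _ hy

variable (r : ℕ)

/-- Every power series is a combination of the `c_j T^e` with `p`-th power coefficients. -/
theorem exists_decomp [Module.Finite (kp p k) k] (f : MvPowerSeries (Fin r) k) :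
    ∃ (d : ℕ) (c : Fin d → k) (h : Fin d × (Fin r → Fin p) → MvPowerSeries (Fin r) k),
      f = ∑ i : Fin d × (Fin r → Fin p),
        (MvPowerSeries.C (c i.1) * MvPowerSeries.monomial (eFin p r i.2) (1 : k)) * (h i) ^ p := by
  classical
  let b := Module.finBasis (kp p k) k
  let g : Fin (Module.finrank (kp p k) k) × (Fin r → Fin p) → MvPowerSeries (Fin r) k :=
    fun i => fun m => ((b.repr (MvPowerSeries.coeff (p • m + eFin p r i.2) f) i.1 : kp p k) : k)
  have hgW : ∀ i, g i ∈ W r (kp p k) := fun i m => (b.repr _ i.1).2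
  have hpow : ∀ i, ∃ h : MvPowerSeries (Fin r) k, h ^ p = ex p r (g i) := by
    intro i
    have h1 : ex p r (g i) ∈ ex p r '' W r (kp p k) := ⟨g i, hgW i, rfl⟩
    rw [ex_image_W_kp] at h1
    obtain ⟨h, hh⟩ := h1
    exact ⟨h, hh⟩
  choose h hh using hpow
  refine ⟨Module.finrank (kp p k) k, fun j => (b j : k), h, ?_⟩
  refine MvPowerSeries.ext fun n => ?_
  simp only [hh]
  rw [coeff_sum p r _ (fun j => (b j : k)) g n]
  have h1 : ∀ j, MvPowerSeries.coeff (ndiv p r n) (g (j, nmod p r n)) =
      ((b.repr (MvPowerSeries.coeff n f) j : kp p k) : k) := by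
    intro j
    show ((b.repr (MvPowerSeries.coeff (p • ndiv p r n + eFin p r (nmod p r n)) f) j :
      kp p k) : k) = _
    rw [smul_ndiv_add]
  simp only [h1]
  conv_lhs => rw [← b.sum_repr (MvPowerSeries.coeff n f)]
  refine Finset.sum_congr rfl fun j _ => ?_
  rw [Subfield.smul_def, smul_eq_mul, mul_comm]

open KaehlerDifferential in
/-- `Ω_{k[[T]]/k}` is generated by `dT₁,…,dT_r` when `[k:k^p] < ∞`. -/
theorem span_D_X [Module.Finite (kp p k) k] :
    Submodule.span (MvPowerSeries (Fin r) k)
      (Set.range fun i : Fin r => KaehlerDifferential.D k (MvPowerSeries (Fin r) k)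
        (MvPowerSeries.X i)) = ⊤ := by
  classical
  set M := Submodule.span (MvPowerSeries (Fin r) k)
    (Set.range fun i : Fin r => KaehlerDifferential.D k (MvPowerSeries (Fin r) k)
      (MvPowerSeries.X i)) with hM
  let S' : Subalgebra k (MvPowerSeries (Fin r) k) :=
    { carrier := {f | KaehlerDifferential.D k (MvPowerSeries (Fin r) k) f ∈ M}
      mul_mem' := fun {a b} ha hb => by
        show KaehlerDifferential.D k (MvPowerSeries (Fin r) k) (a * b) ∈ M
        rw [Derivation.leibniz]
        exact M.add_mem (M.smul_mem _ hb) (M.smul_mem _ ha)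
      add_mem' := fun {a b} ha hb => by
        show KaehlerDifferential.D k (MvPowerSeries (Fin r) k) (a + b) ∈ M
        rw [map_add]
        exact M.add_mem ha hb
      algebraMap_mem' := fun c => by
        show KaehlerDifferential.D k (MvPowerSeries (Fin r) k)
          (algebraMap k (MvPowerSeries (Fin r) k) c) ∈ M
        rw [Derivation.map_algebraMap]
        exact M.zero_mem }
  have hX : ∀ i, MvPowerSeries.X i ∈ S' := fun i => Submodule.subset_span ⟨i, rfl⟩
  have hmon : ∀ e : Fin r →₀ ℕ, MvPowerSeries.monomial e (1 : k) ∈ S' := by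
    intro e
    rw [MvPowerSeries.monomial_one_eq]
    exact S'.prod_mem fun s _ => S'.pow_mem (hX s) _
  have hp0 : ((p : ℕ) : MvPowerSeries (Fin r) k) = 0 := by
    rw [← map_natCast (algebraMap k (MvPowerSeries (Fin r) k)) p, CharP.cast_eq_zero, map_zero]
  have hpow : ∀ h : MvPowerSeries (Fin r) k, h ^ p ∈ S' := by
    intro h
    show KaehlerDifferential.D k (MvPowerSeries (Fin r) k) (h ^ p) ∈ M
    rw [Derivation.leibniz_pow, ← Nat.cast_smul_eq_nsmul (MvPowerSeries (Fin r) k) p, hp0,
      zero_smul]
    exact M.zero_mem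
  have hC : ∀ c : k, MvPowerSeries.C c ∈ S' := fun c => S'.algebraMap_mem c
  have hall : ∀ f : MvPowerSeries (Fin r) k, f ∈ S' := by
    intro f
    obtain ⟨d, c, h, hf⟩ := exists_decomp p r f
    rw [hf]
    exact S'.sum_mem fun i _ => S'.mul_mem (S'.mul_mem (hC _) (hmon _)) (hpow _)
  rw [eq_top_iff, ← KaehlerDifferential.span_range_derivation k (MvPowerSeries (Fin r) k),
    Submodule.span_le]
  rintro _ ⟨f, rfl⟩
  exact hall f

theorem finite_kaehler [Module.Finite (kp p k) k] :
    Module.Finite (MvPowerSeries (Fin r) k) Ω[MvPowerSeries (Fin r) k⁄k] := by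
  classical
  refine Module.finite_def.mpr ⟨Finset.univ.image fun i : Fin r =>
    KaehlerDifferential.D k (MvPowerSeries (Fin r) k) (MvPowerSeries.X i), ?_⟩
  rw [Finset.coe_image, Finset.coe_univ, Set.image_univ]
  exact span_D_X p r

/-- `rank Ω_{K/k} ≤ r` for `K` the fraction field of `k[[T₁,…,T_r]]` when `[k:k^p] < ∞`. -/
theorem rank_kaehler_le [Module.Finite (kp p k) k] (K : Type u) [Field K]
    [Algebra (MvPowerSeries (Fin r) k) K] [IsFractionRing (MvPowerSeries (Fin r) k) K]
    [Algebra k K] [IsScalarTower k (MvPowerSeries (Fin r) k) K] :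
    Module.rank K Ω[K⁄k] ≤ (r : Cardinal.{u}) := by
  classical
  haveI : Algebra.FormallyEtale (MvPowerSeries (Fin r) k) K :=
    Algebra.FormallyEtale.of_isLocalization (nonZeroDivisors (MvPowerSeries (Fin r) k))
  let eΩ := KaehlerDifferential.tensorKaehlerEquivOfFormallyEtale k (MvPowerSeries (Fin r) k) K
  let Ψ : (Fin r → K) →ₗ[K] K ⊗[MvPowerSeries (Fin r) k] Ω[MvPowerSeries (Fin r) k⁄k] :=
    Fintype.linearCombination K (fun i : Fin r => (1 : K) ⊗ₜ[MvPowerSeries (Fin r) k]
      KaehlerDifferential.D k (MvPowerSeries (Fin r) k) (MvPowerSeries.X i))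
  have hΨ : Function.Surjective Ψ := by
    intro z
    induction z using TensorProduct.induction_on with
    | zero => exact ⟨0, map_zero _⟩
    | tmul a ω =>
      have hω : ω ∈ Submodule.span (MvPowerSeries (Fin r) k)
          (Set.range fun i : Fin r => KaehlerDifferential.D k (MvPowerSeries (Fin r) k)
            (MvPowerSeries.X i)) := by
        rw [span_D_X p r]; trivial
      obtain ⟨c, rfl⟩ := (Submodule.mem_span_range_iff_exists_fun _).mp hω
      refine ⟨fun i => a * algebraMap (MvPowerSeries (Fin r) k) K (c i), ?_⟩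
      rw [Fintype.linearCombination_apply, TensorProduct.tmul_sum]
      refine Finset.sum_congr rfl fun i _ => ?_
      rw [TensorProduct.tmul_smul, TensorProduct.smul_tmul', TensorProduct.smul_tmul',
        smul_eq_mul, mul_one, Algebra.smul_def, mul_comm]
    | add x y hx hy =>
      obtain ⟨u, rfl⟩ := hx
      obtain ⟨v, rfl⟩ := hy
      exact ⟨u + v, map_add _ _ _⟩
  have h1 := LinearMap.rank_le_of_surjective Ψ hΨ
  rwa [rank_fin_fun, eΩ.rank_eq] at h1

end

section fin

open KaehlerDifferential

/-- If `C` is finite over `A` and `Ω_{A/k}` is a finite `A`-module then `Ω_{C/k}` is a finite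
`C`-module. -/
theorem finite_kaehler_of_finite (k A C : Type u) [CommRing k] [CommRing A] [CommRing C]
    [Algebra k A] [Algebra k C] [Algebra A C] [IsScalarTower k A C] [Module.Finite A C]
    [Module.Finite A Ω[A⁄k]] : Module.Finite C Ω[C⁄k] := by
  haveI : Module.Finite C (LinearMap.ker (KaehlerDifferential.map k A C C)) := by
    rw [LinearMap.exact_iff.mp (KaehlerDifferential.exact_mapBaseChange_map k A C)]
    exact Module.Finite.range _
  haveI : Module.Finite C (Ω[C⁄k] ⧸ LinearMap.ker (KaehlerDifferential.map k A C C)) :=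
    Module.Finite.equiv (LinearMap.quotKerEquivOfSurjective _
      (KaehlerDifferential.map_surjective k A C)).symm
  exact Module.Finite.of_submodule_quotient (LinearMap.ker (KaehlerDifferential.map k A C C))

end fin

end Groth.Agent.H44.PSKaehlerFin
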