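import Mathlib
import Groth.Agent.H44.FracKaehler
import Groth.Agent.H44.PSKaehlerFin

/-!
# `dim Ω_{L/k} = dim C + dim Υ_{L/k}` when `[k : k^p] < ∞` (EGA 0_IV 21.9-type statement)
-/

set_option autoImplicit false
set_option linter.style.haveILetI false
universe u
open TensorProduct KaehlerDifferential IsLocalRing

namespace Groth.Agent.H44.FracKaehler2

/-- `S5989`. -/
theorem finrank_eq (p : ℕ) [Fact p.Prime] (k C L : Type u) [Field k] [CharP k p]
    (hk : (frobenius k p).Finite) [CommRing C] [IsDomain C] [IsNoetherianRing C] [IsLocalRing C]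
    [Algebra k C] [IsAdicComplete (maximalIdeal C) C]
    [Module.Finite k (ResidueField C)] (n : ℕ) (hn : ringKrullDim C = n)
    [Field L] [Algebra C L] [IsFractionRing C L] [Algebra k L] [IsScalarTower k C L] :
    Module.finrank L (Ω[L⁄k]) =
        n + Module.finrank L (LinearMap.ker (KaehlerDifferential.mapBaseChange ℤ k L)) ∧
      Module.Finite C (Ω[C⁄k]) := by
  classical
  obtain ⟨hfin, ⟨e, ρ, h1, h2⟩, w, hwinj, hwfin⟩ :=
    Groth.Agent.H44.FracKaehler.main k C L n hn
  haveI := Groth.Agent.H44.PSKaehlerFin.finite_kp p hk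
  haveI : IsDomain (MvPowerSeries (Fin n) k) := NoZeroDivisors.to_isDomain _
  have h3 : Module.rank (FractionRing (MvPowerSeries (Fin n) k))
      Ω[FractionRing (MvPowerSeries (Fin n) k)⁄k] = (n : Cardinal.{u}) :=
    le_antisymm (Groth.Agent.H44.PSKaehlerFin.rank_kaehler_le p n _)
      (Groth.Agent.H44.PSGeomRed.le_rank_kaehler k n _)
  have h4 : (e : Cardinal.{u}) + ρ = n := h1.symm.trans h3
  constructor
  · have h5 : Module.rank L Ω[L⁄k] =
        ((n + Module.finrank L (LinearMap.ker (KaehlerDifferential.mapBaseChange ℤ k L)) : ℕ) :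
          Cardinal.{u}) := by
      rw [h2, add_comm ρ, h4, Nat.cast_add]
    exact Module.finrank_eq_of_rank_eq h5
  · letI : Algebra (MvPowerSeries (Fin n) k) C := w.toRingHom.toAlgebra
    haveI : IsScalarTower k (MvPowerSeries (Fin n) k) C :=
      IsScalarTower.of_algebraMap_eq (fun c => (w.commutes c).symm)
    haveI : Module.Finite (MvPowerSeries (Fin n) k) C := hwfin
    haveI := Groth.Agent.H44.PSKaehlerFin.finite_kaehler p n (k := k)
    exact Groth.Agent.H44.PSKaehlerFin.finite_kaehler_of_finite k (MvPowerSeries (Fin n) k) C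

end Groth.Agent.H44.FracKaehler2
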