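import Groth.Agent.H44.Cartier

/-!
# Index of linear maps with finite-dimensional kernel and cokernel
-/

set_option autoImplicit false

open Module

namespace Groth.Agent.H44.Fredholm

open Groth.Agent.H44.Cartier

variable {F : Type*} [Field F] {U V W X : Type*} [AddCommGroup U] [Module F U] [AddCommGroup V]
  [Module F V] [AddCommGroup W] [Module F W] [AddCommGroup X] [Module F X]

/-- `f` has finite-dimensional kernel and cokernel, and `dim ker f - dim coker f = n`. -/
structure HasIndex (f : U →ₗ[F] V) (n : ℤ) : Prop where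
  finKer : Module.Finite F (LinearMap.ker f)
  finCoker : Module.Finite F (V ⧸ LinearMap.range f)
  eq : (Module.finrank F (LinearMap.ker f) : ℤ) - Module.finrank F (V ⧸ LinearMap.range f) = n

theorem hasIndex_of_exact (f : U →ₗ[F] V) (g : V →ₗ[F] W) (h : W →ₗ[F] X)
    (e1 : Function.Exact f g) (e2 : Function.Exact g h)
    [Module.Finite F (LinearMap.range f)] [Module.Finite F (LinearMap.range h)] :
    HasIndex g ((Module.finrank F (LinearMap.range f) : ℤ) -
      Module.finrank F (LinearMap.range h)) := by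
  have eK : LinearMap.ker g ≃ₗ[F] LinearMap.range f :=
    LinearEquiv.ofEq _ _ (LinearMap.exact_iff.mp e1)
  have eC : (W ⧸ LinearMap.range g) ≃ₗ[F] LinearMap.range h :=
    (Submodule.quotEquivOfEq _ _ (LinearMap.exact_iff.mp e2).symm).trans
      (LinearMap.quotKerEquivRange h)
  refine ⟨Module.Finite.equiv eK.symm, Module.Finite.equiv eC.symm, ?_⟩
  rw [eK.finrank_eq, eC.finrank_eq]

theorem HasIndex.comp {f : U →ₗ[F] V} {g : V →ₗ[F] W} {m n : ℤ} (hf : HasIndex f m)
    (hg : HasIndex g n) : HasIndex (g ∘ₗ f) (m + n) := by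
  haveI := hf.finKer
  haveI := hf.finCoker
  haveI := hg.finKer
  haveI := hg.finCoker
  have hle1 : LinearMap.ker f ≤ LinearMap.ker (g ∘ₗ f) := fun x hx => by
    rw [LinearMap.mem_ker] at hx ⊢
    rw [LinearMap.comp_apply, hx, map_zero]
  let f1 : LinearMap.ker f →ₗ[F] LinearMap.ker (g ∘ₗ f) := Submodule.inclusion hle1
  let f2 : LinearMap.ker (g ∘ₗ f) →ₗ[F] LinearMap.ker g :=
    f.restrict (p := LinearMap.ker (g ∘ₗ f)) (q := LinearMap.ker g) (fun x hx => by
      rw [LinearMap.mem_ker] at hx ⊢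
      exact hx)
  let f3 : LinearMap.ker g →ₗ[F] V ⧸ LinearMap.range f :=
    (LinearMap.range f).mkQ ∘ₗ (LinearMap.ker g).subtype
  have hle4 : LinearMap.range f ≤ (LinearMap.range (g ∘ₗ f)).comap g := by
    rintro _ ⟨u, rfl⟩
    exact ⟨u, rfl⟩
  let f4 : V ⧸ LinearMap.range f →ₗ[F] W ⧸ LinearMap.range (g ∘ₗ f) :=
    Submodule.mapQ _ _ g hle4
  have hle5 : LinearMap.range (g ∘ₗ f) ≤ (LinearMap.range g).comap LinearMap.id := by
    rintro _ ⟨u, rfl⟩
    exact ⟨f u, rfl⟩
  let f5 : W ⧸ LinearMap.range (g ∘ₗ f) →ₗ[F] W ⧸ LinearMap.range g :=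
    Submodule.mapQ _ _ LinearMap.id hle5
  have i1 : Function.Injective f1 := Submodule.inclusion_injective hle1
  have s5 : Function.Surjective f5 := by
    intro y
    obtain ⟨w, rfl⟩ := Submodule.Quotient.mk_surjective _ y
    exact ⟨Submodule.Quotient.mk w, rfl⟩
  have e12 : Function.Exact f1 f2 := by
    intro y
    constructor
    · intro hy
      have hy' : f y.1 = 0 := congrArg Subtype.val hy
      exact ⟨⟨y.1, hy'⟩, Subtype.ext rfl⟩
    · rintro ⟨x, rfl⟩
      exact Subtype.ext x.2
  have e23 : Function.Exact f2 f3 := by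
    intro y
    constructor
    · intro hy
      have hy' : y.1 ∈ LinearMap.range f := (Submodule.Quotient.mk_eq_zero _).mp hy
      obtain ⟨u, hu⟩ := hy'
      have hu' : u ∈ LinearMap.ker (g ∘ₗ f) := by
        rw [LinearMap.mem_ker, LinearMap.comp_apply, hu]
        exact y.2
      exact ⟨⟨u, hu'⟩, Subtype.ext hu⟩
    · rintro ⟨x, rfl⟩
      exact (Submodule.Quotient.mk_eq_zero _).mpr ⟨x.1, rfl⟩
  have e34 : Function.Exact f3 f4 := by
    intro y
    obtain ⟨v, rfl⟩ := Submodule.Quotient.mk_surjective _ y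
    constructor
    · intro hy
      have hy' : g v ∈ LinearMap.range (g ∘ₗ f) := (Submodule.Quotient.mk_eq_zero _).mp hy
      obtain ⟨u, hu⟩ := hy'
      have hu2 : g (f u) = g v := hu
      have hk : v - f u ∈ LinearMap.ker g := by
        rw [LinearMap.mem_ker, map_sub, hu2, sub_self]
      refine ⟨⟨v - f u, hk⟩, ?_⟩
      show Submodule.Quotient.mk (v - f u) = Submodule.Quotient.mk v
      rw [Submodule.Quotient.mk_sub,
        (Submodule.Quotient.mk_eq_zero (LinearMap.range f)).mpr (LinearMap.mem_range_self f u),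
        sub_zero]
    · rintro ⟨x, hx⟩
      rw [← hx]
      show Submodule.Quotient.mk (g x.1) = 0
      rw [LinearMap.mem_ker.mp x.2]
      exact Submodule.Quotient.mk_zero _
  have e45 : Function.Exact f4 f5 := by
    intro y
    obtain ⟨w, rfl⟩ := Submodule.Quotient.mk_surjective _ y
    constructor
    · intro hy
      obtain ⟨v, hv⟩ := (Submodule.Quotient.mk_eq_zero _).mp hy
      have hv2 : g v = w := hv
      exact ⟨Submodule.Quotient.mk v, by rw [← hv2]; rfl⟩
    · rintro ⟨x, hx⟩
      obtain ⟨v, rfl⟩ := Submodule.Quotient.mk_surjective _ x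
      rw [← hx]
      exact (Submodule.Quotient.mk_eq_zero _).mpr ⟨v, rfl⟩
  haveI : Module.Finite F (LinearMap.ker (g ∘ₗ f)) := finite_of_exact f1 f2 e12
  haveI : Module.Finite F (W ⧸ LinearMap.range (g ∘ₗ f)) := finite_of_exact f4 f5 e45
  have d2 := finrank_exact f1 f2 e12
  have d3 := finrank_exact f2 f3 e23
  have d4 := finrank_exact f3 f4 e34
  have d5 := finrank_exact f4 f5 e45
  have r1 : Module.finrank F (LinearMap.range f1) = Module.finrank F (LinearMap.ker f) :=
    LinearMap.finrank_range_of_inj i1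
  have r5 : Module.finrank F (LinearMap.range f5) = Module.finrank F (W ⧸ LinearMap.range g) := by
    rw [LinearMap.range_eq_top.mpr s5, finrank_top]
  refine ⟨inferInstance, inferInstance, ?_⟩
  have q1 := hf.eq
  have q2 := hg.eq
  omega

end Groth.Agent.H44.Fredholm
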