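import Groth.Agent.H44.Fredholm

/-!
# Index of linear maps: uniqueness, equivalences, base change
-/

set_option autoImplicit false

open Module TensorProduct

namespace Groth.Agent.H44.Fredholm

variable {F : Type*} [Field F] {U V : Type*} [AddCommGroup U] [Module F U] [AddCommGroup V]
  [Module F V]

theorem HasIndex.unique {f : U →ₗ[F] V} {m n : ℤ} (h1 : HasIndex f m) (h2 : HasIndex f n) :
    m = n := h1.eq.symm.trans h2.eq

theorem hasIndex_of_bijective (f : U →ₗ[F] V) (hf : Function.Bijective f) : HasIndex f 0 := by
  have h := hasIndex_of_exact (0 : F →ₗ[F] U) f (0 : V →ₗ[F] F)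
    ((LinearMap.exact_zero_iff_injective F f).mpr hf.1)
    ((LinearMap.exact_zero_iff_surjective F f).mpr hf.2)
  have z1 : Module.finrank F (LinearMap.range (0 : F →ₗ[F] U)) = 0 := by
    rw [LinearMap.range_zero, finrank_bot]
  have z2 : Module.finrank F (LinearMap.range (0 : V →ₗ[F] F)) = 0 := by
    rw [LinearMap.range_zero, finrank_bot]
  rw [z1, z2] at h
  simpa using h

theorem hasIndex_equiv (e : U ≃ₗ[F] V) : HasIndex e.toLinearMap 0 :=
  hasIndex_of_bijective _ e.bijective

theorem HasIndex.baseChange {F' : Type*} [Field F'] [Algebra F F'] {f : U →ₗ[F] V} {n : ℤ}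
    (h : HasIndex f n) : HasIndex (f.baseChange F') n := by
  haveI := h.finKer
  haveI := h.finCoker
  have e1 : Function.Exact ((LinearMap.ker f).subtype.baseChange F') (f.baseChange F') :=
    Module.Flat.lTensor_exact F' (LinearMap.exact_subtype_ker_map f)
  have e2 : Function.Exact (f.baseChange F') ((LinearMap.range f).mkQ.baseChange F') :=
    Module.Flat.lTensor_exact F' (LinearMap.exact_map_mkQ_range f)
  have i1 : Function.Injective ((LinearMap.ker f).subtype.baseChange F') :=
    Module.Flat.lTensor_preserves_injective_linearMap _ (Submodule.injective_subtype _)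
  have s2 : Function.Surjective ((LinearMap.range f).mkQ.baseChange F') :=
    LinearMap.lTensor_surjective F' (Submodule.mkQ_surjective _)
  have hI := hasIndex_of_exact _ _ _ e1 e2
  have r1 : Module.finrank F' (LinearMap.range ((LinearMap.ker f).subtype.baseChange F')) =
      Module.finrank F (LinearMap.ker f) := by
    rw [LinearMap.finrank_range_of_inj i1, Module.finrank_baseChange]
  have r2 : Module.finrank F' (LinearMap.range ((LinearMap.range f).mkQ.baseChange F')) =
      Module.finrank F (V ⧸ LinearMap.range f) := by
    rw [LinearMap.range_eq_top.mpr s2, finrank_top, Module.finrank_baseChange]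
  rw [r1, r2, h.eq] at hI
  exact hI

end Groth.Agent.H44.Fredholm
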