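import Mathlib
import Groth.Prelude.Def_RelProj3
import Groth.Agent.H41.GrModQCoh
import Groth.Agent.H41.GrModSections
import Groth.Agent.H62.BCTw_G1

/-!
# Piece (SURJ) of the S8341 squad (helper98)
-/

set_option autoImplicit false
universe u
open CategoryTheory CategoryTheory.Limits AlgebraicGeometry Opposite TopologicalSpace TensorProduct
open scoped HomogeneousIdeal
open Groth.Agent.H88.BCTw

namespace Groth.Agent.H44.GMBC_SURJ

section Aux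

variable {R : Type u} [CommRing R] (S : Submonoid R) {M : Type u} [AddCommGroup M] [Module R M]

theorem mk_add_same (m m' : M) (s : S) :
    LocalizedModule.mk (m + m') s = LocalizedModule.mk m s + LocalizedModule.mk m' s := by
  rw [LocalizedModule.mk_add_mk, ← smul_add, LocalizedModule.mk_cancel_common_left]

/-- `m ↦ m / s` as an additive map. -/
def mkHom (s : S) : M →+ LocalizedModule S M where
  toFun m := LocalizedModule.mk m s
  map_zero' := LocalizedModule.zero_mk s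
  map_add' m m' := mk_add_same S m m' s

theorem mk_sum_same {l : ℕ} (g : Fin l → M) (s : S) :
    LocalizedModule.mk (∑ j, g j) s = ∑ j, LocalizedModule.mk (g j) s :=
  map_sum (mkHom S s) g Finset.univ

end Aux

variable {A σ : Type u} [CommRing A] [SetLike σ A]
    [AddSubgroupClass σ A] {𝒜 : ℕ → σ} [GradedRing 𝒜] {B σ' : Type u} [CommRing B] [SetLike σ' B]
    [AddSubgroupClass σ' B]
    {ℬ : ℕ → σ'} [GradedRing ℬ] (ψ : 𝒜 →+*ᵍ ℬ) (hψ : ℬ₊ ≤ (𝒜₊).map ψ)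
    (hgen : (𝒜₊).toIdeal = Ideal.span (𝒜 1 : Set A))
    {M τ : Type u} [AddCommGroup M] [Module A M] [SetLike τ M] [AddSubgroupClass τ M] (ℳ : ℕ → τ)
    [SetLike.GradedSMul 𝒜 ℳ] [DirectSum.Decomposition ℳ]
    {N τ' : Type u} [AddCommGroup N] [Module B N] [SetLike τ' N] [AddSubgroupClass τ' N]
    (𝒩 : ℕ → τ')
    [SetLike.GradedSMul ℬ 𝒩] [DirectSum.Decomposition 𝒩]
    (v : M →ₛₗ[ψ.toRingHom] N) (hv : ∀ (i : ℕ) (m : M), m ∈ ℳ i → v m ∈ 𝒩 i)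
    (hbc : ∀ (Q : Type u) [AddCommGroup Q] [Module B Q] (w : M →ₛₗ[ψ.toRingHom] Q),
      ∃! g : N →ₗ[B] Q, ∀ m : M, g (v m) = w m)
    (n : ℤ)

/-- the value of a section at a point, as an additive map -/
def valHom {V : (Proj ℬ).Opens} (y : V) : Γ(GrMod.tilde ℬ 𝒩 n, V) →+ GrMod.LocMod ℬ (M := N) y.1 where
  toFun t := GrMod.val t y
  map_zero' := rfl
  map_add' _ _ := rfl

/-- (SURJ) -/
theorem exists_sum_eq
    (hgenN : ∀ (e : ℕ) (y : N), y ∈ 𝒩 e →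
      ∃ (l : ℕ) (d : Fin l → ℕ) (b : Fin l → B) (m : Fin l → M), (∀ j, d j ≤ e) ∧
        (∀ j, b j ∈ ℬ (e - d j)) ∧ (∀ j, m j ∈ ℳ (d j)) ∧ y = ∑ j, b j • v (m j))
    (f : A) (hf : f ∈ 𝒜 1)
    (t : Γ(GrMod.tilde ℬ 𝒩 n, Proj.map ψ hψ ⁻¹ᵁ Proj.basicOpen 𝒜 f)) :
    ∃ (l : ℕ) (c : Fin l → Γ(Proj ℬ, Proj.map ψ hψ ⁻¹ᵁ Proj.basicOpen 𝒜 f))
      (x : Fin l → Γ(GrMod.tilde 𝒜 ℳ n, Proj.basicOpen 𝒜 f)),
      t = ∑ j, c j • pushSec (Proj.map ψ hψ) (GrMod.tilde ℬ 𝒩 n) (Proj.basicOpen 𝒜 f)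
        ((GrMod.comap ψ hψ v hv n).app (Proj.basicOpen 𝒜 f) (x j)) := by
  classical
  have hψf : ψ f ∈ ℬ 1 := ψ.map_mem hf
  obtain ⟨k, i, y, hik, hty⟩ := Groth.Agent.H41.GrModSections.sections_eq_fraction ℬ 𝒩 n
    Nat.one_pos hψf
    (show GrMod.sect ℬ 𝒩 n (op (ProjectiveSpectrum.basicOpen ℬ (ψ f))) from t)
  obtain ⟨l, d, b, m, hd, hb, hm, hy⟩ := hgenN i y y.2
  have hfpow : ∀ e : ℕ, f ^ e ∈ 𝒜 e := fun e => by
    simpa using SetLike.pow_mem_graded e hf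
  have hfx : ∀ (e : ℕ) (x : Proj.basicOpen 𝒜 f), f ^ e ∉ x.1.asHomogeneousIdeal := fun e x h =>
    (ProjectiveSpectrum.mem_basicOpen 𝒜 f x.1).mp x.2 (x.1.isPrime.mem_of_pow_mem e h)
  let c : Fin l → Γ(Proj ℬ, Proj.map ψ hψ ⁻¹ᵁ Proj.basicOpen 𝒜 f) := fun j =>
    (Proj.awayToSection ℬ (ψ f)).hom
      (HomogeneousLocalization.Away.mk ℬ hψf (i - d j) (b j) (by simpa using hb j))
  let x : Fin l → Γ(GrMod.tilde 𝒜 ℳ n, Proj.basicOpen 𝒜 f) := fun j =>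
    Groth.Agent.H41.GrModQCoh.fracSect 𝒜 ℳ n (Proj.basicOpen 𝒜 f)
      (i := i + d j) (j := d j + k) (by push_cast; omega)
      ⟨f ^ i • m j, SetLike.GradedSMul.smul_mem (hfpow i) (hm j)⟩ ⟨f ^ (d j + k), hfpow _⟩
      (fun x => hfx _ x)
  refine ⟨l, c, x, ?_⟩
  refine Groth.Agent.H41.GrModQCoh.sect_ext ℬ 𝒩 n _ _ (fun y' => ?_)
  let z : ProjectiveSpectrum ℬ := y'.1
  have hzf : ψ f ∉ z.asHomogeneousIdeal := (ProjectiveSpectrum.mem_basicOpen ℬ (ψ f) z).mp y'.2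
  have hky : ∀ e : ℕ, (ψ f) ^ e ∉ z.asHomogeneousIdeal := fun e h =>
    hzf (z.isPrime.mem_of_pow_mem e h)
  let s₀ : z.asHomogeneousIdeal.toIdeal.primeCompl := ⟨(ψ f) ^ k, hky k⟩
  have hL : GrMod.val t y' = LocalizedModule.mk (y : N) s₀ := hty ⟨y'.1, y'.2⟩
  rw [hL]
  change _ = valHom 𝒩 n y' _
  rw [map_sum]
  have hterm : ∀ j, valHom 𝒩 n y' (c j •
        pushSec (Proj.map ψ hψ) (GrMod.tilde ℬ 𝒩 n) (Proj.basicOpen 𝒜 f)
        ((GrMod.comap ψ hψ v hv n).app (Proj.basicOpen 𝒜 f) (x j))) =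
      LocalizedModule.mk (b j • v (m j)) s₀ := by
    intro j
    obtain ⟨e, he⟩ := Nat.exists_eq_add_of_le (hd j)
    have hden : ψ (f ^ (d j + k)) ∉ z.asHomogeneousIdeal := by
      rw [map_pow]
      exact hky _
    have h1 : valHom 𝒩 n y' (c j •
        pushSec (Proj.map ψ hψ) (GrMod.tilde ℬ 𝒩 n) (Proj.basicOpen 𝒜 f)
        ((GrMod.comap ψ hψ v hv n).app (Proj.basicOpen 𝒜 f) (x j))) =
        (Groth.Agent.H41.GrModQCoh.rval ℬ (c j) y').val •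
          GrMod.val (pushSec (Proj.map ψ hψ) (GrMod.tilde ℬ 𝒩 n) (Proj.basicOpen 𝒜 f)
            ((GrMod.comap ψ hψ v hv n).app (Proj.basicOpen 𝒜 f) (x j))) y' :=
      Groth.Agent.H41.GrModQCoh.val_smul ℬ 𝒩 n (c j) _ y'
    have h2 : GrMod.val (pushSec (Proj.map ψ hψ) (GrMod.tilde ℬ 𝒩 n) (Proj.basicOpen 𝒜 f)
        ((GrMod.comap ψ hψ v hv n).app (Proj.basicOpen 𝒜 f) (x j))) y' =
        LocalizedModule.mk (v (f ^ i • m j))
          (⟨ψ (f ^ (d j + k)), hden⟩ : z.asHomogeneousIdeal.toIdeal.primeCompl) := rfl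
    have h3 : (Groth.Agent.H41.GrModQCoh.rval ℬ (c j) y').val =
        Localization.mk (b j)
          (⟨(ψ f) ^ (i - d j), hky _⟩ : z.asHomogeneousIdeal.toIdeal.primeCompl) := rfl
    rw [h1, h2, h3, LocalizedModule.mk_smul_mk, LocalizedModule.mk_eq]
    refine ⟨1, ?_⟩
    rw [one_smul, one_smul]
    have hv' : v (f ^ i • m j) = (ψ f) ^ i • v (m j) := by
      rw [LinearMap.map_smulₛₗ]
      change ψ (f ^ i) • v (m j) = _
      rw [map_pow]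
    have hie : i - d j = e := by omega
    change (ψ f) ^ k • (b j • v (f ^ i • m j)) =
      ((ψ f) ^ (i - d j) * ψ (f ^ (d j + k))) • (b j • v (m j))
    rw [hv', map_pow, hie, he, smul_smul, smul_smul, smul_smul]
    congr 1
    ring
  rw [Finset.sum_congr rfl (fun j _ => hterm j), ← mk_sum_same, ← hy]

end Groth.Agent.H44.GMBC_SURJ
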