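import Mathlib
import Groth.Prelude.Def_Wider
import Groth.Prelude.Def_CAlg
import Groth.Agent.H58.LCIndep

/-!
# (Q4) for helper55 (S17759): local cohomology of `M` only depends on the radical of `I + ann M`
-/

set_option autoImplicit false
set_option linter.style.haveILetI false
universe u
open IsLocalRing

namespace Groth.Agent.H44.HL_Q4

/-- radicals of the images in the quotient by `A` agree when the radicals of `I ⊔ A`, `J ⊔ A` do. -/
theorem radical_map_eq {R : Type u} [CommRing R] (A I J : Ideal R)
    (h : (I ⊔ A).radical = (J ⊔ A).radical) :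
    (I.map (algebraMap R (R ⧸ A))).radical = (J.map (algebraMap R (R ⧸ A))).radical := by
  have hsurj : Function.Surjective (algebraMap R (R ⧸ A)) := Ideal.Quotient.mk_surjective
  have key : ∀ K : Ideal R, ((K.map (algebraMap R (R ⧸ A))).radical).comap (algebraMap R (R ⧸ A)) =
      (K ⊔ A).radical := by
    intro K
    rw [Ideal.comap_radical, Ideal.comap_map_of_surjective _ hsurj]
    congr 2
    show Ideal.comap (Ideal.Quotient.mk A) ⊥ = A
    rw [← RingHom.ker_eq_comap_bot, Ideal.mk_ker]
  have h2 : ((I.map (algebraMap R (R ⧸ A))).radical).comap (algebraMap R (R ⧸ A)) =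
      ((J.map (algebraMap R (R ⧸ A))).radical).comap (algebraMap R (R ⧸ A)) := by
    rw [key, key, h]
  have := congrArg (Ideal.map (algebraMap R (R ⧸ A))) h2
  rwa [Ideal.map_comap_of_surjective _ hsurj, Ideal.map_comap_of_surjective _ hsurj] at this

/-- (Q4) local cohomology of `M` only depends on the radical of `I + ann M`. -/
theorem H_equiv_of_radical_sup_annihilator (R : Type u) [CommRing R] [IsNoetherianRing R]
    (I J : Ideal R) (M : Type u) [AddCommGroup M] [Module R M]
    (h : (I ⊔ Module.annihilator R M).radical = (J ⊔ Module.annihilator R M).radical) (i : ℕ) :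
    Nonempty (LocCoh.H I i M ≃ₗ[R] LocCoh.H J i M) := by
  letI : Module (R ⧸ Module.annihilator R M) M := Module.quotientAnnihilator
  haveI : IsScalarTower R (R ⧸ Module.annihilator R M) M :=
    IsScalarTower.of_algebraMap_smul fun r m => rfl
  obtain ⟨φI, hφI⟩ := Groth.Agent.H58.LC.semiEq_H R (R ⧸ Module.annihilator R M) I i M
  obtain ⟨φJ, hφJ⟩ := Groth.Agent.H58.LC.semiEq_H R (R ⧸ Module.annihilator R M) J i M
  have hrad := radical_map_eq (Module.annihilator R M) I J h
  let ψ : LocCoh.H (I.map (algebraMap R (R ⧸ Module.annihilator R M))) i M ≃ₗ[R ⧸ Module.annihilator R M]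
      LocCoh.H (J.map (algebraMap R (R ⧸ Module.annihilator R M))) i M :=
    ((localCohomology.isoOfSameRadical hrad i).app
      (ModuleCat.of (R ⧸ Module.annihilator R M) M)).toLinearEquiv
  have hsymm : ∀ (r : R) (x : LocCoh.H I i M),
      φI.symm (r • x) = algebraMap R (R ⧸ Module.annihilator R M) r • φI.symm x := by
    intro r x
    apply φI.injective
    rw [hφI, AddEquiv.apply_symm_apply, AddEquiv.apply_symm_apply]
  refine ⟨{ toFun := fun x => φJ (ψ (φI.symm x))
            invFun := fun y => φI (ψ.symm (φJ.symm y))
            map_add' := fun x y => by simp only [map_add]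
            map_smul' := fun r x => by
              simp only [RingHom.id_apply]
              rw [hsymm, map_smul, hφJ]
            left_inv := fun x => by simp
            right_inv := fun y => by simp }⟩

end Groth.Agent.H44.HL_Q4
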