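import Mathlib

/-!
# (KA) for helper18: kernel of `Away.map ψ g` for a graded map with principal kernel `(ℓ)`,
`ℓ` and `g` of degree one
-/

set_option autoImplicit false
universe u
open CategoryTheory CategoryTheory.Limits AlgebraicGeometry HomogeneousIdeal

namespace Groth.Agent.H44.Hyp7KA

variable {R A B : Type u} [CommRing R] [CommRing A] [Algebra R A] [CommRing B] [Algebra R B]
  (𝒜 : ℕ → Submodule R A) [GradedAlgebra 𝒜] (ℬ : ℕ → Submodule R B) [GradedAlgebra ℬ]

theorem ker_awayMap (ψ : 𝒜 →+*ᵍ ℬ) (hsurj : Function.Surjective ψ) {ℓ : A} (hℓ : ℓ ∈ 𝒜 1)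
    (hker : RingHom.ker ψ.toRingHom = Ideal.span {ℓ}) {g : A} (hg : g ∈ 𝒜 1) :
    RingHom.ker (HomogeneousLocalization.Away.map ψ g) =
      Ideal.span {HomogeneousLocalization.Away.mk 𝒜 hg 1 ℓ (by simpa using hℓ)} := by
  have hψℓ : ψ ℓ = 0 := by
    have : ℓ ∈ RingHom.ker ψ.toRingHom := by
      rw [hker]; exact Ideal.mem_span_singleton_self ℓ
    exact this
  apply le_antisymm
  · intro x hx
    obtain ⟨n, a, ha, rfl⟩ := HomogeneousLocalization.Away.mk_surjective 𝒜 hg x
    rw [RingHom.mem_ker, HomogeneousLocalization.Away.map_mk] at hx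
    have hval := congrArg HomogeneousLocalization.val hx
    rw [HomogeneousLocalization.Away.val_mk, HomogeneousLocalization.val_zero,
      Localization.mk_eq_mk', IsLocalization.mk'_eq_zero_iff] at hval
    obtain ⟨⟨_, N, rfl⟩, hN⟩ := hval
    have hN' : ψ (g ^ (N + 1) * a) = 0 := by
      rw [map_mul, map_pow, pow_succ', mul_assoc]
      simp only at hN
      rw [hN, mul_zero]
    have hmem : g ^ (N + 1) * a ∈ Ideal.span {ℓ} := by
      rw [← hker]; exact hN'
    obtain ⟨b, hb⟩ := Ideal.mem_span_singleton.mp hmem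
    -- homogeneous component
    have hdeg : g ^ (N + 1) * a ∈ 𝒜 (1 + (N + n)) := by
      have h1 : g ^ (N + 1) ∈ 𝒜 ((N + 1) • 1) := SetLike.pow_mem_graded (N + 1) hg
      have h2 := SetLike.mul_mem_graded h1 ha
      have e : (N + 1) • 1 + n • 1 = 1 + (N + n) := by simp; omega
      rwa [e] at h2
    have hb' : g ^ (N + 1) * a = ℓ * (DirectSum.decompose 𝒜 b (N + n) : A) := by
      rw [← DirectSum.coe_decompose_mul_add_of_left_mem 𝒜 hℓ, ← hb,
        DirectSum.decompose_of_mem_same 𝒜 hdeg]
    have hbmem : (DirectSum.decompose 𝒜 b (N + n) : A) ∈ 𝒜 ((N + n) • 1) := by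
      have e : (N + n) • 1 = N + n := by simp
      rw [e]; exact SetLike.coe_mem _
    rw [Ideal.mem_span_singleton']
    refine ⟨HomogeneousLocalization.Away.mk 𝒜 hg (N + n)
      (DirectSum.decompose 𝒜 b (N + n) : A) hbmem, ?_⟩
    apply HomogeneousLocalization.val_injective
    rw [HomogeneousLocalization.val_mul, HomogeneousLocalization.Away.val_mk,
      HomogeneousLocalization.Away.val_mk, HomogeneousLocalization.Away.val_mk,
      Localization.mk_mul, Localization.mk_eq_mk_iff, Localization.r_iff_exists]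
    refine ⟨1, ?_⟩
    simp only [OneMemClass.coe_one, one_mul, Submonoid.coe_mul]
    rw [mul_comm (DirectSum.decompose 𝒜 b (N + n) : A) ℓ, ← hb']
    ring
  · rw [Ideal.span_le]
    intro x hx
    rw [Set.mem_singleton_iff] at hx
    rw [hx, SetLike.mem_coe, RingHom.mem_ker, HomogeneousLocalization.Away.map_mk]
    apply HomogeneousLocalization.val_injective
    rw [HomogeneousLocalization.Away.val_mk, HomogeneousLocalization.val_zero]
    simp only [hψℓ]
    exact Localization.mk_zero _

end Groth.Agent.H44.Hyp7KA
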