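import Mathlib
import Groth.Agent.H69.DirColim
import Groth.Agent.H15.NilPair.Base
import Groth.Agent.H15.NilPair.Sys
import Groth.Agent.H15.IntPair.Sys

/-!
# Piece (DIR) of the S18014 squad #2 (helper15): the index poset of valid raw indices of the
integral-pair system is directed and nonempty.
-/

set_option autoImplicit false
universe u
open CategoryTheory MvPolynomial Limits
open Groth.Agent.H69 Groth.Agent.H15.IntPair
open Groth.Agent.H15.NilPair (PS IT Cq mkq mkq_surjective mkq_eq_zero mkq_eq_zero_iff fp tr tr_mkq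
  tr_refl tr_trans toE toE_mkq toE_tr gen_top X_mem_PS PS_mono dirNat)
open scoped Classical

namespace Groth.Agent.H44.IntPair_DIR

variable {A B C : Type u} [CommRing A] [CommRing B] [CommRing C] [Algebra A B] [Algebra A C]
  [Algebra B C] [IsScalarTower A B C]

/-- componentwise union of raw indices. -/
noncomputable def rsup (a b : Raw A B C) : Raw A B C :=
  ⟨a.Z ∪ b.Z, a.S ∪ b.S, a.TB ∪ b.TB, a.TC ∪ b.TC⟩

theorem le_rsup_left (a b : Raw A B C) : a ≤ rsup a b :=
  ⟨Finset.subset_union_left, Finset.subset_union_left, Finset.subset_union_left,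
    Finset.subset_union_left⟩

theorem le_rsup_right (a b : Raw A B C) : b ≤ rsup a b :=
  ⟨Finset.subset_union_right, Finset.subset_union_right, Finset.subset_union_right,
    Finset.subset_union_right⟩

/-- transfer of integrality over `A` along an `A`-algebra map. -/
theorem int_map {R R' : Type u} [CommRing R] [CommRing R'] [Algebra A R] [Algebra A R']
    (φ : R →ₐ[A] R') {y : R} (hy : (algebraMap A R).IsIntegralElem y) :
    (algebraMap A R').IsIntegralElem (φ y) := by
  have h1 : IsIntegral A y := hy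
  exact h1.map φ

/-- transfer of membership in `⊥` along an `A`-algebra map. -/
theorem bot_map {R R' : Type u} [CommRing R] [CommRing R'] [Algebra A R] [Algebra A R']
    (φ : R →ₐ[A] R') {y : R} (hy : y ∈ (⊥ : Subalgebra A R)) :
    φ y ∈ (⊥ : Subalgebra A R') := by
  obtain ⟨r, rfl⟩ := Algebra.mem_bot.mp hy
  rw [AlgHom.commutes]
  exact Subalgebra.algebraMap_mem _ r

/-- the contribution of a valid index `a ≤ c` to the validity clauses of `c`. -/
theorem side {a c : Raw A B C} (h : a ≤ c) (va : Valid a) :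
    (∀ t ∈ a.TB, t ∈ PS A c.WB ∧ evB A B C t = 0) ∧
    (∀ t ∈ a.TC, t ∈ PS A c.WC ∧ evC A B C t = 0) ∧
    (∀ b (hb : b ∈ a.Z), (algebraMap A c.CB).IsIntegralElem
      (mkq c.WB c.TB ⟨X (Sum.inl b), X_mem_PS (Raw.inl_mem_WB (h.1 hb))⟩)) ∧
    (∀ s (hs : s ∈ a.S), (algebraMap A c.CC).IsIntegralElem
      (mkq c.WC c.TCC ⟨X (Sum.inr s), X_mem_PS (Raw.inr_mem_WC (h.2.1 hs))⟩)) ∧
    (Function.Surjective (algebraMap A B) → ∀ b (hb : b ∈ a.Z),
      mkq c.WB c.TB ⟨X (Sum.inl b), X_mem_PS (Raw.inl_mem_WB (h.1 hb))⟩ ∈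
        (⊥ : Subalgebra A c.CB)) ∧
    (Function.Surjective (algebraMap A C) → ∀ b (hb : b ∈ a.Z),
      mkq c.WC c.TCC ⟨X (Sum.inl b), X_mem_PS (Raw.inl_mem_WC (h.1 hb))⟩ ∈
        (⊥ : Subalgebra A c.CC)) ∧
    (Function.Surjective (algebraMap B C) → IsNilpotent (RingHom.ker (algebraMap B C)) →
      ∀ x : PS A c.WB, (x : MvPolynomial (B ⊕ C) A) ∈ a.TC → IsNilpotent (mkq c.WB c.TB x)) := by
  obtain ⟨v1, v2, v3, v4, v5, v6, v7, v8⟩ := va
  refine ⟨?_, ?_, ?_, ?_, ?_, ?_, ?_⟩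
  · intro t ht
    exact ⟨PS_mono (Raw.WB_mono h) (v1 t ht).1, (v1 t ht).2⟩
  · intro t ht
    exact ⟨PS_mono (Raw.WC_mono h) (v2 t ht).1, (v2 t ht).2⟩
  · intro b hb
    have := int_map (tr (A := A) (Raw.WB_mono h) (Raw.TB_mono h)) (v3 b hb)
    rwa [tr_mkq] at this
  · intro s hs
    have := int_map (tr (A := A) (Raw.WC_mono h) (Raw.TCC_mono h)) (v4 s hs)
    rwa [tr_mkq] at this
  · intro hsurj b hb
    have := bot_map (tr (A := A) (Raw.WB_mono h) (Raw.TB_mono h)) (v5 hsurj b hb)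
    rwa [tr_mkq] at this
  · intro hsurj b hb
    have := bot_map (tr (A := A) (Raw.WC_mono h) (Raw.TCC_mono h)) (v7 hsurj b hb)
    rwa [tr_mkq] at this
  · rintro hsurj hnil ⟨q, hq⟩ hmem
    have hqa : q ∈ PS A a.WC := (v2 q hmem).1
    have hW : a.WC = a.WB := Raw.WC_eq_WB_of_S (v6 hsurj)
    have hqa' : q ∈ PS A a.WB := hW ▸ hqa
    have := (v8 hsurj hnil ⟨q, hqa'⟩ hmem).map (tr (A := A) (Raw.WB_mono h) (Raw.TB_mono h))
    rwa [tr_mkq] at this

/-- the componentwise union of two valid indices is valid. -/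
theorem valid_rsup {a b : Raw A B C} (va : Valid a) (vb : Valid b) : Valid (rsup a b) := by
  obtain ⟨a1, a2, a3, a4, a5, a7, a8⟩ := side (le_rsup_left a b) va
  obtain ⟨b1, b2, b3, b4, b5, b7, b8⟩ := side (le_rsup_right a b) vb
  refine ⟨?_, ?_, ?_, ?_, ?_, ?_, ?_, ?_⟩
  · intro t ht
    rcases Finset.mem_union.mp ht with h1 | h1
    · exact a1 t h1
    · exact b1 t h1
  · intro t ht
    rcases Finset.mem_union.mp ht with h1 | h1
    · exact a2 t h1
    · exact b2 t h1
  · intro x hx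
    have hx' : x ∈ a.Z ∪ b.Z := hx
    rcases Finset.mem_union.mp hx' with h1 | h1
    · exact a3 x h1
    · exact b3 x h1
  · intro s hs
    have hs' : s ∈ a.S ∪ b.S := hs
    rcases Finset.mem_union.mp hs' with h1 | h1
    · exact a4 s h1
    · exact b4 s h1
  · intro hsurj x hx
    have hx' : x ∈ a.Z ∪ b.Z := hx
    rcases Finset.mem_union.mp hx' with h1 | h1
    · exact a5 hsurj x h1
    · exact b5 hsurj x h1
  · intro hsurj
    show a.S ∪ b.S = ∅
    rw [va.2.2.2.2.2.1 hsurj, vb.2.2.2.2.2.1 hsurj, Finset.union_empty]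
  · intro hsurj x hx
    have hx' : x ∈ a.Z ∪ b.Z := hx
    rcases Finset.mem_union.mp hx' with h1 | h1
    · exact a7 hsurj x h1
    · exact b7 hsurj x h1
  · intro hsurj hnil x hx
    have hx' : (x : MvPolynomial (B ⊕ C) A) ∈ a.TC ∪ b.TC := hx
    rcases Finset.mem_union.mp hx' with h1 | h1
    · exact a8 hsurj hnil x h1
    · exact b8 hsurj hnil x h1

/-- the empty index is valid. -/
theorem valid_empty : Valid (⟨∅, ∅, ∅, ∅⟩ : Raw A B C) := by
  refine ⟨?_, ?_, ?_, ?_, ?_, ?_, ?_, ?_⟩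
  · intro t ht; exact absurd ht (Finset.notMem_empty t)
  · intro t ht; exact absurd ht (Finset.notMem_empty t)
  · intro b hb; exact absurd hb (Finset.notMem_empty b)
  · intro s hs; exact absurd hs (Finset.notMem_empty s)
  · intro _ b hb; exact absurd hb (Finset.notMem_empty b)
  · intro _; rfl
  · intro _ b hb; exact absurd hb (Finset.notMem_empty b)
  · intro _ _ x hx; exact absurd hx (Finset.notMem_empty _)

/-- **(DIR)** -/
theorem directed_nonempty (A B C : Type u) [CommRing A] [CommRing B] [CommRing C] [Algebra A B]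
    [Algebra A C] [Algebra B C] [IsScalarTower A B C] :
    IsDirected (J A B C) (· ≤ ·) ∧ Nonempty (J A B C) := by
  refine ⟨⟨fun a b => ⟨⟨rsup a.1 b.1, valid_rsup a.2 b.2⟩, ?_, ?_⟩⟩, ?_⟩
  · exact le_rsup_left a.1 b.1
  · exact le_rsup_right a.1 b.1
  · exact ⟨⟨⟨∅, ∅, ∅, ∅⟩, valid_empty⟩⟩

end Groth.Agent.H44.IntPair_DIR
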