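import Mathlib
import Groth.Prelude.Def_EGA4b
import Groth.Prelude.Def_Found
import Groth.Agent.H44.J2Crit

/-!
# A Nagata ring of dimension `≤ 1` is J-2
-/

set_option autoImplicit false
set_option linter.style.haveILetI false

universe u

open IsLocalRing

namespace Groth.Agent.H44.J2Nagata

open Groth.Agent.H44.NagataCrit Groth.Agent.H44.J2Crit

theorem ringKrullDim_le_of_isIntegral {R S : Type*} [CommRing R] [CommRing S] [Algebra R S]
    [Algebra.IsIntegral R S] : ringKrullDim S ≤ ringKrullDim R := by
  refine Order.krullDim_le_of_strictMono (PrimeSpectrum.comap (algebraMap R S)) ?_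
  intro P Q hPQ
  have h1 : P.asIdeal < Q.asIdeal := hPQ
  exact Ideal.IsIntegral.comap_lt_comap (R := R) h1

/-- A Noetherian local integrally closed domain of dimension `≤ 1` is regular. -/
theorem isRegularLocalRing_of_isIntegrallyClosed_of_dim_le_one (B : Type u) [CommRing B]
    [IsDomain B] [IsLocalRing B] [IsNoetherianRing B] [IsIntegrallyClosed B]
    (hdim : ringKrullDim B ≤ 1) : IsRegularLocalRing B := by
  haveI : Ring.KrullDimLE 1 B := Ring.krullDimLE_iff.mpr (by exact_mod_cast hdim)
  haveI : Ring.DimensionLEOne B :=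
    ⟨fun {p} hp hpp => Ring.krullDimLE_one_iff_of_noZeroDivisors.mp inferInstance p hp hpp⟩
  haveI : IsDedekindRing B :=
    (isDedekindRing_iff B (FractionRing B)).mpr ⟨inferInstance, inferInstance,
      fun {x} hx => (isIntegrallyClosed_iff (FractionRing B)).mp inferInstance hx⟩
  haveI : IsDedekindDomain B := inferInstance
  haveI : IsPrincipalIdealRing B := by
    apply IsPrincipalIdealRing.of_finite_primes
    refine Set.Finite.subset (Set.toFinite {⊥, maximalIdeal B}) ?_
    intro P hP
    have hP' : P.IsPrime := hP
    by_cases h0 : P = ⊥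
    · exact Or.inl h0
    · exact Or.inr (IsLocalRing.eq_maximalIdeal (Ring.DimensionLEOne.maximalOfPrime h0 hP'))
  infer_instance

set_option maxHeartbeats 1000000 in
/-- A finite domain extension of a Noetherian N-2 domain of dimension `≤ 1` has a nonempty open
subset in its regular locus. -/
theorem exists_open_of_finite_N2 (R₀ A' : Type u) [CommRing R₀] [IsDomain R₀] [IsNoetherianRing R₀]
    [CommRing A'] [IsDomain A'] [Algebra R₀ A'] [Module.Finite R₀ A']
    (hinj : Function.Injective (algebraMap R₀ A')) (hN2 : CAlg.IsN2 R₀)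
    (hdim : ringKrullDim R₀ ≤ 1) :
    ∃ U : Set (PrimeSpectrum A'), IsOpen U ∧ U.Nonempty ∧ U ⊆ EGA4.regLocus A' := by
  classical
  haveI : IsNoetherianRing A' := IsNoetherianRing.of_finite R₀ A'
  haveI : Algebra.IsIntegral R₀ A' := inferInstance
  haveI : FaithfulSMul R₀ A' := (faithfulSMul_iff_algebraMap_injective _ _).mpr hinj
  haveI : FaithfulSMul R₀ (FractionRing A') :=
    (faithfulSMul_iff_algebraMap_injective _ _).mpr (by
      rw [IsScalarTower.algebraMap_eq R₀ A' (FractionRing A'), RingHom.coe_comp]
      exact (IsFractionRing.injective A' (FractionRing A')).comp hinj)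
  letI algKL : Algebra (FractionRing R₀) (FractionRing A') := FractionRing.liftAlgebra R₀ _
  haveI : IsScalarTower R₀ (FractionRing R₀) (FractionRing A') :=
    FractionRing.isScalarTower_liftAlgebra R₀ _
  haveI hfd : FiniteDimensional (FractionRing R₀) (FractionRing A') := inferInstance
  have hfinB : Module.Finite R₀ (integralClosure R₀ (FractionRing A')) :=
    hN2 (FractionRing A') hfd
  have hfg : (Subalgebra.toSubmodule (integralClosure R₀ (FractionRing A'))).FG :=
    Module.Finite.iff_fg.mp hfinB
  obtain ⟨s, hs⟩ := hfg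
  obtain ⟨f, hf⟩ := IsLocalization.exist_integer_multiples_of_finset (nonZeroDivisors A') s
  have hf0 : (f : A') ≠ 0 := nonZeroDivisors.ne_zero f.2
  have key : ∀ x : FractionRing A', IsIntegral R₀ x →
      ∃ a : A', algebraMap A' (FractionRing A') a = algebraMap A' (FractionRing A') f * x := by
    let N : Submodule R₀ (FractionRing A') :=
      (LinearMap.range (Algebra.linearMap A' (FractionRing A'))).restrictScalars R₀
    let μ : FractionRing A' →ₗ[R₀] FractionRing A' :=
      LinearMap.mulLeft R₀ (algebraMap A' (FractionRing A') f)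
    have hle : Subalgebra.toSubmodule (integralClosure R₀ (FractionRing A')) ≤ N.comap μ := by
      rw [← hs, Submodule.span_le]
      intro y hy
      obtain ⟨a, ha⟩ := hf y hy
      refine ⟨a, ?_⟩
      rw [Algebra.linearMap_apply, ha, Algebra.smul_def]
      rfl
    intro x hx
    obtain ⟨a, ha⟩ := hle hx
    exact ⟨a, ha⟩
  refine ⟨(PrimeSpectrum.basicOpen (f : A') : Set (PrimeSpectrum A')),
    (PrimeSpectrum.basicOpen (f : A')).isOpen, ⟨⟨⊥, Ideal.isPrime_bot⟩, ?_⟩, ?_⟩
  · show (f : A') ∉ (⊥ : Ideal A')
    simp [hf0]
  · intro q hq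
    have hfq : (f : A') ∉ q.asIdeal := hq
    show IsRegularLocalRing (Localization.AtPrime q.asIdeal)
    haveI : IsNoetherianRing (Localization.AtPrime q.asIdeal) :=
      IsLocalization.isNoetherianRing q.asIdeal.primeCompl _ inferInstance
    haveI : IsIntegrallyClosed (Localization.AtPrime q.asIdeal) := by
      rw [isIntegrallyClosed_iff (FractionRing A')]
      intro x hx
      obtain ⟨m, hm⟩ :=
        IsIntegral.exists_multiple_integral_of_isLocalization q.asIdeal.primeCompl x hx
      have hm' : IsIntegral R₀ (m • x) := isIntegral_trans _ hm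
      obtain ⟨a, ha⟩ := key _ hm'
      have hfm : (f : A') * (m : A') ∈ q.asIdeal.primeCompl :=
        Submonoid.mul_mem _ hfq m.2
      have hs0 : algebraMap A' (FractionRing A') ((f : A') * m) ≠ 0 := by
        intro h0
        have h00 : (f : A') * m = 0 :=
          IsFractionRing.injective A' (FractionRing A') (by rw [h0, map_zero])
        exact hfm (by rw [h00]; exact Ideal.zero_mem _)
      refine ⟨IsLocalization.mk' (Localization.AtPrime q.asIdeal) a ⟨(f : A') * m, hfm⟩, ?_⟩
      have h1 : algebraMap (Localization.AtPrime q.asIdeal) (FractionRing A')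
            (IsLocalization.mk' (Localization.AtPrime q.asIdeal) a ⟨(f : A') * m, hfm⟩) *
          algebraMap (Localization.AtPrime q.asIdeal) (FractionRing A')
            (algebraMap A' (Localization.AtPrime q.asIdeal) ((f : A') * m)) =
          algebraMap (Localization.AtPrime q.asIdeal) (FractionRing A')
            (algebraMap A' (Localization.AtPrime q.asIdeal) a) := by
        rw [← map_mul]
        congr 1
        exact IsLocalization.mk'_spec _ a ⟨(f : A') * m, hfm⟩
      rw [← IsScalarTower.algebraMap_apply A' (Localization.AtPrime q.asIdeal) (FractionRing A'),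
        ← IsScalarTower.algebraMap_apply A' (Localization.AtPrime q.asIdeal) (FractionRing A')]
        at h1
      apply mul_right_cancel₀ hs0
      rw [h1, ha, map_mul, Submonoid.smul_def, Algebra.smul_def]
      ring
    have hdimq : ringKrullDim (Localization.AtPrime q.asIdeal) ≤ 1 := by
      calc ringKrullDim (Localization.AtPrime q.asIdeal) = q.asIdeal.height :=
            IsLocalization.AtPrime.ringKrullDim_eq_height q.asIdeal _
        _ ≤ ringKrullDim A' := Ideal.height_le_ringKrullDim_of_ne_top q.2.ne_top
        _ ≤ ringKrullDim R₀ := ringKrullDim_le_of_isIntegral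
        _ ≤ 1 := hdim
    exact isRegularLocalRing_of_isIntegrallyClosed_of_dim_le_one _ hdimq

/-- A Nagata ring of dimension `≤ 1` is J-2. -/
theorem isJ2_of_isNagata_of_dim_le_one (R : Type u) [CommRing R] (hR : CAlg.IsNagata R)
    (hdim : ringKrullDim R ≤ 1) : EGA4.IsJ2 R := by
  haveI := hR.1
  rw [isJ2_iff_finite_domains]
  intro A' _ _ _ hfin
  haveI := hfin
  haveI : (RingHom.ker (algebraMap R A')).IsPrime := RingHom.ker_isPrime _
  letI algQ : Algebra (R ⧸ RingHom.ker (algebraMap R A')) A' :=
    (RingHom.kerLift (algebraMap R A')).toAlgebra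
  haveI : IsScalarTower R (R ⧸ RingHom.ker (algebraMap R A')) A' :=
    IsScalarTower.of_algebraMap_eq (fun _ => rfl)
  haveI : Module.Finite (R ⧸ RingHom.ker (algebraMap R A')) A' :=
    Module.Finite.of_restrictScalars_finite R _ _
  exact exists_open_of_finite_N2 (R ⧸ RingHom.ker (algebraMap R A')) A'
    (RingHom.kerLift_injective _) (hR.2 _) ((ringKrullDim_quotient_le _).trans hdim)

end Groth.Agent.H44.J2Nagata
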