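import Mathlib
import Groth.Prelude.Def_CAlgX

/-!
# The Jacobian criterion: sufficiency by lifting (helper44)

If `A_p` is formally smooth over `k` for the `pA_p`-adic topology, and there are `k`-derivations
`D_i` of `A` and `f_j ∈ q` generating `qA_p` with `det (D_i f_j) ∉ p`, then `(A/q)_p` is formally
smooth over `k` for its adic topology.
-/

set_option autoImplicit false
universe u
open IsLocalRing

namespace Groth.Agent.H44.JacLift

variable {k A : Type u} [CommRing k] [CommRing A] [Algebra k A]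

theorem comap_map_mk (q p : Ideal A) (hqp : q ≤ p) :
    (p.map (Ideal.Quotient.mk q)).comap (Ideal.Quotient.mk q) = p := by
  rw [Ideal.comap_map_of_surjective' _ Ideal.Quotient.mk_surjective, Ideal.mk_ker,
    sup_eq_left.mpr hqp]

theorem adicFS_of_jacobian (q p : Ideal A) [p.IsPrime] (hqp : q ≤ p)
    [(p.map (Ideal.Quotient.mk q)).IsPrime]
    (hAp : CAlgX.IsAdicFormallySmooth k (Localization.AtPrime p)
      (maximalIdeal (Localization.AtPrime p)))
    (m : ℕ) (D : Fin m → Derivation k A A) (f : Fin m → A) (hf : ∀ i, f i ∈ q)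
    (hgen : q.map (algebraMap A (Localization.AtPrime p)) =
      Ideal.span (Set.range fun i => algebraMap A (Localization.AtPrime p) (f i)))
    (hdet : Matrix.det (Matrix.of fun i j => D i (f j)) ∉ p) :
    CAlgX.IsAdicFormallySmooth k (Localization.AtPrime (p.map (Ideal.Quotient.mk q)))
      (maximalIdeal (Localization.AtPrime (p.map (Ideal.Quotient.mk q)))) := by
  classical
  intro C _ _ J hJ ψ hψ
  obtain ⟨n, hn⟩ := hψ
  have hcomap : p = (p.map (Ideal.Quotient.mk q)).comap (Ideal.Quotient.mk q) :=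
    (comap_map_mk q p hqp).symm
  let g : Localization.AtPrime p →+* Localization.AtPrime (p.map (Ideal.Quotient.mk q)) :=
    Localization.localRingHom p (p.map (Ideal.Quotient.mk q)) (Ideal.Quotient.mk q) hcomap
  have hg : ∀ a : A, g (algebraMap A (Localization.AtPrime p) a) =
      algebraMap (A ⧸ q) (Localization.AtPrime (p.map (Ideal.Quotient.mk q)))
        (Ideal.Quotient.mk q a) :=
    fun a => Localization.localRingHom_to_map _ _ _ _ a
  have hgmax : (maximalIdeal (Localization.AtPrime p)).map g ≤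
      maximalIdeal (Localization.AtPrime (p.map (Ideal.Quotient.mk q))) :=
    ((IsLocalRing.local_hom_TFAE g).out 0 2).mp
      (Localization.isLocalHom_localRingHom p (p.map (Ideal.Quotient.mk q)) (Ideal.Quotient.mk q) hcomap)
  let ψR : Localization.AtPrime p →ₐ[k] C ⧸ J :=
    { toRingHom := ψ.toRingHom.comp g
      commutes' := fun c => by
        show ψ (g (algebraMap k (Localization.AtPrime p) c)) = algebraMap k (C ⧸ J) c
        rw [IsScalarTower.algebraMap_apply k A (Localization.AtPrime p), hg,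
          Ideal.Quotient.mk_algebraMap, ← IsScalarTower.algebraMap_apply k (A ⧸ q)
            (Localization.AtPrime (p.map (Ideal.Quotient.mk q)))]
        exact ψ.commutes c }
  have hψR : ∀ x, ψR x = ψ (g x) := fun x => rfl
  obtain ⟨χ₀, hχ₀⟩ := hAp C J hJ ψR ⟨n, fun x hx => by
    rw [hψR]
    apply hn
    have h1 : g x ∈ (maximalIdeal (Localization.AtPrime p) ^ n).map g := Ideal.mem_map_of_mem g hx
    rw [Ideal.map_pow] at h1
    exact Ideal.pow_right_mono hgmax n h1⟩
  have hχ₀' : ∀ x, Ideal.Quotient.mk J (χ₀ x) = ψ (g x) := fun x => by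
    have h1 := congrArg (fun F => F x) hχ₀
    exact h1
  let φ₀ : A →ₐ[k] C := χ₀.comp (IsScalarTower.toAlgHom k A (Localization.AtPrime p))
  have hφ₀ : ∀ a, Ideal.Quotient.mk J (φ₀ a) =
      ψ (algebraMap (A ⧸ q) (Localization.AtPrime (p.map (Ideal.Quotient.mk q)))
        (Ideal.Quotient.mk q a)) := fun a => by
    show Ideal.Quotient.mk J (χ₀ (algebraMap A (Localization.AtPrime p) a)) = _
    rw [hχ₀', hg]
  have hunit : ∀ (φ : A →ₐ[k] C), (∀ a, Ideal.Quotient.mk J (φ a) =
      ψ (algebraMap (A ⧸ q) (Localization.AtPrime (p.map (Ideal.Quotient.mk q)))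
        (Ideal.Quotient.mk q a))) → ∀ a, a ∉ p → IsUnit (φ a) := by
    intro φ hφ a ha
    rw [← IsNilpotent.isUnit_quotient_mk_iff (I := J) ⟨2, hJ⟩, hφ]
    refine IsUnit.map ψ ?_
    refine IsLocalization.map_units (M := (p.map (Ideal.Quotient.mk q)).primeCompl) _
      ⟨Ideal.Quotient.mk q a, ?_⟩
    intro hmem
    apply ha
    rw [hcomap]
    exact hmem
  -- the linear system
  let M : Matrix (Fin m) (Fin m) C := Matrix.of fun i j => φ₀ (D i (f j))
  have hM : M = (φ₀ : A →+* C).mapMatrix (Matrix.of fun i j => D i (f j)) := by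
    ext i j; rfl
  have hdetM : IsUnit M.det := by
    rw [hM, ← RingHom.map_det]
    exact hunit φ₀ hφ₀ _ hdet
  have hMinv : M⁻¹ * M = 1 := Matrix.nonsing_inv_mul M hdetM
  let w : Fin m → C := fun j => φ₀ (f j)
  have hw : ∀ j, w j ∈ J := fun j => by
    rw [← Ideal.Quotient.eq_zero_iff_mem, hφ₀, Ideal.Quotient.eq_zero_iff_mem.mpr (hf j),
      map_zero, map_zero]
  let u : Fin m → C := fun i => - ∑ j, w j * M⁻¹ j i
  have hu : ∀ i, u i ∈ J := fun i =>
    J.neg_mem (J.sum_mem fun j _ => J.mul_mem_right _ (hw j))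
  have hsolve : ∀ j, ∑ i, u i * M i j = - w j := by
    intro j
    have h1 : (Matrix.vecMul (Matrix.vecMul w M⁻¹) M) j = w j := by
      rw [Matrix.vecMul_vecMul, hMinv, Matrix.vecMul_one]
    have h2 : (Matrix.vecMul (Matrix.vecMul w M⁻¹) M) j = ∑ i, (∑ l, w l * M⁻¹ l i) * M i j := rfl
    rw [← h1, h2, ← Finset.sum_neg_distrib]
    refine Finset.sum_congr rfl fun i _ => ?_
    show (- ∑ l, w l * M⁻¹ l i) * M i j = _
    rw [neg_mul]
  -- the correcting derivation
  let dl : A →ₗ[k] C :=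
    { toFun := fun a => ∑ i, φ₀ (D i a) * u i
      map_add' := fun a b => by simp only [map_add, add_mul, Finset.sum_add_distrib]
      map_smul' := fun c a => by
        simp only [Derivation.map_smul, RingHom.id_apply, Finset.smul_sum]
        refine Finset.sum_congr rfl fun i _ => ?_
        rw [map_smul, smul_mul_assoc] }
  have hdl : ∀ a, dl a = ∑ i, φ₀ (D i a) * u i := fun a => rfl
  have hdlJ : ∀ a, dl a ∈ J := fun a => by
    rw [hdl]
    exact J.sum_mem fun i _ => J.mul_mem_left _ (hu i)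
  have hJJ : ∀ x ∈ J, ∀ y ∈ J, x * y = 0 := fun x hx y hy => by
    have h1 : x * y ∈ J ^ 2 := by rw [pow_two]; exact Ideal.mul_mem_mul hx hy
    rwa [hJ, Ideal.mem_bot] at h1
  have hdlmul : ∀ a b, dl (a * b) = φ₀ a * dl b + φ₀ b * dl a := by
    intro a b
    simp only [hdl, Derivation.leibniz, map_add, smul_eq_mul, map_mul, add_mul,
      Finset.sum_add_distrib, Finset.mul_sum]
    congr 1 <;> exact Finset.sum_congr rfl fun i _ => by ring
  let φ₁ : A →ₐ[k] C := AlgHom.ofLinearMap (φ₀.toLinearMap + dl)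
    (by
      show φ₀ 1 + dl 1 = 1
      rw [hdl, map_one]
      simp only [Derivation.map_one_eq_zero, map_zero, zero_mul, Finset.sum_const_zero, add_zero])
    (by
      intro a b
      show φ₀ (a * b) + dl (a * b) = (φ₀ a + dl a) * (φ₀ b + dl b)
      rw [hdlmul, map_mul]
      have h1 := hJJ _ (hdlJ a) _ (hdlJ b)
      linear_combination (-1 : C) * h1)
  have hφ₁ : ∀ a, φ₁ a = φ₀ a + dl a := fun a => rfl
  have hφ₁mk : ∀ a, Ideal.Quotient.mk J (φ₁ a) =
      ψ (algebraMap (A ⧸ q) (Localization.AtPrime (p.map (Ideal.Quotient.mk q)))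
        (Ideal.Quotient.mk q a)) := fun a => by
    rw [hφ₁, map_add, Ideal.Quotient.eq_zero_iff_mem.mpr (hdlJ a), add_zero, hφ₀]
  have hφ₁f : ∀ j, φ₁ (f j) = 0 := fun j => by
    rw [hφ₁, hdl]
    have h2 : ∑ i, φ₀ (D i (f j)) * u i = - w j := by
      rw [← hsolve j]
      exact Finset.sum_congr rfl fun i _ => mul_comm _ _
    rw [h2]
    exact add_neg_cancel _
  have hker : ∀ x ∈ q, φ₁ x = 0 := by
    intro x hx
    have h1 : algebraMap A (Localization.AtPrime p) x ∈
        (RingHom.ker (φ₁ : A →+* C)).map (algebraMap A (Localization.AtPrime p)) := by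
      have h2 : algebraMap A (Localization.AtPrime p) x ∈
          q.map (algebraMap A (Localization.AtPrime p)) := Ideal.mem_map_of_mem _ hx
      rw [hgen] at h2
      refine (Ideal.span_le.mpr ?_) h2
      rintro _ ⟨j, rfl⟩
      exact Ideal.mem_map_of_mem _ (by rw [RingHom.mem_ker]; exact hφ₁f j)
    rw [IsLocalization.algebraMap_mem_map_algebraMap_iff p.primeCompl] at h1
    obtain ⟨t, ht, htx⟩ := h1
    rw [RingHom.mem_ker, map_mul] at htx
    exact (hunit φ₁ hφ₁mk t ht).mul_right_eq_zero.mp htx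
  let φ₂ : A ⧸ q →ₐ[k] C := Ideal.Quotient.liftₐ q φ₁ hker
  have hφ₂ : ∀ a, φ₂ (Ideal.Quotient.mk q a) = φ₁ a := fun a => rfl
  have hunits : ∀ y : (p.map (Ideal.Quotient.mk q)).primeCompl, IsUnit (φ₂ y) := by
    rintro ⟨y, hy⟩
    obtain ⟨a, rfl⟩ := Ideal.Quotient.mk_surjective y
    rw [hφ₂]
    exact hunit φ₁ hφ₁mk a (fun ha => hy (Ideal.mem_map_of_mem _ ha))
  let χ : Localization.AtPrime (p.map (Ideal.Quotient.mk q)) →ₐ[k] C :=
    IsLocalization.liftAlgHom (M := (p.map (Ideal.Quotient.mk q)).primeCompl) (f := φ₂) hunits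
  refine ⟨χ, ?_⟩
  apply AlgHom.coe_ringHom_injective
  apply IsLocalization.ringHom_ext (p.map (Ideal.Quotient.mk q)).primeCompl
  ext a
  show Ideal.Quotient.mk J (χ (algebraMap (A ⧸ q) _ (Ideal.Quotient.mk q a))) =
    ψ (algebraMap (A ⧸ q) _ (Ideal.Quotient.mk q a))
  rw [IsLocalization.liftAlgHom_apply, IsLocalization.lift_eq]
  show Ideal.Quotient.mk J (φ₂ (Ideal.Quotient.mk q a)) = _
  rw [hφ₂, hφ₁mk]

end Groth.Agent.H44.JacLift
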