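import Groth.Agent.H34.KeyRat
import Groth.Agent.H54.KeyCIa

/-!
# Piece (CIb) of the S1929 squad (helper34)

A sum of divisors of rational functions on points of a closed subscheme `i : D ⟶ X`, computed on
`X`, is rationally equivalent to zero on `D`.
-/

set_option autoImplicit false
set_option linter.style.haveILetI false

universe u

open CategoryTheory AlgebraicGeometry TopologicalSpace Opposite

namespace Groth.Agent.H44.KeyCIb

variable {X D : Scheme.{u}}

/-- The divisor of a rational function on the closure of a point of a closed subscheme is the same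
computed on the subscheme or on the ambient scheme. -/
theorem divFun_closedImmersion (i : D ⟶ X) [IsClosedImmersion i] (δ : X → ℤ) (d' d : D)
    (g : X.residueField (i d')) :
    Cyc.divFun (fun d => δ (i d)) d' ((i.residueFieldMap d').hom g) d =
      Cyc.divFun δ (i d') g (i d) := by
  classical
  unfold Cyc.divFun
  have hiff : (i d' ⤳ i d) ↔ (d' ⤳ d) := i.isClosedEmbedding.isInducing.specializes_iff
  by_cases h : d' ⤳ d ∧ δ (i d) + 1 = δ (i d')
  · have h' : i d' ⤳ i d ∧ δ (i d) + 1 = δ (i d') := ⟨hiff.mpr h.1, h.2⟩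
    rw [dif_pos h, dif_pos h']
    exact Groth.Agent.H54.KeyCIa.ordAt_residueFieldMap i h.1 h'.1 g
  · have h' : ¬ (i d' ⤳ i d ∧ δ (i d) + 1 = δ (i d')) := fun hh => h ⟨hiff.mp hh.1, hh.2⟩
    rw [dif_neg h, dif_neg h']

/-- (CIb) -/
theorem ratEquivZero_of_closedImmersion (i : D ⟶ X) [IsClosedImmersion i] (δ : X → ℤ) (k : ℤ)
    {ι : Type u} (g : ι → (ξ : X) → X.residueField ξ) (hg0 : ∀ j ξ, g j ξ ≠ 0)
    (hgδ : ∀ j ξ, g j ξ ≠ 1 → δ ξ = k + 1)
    (hsupp : ∀ j ξ, g j ξ ≠ 1 → ξ ∈ Set.range i)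
    (hlf : ∀ x : X, ∃ U : Set X, IsOpen U ∧ x ∈ U ∧
      {p : ι × X | g p.1 p.2 ≠ 1 ∧ (closure {p.2} ∩ U).Nonempty}.Finite)
    (γ : AlgebraicCycle D ℤ)
    (hγ : ∀ d : D, γ d = ∑ᶠ j : ι, ∑ᶠ ξ : X, Cyc.divFun δ ξ (g j ξ) (i d)) :
    Cyc.RatEquivZero (fun d => δ (i d)) k γ := by
  classical
  have hinj : Function.Injective (i : D → X) := i.isClosedEmbedding.injective
  refine ⟨{q : ι × D // g q.1 (i q.2) ≠ 1}, fun q => q.1.2,
    fun q => (i.residueFieldMap q.1.2).hom (g q.1.1 (i q.1.2)), ?_, ?_, ?_, ?_⟩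
  · intro q
    exact hgδ q.1.1 (i q.1.2) q.2
  · intro q
    exact (map_ne_zero _).mpr (hg0 _ _)
  · intro d
    obtain ⟨U, hUo, hdU, hfin⟩ := hlf (i d)
    refine ⟨i ⁻¹' U, hUo.preimage i.continuous, hdU, ?_⟩
    have hmapinj : Function.Injective
        (fun q : {q : ι × D // g q.1 (i q.2) ≠ 1} => ((q.1.1, i q.1.2) : ι × X)) := by
      intro q q' hqq'
      apply Subtype.ext
      have hqq'' : ((q.1.1, i q.1.2) : ι × X) = (q'.1.1, i q'.1.2) := hqq'
      have h1 : q.1.1 = q'.1.1 := (Prod.mk.inj hqq'').1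
      have h2 : i q.1.2 = i q'.1.2 := (Prod.mk.inj hqq'').2
      exact Prod.ext h1 (hinj h2)
    refine Set.Finite.subset (hfin.preimage hmapinj.injOn) ?_
    rintro q ⟨z, hz1, hz2⟩
    have hspec : q.1.2 ⤳ z := specializes_iff_mem_closure.mpr hz1
    exact ⟨q.2, i z, specializes_iff_mem_closure.mp (hspec.map i.continuous), hz2⟩
  · intro d
    rw [hγ d]
    let G : ι × D → ℤ := fun q => Cyc.divFun δ (i q.2) (g q.1 (i q.2)) (i d)
    have hGsupp : ∀ q, G q ≠ 0 → g q.1 (i q.2) ≠ 1 ∧ i q.2 ⤳ i d := by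
      intro q hq
      have hq' : Cyc.divFun δ (i q.2) (g q.1 (i q.2)) (i d) ≠ 0 := hq
      have h2 : g q.1 (i q.2) ≠ 1 := by
        intro h0
        apply hq'
        rw [h0]
        exact Groth.Agent.H34.KeyRel.divFun_one δ (i q.2) (i d)
      exact ⟨h2, (Groth.Agent.H34.KeyRel.divFun_ne_zero hq').1⟩
    obtain ⟨U, hUo, hdU, hfin⟩ := hlf (i d)
    have hGfin : (Function.support G).Finite := by
      have hmapinj : Function.Injective (fun q : ι × D => ((q.1, i q.2) : ι × X)) := by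
        intro q q' hqq'
        have hqq'' : ((q.1, i q.2) : ι × X) = (q'.1, i q'.2) := hqq'
        have h1 : q.1 = q'.1 := (Prod.mk.inj hqq'').1
        have h2 : i q.2 = i q'.2 := (Prod.mk.inj hqq'').2
        exact Prod.ext h1 (hinj h2)
      refine Set.Finite.subset (hfin.preimage hmapinj.injOn) ?_
      intro q hq
      obtain ⟨h2, h3⟩ := hGsupp q hq
      exact ⟨h2, i d, specializes_iff_mem_closure.mp h3, hdU⟩
    have e1 : ∀ j, ∑ᶠ ξ : X, Cyc.divFun δ ξ (g j ξ) (i d) = ∑ᶠ d' : D, G (j, d') := by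
      intro j
      rw [← finsum_mem_univ,
        finsum_mem_inter_support_eq' (fun ξ : X => Cyc.divFun δ ξ (g j ξ) (i d)) Set.univ
          (Set.range i) ?_, finsum_mem_range hinj]
      intro ξ hξ
      refine ⟨fun _ => ?_, fun _ => trivial⟩
      refine hsupp j ξ (fun h0 => hξ ?_)
      show Cyc.divFun δ ξ (g j ξ) (i d) = 0
      rw [h0]
      exact Groth.Agent.H34.KeyRel.divFun_one δ ξ (i d)
    rw [finsum_congr e1, ← finsum_curry G hGfin]
    symm
    have e2 : ∀ q : {q : ι × D // g q.1 (i q.2) ≠ 1},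
        Cyc.divFun (fun d => δ (i d)) q.1.2
          ((i.residueFieldMap q.1.2).hom (g q.1.1 (i q.1.2))) d = G q.1 :=
      fun q => divFun_closedImmersion i δ q.1.2 d _
    rw [finsum_congr e2, finsum_subtype_eq_finsum_cond (f := G) (fun p => g p.1 (i p.2) ≠ 1)]
    refine finsum_congr (fun q => ?_)
    rw [finsum_eq_if]
    split_ifs with hq
    · rfl
    · by_contra hne
      exact hq (hGsupp q (Ne.symm hne)).1

end Groth.Agent.H44.KeyCIb
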