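import Groth.Agent.H34.KeyRelDefs
import Groth.Agent.S1848
import Groth.Agent.H37.KeyRelT3
import Groth.Agent.H87.KeyRing
import Groth.Agent.H19.KeyS3

/-!
# (T6) for helper34's relative key formula squad (S1922/S1921), hypothesis style:
the key lemma on the closure of `ζ`, for rational functions, from the key lemma for elements (T5)
and the dimension statement (T2)
-/

set_option autoImplicit false
set_option linter.style.haveILetI false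

universe u v

open CategoryTheory AlgebraicGeometry TopologicalSpace Opposite

namespace Groth.Agent.H44.KeyRelT6

open Groth.Agent.H34.Key Groth.Agent.H34.KeyRel

variable {X : Scheme.{u}}

/-- `mk ∘ spec`: the image in `O_ξ/𝔭_ζ` of an element of `O_x`. -/
noncomputable abbrev im {ζ ξ x : X} (h₁ : ζ ⤳ ξ) (h₂ : ξ ⤳ x) (a : X.presheaf.stalk x) :
    Cyc.LocQuot ξ ζ h₁ :=
  Ideal.Quotient.mk (RingHom.ker (Cyc.specMap ξ ζ h₁)) ((X.presheaf.stalkSpecializes h₂).hom a)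

theorem algebraMap_mk {ζ ξ : X} (h : ζ ⤳ ξ) (c : X.presheaf.stalk ξ) :
    algebraMap (Cyc.LocQuot ξ ζ h) (X.residueField ζ)
      (Ideal.Quotient.mk (RingHom.ker (Cyc.specMap ξ ζ h)) c) = Cyc.specMap ξ ζ h c :=
  (Groth.Agent.H95.SecOrd.specMap_eq_algebraMap h c).symm

theorem specMap_spec {ζ ξ x : X} (h₁ : ζ ⤳ ξ) (h₂ : ξ ⤳ x) (hx : ζ ⤳ x)
    (a : X.presheaf.stalk x) :
    Cyc.specMap ξ ζ h₁ ((X.presheaf.stalkSpecializes h₂).hom a) = Cyc.specMap x ζ hx a := by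
  rw [Groth.Agent.H95.SecOrd.specMap_apply, Groth.Agent.H95.SecOrd.specMap_apply]
  congr 1
  have := TopCat.Presheaf.stalkSpecializes_comp X.presheaf h₁ h₂
  exact congrArg (fun φ => φ.hom a) this

theorem algebraMap_im {ζ ξ x : X} (h₁ : ζ ⤳ ξ) (h₂ : ξ ⤳ x) (hx : ζ ⤳ x)
    (a : X.presheaf.stalk x) :
    algebraMap (Cyc.LocQuot ξ ζ h₁) (X.residueField ζ) (im h₁ h₂ a) = Cyc.specMap x ζ hx a := by
  rw [im, algebraMap_mk, specMap_spec h₁ h₂ hx]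

theorem im_ne_zero {ζ ξ x : X} (h₁ : ζ ⤳ ξ) (h₂ : ξ ⤳ x) (hx : ζ ⤳ x)
    {a : X.presheaf.stalk x} (ha : Cyc.specMap x ζ hx a ≠ 0) : im h₁ h₂ a ≠ 0 := by
  intro h0
  have h1 := algebraMap_im h₁ h₂ hx a
  rw [h0, map_zero] at h1
  exact ha h1.symm

theorem isUnit_im_of_unitAtRel {ζ ξ x : X} (h₁ : ζ ⤳ ξ) (h₂ : ξ ⤳ x) (hx : ζ ⤳ x)
    (a : X.presheaf.stalk x) (hu : UnitAtRel h₁ (Cyc.specMap x ζ hx a)) :
    IsUnit (im h₁ h₂ a) := by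
  obtain ⟨c, hc, hceq⟩ := hu
  have hinj := (Groth.Agent.H95.CycZero.isFractionRing_locQuot h₁).injective
  have : Ideal.Quotient.mk (RingHom.ker (Cyc.specMap ξ ζ h₁)) c = im h₁ h₂ a := by
    apply hinj
    rw [algebraMap_mk, algebraMap_im h₁ h₂ hx, hceq]
  rw [← this]
  exact hc.map _

open Classical in
/-- the summand of the key lemma for elements, on the closure of `ζ`. -/
noncomputable def G (δ : X → ℤ) {ζ x : X} (a b : X.presheaf.stalk x) : X → ℤ := fun ξ =>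
  if h : ζ ⤳ ξ ∧ ξ ⤳ x ∧ δ x + 1 = δ ξ then
    Cyc.ordAt x ξ h.2.1 (resLQEquiv h.1 (CycAlg.tameSymbol (Cyc.LocQuot ξ ζ h.1)
      (im h.1 h.2.1 a) (im h.1 h.2.1 b)))
  else 0

section

variable (δ : X → ℤ) (hX : Cyc.IsSetup X δ) {ζ x : X} (hx : ζ ⤳ x) (hδ : δ x + 2 = δ ζ)
  (hdim : ∀ (ξ : X) (h : ζ ⤳ ξ), δ ξ + 1 = δ ζ → ringKrullDim (Cyc.LocQuot ξ ζ h) = 1)

include hX hx hδ hdim

theorem finite_support_G (a b : X.presheaf.stalk x)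
    (ha : Cyc.specMap x ζ hx a ≠ 0) (hb : Cyc.specMap x ζ hx b ≠ 0) :
    (Function.support (G δ (ζ := ζ) a b)).Finite := by
  haveI : IsLocallyNoetherian X := hX.1
  obtain ⟨Ua, hxUa, hfa⟩ := Groth.Agent.H37.KeyRelT3.finite_not_unitAtRel δ hX hx _ ha
  obtain ⟨Ub, hxUb, hfb⟩ := Groth.Agent.H37.KeyRelT3.finite_not_unitAtRel δ hX hx _ hb
  refine (hfa.union hfb).subset ?_
  intro ξ hξ
  rw [Function.mem_support] at hξ
  by_cases h : ζ ⤳ ξ ∧ ξ ⤳ x ∧ δ x + 1 = δ ξ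
  · have hδξ : δ ξ + 1 = δ ζ := by omega
    by_contra hnot
    simp only [Set.mem_union, Set.mem_ofPred_eq, not_or, not_and, not_exists, not_not] at hnot
    have hua : UnitAtRel h.1 (Cyc.specMap x ζ hx a) :=
      hnot.1 (h.2.1.mem_open Ua.2 hxUa) h.1 hδξ
    have hub : UnitAtRel h.1 (Cyc.specMap x ζ hx b) :=
      hnot.2 (h.2.1.mem_open Ub.2 hxUb) h.1 hδξ
    apply hξ
    unfold G
    haveI : IsNoetherianRing (Cyc.LocQuot ξ ζ h.1) := inferInstance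
    rw [dif_pos h, Groth.Agent.H19.KeyS3.tameSymbol_units _ (hdim ξ h.1 hδξ)
      (isUnit_im_of_unitAtRel h.1 h.2.1 hx a hua) (isUnit_im_of_unitAtRel h.1 h.2.1 hx b hub),
      map_one]
    exact Groth.Agent.H95.C1Cap.ordAt_one h.2.1
  · exfalso; apply hξ; unfold G; rw [dif_neg h]

open Classical in
/-- (T6), hypothesis style. -/
theorem skl_frac_rel_core
    (hT5 : ∀ (a b : X.presheaf.stalk x), Cyc.specMap x ζ hx a ≠ 0 → Cyc.specMap x ζ hx b ≠ 0 →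
      ∑ᶠ ξ : X, (if h : ζ ⤳ ξ ∧ ξ ⤳ x ∧ δ x + 1 = δ ξ then
        Cyc.ordAt x ξ h.2.1 (resLQEquiv h.1 (CycAlg.tameSymbol (Cyc.LocQuot ξ ζ h.1)
          (Ideal.Quotient.mk (RingHom.ker (Cyc.specMap ξ ζ h.1))
            ((X.presheaf.stalkSpecializes h.2.1).hom a))
          (Ideal.Quotient.mk (RingHom.ker (Cyc.specMap ξ ζ h.1))
            ((X.presheaf.stalkSpecializes h.2.1).hom b))))
        else 0) = 0)
    (ψ χ : X.residueField ζ) (hψ : ψ ≠ 0) (hχ : χ ≠ 0) :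
    ∑ᶠ ξ : X, (if h : ζ ⤳ ξ ∧ ξ ⤳ x ∧ δ x + 1 = δ ξ then
      Cyc.ordAt x ξ h.2.1 (tameRel h.1 ψ χ) else 0) = 0 := by
  haveI : IsLocallyNoetherian X := hX.1
  haveI := Groth.Agent.H95.CycZero.isFractionRing_locQuot hx
  obtain ⟨a₁', a₂', ha₂m, hψeq⟩ := IsFractionRing.div_surjective (A := Cyc.LocQuot x ζ hx) ψ
  obtain ⟨b₁', b₂', hb₂m, hχeq⟩ := IsFractionRing.div_surjective (A := Cyc.LocQuot x ζ hx) χ
  obtain ⟨a₁, rfl⟩ := Ideal.Quotient.mk_surjective a₁'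
  obtain ⟨a₂, rfl⟩ := Ideal.Quotient.mk_surjective a₂'
  obtain ⟨b₁, rfl⟩ := Ideal.Quotient.mk_surjective b₁'
  obtain ⟨b₂, rfl⟩ := Ideal.Quotient.mk_surjective b₂'
  rw [algebraMap_mk, algebraMap_mk] at hψeq hχeq
  have hinj := IsFractionRing.injective (Cyc.LocQuot x ζ hx) (X.residueField ζ)
  have ha₂ : Cyc.specMap x ζ hx a₂ ≠ 0 := by
    rw [← algebraMap_mk]
    exact fun h0 => nonZeroDivisors.ne_zero ha₂m (hinj (h0.trans (map_zero _).symm))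
  have hb₂ : Cyc.specMap x ζ hx b₂ ≠ 0 := by
    rw [← algebraMap_mk]
    exact fun h0 => nonZeroDivisors.ne_zero hb₂m (hinj (h0.trans (map_zero _).symm))
  have ha₁ : Cyc.specMap x ζ hx a₁ ≠ 0 := by
    intro h0
    rw [h0, zero_div] at hψeq
    exact hψ hψeq.symm
  have hb₁ : Cyc.specMap x ζ hx b₁ ≠ 0 := by
    intro h0
    rw [h0, zero_div] at hχeq
    exact hχ hχeq.symm
  have hψ' : ψ * Cyc.specMap x ζ hx a₂ = Cyc.specMap x ζ hx a₁ := by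
    rw [← hψeq, div_mul_cancel₀ _ ha₂]
  have hχ' : χ * Cyc.specMap x ζ hx b₂ = Cyc.specMap x ζ hx b₁ := by
    rw [← hχeq, div_mul_cancel₀ _ hb₂]
  -- pointwise decomposition
  have hpt : ∀ ξ : X, (if h : ζ ⤳ ξ ∧ ξ ⤳ x ∧ δ x + 1 = δ ξ then
      Cyc.ordAt x ξ h.2.1 (tameRel h.1 ψ χ) else 0) =
      (G δ (ζ := ζ) a₁ b₁ ξ + G δ (ζ := ζ) a₂ b₂ ξ) -
        (G δ (ζ := ζ) a₁ b₂ ξ + G δ (ζ := ζ) a₂ b₁ ξ) := by
    intro ξ
    by_cases h : ζ ⤳ ξ ∧ ξ ⤳ x ∧ δ x + 1 = δ ξ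
    · have hδξ : δ ξ + 1 = δ ζ := by omega
      have hR := hdim ξ h.1 hδξ
      haveI := Groth.Agent.H95.CycZero.isFractionRing_locQuot h.1
      unfold G
      rw [dif_pos h, dif_pos h, dif_pos h, dif_pos h, dif_pos h]
      obtain ⟨hnz, -, -, -, -⟩ := Groth.Agent.S1848.result (Cyc.LocQuot ξ ζ h.1) hR
      have nzd : ∀ {a : X.presheaf.stalk x}, Cyc.specMap x ζ hx a ≠ 0 →
          im h.1 h.2.1 a ∈ nonZeroDivisors (Cyc.LocQuot ξ ζ h.1) :=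
        fun ha => mem_nonZeroDivisors_of_ne_zero (im_ne_zero h.1 h.2.1 hx ha)
      have e : tameFrac (Cyc.LocQuot ξ ζ h.1) (X.residueField ζ) ψ χ =
          tameExt (Cyc.LocQuot ξ ζ h.1) (im h.1 h.2.1 a₁) (im h.1 h.2.1 a₂)
            (im h.1 h.2.1 b₁) (im h.1 h.2.1 b₂) := by
        refine Groth.Agent.H87.KeyRing.tameFrac_eq (Cyc.LocQuot ξ ζ h.1) (X.residueField ζ) hR
          ψ χ _ _ _ _ (im_ne_zero h.1 h.2.1 hx ha₁) (im_ne_zero h.1 h.2.1 hx ha₂)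
          (im_ne_zero h.1 h.2.1 hx hb₁) (im_ne_zero h.1 h.2.1 hx hb₂) ?_ ?_
        · rw [algebraMap_im h.1 h.2.1 hx, algebraMap_im h.1 h.2.1 hx]; exact hψ'
        · rw [algebraMap_im h.1 h.2.1 hx, algebraMap_im h.1 h.2.1 hx]; exact hχ'
      unfold tameRel
      rw [e]
      unfold tameExt
      let T11 : X.residueField ξ := resLQEquiv h.1 (CycAlg.tameSymbol (Cyc.LocQuot ξ ζ h.1)
        (im h.1 h.2.1 a₁) (im h.1 h.2.1 b₁))
      let T22 : X.residueField ξ := resLQEquiv h.1 (CycAlg.tameSymbol (Cyc.LocQuot ξ ζ h.1)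
        (im h.1 h.2.1 a₂) (im h.1 h.2.1 b₂))
      let T12 : X.residueField ξ := resLQEquiv h.1 (CycAlg.tameSymbol (Cyc.LocQuot ξ ζ h.1)
        (im h.1 h.2.1 a₁) (im h.1 h.2.1 b₂))
      let T21 : X.residueField ξ := resLQEquiv h.1 (CycAlg.tameSymbol (Cyc.LocQuot ξ ζ h.1)
        (im h.1 h.2.1 a₂) (im h.1 h.2.1 b₁))
      have m11 : T11 ≠ 0 := (map_ne_zero (resLQEquiv h.1)).mpr (hnz _ _ (nzd ha₁) (nzd hb₁))
      have m22 : T22 ≠ 0 := (map_ne_zero (resLQEquiv h.1)).mpr (hnz _ _ (nzd ha₂) (nzd hb₂))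
      have m12 : T12 ≠ 0 := (map_ne_zero (resLQEquiv h.1)).mpr (hnz _ _ (nzd ha₁) (nzd hb₂))
      have m21 : T21 ≠ 0 := (map_ne_zero (resLQEquiv h.1)).mpr (hnz _ _ (nzd ha₂) (nzd hb₁))
      have E0 : resLQEquiv h.1 (CycAlg.tameSymbol (Cyc.LocQuot ξ ζ h.1)
            (im h.1 h.2.1 a₁) (im h.1 h.2.1 b₁) *
          CycAlg.tameSymbol (Cyc.LocQuot ξ ζ h.1) (im h.1 h.2.1 a₂) (im h.1 h.2.1 b₂) *
          (CycAlg.tameSymbol (Cyc.LocQuot ξ ζ h.1) (im h.1 h.2.1 a₁) (im h.1 h.2.1 b₂) *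
            CycAlg.tameSymbol (Cyc.LocQuot ξ ζ h.1) (im h.1 h.2.1 a₂) (im h.1 h.2.1 b₁))⁻¹) =
          T11 * T22 * (T12 * T21)⁻¹ := by
        rw [map_mul, map_mul, map_inv₀, map_mul]
      have E1 := Groth.Agent.H95.SecOrd.ordAt_mul h.2.1 (f := T11 * T22) (g := (T12 * T21)⁻¹)
        (mul_ne_zero m11 m22) (inv_ne_zero (mul_ne_zero m12 m21))
      have E2 := Groth.Agent.H95.SecOrd.ordAt_mul h.2.1 (f := T11) (g := T22) m11 m22
      have E3 := Groth.Agent.H95.C1Cap.ordAt_inv h.2.1 (f := T12 * T21) (mul_ne_zero m12 m21)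
      have E4 := Groth.Agent.H95.SecOrd.ordAt_mul h.2.1 (f := T12) (g := T21) m12 m21
      rw [E0]
      refine E1.trans ?_
      rw [E2, E3, E4]
      ring
    · unfold G
      rw [dif_neg h, dif_neg h, dif_neg h, dif_neg h, dif_neg h]
      ring
  rw [finsum_congr hpt]
  have f11 := finite_support_G δ hX hx hδ hdim a₁ b₁ ha₁ hb₁
  have f22 := finite_support_G δ hX hx hδ hdim a₂ b₂ ha₂ hb₂
  have f12 := finite_support_G δ hX hx hδ hdim a₁ b₂ ha₁ hb₂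
  have f21 := finite_support_G δ hX hx hδ hdim a₂ b₁ ha₂ hb₁
  have s11 : ∑ᶠ ξ, G δ (ζ := ζ) a₁ b₁ ξ = 0 := hT5 a₁ b₁ ha₁ hb₁
  have s22 : ∑ᶠ ξ, G δ (ζ := ζ) a₂ b₂ ξ = 0 := hT5 a₂ b₂ ha₂ hb₂
  have s12 : ∑ᶠ ξ, G δ (ζ := ζ) a₁ b₂ ξ = 0 := hT5 a₁ b₂ ha₁ hb₂
  have s21 : ∑ᶠ ξ, G δ (ζ := ζ) a₂ b₁ ξ = 0 := hT5 a₂ b₁ ha₂ hb₁
  have fA : (Function.support (fun ξ => G δ (ζ := ζ) a₁ b₁ ξ + G δ (ζ := ζ) a₂ b₂ ξ)).Finite :=
    (f11.union f22).subset (Function.support_add _ _)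
  have fB : (Function.support (fun ξ => G δ (ζ := ζ) a₁ b₂ ξ + G δ (ζ := ζ) a₂ b₁ ξ)).Finite :=
    (f12.union f21).subset (Function.support_add _ _)
  rw [finsum_sub_distrib fA fB, finsum_add_distrib f11 f22, finsum_add_distrib f12 f21,
    s11, s22, s12, s21]
  ring

end

end Groth.Agent.H44.KeyRelT6
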