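import Groth.Agent.H44.KeyRelT6b
import Groth.Agent.H37.KeyRelT5Main

/-!
# (T6) for helper34's relative key formula squad (S1922/S1921): closed form, exact statement
-/

set_option autoImplicit false
set_option linter.style.haveILetI false

universe u v

open CategoryTheory AlgebraicGeometry TopologicalSpace Opposite

namespace Groth.Agent.H44.KeyRelT6

open Groth.Agent.H34.Key Groth.Agent.H34.KeyRel

variable {X : Scheme.{u}}

open Classical in
/-- (T6) the key lemma on the closure of `ζ`, for rational functions. -/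
theorem skl_frac_rel (δ : X → ℤ) (hX : Cyc.IsSetup X δ) {ζ x : X} (hx : ζ ⤳ x)
    (hδ : δ x + 2 = δ ζ) (ψ χ : X.residueField ζ) (hψ : ψ ≠ 0) (hχ : χ ≠ 0) :
    ∑ᶠ ξ : X, (if h : ζ ⤳ ξ ∧ ξ ⤳ x ∧ δ x + 1 = δ ξ then
      Cyc.ordAt x ξ h.2.1 (tameRel h.1 ψ χ) else 0) = 0 :=
  skl_frac_rel_of_T5 δ hX hx hδ
    (fun a b ha hb => Groth.Agent.H37.KeyRelT5.skl_elem_rel δ hX hx hδ a b ha hb) ψ χ hψ hχ

end Groth.Agent.H44.KeyRelT6
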