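import Mathlib
import Groth.Agent.H57.FibLF.Defs
import Groth.Agent.H57.NoEmb.BC
import Groth.Agent.H57.FibLocFree
import Groth.Agent.H57.GenFlatSch
import Groth.Agent.H17.KerLocFree
import Groth.Agent.H24.ConsLocus

/-!
# Piece (LF-CHART) of the S4819 squad (helper57)

The fibrewise finite-locally-free locus `LF f F` can be computed on an open cover of the source:
`LF f F = ⋂ i, LF ((W i).ι ≫ f) (F|_{W i})`.

The fibre of `W ⟶ X ⟶ S` over `s` is an open subscheme of the fibre of `f` (`chartMap`), these
open subschemes cover the fibre, and finite local freeness of a coherent module on a locally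
Noetherian scheme is detected on stalks (`H17.KerLocFree`), which do not change under pullback
along an open immersion.
-/

set_option autoImplicit false
set_option linter.style.haveILetI false
universe u
open AlgebraicGeometry CategoryTheory Limits TopologicalSpace
open Groth.Agent.H57.FibLF

namespace Groth.Agent.H44.LF_CHART

section Algebra

open TensorProduct

/-- Freeness descends along a base change by a bijective ring map. -/
theorem free_of_free_tensor {A B : Type u} [CommRing A] [CommRing B] [Algebra A B]
    (hb : Function.Bijective (algebraMap A B)) (M : Type u) [AddCommGroup M] [Module A M]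
    [Module.Free B (B ⊗[A] M)] : Module.Free A M := by
  let e : A ≃+* B := RingEquiv.ofBijective (algebraMap A B) hb
  let L : M ≃ₗ[A] (B ⊗[A] M) := (TensorProduct.lid A M).symm ≪≫ₗ
    TensorProduct.congr (LinearEquiv.ofBijective (Algebra.linearMap A B) hb)
      (LinearEquiv.refl A M)
  letI : RingHomInvPair (e : A →+* B) (e.symm : B →+* A) := RingHomInvPair.of_ringEquiv e
  letI : RingHomInvPair (e.symm : B →+* A) (e : A →+* B) := RingHomInvPair.symm _ _
  let e₂ : (B ⊗[A] M) ≃ₛₗ[(e.symm : B →+* A)] M :=
    { L.symm.toAddEquiv with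
      map_smul' := fun b n => by
        show L.symm (b • n) = e.symm b • L.symm n
        have hb' : b • n = (e.symm b) • n := by
          conv_lhs => rw [← e.apply_symm_apply b]
          show algebraMap A B (e.symm b) • n = _
          rw [algebraMap_smul]
        rw [hb', map_smul] }
  exact Module.Free.of_equiv e₂

end Algebra

variable {X S : Scheme.{u}}

/-- comparison of fibres for an open chart -/
noncomputable def chartMap (f : X ⟶ S) (W : X.Opens) (s : S) :
    (W.ι ≫ f).fiber s ⟶ f.fiber s :=
  pullback.map (W.ι ≫ f) (S.fromSpecResidueField s) f (S.fromSpecResidueField s) W.ι (𝟙 _) (𝟙 _)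
    (by simp) (by simp)

theorem chartMap_fiberι (f : X ⟶ S) (W : X.Opens) (s : S) :
    chartMap f W s ≫ f.fiberι s = (W.ι ≫ f).fiberι s ≫ W.ι :=
  pullback.lift_fst _ _ _

theorem chartMap_snd (f : X ⟶ S) (W : X.Opens) (s : S) :
    chartMap f W s ≫ pullback.snd f (S.fromSpecResidueField s) =
      pullback.snd (W.ι ≫ f) (S.fromSpecResidueField s) :=
  (pullback.lift_snd _ _ _).trans (Category.comp_id _)

theorem isPullback_chartMap (f : X ⟶ S) (W : X.Opens) (s : S) :
    IsPullback (chartMap f W s) ((W.ι ≫ f).fiberι s) (f.fiberι s) W.ι := by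
  have s1 : IsPullback (chartMap f W s ≫ pullback.snd f (S.fromSpecResidueField s))
      ((W.ι ≫ f).fiberι s) (S.fromSpecResidueField s) (W.ι ≫ f) := by
    rw [chartMap_snd]
    exact (IsPullback.of_hasPullback (W.ι ≫ f) (S.fromSpecResidueField s)).flip
  exact IsPullback.of_right s1 (chartMap_fiberι f W s)
    (IsPullback.of_hasPullback f (S.fromSpecResidueField s)).flip

instance (f : X ⟶ S) (W : X.Opens) (s : S) : IsOpenImmersion (chartMap f W s) :=
  MorphismProperty.of_isPullback (P := @IsOpenImmersion) (isPullback_chartMap f W s).flip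
    inferInstance

/-- every point of the fibre of `f` lying over `W` comes from the fibre of `W ⟶ S`. -/
theorem exists_chart_preimage (f : X ⟶ S) (W : X.Opens) (s : S) (z : f.fiber s)
    (hz : f.fiberι s z ∈ W) : ∃ w : (W.ι ≫ f).fiber s, chartMap f W s w = z := by
  obtain ⟨p, hp, -⟩ := Scheme.exists_preimage_of_isPullback (isPullback_chartMap f W s) z
    ⟨f.fiberι s z, hz⟩ rfl
  exact ⟨p, hp⟩

/-- Freeness of the stalk is invariant under pullback along an open immersion. -/
theorem free_stalk_pullback_iff {Z' Z : Scheme.{u}} (Φ : Z' ⟶ Z) [IsOpenImmersion Φ]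
    (G : Z.Modules) [G.IsQuasicoherent] (w : Z') :
    Module.Free (Z'.presheaf.stalk w) (((Scheme.Modules.pullback Φ).obj G).presheaf.stalk w) ↔
      Module.Free (Z.presheaf.stalk (Φ w)) (G.presheaf.stalk (Φ w)) := by
  letI := (Φ.stalkMap w).hom.toAlgebra
  obtain ⟨E⟩ := Groth.Agent.H8.nonempty_stalk_pullback_equiv Φ G w
  have hb : Function.Bijective (algebraMap (Z.presheaf.stalk (Φ w)) (Z'.presheaf.stalk w)) :=
    ConcreteCategory.bijective_of_isIso (Φ.stalkMap w)
  constructor
  · intro h
    haveI : Module.Free (Z'.presheaf.stalk w)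
        (TensorProduct (Z.presheaf.stalk (Φ w)) (Z'.presheaf.stalk w)
          (G.presheaf.stalk (Φ w))) :=
      Module.Free.of_equiv E
    exact free_of_free_tensor hb _
  · intro h
    exact Module.Free.of_equiv E.symm

/-- **(LF-CHART)**: the fibrewise finite-locally-free locus is computed on an open cover of the
source. -/
theorem lf_eq_iInter_of_iSup_eq_top {X S : Scheme.{u}} (f : X ⟶ S) [LocallyOfFiniteType f]
    (F : X.Modules) (hF : Coh.IsCoh F) {ι : Type*} (W : ι → X.Opens) (hW : ⨆ i, W i = ⊤) :
    LF f F = ⋂ i, LF ((W i).ι ≫ f) ((Scheme.Modules.pullback (W i).ι).obj F) := by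
  haveI : F.IsQuasicoherent := hF.1
  haveI : SheafOfModules.IsFiniteType (R := X.ringCatSheaf) F := hF.2
  ext s
  simp only [Set.mem_iInter]
  show FlatMod.IsFinLocFree ((Scheme.Modules.pullback (f.fiberι s)).obj F) ↔
    ∀ i, FlatMod.IsFinLocFree ((Scheme.Modules.pullback (((W i).ι ≫ f).fiberι s)).obj
      ((Scheme.Modules.pullback (W i).ι).obj F))
  haveI hGq : ((Scheme.Modules.pullback (f.fiberι s)).obj F).IsQuasicoherent :=
    Groth.Agent.H8.isQuasicoherent_pullback _ F
  haveI hGf : SheafOfModules.IsFiniteType (R := (f.fiber s).ringCatSheaf)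
      ((Scheme.Modules.pullback (f.fiberι s)).obj F) :=
    Groth.Agent.H8.isFiniteType_pullback _ F
  have hcohG : Coh.IsCoh ((Scheme.Modules.pullback (f.fiberι s)).obj F) := ⟨hGq, hGf⟩
  haveI := Groth.Agent.H57.RelAssBC.isLocallyNoetherian_fiber f s
  have e : ∀ i, (Scheme.Modules.pullback (((W i).ι ≫ f).fiberι s)).obj
      ((Scheme.Modules.pullback (W i).ι).obj F) ≅
        (Scheme.Modules.pullback (chartMap f (W i) s)).obj
          ((Scheme.Modules.pullback (f.fiberι s)).obj F) :=
    fun i => Groth.Agent.H57.pullbackPullbackIso₂ (((W i).ι ≫ f).fiberι s) (W i).ι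
      (chartMap f (W i) s) (f.fiberι s) (chartMap_fiberι f (W i) s).symm F
  constructor
  · intro h i
    haveI := Groth.Agent.H57.RelAssBC.isLocallyNoetherian_fiber ((W i).ι ≫ f) s
    refine Groth.Agent.H8.isFinLocFree_of_iso (e i).symm ?_
    haveI hq : ((Scheme.Modules.pullback (chartMap f (W i) s)).obj
        ((Scheme.Modules.pullback (f.fiberι s)).obj F)).IsQuasicoherent :=
      Groth.Agent.H8.isQuasicoherent_pullback _ _
    haveI hf : SheafOfModules.IsFiniteType (R := ((((W i).ι ≫ f).fiber s)).ringCatSheaf)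
        ((Scheme.Modules.pullback (chartMap f (W i) s)).obj
          ((Scheme.Modules.pullback (f.fiberι s)).obj F)) :=
      Groth.Agent.H8.isFiniteType_pullback _ _
    refine Groth.Agent.H17.KerLocFree.isFinLocFree_of_free_stalks _ ⟨hq, hf⟩ (fun w => ?_)
    exact (free_stalk_pullback_iff (chartMap f (W i) s) _ w).mpr
      (Groth.Agent.H17.KerLocFree.free_stalk_of_isFinLocFree h _)
  · intro h
    refine Groth.Agent.H17.KerLocFree.isFinLocFree_of_free_stalks _ hcohG (fun z => ?_)
    have hz : f.fiberι s z ∈ (⨆ i, W i) := by rw [hW]; trivial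
    obtain ⟨i, hi⟩ := Opens.mem_iSup.mp hz
    obtain ⟨w, rfl⟩ := exists_chart_preimage f (W i) s z hi
    have h' : FlatMod.IsFinLocFree ((Scheme.Modules.pullback (chartMap f (W i) s)).obj
        ((Scheme.Modules.pullback (f.fiberι s)).obj F)) :=
      Groth.Agent.H8.isFinLocFree_of_iso (e i) (h i)
    exact (free_stalk_pullback_iff (chartMap f (W i) s) _ w).mp
      (Groth.Agent.H17.KerLocFree.free_stalk_of_isFinLocFree h' w)

end Groth.Agent.H44.LF_CHART
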