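import Mathlib
import Groth.Agent.H57.FibLFn.Defs
import Groth.Agent.H57.FibLFn.Rank
import Groth.Agent.H57.FibLFn.Iso
import Groth.Agent.H44.LF_CHART

/-!
# Piece (LFn-CHART) of the S4820 squad (helper57): rank-`n` version of `H44.LF_CHART`.

`LFn n f F = ⋂ i, LFn n ((W i).ι ≫ f) (F|_{W i})` for an open cover `W` of the source.
-/

set_option autoImplicit false
set_option linter.style.haveILetI false
universe u
open AlgebraicGeometry CategoryTheory Limits TopologicalSpace
open Groth.Agent.H57.FibLFn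

namespace Groth.Agent.H44.LFn_CHART

open Groth.Agent.H44.LF_CHART

/-- Freeness of rank `n` of the stalk is invariant under pullback along an open immersion. -/
theorem free_finrank_stalk_pullback_iff {Z' Z : Scheme.{u}} (Φ : Z' ⟶ Z) [IsOpenImmersion Φ]
    (G : Z.Modules) [G.IsQuasicoherent] (w : Z') (n : ℕ) :
    (Module.Free (Z'.presheaf.stalk w) (((Scheme.Modules.pullback Φ).obj G).presheaf.stalk w) ∧
      Module.finrank (Z'.presheaf.stalk w)
        (((Scheme.Modules.pullback Φ).obj G).presheaf.stalk w) = n) ↔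
    (Module.Free (Z.presheaf.stalk (Φ w)) (G.presheaf.stalk (Φ w)) ∧
      Module.finrank (Z.presheaf.stalk (Φ w)) (G.presheaf.stalk (Φ w)) = n) := by
  letI := (Φ.stalkMap w).hom.toAlgebra
  obtain ⟨E⟩ := Groth.Agent.H8.nonempty_stalk_pullback_equiv Φ G w
  have key : Module.Free (Z.presheaf.stalk (Φ w)) (G.presheaf.stalk (Φ w)) →
      Module.finrank (Z'.presheaf.stalk w)
          (((Scheme.Modules.pullback Φ).obj G).presheaf.stalk w) =
        Module.finrank (Z.presheaf.stalk (Φ w)) (G.presheaf.stalk (Φ w)) := by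
    intro h
    haveI := h
    rw [E.finrank_eq, Module.finrank_baseChange]
  constructor
  · rintro ⟨h1, h2⟩
    have hfree := (free_stalk_pullback_iff Φ G w).mp h1
    exact ⟨hfree, (key hfree).symm.trans h2⟩
  · rintro ⟨h1, h2⟩
    exact ⟨(free_stalk_pullback_iff Φ G w).mpr h1, (key h1).trans h2⟩

/-- **(LFn-CHART)** -/
theorem lfn_eq_iInter_of_iSup_eq_top (n : ℕ) {X S : Scheme.{u}} (f : X ⟶ S)
    [LocallyOfFiniteType f] (F : X.Modules) (hF : Coh.IsCoh F) {ι : Type*} (W : ι → X.Opens)
    (hW : ⨆ i, W i = ⊤) :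
    LFn n f F = ⋂ i, LFn n ((W i).ι ≫ f) ((Scheme.Modules.pullback (W i).ι).obj F) := by
  haveI : F.IsQuasicoherent := hF.1
  haveI : SheafOfModules.IsFiniteType (R := X.ringCatSheaf) F := hF.2
  ext s
  simp only [Set.mem_iInter]
  show FlatMod.IsFinLocFreeOfRank n ((Scheme.Modules.pullback (f.fiberι s)).obj F) ↔
    ∀ i, FlatMod.IsFinLocFreeOfRank n ((Scheme.Modules.pullback (((W i).ι ≫ f).fiberι s)).obj
      ((Scheme.Modules.pullback (W i).ι).obj F))
  haveI hGq : ((Scheme.Modules.pullback (f.fiberι s)).obj F).IsQuasicoherent :=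
    Groth.Agent.H8.isQuasicoherent_pullback _ F
  haveI hGf : SheafOfModules.IsFiniteType (R := (f.fiber s).ringCatSheaf)
      ((Scheme.Modules.pullback (f.fiberι s)).obj F) :=
    Groth.Agent.H8.isFiniteType_pullback _ F
  have hcohG : Coh.IsCoh ((Scheme.Modules.pullback (f.fiberι s)).obj F) := ⟨hGq, hGf⟩
  haveI := Groth.Agent.H57.RelAssBC.isLocallyNoetherian_fiber f s
  have e : ∀ i, (Scheme.Modules.pullback (((W i).ι ≫ f).fiberι s)).obj
      ((Scheme.Modules.pullback (W i).ι).obj F) ≅
        (Scheme.Modules.pullback (chartMap f (W i) s)).obj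
          ((Scheme.Modules.pullback (f.fiberι s)).obj F) :=
    fun i => Groth.Agent.H57.pullbackPullbackIso₂ (((W i).ι ≫ f).fiberι s) (W i).ι
      (chartMap f (W i) s) (f.fiberι s) (chartMap_fiberι f (W i) s).symm F
  constructor
  · intro h i
    haveI := Groth.Agent.H57.RelAssBC.isLocallyNoetherian_fiber ((W i).ι ≫ f) s
    refine Groth.Agent.H57.FibLFn.Iso.isFinLocFreeOfRank_of_iso n (e i).symm ?_
    haveI hq : ((Scheme.Modules.pullback (chartMap f (W i) s)).obj
        ((Scheme.Modules.pullback (f.fiberι s)).obj F)).IsQuasicoherent :=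
      Groth.Agent.H8.isQuasicoherent_pullback _ _
    haveI hf : SheafOfModules.IsFiniteType (R := ((((W i).ι ≫ f).fiber s)).ringCatSheaf)
        ((Scheme.Modules.pullback (chartMap f (W i) s)).obj
          ((Scheme.Modules.pullback (f.fiberι s)).obj F)) :=
      Groth.Agent.H8.isFiniteType_pullback _ _
    refine (Groth.Agent.H57.FibLFn.Rank.isFinLocFreeOfRank_iff_stalks n _ ⟨hq, hf⟩).mpr
      (fun w => ?_)
    exact (free_finrank_stalk_pullback_iff (chartMap f (W i) s) _ w n).mpr
      ((Groth.Agent.H57.FibLFn.Rank.isFinLocFreeOfRank_iff_stalks n _ hcohG).mp h _)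
  · intro h
    refine (Groth.Agent.H57.FibLFn.Rank.isFinLocFreeOfRank_iff_stalks n _ hcohG).mpr
      (fun z => ?_)
    have hz : f.fiberι s z ∈ (⨆ i, W i) := by rw [hW]; trivial
    obtain ⟨i, hi⟩ := Opens.mem_iSup.mp hz
    obtain ⟨w, rfl⟩ := exists_chart_preimage f (W i) s z hi
    haveI := Groth.Agent.H57.RelAssBC.isLocallyNoetherian_fiber ((W i).ι ≫ f) s
    haveI hq : ((Scheme.Modules.pullback (chartMap f (W i) s)).obj
        ((Scheme.Modules.pullback (f.fiberι s)).obj F)).IsQuasicoherent :=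
      Groth.Agent.H8.isQuasicoherent_pullback _ _
    haveI hf : SheafOfModules.IsFiniteType (R := ((((W i).ι ≫ f).fiber s)).ringCatSheaf)
        ((Scheme.Modules.pullback (chartMap f (W i) s)).obj
          ((Scheme.Modules.pullback (f.fiberι s)).obj F)) :=
      Groth.Agent.H8.isFiniteType_pullback _ _
    have h' : FlatMod.IsFinLocFreeOfRank n ((Scheme.Modules.pullback (chartMap f (W i) s)).obj
        ((Scheme.Modules.pullback (f.fiberι s)).obj F)) :=
      Groth.Agent.H57.FibLFn.Iso.isFinLocFreeOfRank_of_iso n (e i) (h i)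
    exact (free_finrank_stalk_pullback_iff (chartMap f (W i) s) _ w n).mp
      ((Groth.Agent.H57.FibLFn.Rank.isFinLocFreeOfRank_iff_stalks n _ ⟨hq, hf⟩).mp h' w)

end Groth.Agent.H44.LFn_CHART
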