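import Mathlib
import Groth.Prelude.Def_LinSer
import Groth.Prelude.Def_Curve
import Groth.Prelude.Def_CurvBase
import Groth.Prelude.Def_Coh
import Groth.Agent.S1556

/-!
# Piece (DVR) of the S14471 squad (helper7)

The local ring of a smooth proper curve over an algebraically closed field at a closed point is
a discrete valuation ring (from S1556 + the residue field of a closed point is the base field).
-/

set_option autoImplicit false
set_option linter.style.haveILetI false
universe u
open CategoryTheory AlgebraicGeometry Opposite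

namespace Groth.Agent.H44.LSO_DVR

/-- The structure map `k → κ(x)` of the Prelude is the one induced on `Spec` by
`Spec κ(x) ⟶ X ⟶ Spec k`. -/
theorem SpecMap_resMap (k : Type u) [Field k] (X : Scheme.{u}) [X.Over (Spec (CommRingCat.of k))]
    (x : X) :
    Spec.map (CommRingCat.ofHom (Curv2.resMap k X x)) =
      X.fromSpecResidueField x ≫ (X ↘ Spec (CommRingCat.of k)) := by
  have hφ : CommRingCat.ofHom (Curv2.resMap k X x) =
      (Scheme.ΓSpecIso (CommRingCat.of k)).inv ≫ (X ↘ Spec (CommRingCat.of k)).appTop ≫
        X.presheaf.germ ⊤ x trivial ≫ X.residue x := rfl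
  apply ext_of_isAffine
  rw [← cancel_mono (Scheme.ΓSpecIso (X.residueField x)).hom, Scheme.ΓSpecIso_naturality, hφ]
  rw [Scheme.Hom.comp_appTop, Scheme.fromSpecResidueField, Scheme.Hom.comp_appTop,
    Scheme.fromSpecStalk_appTop]
  simp only [Category.assoc, Iso.hom_inv_id_assoc]
  congr 2
  rw [Scheme.ΓSpecIso_naturality]
  simp

/-- Over an algebraically closed field, the residue field of a closed point of a scheme locally of
finite type is the base field. -/
theorem bijective_resMap (k : Type u) [Field k] [IsAlgClosed k] (X : Scheme.{u})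
    [X.Over (Spec (CommRingCat.of k))] [LocallyOfFiniteType (X ↘ Spec (CommRingCat.of k))]
    (x : X) (hx : IsClosed ({x} : Set X)) : Function.Bijective (Curv2.resMap k X x) := by
  have h1 : CommRingCat.ofHom (Curv2.resMap k X x) =
      (residueFieldIsoBase (X ↘ Spec (CommRingCat.of k)) x hx).inv := by
    rw [← Spec.map_inj, SpecMap_resMap, SpecMap_residueFieldIsoBase_inv]
  have h2 : IsIso (CommRingCat.ofHom (Curv2.resMap k X x)) := by
    rw [h1]; infer_instance
  exact ConcreteCategory.bijective_of_isIso (CommRingCat.ofHom (Curv2.resMap k X x))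

attribute [local instance] Curv2.resAlgebra in
theorem isSeparable_residueField (k : Type u) [Field k] [IsAlgClosed k] (X : Scheme.{u})
    [X.Over (Spec (CommRingCat.of k))] [LocallyOfFiniteType (X ↘ Spec (CommRingCat.of k))]
    (x : X) (hx : IsClosed ({x} : Set X)) : Algebra.IsSeparable k (X.residueField x) := by
  let e₂ : k ≃+* X.residueField x := RingEquiv.ofBijective (Curv2.resMap k X x)
    (bijective_resMap k X x hx)
  exact Algebra.IsSeparable.of_equiv_equiv (A₁ := k) (B₁ := k) (RingEquiv.refl k) e₂ (by
    ext a
    rfl)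

attribute [local instance] Curv2.resAlgebra in
/-- **(DVR)** -/
theorem isDVR_stalk (k : Type u) [Field k] [IsAlgClosed k] (C : Scheme.{u})
    [C.Over (Spec (CommRingCat.of k))]
    (hC : Curve.IsSmoothProperCurve k C (C ↘ (Spec (CommRingCat.of k)))) (p : C)
    (hp : IsClosed ({p} : Set C)) :
    ∃ _ : IsDomain ↑(C.presheaf.stalk p), IsDiscreteValuationRing ↑(C.presheaf.stalk p) := by
  obtain ⟨hprop, hsm, hint, hdim⟩ := hC
  haveI := hprop
  haveI := hsm
  haveI := hint
  haveI : Algebra.IsSeparable k (C.residueField p) := isSeparable_residueField k C p hp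
  have hmem : p ∈ (C ↘ Spec (CommRingCat.of k)).smoothLocus := by
    rw [(Scheme.Hom.smoothLocus_eq_top_iff (f := C ↘ Spec (CommRingCat.of k))).mpr hsm]
    trivial
  exact ⟨inferInstance, (Groth.Agent.S1556.result k C hdim p hp).mpr hmem⟩

end Groth.Agent.H44.LSO_DVR
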