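import Mathlib
import Groth.Prelude.Def_LinSer
import Groth.Prelude.Def_Curve
import Groth.Prelude.Def_CurvBase
import Groth.Prelude.Def_Coh
import Groth.Agent.H44.LSO_DVR

/-!
# Piece (RES) of the S14471 squad (helper7)

The residue field at a closed point of a smooth proper curve over an algebraically closed field is
the base field.
-/

set_option autoImplicit false
set_option linter.style.haveILetI false
universe u
open CategoryTheory AlgebraicGeometry Opposite

namespace Groth.Agent.H44.LSO_RES

/-- **(RES)** -/
theorem bijective_residue_toGlobal (k : Type u) [Field k] [IsAlgClosed k] (C : Scheme.{u})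
    [C.Over (Spec (CommRingCat.of k))]
    (hC : Curve.IsSmoothProperCurve k C (C ↘ (Spec (CommRingCat.of k)))) (p : C)
    (hp : IsClosed ({p} : Set C)) :
    Function.Bijective ((IsLocalRing.residue ↑(C.presheaf.stalk p)).comp
      ((C.presheaf.germ ⊤ p trivial).hom.comp (Coh.toGlobal (C ↘ Spec (CommRingCat.of k))))) := by
  obtain ⟨hprop, hsm, hint, hdim⟩ := hC
  haveI := hprop
  haveI := hsm
  exact Groth.Agent.H44.LSO_DVR.bijective_resMap k C p hp

end Groth.Agent.H44.LSO_RES
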