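import Groth.Agent.H44.PBasisDescent
import Groth.Agent.H44.PBasisDer
import Mathlib.RingTheory.Nilpotent.GeometricallyReduced
import Mathlib.LinearAlgebra.Dual.Lemmas
import Mathlib.RingTheory.Kaehler.Basic
import Mathlib.RingTheory.Flat.Basic
import Mathlib.FieldTheory.IsAlgClosed.AlgebraicClosure

/-!
# MacLane's criterion in characteristic `p`, via `p`-bases

For a field extension `K/k` of characteristic `p`:
geometrically reduced ⇒ an absolute `p`-basis of `k` stays `p`-independent in `K`
⇒ `k`-linearly independent families of `K` have linearly independent `p`-th powers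
⇒ geometrically reduced; and the middle condition is equivalent to the extension property for
derivations `k → K`, which is dual to the injectivity of `K ⊗ Ω[k⁄ℤ] → Ω[K⁄ℤ]`.
-/

set_option autoImplicit false

universe u v

open TensorProduct

namespace Groth.Agent.H44.MacLane

open Groth.Agent.H44.PBasis

section coeff

variable (p : ℕ) [Fact p.Prime] (K : Type*) [Field K] [CharP K p]

/-- the subring of `p`-th powers -/
abbrev Cp : Subring K := (frobenius K p).range

theorem hC_Cp : ∀ b : K, b ^ p ∈ Set.range (algebraMap (Cp p K) K) :=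
  fun b => ⟨⟨b ^ p, ⟨b, rfl⟩⟩, rfl⟩

theorem algebraMap_Cp_injective : Function.Injective (algebraMap (Cp p K) K) :=
  Subtype.val_injective

theorem exists_pow_eq (c : Cp p K) : ∃ b : K, b ^ p = (c : K) := c.2

theorem exists_absPBasis :
    ∃ T : Set K, LinearIndependent (Cp p K) (redMono p (fun t : T => (t : K))) ∧
      Submodule.span (Cp p K) (Set.range (redMono p (fun t : T => (t : K)))) = ⊤ := by
  have hp : p.Prime := Fact.out
  obtain ⟨T, -, -, hTind, hTgen⟩ := exists_maximal_redSet p (id : K → K) (hC_Cp p K)
    (Set.subset_univ (∅ : Set K))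
    (linearIndepOn_redSet_empty p id hp.pos (algebraMap_Cp_injective p K))
  refine ⟨T, ?_, ?_⟩
  · exact (linearIndependent_redMono_comp_iff p (C := Cp p K) id hp.pos
      (Subtype.val : T → K) Subtype.val_injective).mpr (by rwa [Subtype.range_val])
  · have h1 := range_redMono_comp p (id : K → K) hp.pos (Subtype.val : T → K)
      Subtype.val_injective
    have h2 := adjoin_image_toSubmodule_eq_span p (id : K → K) hp.pos (hC_Cp p K) T
    rw [Subtype.range_val] at h1
    show Submodule.span (Cp p K)
      (Set.range (redMono p ((id : K → K) ∘ (Subtype.val : T → K)))) = ⊤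
    rw [h1, ← h2, Algebra.toSubmodule_eq_top, Algebra.eq_top_iff]
    exact fun b => hTgen b (Set.mem_univ _)

end coeff

section AD

variable (p : ℕ) [Fact p.Prime] {k : Type v} {K : Type u} [Field k] [Field K] [Algebra k K] [CharP k p]
  [CharP K p]

theorem linearIndependent_map_of_isGeometricallyReduced [Algebra.IsGeometricallyReduced k K]
    {E : Type*} (m : E → k) (hm : LinearIndependent (Cp p k) m) :
    LinearIndependent (Cp p K) (fun e => algebraMap k K (m e)) := by
  classical
  have hp : p.Prime := Fact.out
  have hred : IsReduced (K ⊗[k] AlgebraicClosure k) := by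
    have h1 : IsReduced (AlgebraicClosure k ⊗[k] K) :=
      (Algebra.isGeometricallyReduced_field_iff k K).mp inferInstance
    exact isReduced_of_injective (Algebra.TensorProduct.comm k K (AlgebraicClosure k))
      (Algebra.TensorProduct.comm k K (AlgebraicClosure k)).injective
  have : CharP (AlgebraicClosure k) p :=
    charP_of_injective_algebraMap (algebraMap k (AlgebraicClosure k)).injective p
  have hinjK : Function.Injective (algebraMap K (K ⊗[k] AlgebraicClosure k)) :=
    Algebra.TensorProduct.includeLeft_injective (S := K)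
      (algebraMap k (AlgebraicClosure k)).injective
  have : CharP (K ⊗[k] AlgebraicClosure k) p := charP_of_injective_algebraMap hinjK p
  rw [linearIndependent_iff']
  intro t g hg e₀ he₀
  choose κ hκ using fun e => exists_pow_eq p K (g e)
  choose μ hμ using fun e =>
    IsAlgClosed.exists_pow_nat_eq (algebraMap k (AlgebraicClosure k) (m e)) hp.pos
  have hμli : LinearIndependent k μ := by
    rw [linearIndependent_iff']
    intro t' c hc e he
    have h1 : ∑ e ∈ t', c e ^ p * m e = 0 := by
      apply (algebraMap k (AlgebraicClosure k)).injective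
      rw [map_zero, map_sum]
      calc ∑ e ∈ t', algebraMap k (AlgebraicClosure k) (c e ^ p * m e)
          = ∑ e ∈ t', (c e • μ e) ^ p := Finset.sum_congr rfl fun e _ => by
            rw [map_mul, map_pow, ← hμ, ← mul_pow, Algebra.smul_def]
        _ = (∑ e ∈ t', c e • μ e) ^ p := (sum_pow_char p t' _).symm
        _ = 0 := by rw [hc, zero_pow hp.ne_zero]
    have h3 := (linearIndependent_iff'.mp hm) t' (fun e => ⟨c e ^ p, ⟨c e, rfl⟩⟩)
      (by simpa [Subring.smul_def] using h1) e he
    have h4 : c e ^ p = 0 := congrArg Subtype.val h3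
    exact (pow_eq_zero_iff hp.ne_zero).mp h4
  have hθ : (∑ e ∈ t, κ e ⊗ₜ[k] μ e : K ⊗[k] AlgebraicClosure k) ^ p = 0 := by
    rw [sum_pow_char]
    have h1 : ∀ e ∈ t, (κ e ⊗ₜ[k] μ e : K ⊗[k] AlgebraicClosure k) ^ p =
        (g e • algebraMap k K (m e)) ⊗ₜ[k] (1 : AlgebraicClosure k) := by
      intro e _
      rw [Algebra.TensorProduct.tmul_pow, hκ, hμ, Algebra.algebraMap_eq_smul_one,
        ← TensorProduct.smul_tmul, Subring.smul_def, smul_eq_mul, Algebra.smul_def, mul_comm]
    rw [Finset.sum_congr rfl h1, ← TensorProduct.sum_tmul, hg, TensorProduct.zero_tmul]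
  have hθ0 : (∑ e ∈ t, κ e ⊗ₜ[k] μ e : K ⊗[k] AlgebraicClosure k) = 0 :=
    IsReduced.eq_zero _ ⟨p, hθ⟩
  have hli := Module.Flat.linearIndependent_one_tmul (S := K) hμli
  rw [linearIndependent_iff'] at hli
  have h2 : ∑ e ∈ t, κ e • ((1 : K) ⊗ₜ[k] μ e) = 0 := by
    rw [← hθ0]
    refine Finset.sum_congr rfl fun e _ => ?_
    rw [TensorProduct.smul_tmul', smul_eq_mul, mul_one]
  have h3 := hli t κ h2 e₀ he₀
  apply Subtype.ext
  show (g e₀ : K) = 0
  rw [← hκ, h3, zero_pow hp.ne_zero]

theorem powLI_of_linearIndependent_map {E : Type*} (m : E → k)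
    (hmsp : Submodule.span (Cp p k) (Set.range m) = ⊤)
    (hD : LinearIndependent (Cp p K) (fun e => algebraMap k K (m e))) {ι : Type*} (s : ι → K)
    (hs : LinearIndependent k s) : LinearIndependent k (fun i => s i ^ p) := by
  classical
  have hp : p.Prime := Fact.out
  rw [linearIndependent_iff'] at hs hD ⊢
  intro t c hc i₀ hi₀
  have hex : ∀ i, ∃ l : E →₀ Cp p k, (l.sum fun e a => a • m e) = c i := fun i =>
    Finsupp.mem_span_range_iff_exists_finsupp.mp (by rw [hmsp]; trivial)
  choose l hl using hex
  choose a ha using fun i e => exists_pow_eq p k (l i e)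
  let U : Finset E := t.biUnion fun i => (l i).support
  have hci : ∀ i ∈ t, c i = ∑ e ∈ U, a i e ^ p * m e := by
    intro i hi
    rw [← hl i, Finsupp.sum_of_support_subset (l i)
      (Finset.subset_biUnion_of_mem (fun i => (l i).support) hi) (fun e a => a • m e)
      (fun e _ => zero_smul _ _)]
    refine Finset.sum_congr rfl fun e _ => ?_
    rw [Subring.smul_def, smul_eq_mul, ha]
  have hsum : ∑ e ∈ U, (⟨(∑ i ∈ t, algebraMap k K (a i e) * s i) ^ p, ⟨_, rfl⟩⟩ : Cp p K) •
      algebraMap k K (m e) = 0 := by
    rw [← hc]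
    calc ∑ e ∈ U, (⟨(∑ i ∈ t, algebraMap k K (a i e) * s i) ^ p, ⟨_, rfl⟩⟩ : Cp p K) •
          algebraMap k K (m e)
        = ∑ e ∈ U, ∑ i ∈ t, (algebraMap k K (a i e) ^ p * s i ^ p) * algebraMap k K (m e) := by
          refine Finset.sum_congr rfl fun e _ => ?_
          rw [Subring.smul_def, smul_eq_mul]
          show (∑ i ∈ t, algebraMap k K (a i e) * s i) ^ p * algebraMap k K (m e) = _
          rw [sum_pow_char, Finset.sum_mul]
          refine Finset.sum_congr rfl fun i _ => ?_
          rw [mul_pow]
      _ = ∑ i ∈ t, ∑ e ∈ U, (algebraMap k K (a i e) ^ p * s i ^ p) * algebraMap k K (m e) :=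
          Finset.sum_comm
      _ = ∑ i ∈ t, c i • s i ^ p := by
          refine Finset.sum_congr rfl fun i hi => ?_
          rw [hci i hi, Algebra.smul_def, map_sum, Finset.sum_mul]
          refine Finset.sum_congr rfl fun e _ => ?_
          rw [map_mul, map_pow]
          ring
  have h1 := hD U _ hsum
  have h2 : ∀ e ∈ U, ∀ i ∈ t, a i e = 0 := by
    intro e he
    have h3 : (∑ i ∈ t, algebraMap k K (a i e) * s i) ^ p = 0 := congrArg Subtype.val (h1 e he)
    have h4 : ∑ i ∈ t, a i e • s i = 0 := by
      have h5 := (pow_eq_zero_iff hp.ne_zero).mp h3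
      rw [← h5]
      exact Finset.sum_congr rfl fun i _ => Algebra.smul_def _ _
    exact hs t (fun i => a i e) h4
  rw [hci i₀ hi₀]
  exact Finset.sum_eq_zero fun e he => by rw [h2 e he i₀ hi₀, zero_pow hp.ne_zero, zero_mul]

theorem isGeometricallyReduced_of_powLI
    (h : ∀ (ι : Type u) (s : ι → K), LinearIndependent k s →
      LinearIndependent k (fun i => s i ^ p)) : Algebra.IsGeometricallyReduced k K := by
  classical
  have hp : p.Prime := Fact.out
  rw [Algebra.isGeometricallyReduced_field_iff, isReduced_iff_pow_one_lt p hp.one_lt]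
  have : CharP (AlgebraicClosure k) p :=
    charP_of_injective_algebraMap (algebraMap k (AlgebraicClosure k)).injective p
  have hinjK : Function.Injective (algebraMap (AlgebraicClosure k) (AlgebraicClosure k ⊗[k] K)) :=
    Algebra.TensorProduct.includeLeft_injective (S := AlgebraicClosure k)
      (algebraMap k K).injective
  have : CharP (AlgebraicClosure k ⊗[k] K) p := charP_of_injective_algebraMap hinjK p
  intro θ hθ
  let b := Module.Basis.ofVectorSpace k K
  have hθ' : θ = ∑ i ∈ ((b.baseChange (AlgebraicClosure k)).repr θ).support,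
      ((b.baseChange (AlgebraicClosure k)).repr θ i) ⊗ₜ[k] b i := by
    conv_lhs => rw [← (b.baseChange (AlgebraicClosure k)).linearCombination_repr θ,
      Finsupp.linearCombination_apply, Finsupp.sum]
    refine Finset.sum_congr rfl fun i _ => ?_
    rw [Module.Basis.baseChange_apply, TensorProduct.smul_tmul', smul_eq_mul, mul_one]
  have hpow := h _ b b.linearIndependent
  have hli := Module.Flat.linearIndependent_one_tmul (S := AlgebraicClosure k) hpow
  rw [linearIndependent_iff'] at hli
  have hθp : (∑ i ∈ ((b.baseChange (AlgebraicClosure k)).repr θ).support,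
      ((b.baseChange (AlgebraicClosure k)).repr θ i) ⊗ₜ[k] b i) ^ p = 0 := by
    rw [← hθ', hθ]
  rw [sum_pow_char] at hθp
  have h1 : ∑ i ∈ ((b.baseChange (AlgebraicClosure k)).repr θ).support,
      ((b.baseChange (AlgebraicClosure k)).repr θ i) ^ p •
        ((1 : AlgebraicClosure k) ⊗ₜ[k] (b i ^ p)) = 0 := by
    rw [← hθp]
    refine Finset.sum_congr rfl fun i _ => ?_
    rw [Algebra.TensorProduct.tmul_pow, TensorProduct.smul_tmul', smul_eq_mul, mul_one]
  have h2 := hli _ (fun i => ((b.baseChange (AlgebraicClosure k)).repr θ i) ^ p) h1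
  have h3 : (b.baseChange (AlgebraicClosure k)).repr θ = 0 := by
    ext i
    by_cases hi : i ∈ ((b.baseChange (AlgebraicClosure k)).repr θ).support
    · exact (pow_eq_zero_iff hp.ne_zero).mp (h2 i hi)
    · exact Finsupp.notMem_support_iff.mp hi
  exact (b.baseChange (AlgebraicClosure k)).repr.map_eq_zero_iff.mp h3

end AD

section dual

variable {k : Type v} {K : Type u} [Field k] [Field K] [Algebra k K]

/-- Injectivity of `K ⊗ Ω[k⁄ℤ] → Ω[K⁄ℤ]` is dual to the extension property for derivations. -/
theorem injective_mapBaseChange_iff_forall_exists_derivation :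
    Function.Injective (KaehlerDifferential.mapBaseChange ℤ k K) ↔
      ∀ D : Derivation ℤ k K, ∃ D' : Derivation ℤ K K, ∀ a : k, D' (algebraMap k K a) = D a := by
  rw [← LinearMap.dualMap_surjective_iff]
  constructor
  · intro hsurj D
    obtain ⟨ψ, hψ⟩ := hsurj (LinearMap.liftBaseChange K D.liftKaehlerDifferential)
    refine ⟨ψ.compDer (KaehlerDifferential.D ℤ K), fun a => ?_⟩
    have h1 := LinearMap.congr_fun hψ ((1 : K) ⊗ₜ[k] KaehlerDifferential.D ℤ k a)
    rw [LinearMap.dualMap_apply, KaehlerDifferential.mapBaseChange_tmul, one_smul,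
      KaehlerDifferential.map_D, LinearMap.liftBaseChange_tmul, one_smul,
      Derivation.liftKaehlerDifferential_comp_D] at h1
    exact h1
  · intro hext χ
    let φ : Ω[k⁄ℤ] →ₗ[k] K := (χ.restrictScalars k).comp (TensorProduct.mk k K (Ω[k⁄ℤ]) 1)
    obtain ⟨D', hD'⟩ := hext (φ.compDer (KaehlerDifferential.D ℤ k))
    refine ⟨D'.liftKaehlerDifferential, ?_⟩
    have key : ∀ ω : Ω[k⁄ℤ],
        D'.liftKaehlerDifferential (KaehlerDifferential.map ℤ ℤ k K ω) = φ ω := by
      intro ω
      have hω : ω ∈ Submodule.span k (Set.range (KaehlerDifferential.D ℤ k)) := by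
        rw [KaehlerDifferential.span_range_derivation]
        trivial
      induction hω using Submodule.span_induction with
      | mem z hz =>
        obtain ⟨a, rfl⟩ := hz
        rw [KaehlerDifferential.map_D, Derivation.liftKaehlerDifferential_comp_D, hD']
        rfl
      | zero => rw [map_zero, map_zero, map_zero]
      | add y z _ _ hy hz => rw [map_add, map_add, map_add, hy, hz]
      | smul r y _ hy =>
        rw [map_smul, LinearMap.map_smul_of_tower, hy, map_smul]
    apply LinearMap.ext
    intro ξ
    rw [LinearMap.dualMap_apply]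
    induction ξ using TensorProduct.induction_on with
    | zero => rw [map_zero, map_zero, map_zero]
    | tmul c ω =>
      rw [KaehlerDifferential.mapBaseChange_tmul, map_smul, key]
      have h1 : c ⊗ₜ[k] ω = c • ((1 : K) ⊗ₜ[k] ω) := by
        rw [TensorProduct.smul_tmul', smul_eq_mul, mul_one]
      rw [h1, map_smul]
      rfl
    | add y z hy hz => rw [map_add, map_add, map_add, hy, hz]

end dual

section DExt

variable (p : ℕ) [Fact p.Prime] {k : Type v} {K : Type u} [Field k] [Field K] [Algebra k K] [CharP k p]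
  [CharP K p]

theorem exists_derivation_extension_of_linearIndependent (T : Set k)
    (hli : LinearIndependent (Cp p k) (redMono p (fun t : T => (t : k))))
    (hsp : Submodule.span (Cp p k) (Set.range (redMono p (fun t : T => (t : k)))) = ⊤)
    (hD : LinearIndependent (Cp p K) (redMono p (fun t : T => algebraMap k K (t : k))))
    (D : Derivation ℤ k K) :
    ∃ D' : Derivation ℤ K K, ∀ a : k, D' (algebraMap k K a) = D a := by
  classical
  have hp : p.Prime := Fact.out
  let z : T ⊕ K → K := Sum.elim (fun t => algebraMap k K (t : k)) id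
  have h0 : LinearIndepOn (Cp p K) (mono z) (redSet p (Set.range (Sum.inl : T → T ⊕ K))) :=
    (linearIndependent_redMono_comp_iff p z hp.pos Sum.inl Sum.inl_injective).mp hD
  obtain ⟨T', hT0, -, hT'ind, hT'gen⟩ :=
    exists_maximal_redSet p z (hC_Cp p K) (Set.subset_univ _) h0
  let w : T' → K := fun t' => z t'
  have hwli : LinearIndependent (Cp p K) (redMono p w) :=
    (linearIndependent_redMono_comp_iff p z hp.pos (Subtype.val : T' → T ⊕ K)
      Subtype.val_injective).mpr (by rwa [Subtype.range_val])
  have hwsp : Submodule.span (Cp p K) (Set.range (redMono p w)) = ⊤ := by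
    have h1 := range_redMono_comp p z hp.pos (Subtype.val : T' → T ⊕ K) Subtype.val_injective
    have h2 := adjoin_image_toSubmodule_eq_span p z hp.pos (hC_Cp p K) T'
    rw [Subtype.range_val] at h1
    show Submodule.span (Cp p K)
      (Set.range (redMono p (z ∘ (Subtype.val : T' → T ⊕ K)))) = ⊤
    rw [h1, ← h2, Algebra.toSubmodule_eq_top, Algebra.eq_top_iff]
    exact fun b => hT'gen (Sum.inr b) (Set.mem_univ _)
  let y : T' → K := fun t' => Sum.elim (fun t : T => D (t : k)) (fun _ => 0) (t' : T ⊕ K)
  obtain ⟨D', ⟨hD'0, hD'w⟩, -⟩ := existsUnique_derivation hp.pos (CharP.cast_eq_zero K p) w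
    (fun t' => ⟨w t' ^ p, ⟨w t', rfl⟩⟩) (fun _ => rfl) hwli hwsp (0 : Cp p K →+ K)
    (by simp) (by simp) y
  refine ⟨D', ?_⟩
  obtain ⟨D₀, -, hD₀u⟩ := existsUnique_derivation (L := K) hp.pos (CharP.cast_eq_zero k p)
    (fun t : T => (t : k)) (fun t => ⟨(t : k) ^ p, ⟨(t : k), rfl⟩⟩) (fun _ => rfl) hli hsp
    (0 : Cp p k →+ K) (by simp) (by simp) (fun t => D (t : k))
  have e1 : D = D₀ := hD₀u D ⟨fun c => by
    obtain ⟨b, hb⟩ := exists_pow_eq p k c
    show D (c : k) = 0
    rw [← hb, Derivation.leibniz_pow, ← Nat.cast_smul_eq_nsmul k, CharP.cast_eq_zero k p,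
      zero_smul], fun t => rfl⟩
  have e2 : D'.compAlgebraMap k = D₀ := hD₀u _ ⟨fun c => by
    obtain ⟨b, hb⟩ := exists_pow_eq p k c
    show D' (algebraMap k K (c : k)) = 0
    rw [← hb, map_pow, Derivation.leibniz_pow, ← Nat.cast_smul_eq_nsmul K,
      CharP.cast_eq_zero K p, zero_smul], fun t =>
    hD'w ⟨Sum.inl t, hT0 ⟨t, rfl⟩⟩⟩
  intro a
  exact Derivation.congr_fun (e2.trans e1.symm) a

theorem linearIndependent_of_forall_exists_derivation (T : Set k)
    (hli : LinearIndependent (Cp p k) (redMono p (fun t : T => (t : k))))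
    (hsp : Submodule.span (Cp p k) (Set.range (redMono p (fun t : T => (t : k)))) = ⊤)
    (hext : ∀ D : Derivation ℤ k K, ∃ D' : Derivation ℤ K K,
      ∀ a : k, D' (algebraMap k K a) = D a) :
    LinearIndependent (Cp p K) (redMono p (fun t : T => algebraMap k K (t : k))) := by
  classical
  have hp : p.Prime := Fact.out
  let x' : T → K := fun t => algebraMap k K (t : k)
  obtain ⟨T₁, -, -, hT₁ind, hT₁gen⟩ := exists_maximal_redSet p x' (hC_Cp p K)
    (Set.subset_univ (∅ : Set T))
    (linearIndepOn_redSet_empty p x' hp.pos (algebraMap_Cp_injective p K))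
  have hT₁ : T₁ = Set.univ := by
    rw [Set.eq_univ_iff_forall]
    intro a
    by_contra haT
    obtain ⟨D, ⟨-, hDx⟩, -⟩ := existsUnique_derivation (L := K) hp.pos (CharP.cast_eq_zero k p)
      (fun t : T => (t : k)) (fun t => ⟨(t : k) ^ p, ⟨(t : k), rfl⟩⟩) (fun _ => rfl) hli hsp
      (0 : Cp p k →+ K) (by simp) (by simp) (fun t => if t = a then 1 else 0)
    obtain ⟨D', hD'⟩ := hext D
    have hkill : ∀ b ∈ Algebra.adjoin (Cp p K) (x' '' T₁), D' b = 0 := by
      intro b hb
      induction hb using Algebra.adjoin_induction with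
      | mem y hy =>
        obtain ⟨t, ht, rfl⟩ := hy
        show D' (algebraMap k K (t : k)) = 0
        rw [hD', hDx, if_neg]
        rintro rfl
        exact haT ht
      | algebraMap c =>
        obtain ⟨b', hb'⟩ := exists_pow_eq p K c
        show D' (c : K) = 0
        rw [← hb', Derivation.leibniz_pow, ← Nat.cast_smul_eq_nsmul K, CharP.cast_eq_zero K p,
          zero_smul]
      | add y z _ _ hy hz => rw [map_add, hy, hz, add_zero]
      | mul y z _ _ hy hz => rw [Derivation.leibniz, hy, hz, smul_zero, smul_zero, add_zero]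
    have h1 := hkill _ (hT₁gen a (Set.mem_univ _))
    have h2 : D' (x' a) = 1 := by
      show D' (algebraMap k K (a : k)) = 1
      rw [hD', hDx, if_pos rfl]
    rw [h2] at h1
    exact one_ne_zero h1
  rw [hT₁] at hT₁ind
  exact (linearIndependent_redMono_comp_iff p (C := Cp p K) x' hp.pos (id : T → T)
    Function.injective_id).mpr (by rwa [Set.range_id])

include p in
/-- MacLane's criterion in characteristic `p`, absolute differential form. -/
theorem isGeometricallyReduced_iff_injective_mapBaseChange :
    Algebra.IsGeometricallyReduced k K ↔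
      Function.Injective (KaehlerDifferential.mapBaseChange ℤ k K) := by
  obtain ⟨T, hli, hsp⟩ := exists_absPBasis p k
  have hmap : ∀ e, algebraMap k K (redMono p (fun t : T => (t : k)) e) =
      redMono p (fun t : T => algebraMap k K (t : k)) e := fun e => by
    show algebraMap k K (e.1.prod _) = e.1.prod _
    rw [map_finsuppProd]
    simp only [map_pow]
  rw [injective_mapBaseChange_iff_forall_exists_derivation]
  constructor
  · intro hA
    have hD := linearIndependent_map_of_isGeometricallyReduced (K := K) p _ hli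
    rw [funext hmap] at hD
    exact exists_derivation_extension_of_linearIndependent p T hli hsp hD
  · intro hE
    have hD' := linearIndependent_of_forall_exists_derivation p T hli hsp hE
    have hD : LinearIndependent (Cp p K)
        (fun e => algebraMap k K (redMono p (fun t : T => (t : k)) e)) := by
      rw [funext hmap]
      exact hD'
    exact isGeometricallyReduced_of_powLI p
      (fun ι s hs => powLI_of_linearIndependent_map p _ hsp hD s hs)

end DExt

end Groth.Agent.H44.MacLane
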