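import Groth.Agent.H44.MacLaneAll

/-!
# Corollaries of MacLane's criterion

* `baseChange_kaehler_ext`: linear maps out of `L ⊗[K] Ω[K⁄R]` are determined by `1 ⊗ d x`;
* `exists_derivation_extension_of_isGeometricallyReduced`: over a geometrically reduced field
  extension `K/k`, every `R`-derivation `k → K` extends to `K`;
* `injective_mapBaseChange_of_isGeometricallyReduced`: then `K ⊗ Ω[k⁄R] → Ω[K⁄R]` is injective.
-/

set_option autoImplicit false

universe u v

open TensorProduct

namespace Groth.Agent.H44.MacLane

theorem baseChange_kaehler_ext {R K L N : Type*} [CommRing R] [CommRing K] [CommRing L]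
    [Algebra R K] [Algebra K L] [AddCommGroup N] [Module L N] [Module K N] [IsScalarTower K L N]
    {χ χ' : L ⊗[K] Ω[K⁄R] →ₗ[L] N}
    (h : ∀ x : K, χ ((1 : L) ⊗ₜ[K] KaehlerDifferential.D R K x) =
      χ' ((1 : L) ⊗ₜ[K] KaehlerDifferential.D R K x)) : χ = χ' := by
  have key : ∀ ω : Ω[K⁄R], χ ((1 : L) ⊗ₜ[K] ω) = χ' ((1 : L) ⊗ₜ[K] ω) := by
    intro ω
    have hω : ω ∈ Submodule.span K (Set.range (KaehlerDifferential.D R K)) := by
      rw [KaehlerDifferential.span_range_derivation]
      trivial
    induction hω using Submodule.span_induction with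
    | mem z hz =>
      obtain ⟨a, rfl⟩ := hz
      exact h a
    | zero => rw [TensorProduct.tmul_zero, map_zero, map_zero]
    | add y z _ _ hy hz => rw [TensorProduct.tmul_add, map_add, map_add, hy, hz]
    | smul r y _ hy =>
      rw [TensorProduct.tmul_smul, LinearMap.map_smul_of_tower, LinearMap.map_smul_of_tower, hy]
  apply LinearMap.ext
  intro ξ
  induction ξ using TensorProduct.induction_on with
  | zero => rw [map_zero, map_zero]
  | tmul c ω =>
    have h1 : c ⊗ₜ[K] ω = c • ((1 : L) ⊗ₜ[K] ω) := by
      rw [TensorProduct.smul_tmul', smul_eq_mul, mul_one]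
    rw [h1, map_smul, map_smul, key]
  | add y z hy hz => rw [map_add, map_add, hy, hz]

section ext

variable {R : Type*} [CommRing R] {k : Type v} {K : Type u} [Field k] [Field K] [Algebra k K]
  [Algebra R k] [Algebra R K] [IsScalarTower R k K]

theorem exists_derivation_extension_of_isGeometricallyReduced
    [Algebra.IsGeometricallyReduced k K] (D : Derivation R k K) :
    ∃ D' : Derivation R K K, ∀ a : k, D' (algebraMap k K a) = D a := by
  have hinj := isGeometricallyReduced_iff_injective_mapBaseChange'.mp
    (inferInstance : Algebra.IsGeometricallyReduced k K)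
  obtain ⟨D', hD'⟩ :=
    (injective_mapBaseChange_iff_forall_exists_derivation' (R := ℤ)).mp hinj (D.restrictScalars ℤ)
  refine ⟨derivationOfKills D' (fun r => ?_), hD'⟩
  rw [IsScalarTower.algebraMap_apply R k K, hD']
  exact D.map_algebraMap r

theorem injective_mapBaseChange_of_isGeometricallyReduced [Algebra.IsGeometricallyReduced k K] :
    Function.Injective (KaehlerDifferential.mapBaseChange R k K) :=
  injective_mapBaseChange_iff_forall_exists_derivation'.mpr
    exists_derivation_extension_of_isGeometricallyReduced

end ext

end Groth.Agent.H44.MacLane
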