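import Mathlib
import Groth.Agent.H23.RegularSeq
import Groth.Agent.H24.CatenaryOrder
import Groth.Agent.H54.IntegralDim
import Groth.Agent.H15.PSRegular
import Groth.Agent.H61.PowerSeriesComplete
import Groth.Agent.H44.RegDescend

/-!
# Nagata's Jacobian criterion for quotients of power series rings: necessity (helper44)

`A = k[[T_1..T_r]]`, `p` a prime such that `A/p` is finite over `k[[X_1..X_s]]` with separable
fraction field extension.  If `A_p/qA_p` is regular, then there are `f_j ∈ q` generating `qA_p` and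
`k`-derivations `D_i` of `A` with `det (D_i f_j) ∉ p`.
-/

set_option autoImplicit false
universe u
open IsLocalRing

namespace Groth.Agent.H44.NagataJac

section sep

/-- A `k`-derivation `C → L = Frac C` with values in a finite `k[[X]]`-submodule and killing the
`X_j` vanishes, when `L` is separable algebraic over `Frac k[[X]]`. -/
theorem derivation_eq_zero {k : Type u} [Field k] (s : ℕ) {C : Type u} (L' : Type u) {L : Type u}
    [CommRing C] [Algebra k C]
    [Algebra (MvPowerSeries (Fin s) k) C] [IsScalarTower k (MvPowerSeries (Fin s) k) C]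
    [Field L'] [Field L]
    [Algebra (MvPowerSeries (Fin s) k) L'] [IsFractionRing (MvPowerSeries (Fin s) k) L']
    [Algebra C L] [IsFractionRing C L] [Algebra L' L] [Algebra (MvPowerSeries (Fin s) k) L]
    [IsScalarTower (MvPowerSeries (Fin s) k) C L] [IsScalarTower (MvPowerSeries (Fin s) k) L' L]
    [Algebra.IsSeparable L' L] [Algebra k L] (D : Derivation k C L)
    (M₀ : Submodule (MvPowerSeries (Fin s) k) L) (hM₀ : M₀.FG) (hD : ∀ c, D c ∈ M₀)
    (hX : ∀ j, D (algebraMap (MvPowerSeries (Fin s) k) C (MvPowerSeries.X j)) = 0) (c : C) :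
    D c = 0 := by
  classical
  haveI : IsRegularLocalRing (MvPowerSeries (Fin s) k) :=
    Groth.Agent.H15.PSRegular.isRegularLocalRing_mvPowerSeries s
  -- D kills polynomials
  have hpoly : ∀ φ : MvPolynomial (Fin s) k,
      D (algebraMap (MvPowerSeries (Fin s) k) C (φ : MvPowerSeries (Fin s) k)) = 0 := by
    intro φ
    induction φ using MvPolynomial.induction_on with
    | C a =>
      have h1 : ((MvPolynomial.C a : MvPolynomial (Fin s) k) : MvPowerSeries (Fin s) k) =
          algebraMap k (MvPowerSeries (Fin s) k) a := by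
        rw [MvPolynomial.coe_C, MvPowerSeries.algebraMap_apply, Algebra.algebraMap_self,
          RingHom.id_apply]
      rw [h1, ← IsScalarTower.algebraMap_apply k (MvPowerSeries (Fin s) k) C, D.map_algebraMap]
    | add p q hp hq => rw [MvPolynomial.coe_add, map_add, map_add, hp, hq, add_zero]
    | mul_X p i hp =>
      rw [MvPolynomial.coe_mul, MvPolynomial.coe_X, map_mul, D.leibniz, hp, hX i, smul_zero,
        smul_zero, add_zero]
  have hpow : ∀ n : ℕ, ∀ g ∈ Ideal.span (Set.range
      (MvPowerSeries.X : Fin s → MvPowerSeries (Fin s) k)) ^ (n + 1),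
      D (algebraMap (MvPowerSeries (Fin s) k) C g) ∈
        Ideal.span (Set.range (MvPowerSeries.X : Fin s → MvPowerSeries (Fin s) k)) ^ n • M₀ := by
    intro n
    induction n with
    | zero =>
      intro g _
      rw [pow_zero, Ideal.one_eq_top, Submodule.top_smul]
      exact hD _
    | succ n ih =>
      intro g hg
      rw [pow_succ] at hg
      refine Submodule.mul_induction_on hg (fun a ha b hb => ?_) (fun x y hx hy => ?_)
      · rw [map_mul, D.leibniz]
        refine Submodule.add_mem _ ?_ ?_
        · rw [algebraMap_smul]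
          exact Submodule.smul_mem_smul ha (hD _)
        · rw [algebraMap_smul]
          have h1 := Submodule.smul_mem_smul hb (ih a ha)
          rwa [← Submodule.mul_smul, ← pow_succ'] at h1
      · rw [map_add, map_add]
        exact Submodule.add_mem _ hx hy
  have hzero : ∀ g : MvPowerSeries (Fin s) k,
      D (algebraMap (MvPowerSeries (Fin s) k) C g) = 0 := by
    intro g
    have hmem : ∀ n : ℕ, D (algebraMap (MvPowerSeries (Fin s) k) C g) ∈
        Ideal.span (Set.range (MvPowerSeries.X : Fin s → MvPowerSeries (Fin s) k)) ^ n • M₀ := by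
      intro n
      have h1 := Groth.Agent.H61.PS.sub_truncTotal_mem (n + 1) g
      have h2 := hpow n _ h1
      rwa [map_sub, map_sub, hpoly, sub_zero] at h2
    haveI : Module.Finite (MvPowerSeries (Fin s) k) M₀ := Module.Finite.iff_fg.mpr hM₀
    have htop : Ideal.span (Set.range (MvPowerSeries.X : Fin s → MvPowerSeries (Fin s) k)) ≠ ⊤ :=
      fun h => (maximalIdeal.isMaximal (MvPowerSeries (Fin s) k)).ne_top
        (top_le_iff.mp (h ▸ Groth.Agent.H61.PS.span_X_le))
    have hk := Ideal.iInf_pow_smul_eq_bot_of_isLocalRing (M := M₀) _ htop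
    have h3 : (⟨D (algebraMap (MvPowerSeries (Fin s) k) C g), hD _⟩ : M₀) ∈
        (⨅ i : ℕ, Ideal.span (Set.range
          (MvPowerSeries.X : Fin s → MvPowerSeries (Fin s) k)) ^ i • ⊤ :
          Submodule (MvPowerSeries (Fin s) k) M₀) := by
      rw [Submodule.mem_iInf]
      intro i
      rw [Submodule.mem_smul_top_iff]
      exact hmem i
    rw [hk, Submodule.mem_bot] at h3
    exact congrArg Subtype.val h3
  let D' : Derivation (MvPowerSeries (Fin s) k) C L :=
    { toLinearMap :=
        { toFun := D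
          map_add' := map_add D
          map_smul' := fun g x => by
            rw [RingHom.id_apply, Algebra.smul_def, D.leibniz, hzero, smul_zero, add_zero,
              algebraMap_smul] }
      map_one_eq_zero' := D.map_one_eq_zero
      leibniz' := D.leibniz }
  have hD' : ∀ x, D' x = D x := fun x => rfl
  haveI : Algebra.FormallyUnramified (MvPowerSeries (Fin s) k) L' :=
    Algebra.FormallyUnramified.of_isLocalization (nonZeroDivisors (MvPowerSeries (Fin s) k))
  haveI : Algebra.FormallyUnramified L' L := Algebra.FormallyUnramified.of_isSeparable L' L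
  haveI : Algebra.FormallyUnramified (MvPowerSeries (Fin s) k) L :=
    Algebra.FormallyUnramified.comp (MvPowerSeries (Fin s) k) L' L
  have h4 : KaehlerDifferential.map (MvPowerSeries (Fin s) k) (MvPowerSeries (Fin s) k) C L
      (KaehlerDifferential.D (MvPowerSeries (Fin s) k) C c) =
      KaehlerDifferential.map (MvPowerSeries (Fin s) k) (MvPowerSeries (Fin s) k) C L 0 :=
    Subsingleton.elim _ _
  obtain ⟨t, ht⟩ := (IsLocalizedModule.eq_iff_exists (nonZeroDivisors C)
    (KaehlerDifferential.map (MvPowerSeries (Fin s) k) (MvPowerSeries (Fin s) k) C L)).mp h4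
  have h5 := congrArg D'.liftKaehlerDifferential ht
  rw [smul_zero, map_zero] at h5
  have h6 : algebraMap C L (t : C) * D c = 0 := by
    rw [← hD', ← Derivation.liftKaehlerDifferential_comp_D D' c, ← Algebra.smul_def, ← h5]
    exact (map_smul D'.liftKaehlerDifferential (t : C) _).symm
  exact (IsLocalization.map_units L t).mul_right_eq_zero.mp h6

end sep

section quot

variable {A : Type u} [CommRing A] (q p : Ideal A) [p.IsPrime]
  [(p.map (Ideal.Quotient.mk q)).IsPrime]

theorem nonempty_ringEquiv (hqp : q ≤ p) :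
    Nonempty (Localization.AtPrime (p.map (Ideal.Quotient.mk q)) ≃+*
      (Localization.AtPrime p ⧸ q.map (algebraMap A (Localization.AtPrime p)))) := by
  letI alg : Algebra (A ⧸ q)
      (Localization.AtPrime p ⧸ q.map (algebraMap A (Localization.AtPrime p))) :=
    (Ideal.quotientMap (q.map (algebraMap A (Localization.AtPrime p)))
      (algebraMap A (Localization.AtPrime p)) Ideal.le_comap_map).toAlgebra
  have hmk : ∀ a : A, algebraMap (A ⧸ q)
      (Localization.AtPrime p ⧸ q.map (algebraMap A (Localization.AtPrime p)))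
      (Ideal.Quotient.mk q a) =
      Ideal.Quotient.mk _ (algebraMap A (Localization.AtPrime p) a) := fun a => rfl
  have hcomap : (p.map (Ideal.Quotient.mk q)).comap (Ideal.Quotient.mk q) = p := by
    rw [Ideal.comap_map_of_surjective' _ Ideal.Quotient.mk_surjective, Ideal.mk_ker,
      sup_eq_left.mpr hqp]
  have hnot : ∀ a : A, Ideal.Quotient.mk q a ∉ p.map (Ideal.Quotient.mk q) → a ∉ p :=
    fun a ha h => ha (Ideal.mem_map_of_mem _ h)
  haveI : IsLocalization.AtPrime
      (Localization.AtPrime p ⧸ q.map (algebraMap A (Localization.AtPrime p)))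
      (p.map (Ideal.Quotient.mk q)) := by
    refine ⟨?_, ?_, ?_⟩
    · rintro ⟨x, hx⟩
      obtain ⟨a, rfl⟩ := Ideal.Quotient.mk_surjective x
      rw [hmk]
      exact (IsLocalization.map_units (Localization.AtPrime p)
        (⟨a, hnot a hx⟩ : p.primeCompl)).map _
    · intro z
      obtain ⟨y, rfl⟩ := Ideal.Quotient.mk_surjective z
      obtain ⟨a, t, rfl⟩ := IsLocalization.exists_mk'_eq p.primeCompl y
      refine ⟨(Ideal.Quotient.mk q a, ⟨Ideal.Quotient.mk q t, fun h => t.2 ?_⟩), ?_⟩
      · exact hcomap.le h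
      · show Ideal.Quotient.mk _ _ * algebraMap (A ⧸ q) _ (Ideal.Quotient.mk q (t : A)) =
          algebraMap (A ⧸ q) _ (Ideal.Quotient.mk q a)
        rw [hmk, hmk, ← map_mul, IsLocalization.mk'_spec]
    · intro x y hxy
      obtain ⟨a, rfl⟩ := Ideal.Quotient.mk_surjective x
      obtain ⟨b, rfl⟩ := Ideal.Quotient.mk_surjective y
      rw [hmk, hmk, Ideal.Quotient.eq, ← map_sub,
        IsLocalization.algebraMap_mem_map_algebraMap_iff p.primeCompl] at hxy
      obtain ⟨t, ht, htab⟩ := hxy
      refine ⟨⟨Ideal.Quotient.mk q t, fun h => ht ?_⟩, ?_⟩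
      · exact hcomap.le h
      · show Ideal.Quotient.mk q t * Ideal.Quotient.mk q a =
          Ideal.Quotient.mk q t * Ideal.Quotient.mk q b
        rw [← map_mul, ← map_mul, Ideal.Quotient.eq, ← mul_sub]
        exact htab
  exact ⟨(IsLocalization.algEquiv (p.map (Ideal.Quotient.mk q)).primeCompl
    (Localization.AtPrime (p.map (Ideal.Quotient.mk q)))
    (Localization.AtPrime p ⧸ q.map (algebraMap A (Localization.AtPrime p)))).toRingEquiv⟩

end quot

section main

variable {k : Type u} [Field k] (r : ℕ) (p : Ideal (MvPowerSeries (Fin r) k)) [p.IsPrime]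
  (L : Type u) [Field L] [Algebra (MvPowerSeries (Fin r) k ⧸ p) L]
  [IsFractionRing (MvPowerSeries (Fin r) k ⧸ p) L]

/-- `a ↦ a mod p`, in `L = Frac (A/p)`. -/
noncomputable def ι : MvPowerSeries (Fin r) k →+* L :=
  (algebraMap (MvPowerSeries (Fin r) k ⧸ p) L).comp (Ideal.Quotient.mk p)

theorem ι_eq_zero_iff (a : MvPowerSeries (Fin r) k) : ι r p L a = 0 ↔ a ∈ p := by
  show algebraMap (MvPowerSeries (Fin r) k ⧸ p) L (Ideal.Quotient.mk p a) = 0 ↔ _
  rw [← Ideal.Quotient.eq_zero_iff_mem]
  exact (map_eq_zero_iff _ (IsFractionRing.injective (MvPowerSeries (Fin r) k ⧸ p) L))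

/-- The Jacobian vector `(∂a/∂T_l mod p)_l ∈ L^r`. -/
noncomputable def jv (a : MvPowerSeries (Fin r) k) : Fin r → L :=
  fun l => ι r p L (MvPowerSeries.pderiv k l a)

theorem jv_add (a b : MvPowerSeries (Fin r) k) :
    jv r p L (a + b) = jv r p L a + jv r p L b := by
  funext l
  simp only [jv, map_add, Pi.add_apply]

theorem jv_zero : jv r p L 0 = 0 := by
  funext l
  simp only [jv, map_zero, Pi.zero_apply]

theorem jv_mul (a b : MvPowerSeries (Fin r) k) :
    jv r p L (a * b) = ι r p L a • jv r p L b + ι r p L b • jv r p L a := by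
  funext l
  simp only [jv, Derivation.leibniz, map_add, smul_eq_mul, map_mul, Pi.add_apply, Pi.smul_apply]

theorem jv_algebraMap (t : k) : jv r p L (algebraMap k (MvPowerSeries (Fin r) k) t) = 0 := by
  funext l
  simp only [jv, Derivation.map_algebraMap, map_zero, Pi.zero_apply]

theorem jv_X (l : Fin r) :
    jv r p L (MvPowerSeries.X l) = fun j => if l = j then 1 else 0 := by
  funext j
  by_cases h : l = j
  · subst h
    simp only [jv, MvPowerSeries.pderiv_X_self, map_one, if_true]
  · simp only [jv, MvPowerSeries.pderiv_X_of_ne h, map_zero, if_neg h]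

theorem dual_eq_zero (L' : Type u) (s : ℕ)
    [Algebra (MvPowerSeries (Fin s) k) (MvPowerSeries (Fin r) k ⧸ p)]
    [IsScalarTower k (MvPowerSeries (Fin s) k) (MvPowerSeries (Fin r) k ⧸ p)]
    [Module.Finite (MvPowerSeries (Fin s) k) (MvPowerSeries (Fin r) k ⧸ p)]
    [Field L'] [Algebra (MvPowerSeries (Fin s) k) L']
    [IsFractionRing (MvPowerSeries (Fin s) k) L']
    [Algebra L' L] [Algebra (MvPowerSeries (Fin s) k) L]
    [IsScalarTower (MvPowerSeries (Fin s) k) (MvPowerSeries (Fin r) k ⧸ p) L]
    [IsScalarTower (MvPowerSeries (Fin s) k) L' L] [Algebra.IsSeparable L' L]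
    (Xh : Fin s → MvPowerSeries (Fin r) k)
    (hXh : ∀ j, Ideal.Quotient.mk p (Xh j) =
      algebraMap (MvPowerSeries (Fin s) k) (MvPowerSeries (Fin r) k ⧸ p) (MvPowerSeries.X j))
    (φ : Module.Dual L (Fin r → L)) (h1 : ∀ a ∈ p, φ (jv r p L a) = 0)
    (h2 : ∀ j, φ (jv r p L (Xh j)) = 0) : φ = 0 := by
  classical
  letI algkL : Algebra k L := ((algebraMap (MvPowerSeries (Fin r) k ⧸ p) L).comp
    (algebraMap k (MvPowerSeries (Fin r) k ⧸ p))).toAlgebra
  have hφ : ∀ w : Fin r → L, φ w = ∑ l, w l * φ (fun j => if l = j then 1 else 0) := fun w => by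
    rw [LinearMap.pi_apply_eq_sum_univ φ w]
    rfl
  have hsurj := Ideal.Quotient.mk_surjective (I := p)
  let σ : MvPowerSeries (Fin r) k ⧸ p → MvPowerSeries (Fin r) k := Function.surjInv hsurj
  have hσ : ∀ x, Ideal.Quotient.mk p (σ x) = x := Function.surjInv_eq hsurj
  have hkey : ∀ a b : MvPowerSeries (Fin r) k, Ideal.Quotient.mk p a = Ideal.Quotient.mk p b →
      φ (jv r p L a) = φ (jv r p L b) := by
    intro a b hab
    have h3 : a - b ∈ p := Ideal.Quotient.eq.mp hab
    have h5 : jv r p L a = jv r p L (a - b) + jv r p L b := by rw [← jv_add, sub_add_cancel]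
    rw [h5, map_add, h1 _ h3, zero_add]
  have hkey' : ∀ a : MvPowerSeries (Fin r) k,
      φ (jv r p L (σ (Ideal.Quotient.mk p a))) = φ (jv r p L a) := fun a => hkey _ _ (hσ _)
  have hιmk : ∀ a : MvPowerSeries (Fin r) k,
      algebraMap (MvPowerSeries (Fin r) k ⧸ p) L (Ideal.Quotient.mk p a) = ι r p L a := fun a => rfl
  let Dc : Derivation k (MvPowerSeries (Fin r) k ⧸ p) L :=
    { toLinearMap :=
        { toFun := fun x => φ (jv r p L (σ x))
          map_add' := fun x y => by
            obtain ⟨a, rfl⟩ := hsurj x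
            obtain ⟨b, rfl⟩ := hsurj y
            rw [← map_add, hkey', hkey', hkey', jv_add, map_add]
          map_smul' := fun t x => by
            obtain ⟨a, rfl⟩ := hsurj x
            rw [RingHom.id_apply, Algebra.smul_def, ← Ideal.Quotient.mk_algebraMap, ← map_mul,
              hkey', hkey', jv_mul, jv_algebraMap, smul_zero, add_zero, map_smul, smul_eq_mul,
              Algebra.smul_def]
            rfl }
      map_one_eq_zero' := by
        show φ (jv r p L (σ 1)) = 0
        rw [← map_one (Ideal.Quotient.mk p), hkey']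
        have h3 : jv r p L (1 : MvPowerSeries (Fin r) k) = 0 := by
          funext l
          simp only [jv, Derivation.map_one_eq_zero, map_zero, Pi.zero_apply]
        rw [h3, map_zero]
      leibniz' := fun x y => by
        obtain ⟨a, rfl⟩ := hsurj x
        obtain ⟨b, rfl⟩ := hsurj y
        show φ (jv r p L (σ (Ideal.Quotient.mk p a * Ideal.Quotient.mk p b))) =
          Ideal.Quotient.mk p a • φ (jv r p L (σ (Ideal.Quotient.mk p b))) +
          Ideal.Quotient.mk p b • φ (jv r p L (σ (Ideal.Quotient.mk p a)))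
        rw [← map_mul, hkey', hkey', hkey', jv_mul, map_add, map_smul, map_smul, smul_eq_mul,
          smul_eq_mul, Algebra.smul_def, Algebra.smul_def, hιmk, hιmk] }
  have hDc : ∀ a, Dc (Ideal.Quotient.mk p a) = φ (jv r p L a) := hkey'
  let Φ : (Fin r → MvPowerSeries (Fin r) k ⧸ p) →ₗ[MvPowerSeries (Fin s) k] L :=
    { toFun := fun b => ∑ l, algebraMap (MvPowerSeries (Fin r) k ⧸ p) L (b l) *
        φ (fun j => if l = j then 1 else 0)
      map_add' := fun b b' => by
        simp only [Pi.add_apply, map_add, add_mul, Finset.sum_add_distrib]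
      map_smul' := fun g b => by
        simp only [Pi.smul_apply, RingHom.id_apply, Finset.smul_sum]
        refine Finset.sum_congr rfl fun l _ => ?_
        rw [Algebra.smul_def g (b l), map_mul,
          ← IsScalarTower.algebraMap_apply (MvPowerSeries (Fin s) k) (MvPowerSeries (Fin r) k ⧸ p) L,
          Algebra.smul_def, mul_assoc] }
  have hM₀ : (LinearMap.range Φ).FG := by
    rw [LinearMap.range_eq_map]
    exact (Module.Finite.fg_top).map Φ
  have hD : ∀ x, Dc x ∈ LinearMap.range Φ := by
    intro x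
    obtain ⟨a, rfl⟩ := hsurj x
    rw [hDc, hφ]
    exact ⟨fun l => Ideal.Quotient.mk p (MvPowerSeries.pderiv k l a), rfl⟩
  have hX : ∀ j, Dc (algebraMap (MvPowerSeries (Fin s) k) (MvPowerSeries (Fin r) k ⧸ p)
      (MvPowerSeries.X j)) = 0 := by
    intro j
    rw [← hXh j, hDc]
    exact h2 j
  have hzero := derivation_eq_zero s L' Dc (LinearMap.range Φ) hM₀ hD hX
  have hc0 : ∀ l, φ (fun j => if l = j then 1 else 0) = 0 := fun l => by
    have h3 := hzero (Ideal.Quotient.mk p (MvPowerSeries.X l))
    rwa [hDc, jv_X] at h3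
  refine LinearMap.ext fun w => ?_
  rw [hφ, LinearMap.zero_apply]
  exact Finset.sum_eq_zero fun l _ => by rw [hc0, mul_zero]

theorem le_finrank_span (L' : Type u) (s : ℕ)
    [Algebra (MvPowerSeries (Fin s) k) (MvPowerSeries (Fin r) k ⧸ p)]
    [IsScalarTower k (MvPowerSeries (Fin s) k) (MvPowerSeries (Fin r) k ⧸ p)]
    [Module.Finite (MvPowerSeries (Fin s) k) (MvPowerSeries (Fin r) k ⧸ p)]
    [Field L'] [Algebra (MvPowerSeries (Fin s) k) L']
    [IsFractionRing (MvPowerSeries (Fin s) k) L']
    [Algebra L' L] [Algebra (MvPowerSeries (Fin s) k) L]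
    [IsScalarTower (MvPowerSeries (Fin s) k) (MvPowerSeries (Fin r) k ⧸ p) L]
    [IsScalarTower (MvPowerSeries (Fin s) k) L' L] [Algebra.IsSeparable L' L]
    (Xh : Fin s → MvPowerSeries (Fin r) k)
    (hXh : ∀ j, Ideal.Quotient.mk p (Xh j) =
      algebraMap (MvPowerSeries (Fin s) k) (MvPowerSeries (Fin r) k ⧸ p) (MvPowerSeries.X j)) :
    r ≤ Module.finrank L (Submodule.span L (jv r p L '' (p : Set (MvPowerSeries (Fin r) k)))) + s := by
  classical
  have hU : Submodule.span L (jv r p L '' (p : Set (MvPowerSeries (Fin r) k))) ⊔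
      Submodule.span L (Set.range fun j => jv r p L (Xh j)) = ⊤ := by
    by_contra hne
    obtain ⟨φ, hφ0, hφ⟩ := Submodule.exists_le_ker_of_lt_top _ (lt_top_iff_ne_top.mpr hne)
    apply hφ0
    refine dual_eq_zero r p L L' s Xh hXh φ (fun a ha => ?_) (fun j => ?_)
    · exact LinearMap.mem_ker.mp
        (hφ (Submodule.mem_sup_left (Submodule.subset_span ⟨a, ha, rfl⟩)))
    · exact LinearMap.mem_ker.mp
        (hφ (Submodule.mem_sup_right (Submodule.subset_span ⟨j, rfl⟩)))
  have h1 : Module.finrank L (⊤ : Submodule L (Fin r → L)) = r := by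
    rw [finrank_top, Module.finrank_fin_fun]
  have h2 := Submodule.finrank_add_le_finrank_add_finrank
    (Submodule.span L (jv r p L '' (p : Set (MvPowerSeries (Fin r) k))))
    (Submodule.span L (Set.range fun j => jv r p L (Xh j)))
  have h3 : Module.finrank L (Submodule.span L (Set.range fun j => jv r p L (Xh j))) ≤ s := by
    have h4 := finrank_range_le_card (R := L) (fun j : Fin s => jv r p L (Xh j))
    rw [Fintype.card_fin] at h4
    exact h4
  rw [hU, h1] at h2
  omega

theorem exists_jacobian (L' : Type u) (s : ℕ)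
    [Algebra (MvPowerSeries (Fin s) k) (MvPowerSeries (Fin r) k ⧸ p)]
    [IsScalarTower k (MvPowerSeries (Fin s) k) (MvPowerSeries (Fin r) k ⧸ p)]
    [Module.Finite (MvPowerSeries (Fin s) k) (MvPowerSeries (Fin r) k ⧸ p)]
    [Field L'] [Algebra (MvPowerSeries (Fin s) k) L']
    [IsFractionRing (MvPowerSeries (Fin s) k) L']
    [Algebra L' L] [Algebra (MvPowerSeries (Fin s) k) L]
    [IsScalarTower (MvPowerSeries (Fin s) k) (MvPowerSeries (Fin r) k ⧸ p) L]
    [IsScalarTower (MvPowerSeries (Fin s) k) L' L] [Algebra.IsSeparable L' L]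
    (q : Ideal (MvPowerSeries (Fin r) k)) (hqp : q ≤ p)
    (hinj : Function.Injective
      (algebraMap (MvPowerSeries (Fin s) k) (MvPowerSeries (Fin r) k ⧸ p)))
    (hreg : IsRegularLocalRing (Localization.AtPrime p ⧸
      q.map (algebraMap (MvPowerSeries (Fin r) k) (Localization.AtPrime p)))) :
    ∃ (m : ℕ) (D : Fin m → Derivation k (MvPowerSeries (Fin r) k) (MvPowerSeries (Fin r) k))
      (f : Fin m → MvPowerSeries (Fin r) k), (∀ i, f i ∈ q) ∧
      q.map (algebraMap (MvPowerSeries (Fin r) k) (Localization.AtPrime p)) =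
        Ideal.span (Set.range fun i =>
          algebraMap (MvPowerSeries (Fin r) k) (Localization.AtPrime p) (f i)) ∧
      Matrix.det (Matrix.of fun i j => D i (f j)) ∉ p := by
  classical
  haveI hAreg : IsRegularLocalRing (MvPowerSeries (Fin r) k) :=
    Groth.Agent.H15.PSRegular.isRegularLocalRing_mvPowerSeries r
  haveI : IsRegularRing (MvPowerSeries (Fin r) k) :=
    Groth.Agent.H44.RegDescend.isRegularRing_of_isRegularLocalRing _
  haveI hRreg : IsRegularLocalRing (Localization.AtPrime p) :=
    IsRegularRing.isRegularLocalRing_localization p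
  obtain ⟨c, k', x, y, hck, hm, hI, -⟩ := Groth.Agent.H23.exists_generators_of_regular_quotient
    (Localization.AtPrime p)
    (q.map (algebraMap (MvPowerSeries (Fin r) k) (Localization.AtPrime p)))
  choose Xh hXh using fun j : Fin s => Ideal.Quotient.mk_surjective
    (algebraMap (MvPowerSeries (Fin s) k) (MvPowerSeries (Fin r) k ⧸ p) (MvPowerSeries.X j))
  have hunit : ∀ t : MvPowerSeries (Fin r) k, t ∉ p →
      IsUnit (algebraMap (MvPowerSeries (Fin r) k) (Localization.AtPrime p) t) :=
    fun t ht => IsLocalization.map_units (Localization.AtPrime p) (⟨t, ht⟩ : p.primeCompl)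
  -- numerators
  have hx : ∀ j, ∃ fa : MvPowerSeries (Fin r) k, fa ∈ q ∧ ∃ t : MvPowerSeries (Fin r) k, t ∉ p ∧
      x j * algebraMap (MvPowerSeries (Fin r) k) (Localization.AtPrime p) t =
        algebraMap (MvPowerSeries (Fin r) k) (Localization.AtPrime p) fa := by
    intro j
    have h1 : x j ∈ q.map (algebraMap (MvPowerSeries (Fin r) k) (Localization.AtPrime p)) := by
      rw [hI]; exact Ideal.subset_span ⟨j, rfl⟩
    obtain ⟨⟨⟨a, ha⟩, ⟨t, ht⟩⟩, h2⟩ :=
      (IsLocalization.mem_map_algebraMap_iff p.primeCompl (Localization.AtPrime p)).mp h1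
    exact ⟨a, ha, t, ht, h2⟩
  choose f hfq tf htf hxf using hx
  have hy : ∀ j, ∃ ga : MvPowerSeries (Fin r) k, ga ∈ p ∧ ∃ t : MvPowerSeries (Fin r) k, t ∉ p ∧
      y j * algebraMap (MvPowerSeries (Fin r) k) (Localization.AtPrime p) t =
        algebraMap (MvPowerSeries (Fin r) k) (Localization.AtPrime p) ga := by
    intro j
    have h1 : y j ∈ p.map (algebraMap (MvPowerSeries (Fin r) k) (Localization.AtPrime p)) := by
      rw [Localization.AtPrime.map_eq_maximalIdeal, hm]
      exact Ideal.subset_span (Or.inr ⟨j, rfl⟩)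
    obtain ⟨⟨⟨a, ha⟩, ⟨t, ht⟩⟩, h2⟩ :=
      (IsLocalization.mem_map_algebraMap_iff p.primeCompl (Localization.AtPrime p)).mp h1
    exact ⟨a, ha, t, ht, h2⟩
  choose g hgp tg htg hyg using hy
  have hgen : q.map (algebraMap (MvPowerSeries (Fin r) k) (Localization.AtPrime p)) =
      Ideal.span (Set.range fun i =>
        algebraMap (MvPowerSeries (Fin r) k) (Localization.AtPrime p) (f i)) := by
    rw [hI]
    apply le_antisymm
    · rw [Ideal.span_le]
      rintro _ ⟨j, rfl⟩
      have h1 : x j * algebraMap (MvPowerSeries (Fin r) k) (Localization.AtPrime p) (tf j) ∈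
          Ideal.span (Set.range fun i =>
            algebraMap (MvPowerSeries (Fin r) k) (Localization.AtPrime p) (f i)) := by
        rw [hxf]; exact Ideal.subset_span ⟨j, rfl⟩
      exact (Ideal.mul_unit_mem_iff_mem _ (hunit _ (htf j))).mp h1
    · rw [Ideal.span_le]
      rintro _ ⟨j, rfl⟩
      show algebraMap (MvPowerSeries (Fin r) k) (Localization.AtPrime p) (f j) ∈ _
      rw [← hxf]
      exact Ideal.mul_mem_right _ _ (Ideal.subset_span ⟨j, rfl⟩)
  -- the span
  let b : Fin c ⊕ Fin k' → (Fin r → L) :=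
    Sum.elim (fun j => jv r p L (f j)) (fun j => jv r p L (g j))
  let N : Ideal (MvPowerSeries (Fin r) k) :=
    { carrier := {a | a ∈ p ∧ jv r p L a ∈ Submodule.span L (Set.range b)}
      add_mem' := fun ha hb' => ⟨p.add_mem ha.1 hb'.1, by
        rw [jv_add]; exact Submodule.add_mem _ ha.2 hb'.2⟩
      zero_mem' := ⟨p.zero_mem, by rw [jv_zero]; exact Submodule.zero_mem _⟩
      smul_mem' := fun t a ha => ⟨p.mul_mem_left _ ha.1, by
        rw [smul_eq_mul, jv_mul, (ι_eq_zero_iff r p L a).mpr ha.1, zero_smul, add_zero]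
        exact Submodule.smul_mem _ _ ha.2⟩ }
  have hfN : ∀ j, f j ∈ N := fun j =>
    ⟨hqp (hfq j), Submodule.subset_span ⟨Sum.inl j, rfl⟩⟩
  have hgN : ∀ j, g j ∈ N := fun j => ⟨hgp j, Submodule.subset_span ⟨Sum.inr j, rfl⟩⟩
  have hmN : maximalIdeal (Localization.AtPrime p) ≤
      N.map (algebraMap (MvPowerSeries (Fin r) k) (Localization.AtPrime p)) := by
    rw [hm, Ideal.span_le]
    rintro z (⟨j, rfl⟩ | ⟨j, rfl⟩)
    · have h1 : x j * algebraMap (MvPowerSeries (Fin r) k) (Localization.AtPrime p) (tf j) ∈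
          N.map (algebraMap (MvPowerSeries (Fin r) k) (Localization.AtPrime p)) := by
        rw [hxf]; exact Ideal.mem_map_of_mem _ (hfN j)
      exact (Ideal.mul_unit_mem_iff_mem _ (hunit _ (htf j))).mp h1
    · have h1 : y j * algebraMap (MvPowerSeries (Fin r) k) (Localization.AtPrime p) (tg j) ∈
          N.map (algebraMap (MvPowerSeries (Fin r) k) (Localization.AtPrime p)) := by
        rw [hyg]; exact Ideal.mem_map_of_mem _ (hgN j)
      exact (Ideal.mul_unit_mem_iff_mem _ (hunit _ (htg j))).mp h1
  have hW : ∀ a ∈ p, jv r p L a ∈ Submodule.span L (Set.range b) := by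
    intro a ha
    have h1 : algebraMap (MvPowerSeries (Fin r) k) (Localization.AtPrime p) a ∈
        N.map (algebraMap (MvPowerSeries (Fin r) k) (Localization.AtPrime p)) := by
      apply hmN
      rw [← Localization.AtPrime.map_eq_maximalIdeal]
      exact Ideal.mem_map_of_mem _ ha
    rw [IsLocalization.algebraMap_mem_map_algebraMap_iff p.primeCompl] at h1
    obtain ⟨t, ht, hta⟩ := h1
    have h2 : jv r p L (t * a) ∈ Submodule.span L (Set.range b) := hta.2
    rw [jv_mul, (ι_eq_zero_iff r p L a).mpr ha, zero_smul, add_zero] at h2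
    have h3 : ι r p L t ≠ 0 := fun h => ht ((ι_eq_zero_iff r p L t).mp h)
    exact (Submodule.smul_mem_iff _ h3).mp h2
  -- dimension count
  have hdim : c + k' + s ≤ r := by
    have h1 : ringKrullDim (Localization.AtPrime p) = (p.height : WithBot ℕ∞) :=
      IsLocalization.AtPrime.ringKrullDim_eq_height p (Localization.AtPrime p)
    have h2 := Groth.Agent.H24.height_add_ringKrullDim_quotient_le
      (⟨p, inferInstance⟩ : PrimeSpectrum (MvPowerSeries (Fin r) k))
    have h3 : ringKrullDim (MvPowerSeries (Fin r) k) = (r : WithBot ℕ∞) := by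
      rw [Groth.Agent.H15.PSRegular.ringKrullDim_mvPowerSeries (Λ := k) r,
        ringKrullDim_eq_zero_of_field, zero_add]
    have h4 : ringKrullDim (MvPowerSeries (Fin r) k ⧸ p) = (s : WithBot ℕ∞) := by
      haveI : Algebra.IsIntegral (MvPowerSeries (Fin s) k) (MvPowerSeries (Fin r) k ⧸ p) :=
        Algebra.IsIntegral.of_finite _ _
      rw [Groth.Agent.H54.ringKrullDim_eq_of_isIntegral_of_injective hinj,
        Groth.Agent.H15.PSRegular.ringKrullDim_mvPowerSeries (Λ := k) s,
        ringKrullDim_eq_zero_of_field, zero_add]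
    have h5 : ((c + k' : ℕ) : WithBot ℕ∞) = (p.height : WithBot ℕ∞) := hck.trans h1
    have h6 : (p.height : WithBot ℕ∞) + (s : WithBot ℕ∞) ≤ (r : WithBot ℕ∞) := by
      rw [← h3, ← h4]; exact h2
    rw [← h5] at h6
    exact_mod_cast h6
  have hlib : LinearIndependent L b := by
    rw [linearIndependent_iff_card_le_finrank_span]
    have h1 := le_finrank_span r p L L' s Xh hXh
    have h2 : Submodule.span L (jv r p L '' (p : Set (MvPowerSeries (Fin r) k))) ≤
        Submodule.span L (Set.range b) :=
      Submodule.span_le.mpr (by rintro _ ⟨a, ha, rfl⟩; exact hW a ha)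
    have h3 := Submodule.finrank_mono h2
    simp only [Fintype.card_sum, Fintype.card_fin]
    show c + k' ≤ Module.finrank L (Submodule.span L (Set.range b))
    omega
  have hlif : LinearIndependent L (fun j : Fin c => jv r p L (f j)) :=
    hlib.comp Sum.inl Sum.inl_injective
  -- left inverse of the Jacobian
  have hΦinj : Function.Injective
      (Fintype.linearCombination L (fun j : Fin c => jv r p L (f j))) :=
    linearIndependent_iff_injective_fintypeLinearCombination.mp hlif
  obtain ⟨G, hG⟩ := LinearMap.exists_leftInverse_of_injective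
    (Fintype.linearCombination L (fun j : Fin c => jv r p L (f j)))
    (LinearMap.ker_eq_bot.mpr hΦinj)
  let Nm : Fin c → Fin r → L := fun i l => G (fun j => if l = j then 1 else 0) i
  have hGw : ∀ (w : Fin r → L) (i : Fin c), G w i = ∑ l, w l * Nm i l := by
    intro w i
    rw [LinearMap.pi_apply_eq_sum_univ G w, Finset.sum_apply]
    rfl
  have hNJ : ∀ i j, ∑ l, jv r p L (f j) l * Nm i l = if i = j then 1 else 0 := by
    intro i j
    rw [← hGw]
    have h1 : Fintype.linearCombination L (fun j : Fin c => jv r p L (f j)) (Pi.single j 1) =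
        jv r p L (f j) := by
      rw [Fintype.linearCombination_apply_single, one_smul]
    have h2 : G (Fintype.linearCombination L (fun j : Fin c => jv r p L (f j)) (Pi.single j 1)) =
        Pi.single j 1 := LinearMap.congr_fun hG _
    rw [← h1, h2, Pi.single_apply]
  -- clear denominators
  obtain ⟨⟨d, hd⟩, hdN⟩ := IsLocalization.exist_integer_multiples_of_finite
    (nonZeroDivisors (MvPowerSeries (Fin r) k ⧸ p)) (fun x : Fin c × Fin r => Nm x.1 x.2)
  choose nb hnb using hdN
  choose nn hnn using fun x => Ideal.Quotient.mk_surjective (nb x)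
  have hd0 : algebraMap (MvPowerSeries (Fin r) k ⧸ p) L d ≠ 0 :=
    (IsLocalization.map_units L (⟨d, hd⟩ : nonZeroDivisors (MvPowerSeries (Fin r) k ⧸ p))).ne_zero
  have hιn : ∀ i l, ι r p L (nn (i, l)) =
      algebraMap (MvPowerSeries (Fin r) k ⧸ p) L d * Nm i l := by
    intro i l
    show algebraMap _ L (Ideal.Quotient.mk p (nn (i, l))) = _
    rw [hnn, hnb, ← Algebra.smul_def]
  let Dm : Fin c → Derivation k (MvPowerSeries (Fin r) k) (MvPowerSeries (Fin r) k) := fun i =>
    Derivation.mk'
      { toFun := fun a => ∑ l, nn (i, l) * MvPowerSeries.pderiv k l a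
        map_add' := fun a a' => by
          simp only [map_add, mul_add, Finset.sum_add_distrib]
        map_smul' := fun t a => by
          simp only [Derivation.map_smul, RingHom.id_apply, Finset.smul_sum, mul_smul_comm] }
      (by
        intro a a'
        show ∑ l, nn (i, l) * MvPowerSeries.pderiv k l (a * a') =
          a • ∑ l, nn (i, l) * MvPowerSeries.pderiv k l a' +
          a' • ∑ l, nn (i, l) * MvPowerSeries.pderiv k l a
        simp only [Derivation.leibniz, smul_eq_mul, Finset.mul_sum]
        rw [← Finset.sum_add_distrib]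
        exact Finset.sum_congr rfl fun l _ => by ring)
  have hDm : ∀ i a, Dm i a = ∑ l, nn (i, l) * MvPowerSeries.pderiv k l a := fun i a => rfl
  refine ⟨c, Dm, f, hfq, hgen, ?_⟩
  intro hmem
  have h1 : ι r p L (Matrix.det (Matrix.of fun i j => Dm i (f j))) = 0 :=
    (ι_eq_zero_iff r p L _).mpr hmem
  rw [RingHom.map_det] at h1
  have h2 : (ι r p L).mapMatrix (Matrix.of fun i j => Dm i (f j)) =
      Matrix.diagonal (fun _ => algebraMap (MvPowerSeries (Fin r) k ⧸ p) L d) := by
    ext i j
    rw [RingHom.mapMatrix_apply, Matrix.map_apply, Matrix.of_apply, hDm, map_sum,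
      Matrix.diagonal_apply]
    have h3 : ∀ l, ι r p L (nn (i, l) * MvPowerSeries.pderiv k l (f j)) =
        algebraMap (MvPowerSeries (Fin r) k ⧸ p) L d * (jv r p L (f j) l * Nm i l) := fun l => by
      rw [map_mul, hιn]
      show _ * _ * ι r p L _ = _ * (ι r p L _ * _)
      ring
    simp only [h3, ← Finset.mul_sum, hNJ]
    split_ifs <;> simp
  rw [h2, Matrix.det_diagonal, Finset.prod_const] at h1
  exact pow_ne_zero _ hd0 h1

end main

end Groth.Agent.H44.NagataJac
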