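import Groth.Agent.H44.PBasisTower
import Groth.Agent.H44.PBasisDer
import Mathlib.RingTheory.Kaehler.Basic
import Mathlib.LinearAlgebra.TensorProduct.Basis
import Mathlib.Algebra.CharP.Reduced

/-!
# Absolute differentials of rings with `p`-bases in two steps

For rings `U`, `V` of characteristic `p` with ring maps `V → U → V` and `U → V → U` both equal to the
Frobenius, a `p`-basis `u` of `U` over `V` and a `p`-basis `v` of `V` over `U` give the universal
property "derivations of `V` are freely determined by their values on the images of `u` and on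
`v`", hence a basis of `Ω[V⁄ℤ]`.
-/

set_option autoImplicit false

universe u

namespace Groth.Agent.H44.PBasis

section twoStep

theorem existsUnique_derivation_twoStep {p : ℕ} (hp : 0 < p) {U V : Type*} [CommRing U]
    [CommRing V] [Algebra V U] [Algebra U V] (hpU : (p : U) = 0) (hpV : (p : V) = 0)
    (hgf : ∀ v : V, algebraMap U V (algebraMap V U v) = v ^ p)
    (hfg : ∀ u : U, algebraMap V U (algebraMap U V u) = u ^ p)
    {I J : Type*} (u : I → U) (v : J → V)
    (hliu : LinearIndependent V (redMono p u))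
    (hspu : Submodule.span V (Set.range (redMono p u)) = ⊤)
    (hliv : LinearIndependent U (redMono p v))
    (hspv : Submodule.span U (Set.range (redMono p v)) = ⊤)
    (L : Type*) [AddCommGroup L] [Module V L] [instZ : Module ℤ L] (l : I → L) (m : J → L) :
    ∃! D : Derivation ℤ V L, (∀ i, D (algebraMap U V (u i)) = l i) ∧ ∀ j, D (v j) = m j := by
  obtain rfl : instZ = AddCommGroup.toIntModule L := Subsingleton.elim _ _
  let _ : Module U L := Module.compHom L (algebraMap U V)
  have hsmul : ∀ (r : U) (t : L), r • t = algebraMap U V r • t := fun _ _ => rfl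
  obtain ⟨D₁, ⟨hD₁0, hD₁u⟩, hD₁uniq⟩ := existsUnique_derivation hp hpU u
    (fun i => algebraMap U V (u i)) (fun i => hfg (u i)) hliu hspu (0 : V →+ L)
    (by simp) (by simp) l
  have hD₁0' : ∀ r : V, D₁ (algebraMap V U r) = 0 := fun r => hD₁0 r
  let δ : U →+ L := (D₁ : U →ₗ[ℤ] L).toAddMonoidHom
  have hδ : ∀ r, δ r = D₁ r := fun r => rfl
  obtain ⟨D, ⟨hD0, hDv⟩, hDuniq⟩ := existsUnique_derivation hp hpV v
    (fun j => algebraMap V U (v j)) (fun j => hgf (v j)) hliv hspv δ
    (fun r s => by rw [hδ, hδ, hδ, D₁.leibniz, hsmul, hsmul])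
    (fun j => by rw [hδ]; exact hD₁0' _) m
  refine ⟨D, ⟨fun i => by rw [hD0, hδ, hD₁u], hDv⟩, ?_⟩
  rintro D' ⟨h1, h2⟩
  let D₁' : Derivation ℤ U L := Derivation.mk'
    ((AddMonoidHom.mk' (fun r => D' (algebraMap U V r))
      (fun r s => by rw [map_add, map_add])).toIntLinearMap)
    (fun r s => by
      show D' (algebraMap U V (r * s)) = r • D' (algebraMap U V s) + s • D' (algebraMap U V r)
      rw [map_mul, D'.leibniz, hsmul, hsmul])
  have hD₁' : ∀ r, D₁' r = D' (algebraMap U V r) := fun r => rfl
  have e1 : D₁' = D₁ := hD₁uniq D₁' ⟨fun r => by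
      show D₁' (algebraMap V U r) = 0
      rw [hD₁', hgf, Derivation.leibniz_pow, ← Nat.cast_smul_eq_nsmul V, hpV, zero_smul],
    fun i => by rw [hD₁', h1]⟩
  exact hDuniq D' ⟨fun r => by rw [hδ, ← e1, hD₁'], h2⟩

end twoStep

section UP

open KaehlerDifferential in
theorem exists_basis_of_UP {V : Type u} [CommRing V] {K : Type u} (w : K → V)
    (UP : ∀ (L : Type u) [AddCommGroup L] [Module V L] [Module ℤ L] (y : K → L),
      ∃! D : Derivation ℤ V L, ∀ k, D (w k) = y k) :
    ∃ b : Module.Basis K V (Ω[V⁄ℤ]), ∀ k, b k = KaehlerDifferential.D ℤ V (w k) := by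
  classical
  obtain ⟨D₁, hD₁, -⟩ := UP (K →₀ V) (fun k => Finsupp.single k 1)
  have huniqΩ : ∀ (D D' : Derivation ℤ V (Ω[V⁄ℤ])), (∀ k, D (w k) = D' (w k)) → D = D' :=
    fun D D' h => (UP (Ω[V⁄ℤ]) (fun k => D' (w k))).unique h (fun _ => rfl)
  let φ : Ω[V⁄ℤ] →ₗ[V] (K →₀ V) := D₁.liftKaehlerDifferential
  let ψ : (K →₀ V) →ₗ[V] Ω[V⁄ℤ] :=
    Finsupp.linearCombination V (fun k => KaehlerDifferential.D ℤ V (w k))
  have hφd : ∀ b, φ (KaehlerDifferential.D ℤ V b) = D₁ b :=
    fun b => Derivation.liftKaehlerDifferential_comp_D D₁ b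
  have h1 : φ.comp ψ = LinearMap.id := by
    refine Finsupp.lhom_ext fun k b => ?_
    simp only [LinearMap.comp_apply, LinearMap.id_apply, ψ, Finsupp.linearCombination_single,
      map_smul, hφd, hD₁, Finsupp.smul_single_one]
  have h2 : ψ.comp φ = LinearMap.id := by
    apply Derivation.liftKaehlerDifferential_unique
    apply huniqΩ
    intro k
    show ψ (φ (KaehlerDifferential.D ℤ V (w k))) = KaehlerDifferential.D ℤ V (w k)
    rw [hφd, hD₁]
    simp only [ψ, Finsupp.linearCombination_single, one_smul]
  refine ⟨Module.Basis.ofRepr (LinearEquiv.ofLinearMap φ ψ h1 h2), fun k => ?_⟩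
  show ψ (Finsupp.single k 1) = KaehlerDifferential.D ℤ V (w k)
  simp only [ψ, Finsupp.linearCombination_single, one_smul]

end UP

section ker

/-- A basis indexed by a sum type, whose first part is killed and whose second part is mapped to a
linearly independent family, gives a basis of the kernel. -/
theorem exists_basis_ker {B T N : Type*} [CommRing B] [AddCommGroup T] [Module B T]
    [AddCommGroup N] [Module B N] {Λ M : Type*} (e : Module.Basis (Λ ⊕ M) B T) (μ : T →ₗ[B] N)
    (h0 : ∀ l, μ (e (Sum.inl l)) = 0)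
    (hli : LinearIndependent B (fun m => μ (e (Sum.inr m)))) :
    ∃ k : Module.Basis Λ B (LinearMap.ker μ), ∀ l, (k l : T) = e (Sum.inl l) := by
  classical
  let kf : Λ → LinearMap.ker μ := fun l => ⟨e (Sum.inl l), LinearMap.mem_ker.mpr (h0 l)⟩
  have hkli : LinearIndependent B kf := by
    apply LinearIndependent.of_comp (LinearMap.ker μ).subtype
    exact e.linearIndependent.comp Sum.inl Sum.inl_injective
  have hksp : ⊤ ≤ Submodule.span B (Set.range kf) := by
    rintro ⟨t, ht⟩ -
    rw [Finsupp.mem_span_range_iff_exists_finsupp]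
    obtain ⟨c, rfl⟩ : ∃ c : (Λ ⊕ M) →₀ B, Finsupp.linearCombination B e c = t :=
      ⟨e.repr t, e.linearCombination_repr t⟩
    obtain ⟨⟨c₁, c₂⟩, rfl⟩ : ∃ q : (Λ →₀ B) × (M →₀ B), Finsupp.sumElim q.1 q.2 = c :=
      ⟨Finsupp.sumFinsuppEquivProdFinsupp c,
        Finsupp.sumFinsuppEquivProdFinsupp.symm_apply_apply c⟩
    have hsum : Finsupp.linearCombination B e (Finsupp.sumElim c₁ c₂) =
        Finsupp.linearCombination B (fun l => e (Sum.inl l)) c₁ +
          Finsupp.linearCombination B (fun m => e (Sum.inr m)) c₂ := by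
      simp only [Finsupp.linearCombination_apply, Finsupp.sum_sumElim]
      rfl
    have hc₂ : c₂ = 0 := by
      apply linearIndependent_iff.mp hli
      have h := LinearMap.mem_ker.mp ht
      rw [hsum, map_add, Finsupp.apply_linearCombination, Finsupp.apply_linearCombination] at h
      have h1 : Finsupp.linearCombination B (μ ∘ fun l => e (Sum.inl l)) c₁ = 0 := by
        have : (μ ∘ fun l => e (Sum.inl l)) = 0 := funext h0
        rw [this, Finsupp.linearCombination_zero_apply]
      rw [h1, zero_add] at h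
      exact h
    subst hc₂
    refine ⟨c₁, Subtype.ext ?_⟩
    show ((c₁.sum fun i a => a • kf i : LinearMap.ker μ) : T) =
      Finsupp.linearCombination B e (Finsupp.sumElim c₁ 0)
    rw [hsum]
    simp [Finsupp.linearCombination_apply, Finsupp.sum, kf]
  exact ⟨Module.Basis.mk hkli hksp, fun l => by rw [Module.Basis.mk_apply]⟩

end ker

section frobRoot

variable (p : ℕ) [Fact p.Prime] {A B : Type*} [CommRing A] [CommRing B] [Algebra A B] [CharP B p]

/-- an element of `A` mapping to `b ^ p` -/
noncomputable def frobRootFun (hpow : ∀ b : B, b ^ p ∈ Set.range (algebraMap A B)) (b : B) : A :=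
  Classical.choose (hpow b)

theorem algebraMap_frobRootFun (hpow : ∀ b : B, b ^ p ∈ Set.range (algebraMap A B)) (b : B) :
    algebraMap A B (frobRootFun p hpow b) = b ^ p :=
  Classical.choose_spec (hpow b)

/-- the ring homomorphism `B → A` sending `b` to the element mapping to `b ^ p` -/
noncomputable def frobRoot (hinj : Function.Injective (algebraMap A B))
    (hpow : ∀ b : B, b ^ p ∈ Set.range (algebraMap A B)) : B →+* A where
  toFun := frobRootFun p hpow
  map_one' := hinj (by rw [algebraMap_frobRootFun, one_pow, map_one])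
  map_mul' b c := hinj (by rw [algebraMap_frobRootFun, map_mul, algebraMap_frobRootFun,
    algebraMap_frobRootFun, mul_pow])
  map_zero' := hinj (by
    rw [algebraMap_frobRootFun, map_zero, zero_pow (Fact.out : p.Prime).ne_zero])
  map_add' b c := hinj (by rw [algebraMap_frobRootFun, map_add, algebraMap_frobRootFun,
    algebraMap_frobRootFun, add_pow_char])

theorem algebraMap_frobRoot (hinj : Function.Injective (algebraMap A B))
    (hpow : ∀ b : B, b ^ p ∈ Set.range (algebraMap A B)) (b : B) :
    algebraMap A B (frobRoot p hinj hpow b) = b ^ p :=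
  algebraMap_frobRootFun p hpow b

theorem frobRoot_algebraMap (hinj : Function.Injective (algebraMap A B))
    (hpow : ∀ b : B, b ^ p ∈ Set.range (algebraMap A B)) (a : A) :
    frobRoot p hinj hpow (algebraMap A B a) = a ^ p :=
  hinj (by rw [algebraMap_frobRoot, map_pow])

theorem frobRoot_injective [IsReduced B] (hinj : Function.Injective (algebraMap A B))
    (hpow : ∀ b : B, b ^ p ∈ Set.range (algebraMap A B)) :
    Function.Injective (frobRoot p hinj hpow) := by
  have : ExpChar B p := ExpChar.prime Fact.out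
  intro b c hbc
  have h : b ^ p = c ^ p := by
    rw [← algebraMap_frobRoot p hinj hpow, ← algebraMap_frobRoot p hinj hpow, hbc]
  exact frobenius_inj B p h

end frobRoot

end Groth.Agent.H44.PBasis
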