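import Groth.Agent.H44.PBasisField
import Mathlib.RingTheory.AlgebraTower

/-!
# `p`-bases in a tower `A → C → B`

Generic transfer lemmas for linear independence / spanning between coefficient rings acting in the
same way, a converse of `linearIndependent_smul`, and the factorisation of the reduced monomials of
a family indexed by a sum type.
-/

set_option autoImplicit false

universe u

namespace Groth.Agent.H44.PBasis

section transfer

variable {R R' M : Type*} [Ring R] [Ring R'] [AddCommGroup M] [Module R M] [Module R' M]

/-- Linear independence over `R` passes to `R'` when every scalar of `R'` acts like some scalar of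
`R` that vanishes only if it does. -/
theorem linearIndependent_of_forall_exists {ι : Type*} {v : ι → M}
    (h : ∀ r' : R', ∃ r : R, (∀ m : M, r • m = r' • m) ∧ (r = 0 → r' = 0))
    (hv : LinearIndependent R v) : LinearIndependent R' v := by
  rw [linearIndependent_iff'] at hv ⊢
  intro t g hg i hi
  choose f hf1 hf2 using h
  refine hf2 _ (hv t (fun i => f (g i)) ?_ i hi)
  rw [← hg]
  exact Finset.sum_congr rfl fun i _ => hf1 _ _

/-- Spanning over `R` passes to `R'` when every scalar of `R` acts like some scalar of `R'`. -/
theorem span_eq_top_of_forall_exists {s : Set M}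
    (h : ∀ r : R, ∃ r' : R', ∀ m : M, r' • m = r • m)
    (hs : Submodule.span R s = ⊤) : Submodule.span R' s = ⊤ := by
  have key : ∀ m : M, m ∈ Submodule.span R s → m ∈ Submodule.span R' s := by
    intro m hm
    induction hm using Submodule.span_induction with
    | mem x hx => exact Submodule.subset_span hx
    | zero => exact zero_mem _
    | add x y _ _ hx hy => exact add_mem hx hy
    | smul r x _ hx =>
      obtain ⟨r', hr'⟩ := h r
      rw [← hr' x]
      exact Submodule.smul_mem _ _ hx
  rw [eq_top_iff]
  intro m _
  exact key m (by rw [hs]; trivial)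

end transfer

section conv

/-- A converse of `linearIndependent_smul`: if `b` spans `S` over `R` and the products `b i • c k`
are linearly independent over `R`, then `c` is linearly independent over `S`. -/
theorem linearIndependent_of_smul_of_span {R S M : Type*} [CommRing R] [Ring S] [AddCommGroup M]
    [Module R S] [Module S M] [Module R M] [IsScalarTower R S M] {ι' κ' : Type*} {b : ι' → S}
    {c : κ' → M} (hb : Submodule.span R (Set.range b) = ⊤)
    (h : LinearIndependent R (fun q : ι' × κ' => b q.1 • c q.2)) : LinearIndependent S c := by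
  classical
  rw [linearIndependent_iff'] at h ⊢
  intro t s hs k hk
  have hex : ∀ k, ∃ r : ι' →₀ R, (r.sum fun i a => a • b i) = s k := fun k =>
    (Finsupp.mem_span_range_iff_exists_finsupp).mp (by rw [hb]; trivial)
  choose r hr using hex
  let I : Finset ι' := t.biUnion fun k => (r k).support
  have hsk : ∀ k ∈ t, ∑ i ∈ I, r k i • b i = s k := by
    intro k hk
    rw [← hr k]
    exact (Finsupp.sum_of_support_subset (r k)
      (Finset.subset_biUnion_of_mem (fun k => (r k).support) hk) (fun i a => a • b i)
      (fun i _ => zero_smul R (b i))).symm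
  have hsum : ∑ q ∈ I ×ˢ t, (fun q : ι' × κ' => r q.2 q.1) q •
      (fun q : ι' × κ' => b q.1 • c q.2) q = 0 := by
    rw [Finset.sum_product, Finset.sum_comm, ← hs]
    refine Finset.sum_congr rfl fun k hk => ?_
    rw [← hsk k hk, Finset.sum_smul]
    refine Finset.sum_congr rfl fun i _ => ?_
    exact (smul_assoc _ _ _).symm
  have h0 := h (I ×ˢ t) (fun q => r q.2 q.1) hsum
  rw [← hsk k hk]
  refine Finset.sum_eq_zero fun i hi => ?_
  have : r k i = 0 := h0 (i, k) (Finset.mk_mem_product hi hk)
  rw [this, zero_smul]

end conv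

section split

variable (p : ℕ) {C B : Type*} [CommRing C] [CommRing B] [Algebra C B] {ι κ : Type*}
  (x : ι → C) (y : κ → B)

/-- Splitting a reduced exponent vector on a sum type. -/
noncomputable def splitEquiv (ι κ : Type*) :
    {e : (ι ⊕ κ) →₀ ℕ // ∀ i, e i < p} ≃
      {e : ι →₀ ℕ // ∀ i, e i < p} × {e : κ →₀ ℕ // ∀ i, e i < p} where
  toFun e :=
    (⟨(Finsupp.sumFinsuppEquivProdFinsupp e.1).1, fun i => by
        rw [Finsupp.fst_sumFinsuppEquivProdFinsupp]; exact e.2 _⟩,
      ⟨(Finsupp.sumFinsuppEquivProdFinsupp e.1).2, fun i => by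
        rw [Finsupp.snd_sumFinsuppEquivProdFinsupp]; exact e.2 _⟩)
  invFun q := ⟨Finsupp.sumElim q.1.1 q.2.1, fun i => by
    cases i with
    | inl i => rw [Finsupp.sumElim_inl]; exact q.1.2 i
    | inr k => rw [Finsupp.sumElim_inr]; exact q.2.2 k⟩
  left_inv e := Subtype.ext (Finsupp.sumFinsuppEquivProdFinsupp.symm_apply_apply e.1)
  right_inv q := Prod.ext
    (Subtype.ext (congrArg Prod.fst
      (Finsupp.sumFinsuppEquivProdFinsupp.apply_symm_apply (q.1.1, q.2.1))))
    (Subtype.ext (congrArg Prod.snd
      (Finsupp.sumFinsuppEquivProdFinsupp.apply_symm_apply (q.1.1, q.2.1))))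

theorem redMono_sumElim_symm
    (q : {e : ι →₀ ℕ // ∀ i, e i < p} × {e : κ →₀ ℕ // ∀ i, e i < p}) :
    redMono p (Sum.elim (fun i => algebraMap C B (x i)) y) ((splitEquiv p ι κ).symm q) =
      redMono p x q.1 • redMono p y q.2 := by
  show (Finsupp.sumElim q.1.1 q.2.1).prod
      (fun i n => Sum.elim (fun i => algebraMap C B (x i)) y i ^ n) =
    (q.1.1.prod fun i n => x i ^ n) • (q.2.1.prod fun k n => y k ^ n)
  rw [Finsupp.prod_sumElim, Algebra.smul_def, map_finsuppProd]
  congr 1
  refine Finsupp.prod_congr fun i _ => ?_
  simp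

theorem linearIndependent_redMono_sumElim_iff {R : Type*} [Ring R] [Module R B] :
    LinearIndependent R (redMono p (Sum.elim (fun i => algebraMap C B (x i)) y)) ↔
      LinearIndependent R
        (fun q : {e : ι →₀ ℕ // ∀ i, e i < p} × {e : κ →₀ ℕ // ∀ i, e i < p} =>
          redMono p x q.1 • redMono p y q.2) := by
  have h : (redMono p (Sum.elim (fun i => algebraMap C B (x i)) y)) ∘ (splitEquiv p ι κ).symm =
      fun q => redMono p x q.1 • redMono p y q.2 :=
    funext fun q => redMono_sumElim_symm p x y q
  rw [← h]
  exact (linearIndependent_equiv (splitEquiv p ι κ).symm).symm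

end split

section EGAtower

variable (p : ℕ) {A C B : Type u} [CommRing A] [CommRing C] [CommRing B] [Algebra A C]
  [Algebra C B] [Algebra A B] [IsScalarTower A C B]

theorem map_mem_pPower {c : C} (hc : c ∈ EGA41.pPowerSubalgebra p A C) :
    algebraMap C B c ∈ EGA41.pPowerSubalgebra p A B := by
  unfold EGA41.pPowerSubalgebra at hc ⊢
  induction hc using Algebra.adjoin_induction with
  | mem y hy =>
    obtain ⟨d, rfl⟩ := hy
    rw [map_pow]
    exact Algebra.subset_adjoin ⟨_, rfl⟩
  | algebraMap r =>
    rw [← IsScalarTower.algebraMap_apply]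
    exact Subalgebra.algebraMap_mem _ r
  | add y z _ _ hy hz => rw [map_add]; exact add_mem hy hz
  | mul y z _ _ hy hz => rw [map_mul]; exact mul_mem hy hz

end EGAtower

end Groth.Agent.H44.PBasis
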