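import Mathlib.Algebra.Category.ModuleCat.Presheaf
import Mathlib.LinearAlgebra.Finsupp.LinearCombination
import Mathlib.CategoryTheory.Generator.Basic

set_option autoImplicit false
universe u

open CategoryTheory Limits

namespace Groth.Agent.H44

variable {C : Type (u + 1)} [Category.{u} C] (R : Cᵒᵖ ⥤ RingCat.{u})

/-- carrier of `freeRep`. -/
abbrev FreeRepCarrier (X : C) (Y : Cᵒᵖ) : Type (u + 1) := ULift.{u + 1} (Y.unop ⟶ X) →₀ R.obj Y

/-- transition map of `freeRep`. -/
noncomputable def freeRepMap (X : C) {Y Z : Cᵒᵖ} (f : Y ⟶ Z) :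
    FreeRepCarrier R X Y →+ FreeRepCarrier R X Z :=
  (Finsupp.mapDomain.addMonoidHom
      (fun g : ULift.{u + 1} (Y.unop ⟶ X) => (ULift.up (f.unop ≫ g.down) : ULift.{u + 1} (Z.unop ⟶ X)))).comp
    (Finsupp.mapRange.addMonoidHom (R.map f).hom.toAddMonoidHom)

lemma freeRepMap_single (X : C) {Y Z : Cᵒᵖ} (f : Y ⟶ Z) (g : ULift.{u + 1} (Y.unop ⟶ X))
    (r : R.obj Y) :
    freeRepMap R X f (Finsupp.single g r) =
      Finsupp.single (ULift.up (f.unop ≫ g.down)) (R.map f r) := by
  change Finsupp.mapDomain _ (Finsupp.mapRange _ (map_zero _) _) = _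
  rw [Finsupp.mapRange_single, Finsupp.mapDomain_single]
  rfl

lemma freeRepMap_smul (X : C) {Y Z : Cᵒᵖ} (f : Y ⟶ Z) (r : R.obj Y) (m : FreeRepCarrier R X Y) :
    freeRepMap R X f (r • m) = (R.map f r) • freeRepMap R X f m := by
  refine Finsupp.induction_linear m ?_ ?_ ?_
  · simp
  · intro a b ha hb
    rw [smul_add, map_add, ha, hb, map_add, smul_add]
  · intro g s
    rw [Finsupp.smul_single, freeRepMap_single, freeRepMap_single, Finsupp.smul_single,
      smul_eq_mul, smul_eq_mul, map_mul]

/-- underlying abelian presheaf of `freeRep`. -/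
noncomputable abbrev freeRepAb (X : C) : Cᵒᵖ ⥤ AddCommGrpCat.{u + 1} where
  obj Y := AddCommGrpCat.of (FreeRepCarrier R X Y)
  map {Y Z} f := AddCommGrpCat.ofHom (freeRepMap R X f)
  map_id Y := by
    ext g r : 3
    simp [freeRepMap_single]
  map_comp {Y Z W} f g := by
    ext h r : 3
    simp [freeRepMap_single]

/-- The free presheaf of modules on the presheaf represented by `X`, values one universe up. -/
noncomputable def freeRep (X : C) : PresheafOfModules.{u + 1} R :=
  PresheafOfModules.ofPresheaf (freeRepAb R X) (by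
    intro Y Z f r m
    exact freeRepMap_smul R X f r m)

variable {R}

/-- The map `freeRep R X ⟶ M` attached to a section `m` of `M` over `X`, on values. -/
noncomputable def freeRepDescApp (M : PresheafOfModules.{u + 1} R) (X : C)
    (m : M.obj (Opposite.op X)) (Y : Cᵒᵖ) : FreeRepCarrier R X Y →ₗ[R.obj Y] M.obj Y :=
  Finsupp.linearCombination (R.obj Y)
    (fun g : ULift.{u + 1} (Y.unop ⟶ X) => (M.map g.down.op m : M.obj Y))

lemma freeRepDescApp_single (M : PresheafOfModules.{u + 1} R) (X : C)
    (m : M.obj (Opposite.op X)) (Y : Cᵒᵖ) (g : ULift.{u + 1} (Y.unop ⟶ X)) (r : R.obj Y) :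
    freeRepDescApp M X m Y (Finsupp.single g r) = r • (M.map g.down.op m : M.obj Y) := by
  exact Finsupp.linearCombination_single _ _ _

set_option backward.isDefEq.respectTransparency false in
lemma freeRepDescApp_naturality (M : PresheafOfModules.{u + 1} R) (X : C)
    (m : M.obj (Opposite.op X)) {Y Z : Cᵒᵖ} (f : Y ⟶ Z) (x : FreeRepCarrier R X Y) :
    freeRepDescApp M X m Z (freeRepMap R X f x) = M.map f (freeRepDescApp M X m Y x) := by
  refine Finsupp.induction_linear x ?_ ?_ ?_
  · simp
  · intro a b ha hb
    rw [map_add, map_add, ha, hb, map_add, map_add]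
  · intro g r
    rw [freeRepMap_single, freeRepDescApp_single, freeRepDescApp_single]
    erw [M.map_smul]
    congr 1
    have h : (f.unop ≫ g.down).op = g.down.op ≫ f := by simp
    rw [M.congr_map_apply h, M.map_comp_apply]

/-- The map `freeRep R X ⟶ M` attached to a section `m` of `M` over `X`. -/
noncomputable def freeRepDesc (M : PresheafOfModules.{u + 1} R) (X : C)
    (m : M.obj (Opposite.op X)) : freeRep R X ⟶ M :=
  PresheafOfModules.homMk (M₁ := freeRep R X) (M₂ := M)
    { app := fun Y => AddCommGrpCat.ofHom (freeRepDescApp M X m Y).toAddMonoidHom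
      naturality := by
        intro Y Z f
        ext g : 2
        exact freeRepDescApp_naturality M X m f g }
    (by
      intro Y r x
      exact (freeRepDescApp M X m Y).map_smul r x)

/-- The canonical section of `freeRep R X` over `X`. -/
noncomputable def freeRepGen (X : C) : (freeRep R X).obj (Opposite.op X) :=
  (Finsupp.single (ULift.up (𝟙 X)) (1 : R.obj (Opposite.op X)) : FreeRepCarrier R X (Opposite.op X))

set_option backward.isDefEq.respectTransparency false in
lemma freeRepDesc_app_gen (M : PresheafOfModules.{u + 1} R) (X : C)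
    (m : M.obj (Opposite.op X)) :
    (freeRepDesc M X m).app (Opposite.op X) (freeRepGen X) = m := by
  change freeRepDescApp M X m (Opposite.op X) (Finsupp.single (ULift.up (𝟙 X)) 1) = m
  rw [freeRepDescApp_single, one_smul]
  change M.map (𝟙 (Opposite.op X)) m = m
  rw [M.map_id]
  rfl

variable (R) in
lemma freeRep_isSeparating :
    ObjectProperty.IsSeparating (ObjectProperty.ofObj (freeRep R)) := by
  intro M N f g h
  ext ⟨X⟩ m
  have := h (freeRep R X) ⟨X⟩ (freeRepDesc M X m)
  have h2 := congrArg (fun φ => φ.app (Opposite.op X) (freeRepGen X)) this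
  simpa [freeRepDesc_app_gen] using h2

end Groth.Agent.H44
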