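import Groth.Agent.H44.PshModFreeRep
import Mathlib.Algebra.Category.ModuleCat.Presheaf.Abelian
import Mathlib.Algebra.Category.ModuleCat.Presheaf.Colimits
import Mathlib.Algebra.Category.ModuleCat.Presheaf.Limits
import Mathlib.Algebra.Category.ModuleCat.Presheaf.EpiMono
import Mathlib.Algebra.Category.Grp.AB
import Mathlib.CategoryTheory.Abelian.GrothendieckCategory.EnoughInjectives
import Mathlib.CategoryTheory.Abelian.GrothendieckAxioms.FunctorCategory

set_option autoImplicit false
universe u

open CategoryTheory Limits

namespace Groth.Agent.H44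

variable {C : Type (u + 1)} [Category.{u} C] (R : Cᵒᵖ ⥤ RingCat.{u})

lemma pshMod_hasSeparator : HasSeparator (PresheafOfModules.{u + 1} R) :=
  ⟨⟨∐ (freeRep R), (freeRep_isSeparating R).isSeparator_coproduct⟩⟩

lemma pshMod_toPresheaf_reflectsIsomorphisms :
    (PresheafOfModules.toPresheaf.{u + 1} R).ReflectsIsomorphisms := by
  constructor
  intro M N f hf
  have hbij : ∀ X : Cᵒᵖ, Function.Bijective (f.app X) := by
    intro X
    have h1 : IsIso (((PresheafOfModules.toPresheaf.{u + 1} R).map f).app X) := inferInstance
    exact (ConcreteCategory.isIso_iff_bijective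
      (((PresheafOfModules.toPresheaf.{u + 1} R).map f).app X)).mp h1
  have : Mono f := PresheafOfModules.mono_of_injective (fun X => (hbij X).1)
  have : Epi f := PresheafOfModules.epi_of_surjective (fun X => (hbij X).2)
  exact isIso_of_mono_of_epi f

instance pshMod_AB5 : AB5OfSize.{u + 1, u + 1} (PresheafOfModules.{u + 1} R) where
  ofShape J _ _ := by
    have := pshMod_toPresheaf_reflectsIsomorphisms R
    have : ReflectsFiniteLimits (PresheafOfModules.toPresheaf.{u + 1} R) := by
      constructor
      intro K _ _
      exact reflectsLimitsOfShape_of_reflectsIsomorphisms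
    exact HasExactColimitsOfShape.domain_of_functor J (PresheafOfModules.toPresheaf.{u + 1} R)

lemma pshMod_isGrothendieckAbelian :
    IsGrothendieckAbelian.{u + 1} (PresheafOfModules.{u + 1} R) where
  hasSeparator := pshMod_hasSeparator R

lemma pshMod_enoughInjectives : EnoughInjectives (PresheafOfModules.{u + 1} R) := by
  have := pshMod_isGrothendieckAbelian R
  exact IsGrothendieckAbelian.enoughInjectives.{u + 1}

end Groth.Agent.H44
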