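import Mathlib
import Groth.Agent.H24.QFStrat.Defs

/-!
# Piece (COP) of the S0170 squad (helper24): finite coproducts
-/

set_option autoImplicit false
set_option linter.style.haveILetI false
universe u
open CategoryTheory CategoryTheory.Limits AlgebraicGeometry
open Groth.Agent.H24.QFStrat Groth.Agent.H24.RadStrat

namespace Groth.Agent.H44.QFStrat_COP

/-- Van Kampen squares for a finite coproduct of morphisms. -/
theorem isPullback_sigmaMap {ι : Type} [Finite ι] {W Z : ι → Scheme.{u}} (z : ∀ i, Z i ⟶ W i)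
    (i : ι) : IsPullback (Sigma.ι Z i) (z i) (Limits.Sigma.map z) (Sigma.ι W i) := by
  have hVK : IsVanKampenColimit (Cofan.mk (∐ W) (Sigma.ι W)) :=
    FinitaryExtensive.isVanKampen_finiteCoproducts (coproductIsCoproduct W)
  have h := (hVK (Cofan.mk (∐ Z) (Sigma.ι Z)) (Discrete.natTrans (fun i => z i.as))
    (Limits.Sigma.map z) (by ext ⟨j⟩; simp) (NatTrans.Equifibered.of_discrete _)).mp
      ⟨coproductIsCoproduct Z⟩ ⟨i⟩
  exact h

/-- A property local at the target can be checked on pullback squares over an open cover. -/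
theorem of_cover_isPullback {P : MorphismProperty Scheme.{u}} [IsZariskiLocalAtTarget P]
    {X Y : Scheme.{u}} (f : X ⟶ Y) (𝒰 : Y.OpenCover) (UX : 𝒰.I₀ → Scheme.{u})
    (iX : ∀ i, UX i ⟶ X) (f' : ∀ i, UX i ⟶ 𝒰.X i)
    (h : ∀ i, IsPullback (iX i) (f' i) f (𝒰.f i)) (H : ∀ i, P (f' i)) : P f := by
  refine IsZariskiLocalAtTarget.of_openCover 𝒰 (fun i => ?_)
  have e : (h i).isoPullback.hom ≫ pullback.snd f (𝒰.f i) = f' i := (h i).isoPullback_hom_snd
  have hP : P ((h i).isoPullback.hom ≫ pullback.snd f (𝒰.f i)) := by rw [e]; exact H i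
  exact (MorphismProperty.cancel_left_of_respectsIso P (h i).isoPullback.hom _).mp hP

section Core

variable {Y X : Scheme.{u}} (f : Y ⟶ X) {m : ℕ} (W Z : Fin m → Scheme.{u})
  (w : ∀ i, W i ⟶ X) (z : ∀ i, Z i ⟶ W i) (σ : ∀ i, Z i ⟶ Y)
  (hσ : ∀ i, z i ≫ w i = σ i ≫ f)

/-- the inclusion of the `i`-th piece of the fibre product -/
noncomputable def mMap (i : Fin m) : pullback (w i) f ⟶ pullback (Limits.Sigma.desc w) f :=
  pullback.lift (pullback.fst _ _ ≫ Sigma.ι W i) (pullback.snd _ _)
    (by simp [pullback.condition])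

/-- the glued lift -/
noncomputable def cMap : (∐ Z) ⟶ pullback (Limits.Sigma.desc w) f :=
  Limits.Sigma.desc (fun i => pullback.lift (z i ≫ Sigma.ι W i) (σ i) (by simp [hσ i]))

theorem ι_cMap (i : Fin m) : Sigma.ι Z i ≫ cMap f W Z w z σ hσ =
    pullback.lift (z i ≫ Sigma.ι W i) (σ i) (by simp [hσ i]) := by
  unfold cMap
  rw [Sigma.ι_desc]

theorem cMap_fst : cMap f W Z w z σ hσ ≫ pullback.fst (Limits.Sigma.desc w) f =
    Limits.Sigma.map z := by
  apply Limits.Sigma.hom_ext
  intro i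
  rw [← Category.assoc, ι_cMap, pullback.lift_fst, Sigma.ι_map]

theorem mMap_fst (i : Fin m) : mMap f W w i ≫ pullback.fst (Limits.Sigma.desc w) f =
    pullback.fst (w i) f ≫ Sigma.ι W i := by
  unfold mMap
  rw [pullback.lift_fst]

theorem mMap_snd (i : Fin m) : mMap f W w i ≫ pullback.snd (Limits.Sigma.desc w) f =
    pullback.snd (w i) f := by
  unfold mMap
  rw [pullback.lift_snd]

theorem squareA (i : Fin m) :
    IsPullback (mMap f W w i) (pullback.fst (w i) f) (pullback.fst (Limits.Sigma.desc w) f)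
      (Sigma.ι W i) := by
  have e2 : Sigma.ι W i ≫ Limits.Sigma.desc w = w i := by simp
  have s : IsPullback (mMap f W w i ≫ pullback.snd (Limits.Sigma.desc w) f)
      (pullback.fst (w i) f) f (Sigma.ι W i ≫ Limits.Sigma.desc w) := by
    rw [mMap_snd, e2]
    exact (IsPullback.of_hasPullback (w i) f).flip
  exact IsPullback.of_right s (mMap_fst f W w i)
    (IsPullback.of_hasPullback (Limits.Sigma.desc w) f).flip

theorem squareB (i : Fin m) :
    IsPullback (Sigma.ι Z i) (pullback.lift (z i) (σ i) (hσ i)) (cMap f W Z w z σ hσ)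
      (mMap f W w i) := by
  have s : IsPullback (Sigma.ι Z i) (pullback.lift (z i) (σ i) (hσ i) ≫ pullback.fst (w i) f)
      (cMap f W Z w z σ hσ ≫ pullback.fst (Limits.Sigma.desc w) f) (Sigma.ι W i) := by
    rw [cMap_fst, pullback.lift_fst]
    exact isPullback_sigmaMap z i
  refine IsPullback.of_bot s ?_ (squareA f W w i)
  rw [ι_cMap]
  apply pullback.hom_ext
  · rw [pullback.lift_fst, Category.assoc, mMap_fst, ← Category.assoc, pullback.lift_fst]
  · rw [pullback.lift_snd, Category.assoc, mMap_snd, pullback.lift_snd]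

theorem squareB' (i : Fin m) :
    IsPullback (Sigma.ι Z i)
      (pullback.lift (z i) (σ i) (hσ i) ≫ (squareA f W w i).isoPullback.hom)
      (cMap f W Z w z σ hσ)
      (pullback.fst (pullback.fst (Limits.Sigma.desc w) f) (Sigma.ι W i)) := by
  refine IsPullback.of_iso (squareB f W Z w z σ hσ i) (Iso.refl _) (Iso.refl _)
    (squareA f W w i).isoPullback (Iso.refl _) (by simp) (by simp) (by simp) ?_
  rw [Iso.refl_hom, Category.comp_id, IsPullback.isoPullback_hom_fst]

set_option backward.isDefEq.respectTransparency false in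
theorem core (hfin : ∀ i, IsFinite (z i)) (het : ∀ i, Etale (z i))
    (hci : ∀ i, IsClosedImmersion (pullback.lift (z i) (σ i) (hσ i)))
    (hsurj : ∀ i, Surjective (pullback.lift (z i) (σ i) (hσ i))) :
    IsClosedImmersion (cMap f W Z w z σ hσ) ∧ Surjective (cMap f W Z w z σ hσ) ∧
      IsFinite (cMap f W Z w z σ hσ ≫ pullback.fst (Limits.Sigma.desc w) f) ∧
      Etale (cMap f W Z w z σ hσ ≫ pullback.fst (Limits.Sigma.desc w) f) := by
  refine ⟨?_, ?_, ?_, ?_⟩
  · refine of_cover_isPullback (P := (@IsClosedImmersion : MorphismProperty Scheme.{u})) _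
      ((sigmaOpenCover W).pullback₁ (pullback.fst (Limits.Sigma.desc w) f)) Z (Sigma.ι Z)
      (fun i => pullback.lift (z i) (σ i) (hσ i) ≫ (squareA f W w i).isoPullback.hom)
      (fun i => squareB' f W Z w z σ hσ i) (fun i => ?_)
    exact (MorphismProperty.cancel_right_of_respectsIso
      (@IsClosedImmersion : MorphismProperty Scheme.{u}) (pullback.lift (z i) (σ i) (hσ i))
      (squareA f W w i).isoPullback.hom).mpr (hci i)
  · refine of_cover_isPullback (P := (@Surjective : MorphismProperty Scheme.{u})) _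
      ((sigmaOpenCover W).pullback₁ (pullback.fst (Limits.Sigma.desc w) f)) Z (Sigma.ι Z)
      (fun i => pullback.lift (z i) (σ i) (hσ i) ≫ (squareA f W w i).isoPullback.hom)
      (fun i => squareB' f W Z w z σ hσ i) (fun i => ?_)
    exact (MorphismProperty.cancel_right_of_respectsIso
      (@Surjective : MorphismProperty Scheme.{u}) (pullback.lift (z i) (σ i) (hσ i))
      (squareA f W w i).isoPullback.hom).mpr (hsurj i)
  · rw [cMap_fst]
    exact of_cover_isPullback (P := (@IsFinite : MorphismProperty Scheme.{u})) _ (sigmaOpenCover W) Z (Sigma.ι Z) z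
      (fun i => isPullback_sigmaMap z i) hfin
  · rw [cMap_fst]
    exact of_cover_isPullback (P := (@Etale : MorphismProperty Scheme.{u})) _ (sigmaOpenCover W) Z (Sigma.ι Z) z
      (fun i => isPullback_sigmaMap z i) het

end Core

/-- (COP) -/
theorem assemble {Y X : Scheme.{u}} (f : Y ⟶ X) (m : ℕ) (T : Fin m → Scheme.{u})
    (e : ∀ i, T i ⟶ X) (hT : ∀ i, IsAffine (T i)) (hcov : (⋃ i, Set.range (e i)) = Set.univ)
    (hTS : ∀ i, TS f (e i)) :
    ∃ (X' : Scheme.{u}) (_ : IsAffine X') (a : X' ⟶ X) (_ : Surjective a) (Z' : Scheme.{u})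
      (c : Z' ⟶ pullback a f) (_ : IsClosedImmersion c) (_ : Surjective c),
      IsFinite (c ≫ pullback.fst a f) ∧ Etale (c ≫ pullback.fst a f) := by
  choose W' g hQC hTS0 using hTS
  choose Z z σ hσ hfin het hci hsurj using hTS0
  have hW'aff : ∀ i, IsAffine (W' i) := fun i => by
    haveI := hT i
    haveI : IsFinite (g i) := (hQC i).1
    exact isAffine_of_isAffineHom (g i)
  obtain ⟨h1, h2, h3, h4⟩ := core f W' Z (fun i => g i ≫ e i) z σ hσ hfin het hci hsurj
  refine ⟨∐ W', inferInstance, Limits.Sigma.desc (fun i => g i ≫ e i), ?_, ∐ Z,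
    cMap f W' Z (fun i => g i ≫ e i) z σ hσ, h1, h2, h3, h4⟩
  constructor
  intro x
  have hx : x ∈ ⋃ i, Set.range (e i) := by rw [hcov]; trivial
  obtain ⟨i, t, rfl⟩ := Set.mem_iUnion.mp hx
  obtain ⟨w', rfl⟩ := (hQC i).2.1.surj t
  refine ⟨Sigma.ι W' i w', ?_⟩
  rw [← Scheme.Hom.comp_apply, Sigma.ι_desc]
  rfl

end Groth.Agent.H44.QFStrat_COP
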