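import Groth.Agent.H59.RegImmDesc
import Groth.Prelude.Def_RegImm

/-!
# fpqc descent of regular immersions for an abstract kind of sequences (helper44)

`K` is a predicate on finite families of ring elements which is stable under flat base change
(`Good.flat`) and such that "locally generated by a `K`-family" descends along faithfully flat
ring maps (`Good.desc`).  Port of helper59's `H59.RegImmDesc` (Koszul case) to this setting.
-/

set_option autoImplicit false
set_option linter.style.haveILetI false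
universe u
open CategoryTheory AlgebraicGeometry

namespace Groth.Agent.H44.RegImmK

open Groth.Agent.H59.Kosz Groth.Agent.H59.RegImmDesc Groth.Agent.H56.RegImmComp

section ring

variable (K : ∀ {R : Type u} [CommRing R] {r : ℕ}, (Fin r → R) → Prop)

/-- `J` is locally generated by `K`-families. -/
def LocK (R : Type u) [CommRing R] (J : Ideal R) : Prop :=
  ∀ (P : Ideal R) [P.IsPrime], J ≤ P → ∃ g : R, g ∉ P ∧ ∃ (r : ℕ)
    (f : Fin r → Localization.Away g),
    K f ∧ Ideal.span (Set.range f) = J.map (algebraMap R (Localization.Away g))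

/-- the two properties of the kind `K` that are needed -/
structure Good : Prop where
  flat : ∀ {R S : Type u} [CommRing R] [CommRing S] [Algebra R S] [Module.Flat R S] {r : ℕ}
    (f : Fin r → R), K f → K (fun i => algebraMap R S (f i))
  desc : ∀ {A B : Type u} [CommRing A] [CommRing B] [Algebra A B] [Module.FaithfullyFlat A B]
    (I : Ideal A), LocK K B (I.map (algebraMap A B)) → LocK K A I

variable {K}

lemma K_congr {R : Type u} [CommRing R] {c c' : ℕ} (h : c = c') (f : Fin c → R)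
    (g : Fin c' → R) (hfg : ∀ i, g (Fin.cast h i) = f i) (hf : K f) : K g := by
  subst h
  have : g = f := funext fun i => by simpa using hfg i
  subst this
  exact hf

lemma Good.ringEquiv (hK : Good K) {R R' : Type u} [CommRing R] [CommRing R'] (e : R ≃+* R')
    {r : ℕ} (f : Fin r → R) (hf : K f) : K (fun i => e (f i)) := by
  letI : Algebra R R' := e.toRingHom.toAlgebra
  haveI : Module.Flat R R' := by
    haveI : IsLocalization.Away (1 : R) R' :=
      IsLocalization.away_of_isUnit_of_bijective R' isUnit_one e.bijective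
    exact IsLocalization.flat R' (Submonoid.powers (1 : R))
  exact hK.flat f hf

lemma Good.map_list (hK : Good K) {R S : Type u} [CommRing R] [CommRing S] [Algebra R S]
    [Module.Flat R S] (rs : List R) (h : K rs.get) : K (rs.map (algebraMap R S)).get := by
  refine K_congr (K := K) (List.length_map (algebraMap R S)).symm _ _ ?_ (hK.flat rs.get h)
  intro i
  simp

lemma Good.map_list_equiv (hK : Good K) {R S : Type u} [CommRing R] [CommRing S] (e : R ≃+* S)
    (rs : List R) (h : K rs.get) : K (rs.map e).get := by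
  refine K_congr (K := K) (List.length_map e).symm _ _ ?_ (hK.ringEquiv e rs.get h)
  intro i
  simp

theorem range_get {T : Type u} (a : List T) : Set.range a.get = {y | y ∈ a} := by
  ext y
  simp only [Set.mem_range, Set.mem_setOf_eq]
  constructor
  · rintro ⟨i, rfl⟩; exact List.get_mem _ _
  · intro hx
    obtain ⟨i, rfl⟩ := List.get_of_mem hx
    exact ⟨i, rfl⟩

theorem span_range_comp {R S : Type u} [CommRing R] [CommRing S] {r : ℕ} (ψ : R →+* S)
    (f : Fin r → R) :
    Ideal.span (Set.range fun i => ψ (f i)) = (Ideal.span (Set.range f)).map ψ := by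
  rw [Ideal.map_span, ← Set.range_comp]; rfl

section pi

variable {P : Type u} [CommRing P] {m : ℕ} (Q : Fin m → Type u) [∀ j, CommRing (Q j)]
  [∀ j, Algebra P (Q j)]

lemma single_mul_single (j : Fin m) (a b : Q j) :
    (Pi.single j a : ∀ j, Q j) * Pi.single j b = Pi.single j (a * b) := by
  classical
  funext k
  by_cases hk : k = j
  · subst hk; simp
  · simp [Pi.single_eq_of_ne hk]

/-- `LocK` of an extended ideal in a finite product, factor by factor -/
theorem locK_map_pi (hK : Good K) (I : Ideal P)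
    (h : ∀ j, LocK K (Q j) (I.map (algebraMap P (Q j)))) :
    LocK K (∀ j, Q j) (I.map (algebraMap P (∀ j, Q j))) := by
  classical
  intro 𝔮 h𝔮prime h𝔮
  obtain ⟨j, hj⟩ : ∃ j, (Pi.single j (1 : Q j) : ∀ j, Q j) ∉ 𝔮 := by
    by_contra hcon
    push Not at hcon
    have h1 : (∑ j, (Pi.single j (1 : Q j) : ∀ j, Q j)) ∈ 𝔮 :=
      Ideal.sum_mem _ (fun j _ => hcon j)
    rw [Finset.univ_sum_single] at h1
    exact h𝔮prime.ne_top ((Ideal.eq_top_iff_one _).mpr h1)
  have hπ : Function.Surjective (Pi.evalRingHom Q j) := fun x =>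
    ⟨Function.update 0 j x, by simp⟩
  have hker : RingHom.ker (Pi.evalRingHom Q j) ≤ 𝔮 := by
    intro x hx
    have hx' : x j = 0 := hx
    have h0 : x * Pi.single j (1 : Q j) = 0 := by
      funext k
      by_cases hk : k = j
      · subst hk; simp [hx']
      · simp [Pi.single_eq_of_ne hk]
    have h1 : x * Pi.single j (1 : Q j) ∈ 𝔮 := by rw [h0]; exact zero_mem _
    exact (h𝔮prime.mem_or_mem h1).resolve_right hj
  haveI h𝔮j : (𝔮.map (Pi.evalRingHom Q j)).IsPrime := Ideal.map_isPrime_of_surjective hπ hker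
  have hcomap : (𝔮.map (Pi.evalRingHom Q j)).comap (Pi.evalRingHom Q j) = 𝔮 := by
    rw [Ideal.comap_map_of_surjective _ hπ, sup_eq_left]
    exact hker
  have hle : I.map (algebraMap P (Q j)) ≤ 𝔮.map (Pi.evalRingHom Q j) := by
    have h1 : algebraMap P (Q j) = (Pi.evalRingHom Q j).comp (algebraMap P (∀ j, Q j)) := rfl
    rw [h1, ← Ideal.map_map]
    exact Ideal.map_mono h𝔮
  obtain ⟨g, hg, r, f, hf, hspan⟩ := h j (𝔮.map (Pi.evalRingHom Q j)) hle
  set G : ∀ j, Q j := Pi.single j g with hG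
  have hGq : G ∉ 𝔮 := by
    intro hG'
    apply hg
    have : Pi.evalRingHom Q j G ∈ 𝔮.map (Pi.evalRingHom Q j) := Ideal.mem_map_of_mem _ hG'
    simpa [hG] using this
  refine ⟨G, hGq, r, ?_⟩
  letI : Algebra (∀ j, Q j) (Q j) := (Pi.evalRingHom Q j).toAlgebra
  haveI : IsLocalization.Away (Pi.single j (1 : Q j) : ∀ j, Q j) (Q j) :=
    isLocalization_away_single Q j
  haveI : IsLocalization.Away (algebraMap (∀ j, Q j) (Q j) G) (Localization.Away g) := by
    have : algebraMap (∀ j, Q j) (Q j) G = g := by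
      show (Pi.single j g : ∀ j, Q j) j = g
      simp
    rw [this]
    infer_instance
  haveI : IsLocalization.Away G (Localization.Away g) := by
    have h1 := IsLocalization.Away.mul' (Q j) (Localization.Away g)
      (Pi.single j (1 : Q j) : ∀ j, Q j) G
    rwa [hG, single_mul_single, one_mul] at h1
  let ε : Localization.Away g ≃ₐ[∀ j, Q j] Localization.Away G :=
    IsLocalization.algEquiv (Submonoid.powers G) _ _
  refine ⟨fun i => ε.toRingEquiv (f i), hK.ringEquiv ε.toRingEquiv f hf, ?_⟩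
  have hsp := span_range_comp (ε.toRingEquiv : Localization.Away g →+* Localization.Away G) f
  have hsp' : Ideal.span (Set.range fun i => ε.toRingEquiv (f i)) =
      (Ideal.span (Set.range f)).map
        (ε.toRingEquiv : Localization.Away g →+* Localization.Away G) := hsp
  rw [hsp', hspan, Ideal.map_map, Ideal.map_map, Ideal.map_map]
  congr 1
  ext x
  show ε (algebraMap (Q j) (Localization.Away g) (algebraMap P (Q j) x)) = _
  have : algebraMap (Q j) (Localization.Away g) (algebraMap P (Q j) x) =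
      algebraMap (∀ j, Q j) (Localization.Away g) (algebraMap P (∀ j, Q j) x) := by
    rw [IsScalarTower.algebraMap_apply (∀ j, Q j) (Q j) (Localization.Away g)]
    rfl
  rw [this, ε.commutes]
  rfl

/-- descent of `LocK` ideals along a finite jointly surjective flat family -/
theorem locK_of_flat_family (hK : Good K) (I : Ideal P) [∀ j, Module.Flat P (Q j)]
    (hsurj : ∀ p : PrimeSpectrum P, ∃ j,
      p ∈ Set.range (PrimeSpectrum.comap (algebraMap P (Q j))))
    (h : ∀ j, LocK K (Q j) (I.map (algebraMap P (Q j)))) : LocK K P I := by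
  haveI := faithfullyFlat_pi Q hsurj
  exact hK.desc (B := ∀ j, Q j) I (locK_map_pi Q hK I h)

end pi

end ring

section scheme

variable (K : ∀ {R : Type u} [CommRing R] {r : ℕ}, (Fin r → R) → Prop)
variable {X Z : Scheme.{u}}

/-- regular immersion of the abstract kind `K` (same shape as `RegImm.IsRegularImmersion`) -/
def RegImmK (i : Z ⟶ X) : Prop :=
  IsImmersion i ∧ ∀ z : Z, ∃ U : X.affineOpens, i z ∈ U.1 ∧ IsClosedImmersion (i ∣_ U.1) ∧
    ∃ rs : List Γ(X, U.1), K rs.get ∧ RingHom.ker (i.app U.1).hom = Ideal.ofList rs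

/-- local data over the open `U` -/
def PKK (i : Z ⟶ X) (U : X.Opens) : Prop :=
  IsClosedImmersion (i ∣_ U) ∧ ∃ rs : List Γ(X, U),
    K rs.get ∧ RingHom.ker (i.app U).hom = Ideal.ofList rs

variable {K}

lemma PKK.basicOpen (hK : Good K) {i : Z ⟶ X} {U : X.Opens} (hU : IsAffineOpen U)
    (h : PKK K i U) (b : Γ(X, U)) : PKK K i (X.basicOpen b) := by
  obtain ⟨hcl, rs, hreg, hker⟩ := h
  haveI : IsLocalization.Away b Γ(X, X.basicOpen b) := hU.isLocalization_basicOpen b
  refine ⟨closedImm_basicOpen i hcl b, rs.map (algebraMap Γ(X, U) Γ(X, X.basicOpen b)), ?_, ?_⟩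
  · haveI : Module.Flat Γ(X, U) Γ(X, X.basicOpen b) :=
      IsLocalization.flat _ (Submonoid.powers b)
    exact hK.map_list rs hreg
  · rw [ker_basicOpen i hU hcl b, hker, Groth.Agent.H56.KzSwap.ofList_map]

/-- for a `K`-regular immersion, the kernel on any affine open over which it is a closed
immersion is locally generated by `K`-families -/
theorem locK_ker_of_regImmK (hK : Good K) (i : Z ⟶ X) (hi : RegImmK K i)
    {V : X.Opens} (hV : IsAffineOpen V) (hcl : IsClosedImmersion (i ∣_ V)) :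
    LocK K Γ(X, V) (RingHom.ker (i.app V).hom) := by
  intro 𝔮i h𝔮prime h𝔮
  set 𝔮 : PrimeSpectrum Γ(X, V) := ⟨𝔮i, h𝔮prime⟩ with h𝔮def
  obtain ⟨z, hz⟩ := exists_preimage_of_ker_le i hV hcl 𝔮 h𝔮
  have hxV : hV.fromSpec 𝔮 ∈ V := by
    have : hV.fromSpec 𝔮 ∈ Set.range hV.fromSpec := ⟨𝔮, rfl⟩
    rw [hV.range_fromSpec] at this
    exact this
  obtain ⟨U', hzU', hclU', rs, hrs, hker⟩ := hi.2 z
  rw [hz] at hzU'
  obtain ⟨b', c, hbc, hxb⟩ := exists_basicOpen_le_affine_inter U'.2 hV (hV.fromSpec 𝔮)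
    ⟨hzU', hxV⟩
  have hPK : PKK K i (X.basicOpen b') :=
    PKK.basicOpen hK U'.2 ⟨hclU', rs, hrs, hker⟩ b'
  have key : ∃ rs' : List Γ(X, X.basicOpen c), K rs'.get ∧
      RingHom.ker (i.app (X.basicOpen c)).hom = Ideal.ofList rs' := by
    rw [← hbc]
    obtain ⟨-, rs', hrs', hker'⟩ := hPK
    exact ⟨rs', hrs', hker'⟩
  obtain ⟨rs', hrs', hker'⟩ := key
  have hc : c ∉ 𝔮i := by
    rw [hbc] at hxb
    have : 𝔮 ∈ (hV.fromSpec ⁻¹ᵁ X.basicOpen c : (Spec Γ(X, V)).Opens) := hxb
    rw [hV.fromSpec_preimage_basicOpen] at this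
    exact this
  haveI : IsLocalization.Away c Γ(X, X.basicOpen c) := hV.isLocalization_basicOpen c
  let ε : Γ(X, X.basicOpen c) ≃ₐ[Γ(X, V)] Localization.Away c :=
    IsLocalization.algEquiv (Submonoid.powers c) _ _
  refine ⟨c, hc, rs'.length, fun k => ε.toRingEquiv (rs'.get k),
    hK.ringEquiv ε.toRingEquiv rs'.get hrs', ?_⟩
  have hsp : Ideal.span (Set.range fun k => ε.toRingEquiv (rs'.get k)) =
      (Ideal.span (Set.range rs'.get)).map
        (ε.toRingEquiv : Γ(X, X.basicOpen c) →+* Localization.Away c) :=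
    span_range_comp (ε.toRingEquiv : Γ(X, X.basicOpen c) →+* Localization.Away c) rs'.get
  rw [hsp, range_get]
  have h2 : Ideal.span {y | y ∈ rs'} = Ideal.ofList rs' := rfl
  rw [h2, ← hker', ker_basicOpen i hV hcl c, Ideal.map_map]
  congr 1
  ext a
  exact ε.commutes a

/-- **fpqc descent of `K`-regular immersions.** -/
theorem regImmK_descent (hK : Good K) {X Y X' Y' : Scheme.{u}} (i : Y ⟶ X) [IsImmersion i]
    (g : X' ⟶ X) [Flat g] [Surjective g] [QuasiCompact g]
    (i' : Y' ⟶ X') (g' : Y' ⟶ Y) (hsq : IsPullback g' i' i g)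
    (hi' : RegImmK K i') : RegImmK K i := by
  refine ⟨inferInstance, fun z => ?_⟩
  obtain ⟨U₀, hU₀, hzU₀, hcl⟩ :=
    Groth.Agent.H9.exists_affine_isClosedImmersion_restrict i z
  -- the kernel is locally generated by `K`-families
  have hKer : LocK K Γ(X, U₀) (RingHom.ker (i.app U₀).hom) := by
    obtain ⟨m, e, hle, hsurj⟩ := exists_finite_affine_cover_preimage g hU₀
    letI : ∀ j, Algebra Γ(X, U₀) Γ(X', (e j).1) :=
      fun j => (g.appLE U₀ (e j).1 (hle j)).hom.toAlgebra
    haveI : ∀ j, Module.Flat Γ(X, U₀) Γ(X', (e j).1) := fun j => g.flat_appLE hU₀ (e j).2 _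
    apply locK_of_flat_family (fun j => Γ(X', (e j).1)) hK _ hsurj
    intro j
    obtain ⟨hcl', hker'⟩ :=
      closedImm_and_ker_of_isPullback i g i' g' hsq hU₀ hcl (e j).2 (hle j)
    show LocK K Γ(X', (e j).1)
      ((RingHom.ker (i.app U₀).hom).map (g.appLE U₀ (e j).1 (hle j)).hom)
    rw [← hker']
    exact locK_ker_of_regImmK hK i' hi' (e j).2 hcl'
  -- the prime of the point
  set 𝔭 := hU₀.primeIdealOf ⟨i z, hzU₀⟩ with h𝔭
  have hfs : hU₀.fromSpec 𝔭 = i z := hU₀.fromSpec_primeIdealOf ⟨i z, hzU₀⟩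
  have hmem : ∀ a : Γ(X, U₀), a ∉ 𝔭.asIdeal ↔ i z ∈ X.basicOpen a := by
    intro a
    rw [← hfs]
    have : (hU₀.fromSpec ⁻¹ᵁ X.basicOpen a : (Spec Γ(X, U₀)).Opens) =
        PrimeSpectrum.basicOpen a := hU₀.fromSpec_preimage_basicOpen a
    constructor
    · intro ha
      show 𝔭 ∈ (hU₀.fromSpec ⁻¹ᵁ X.basicOpen a : (Spec Γ(X, U₀)).Opens)
      rw [this]; exact ha
    · intro ha
      have h2 : 𝔭 ∈ (hU₀.fromSpec ⁻¹ᵁ X.basicOpen a : (Spec Γ(X, U₀)).Opens) := ha
      rw [this] at h2; exact h2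
  have h𝔭le : RingHom.ker (i.app U₀).hom ≤ 𝔭.asIdeal := by
    intro a ha
    by_contra hna
    have h1 : i z ∈ X.basicOpen a := (hmem a).mp hna
    have h2 : z ∈ i ⁻¹ᵁ X.basicOpen a := h1
    rw [Scheme.preimage_basicOpen, RingHom.mem_ker.mp ha, Scheme.basicOpen_zero] at h2
    exact h2
  obtain ⟨b, hb, r, f, hf, hspan⟩ := hKer 𝔭.asIdeal h𝔭le
  refine ⟨⟨X.basicOpen b, hU₀.basicOpen b⟩, (hmem b).mp hb, closedImm_basicOpen i hcl b, ?_⟩
  haveI : IsLocalization.Away b Γ(X, X.basicOpen b) := hU₀.isLocalization_basicOpen b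
  let ε : Localization.Away b ≃ₐ[Γ(X, U₀)] Γ(X, X.basicOpen b) :=
    IsLocalization.algEquiv (Submonoid.powers b) _ _
  refine ⟨(List.ofFn f).map ε.toRingEquiv, ?_, ?_⟩
  · apply hK.map_list_equiv ε.toRingEquiv (List.ofFn f)
    refine K_congr (K := K) (List.length_ofFn (f := f)).symm f _ ?_ hf
    intro k
    simp
  · show RingHom.ker (i.app (X.basicOpen b)).hom = _
    rw [ker_basicOpen i hU₀ hcl b]
    have h3 : algebraMap Γ(X, U₀) Γ(X, X.basicOpen b) =
        (ε.toRingEquiv : _ →+* _).comp (algebraMap Γ(X, U₀) (Localization.Away b)) := by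
      ext a
      exact (ε.commutes a).symm
    rw [h3, ← Ideal.map_map, ← hspan, Ideal.map_span]
    show _ = Ideal.span {y | y ∈ (List.ofFn f).map ε.toRingEquiv}
    congr 1
    ext y
    simp only [Set.mem_image, Set.mem_range, Set.mem_setOf_eq, List.mem_map, List.mem_ofFn]
    constructor
    · rintro ⟨x, ⟨k, rfl⟩, rfl⟩; exact ⟨f k, ⟨k, rfl⟩, rfl⟩
    · rintro ⟨x, ⟨k, rfl⟩, rfl⟩; exact ⟨f k, ⟨k, rfl⟩, rfl⟩

end scheme

end Groth.Agent.H44.RegImmK
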