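import Groth.Agent.S8804
import Mathlib.RingTheory.Jacobson.Artinian
import Mathlib.RingTheory.HopkinsLevitzki
import Mathlib.RingTheory.Ideal.GoingUp
import Mathlib.RingTheory.AdicCompletion.Functoriality

set_option autoImplicit false
universe u

namespace Groth.Agent.H44

open Groth.Agent.S8804

/-- finite products of precomplete modules are precomplete. -/
lemma isPrecomplete_pi {R : Type*} [CommRing R] (I : Ideal R) (ι : Type*) [Fintype ι]
    (M : Type*) [AddCommGroup M] [Module R M] [hM : IsPrecomplete I M] :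
    IsPrecomplete I (ι → M) := by
  classical
  refine ⟨fun f hf => ?_⟩
  have hproj : ∀ (n : ℕ) (x : ι → M), x ∈ (I ^ n • ⊤ : Submodule R (ι → M)) →
      ∀ i, x i ∈ (I ^ n • ⊤ : Submodule R M) := by
    intro n x hx i
    have h1 := Submodule.mem_map_of_mem (f := LinearMap.proj (R := R) (φ := fun _ : ι => M) i) hx
    rw [Submodule.map_smul''] at h1
    exact Submodule.smul_mono le_rfl le_top h1
  have hincl : ∀ (n : ℕ) (x : ι → M), (∀ i, x i ∈ (I ^ n • ⊤ : Submodule R M)) →
      x ∈ (I ^ n • ⊤ : Submodule R (ι → M)) := by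
    intro n x hx
    rw [← Finset.univ_sum_single x]
    refine Submodule.sum_mem _ fun i _ => ?_
    have h1 := Submodule.mem_map_of_mem (f := LinearMap.single R (fun _ : ι => M) i) (hx i)
    rw [Submodule.map_smul''] at h1
    exact Submodule.smul_mono le_rfl le_top h1
  have hcomp : ∀ i, ∃ L : M, ∀ n, f n i ≡ L [SMOD (I ^ n • ⊤ : Submodule R M)] := by
    intro i
    refine IsPrecomplete.prec hM (f := fun n => f n i) ?_
    intro m n hmn
    rw [SModEq.sub_mem]
    exact hproj m _ (SModEq.sub_mem.mp (hf hmn)) i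
  choose L hL using hcomp
  refine ⟨L, fun n => ?_⟩
  rw [SModEq.sub_mem]
  exact hincl n _ (fun i => SModEq.sub_mem.mp (hL i n))

lemma isMaximal_of_comap_isMaximal {R S : Type*} [CommRing R] [CommRing S] (f : R →+* S)
    (hf : Function.Surjective f) (P : Ideal S) (h : (P.comap f).IsMaximal) : P.IsMaximal := by
  rw [Ideal.isMaximal_def] at h ⊢
  constructor
  · rintro rfl
    exact h.1 Ideal.comap_top
  · intro P' hP'
    have hlt : P.comap f < P'.comap f := lt_of_le_of_ne (Ideal.comap_mono hP'.le)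
      (fun e => hP'.ne (Ideal.comap_injective_of_surjective f hf e))
    have htop := h.2 _ hlt
    exact Ideal.comap_injective_of_surjective f hf (htop.trans Ideal.comap_top.symm)

/-- Zariski's lemma over a Jacobson quotient of the base. -/
lemma finite_quotient_maximal_of_isJacobsonRing {A B : Type*} [CommRing A] [CommRing B]
    [Algebra A B] (K : Ideal A) [IsJacobsonRing (A ⧸ K)] (m : Ideal B) [hm : m.IsMaximal]
    (hK : K ≤ m.comap (algebraMap A B)) [hft : Algebra.FiniteType A (B ⧸ m)] :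
    Module.Finite A (B ⧸ m) := by
  let _ := Ideal.Quotient.field m
  let f : A ⧸ K →+* B ⧸ m := Ideal.quotientMap m (algebraMap A B) hK
  have hcomp : f.comp (Ideal.Quotient.mk K) = algebraMap A (B ⧸ m) :=
    Ideal.quotientMap_comp_mk hK
  have hft' : (f.comp (Ideal.Quotient.mk K)).FiniteType := by
    rw [hcomp]
    exact RingHom.finiteType_algebraMap.mpr hft
  have hf : f.Finite :=
    RingHom.finite_iff_finiteType_of_isJacobsonRing.mpr (RingHom.FiniteType.of_comp_finiteType hft')
  have hfin := hf.comp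
    (RingHom.Finite.of_surjective (Ideal.Quotient.mk K) Ideal.Quotient.mk_surjective)
  rw [hcomp] at hfin
  exact RingHom.finite_algebraMap.mp hfin

section Core

variable (A : Type u) [CommRing A] [IsNoetherianRing A] (I : Ideal A) [IsAdicComplete I A]
  (B : Type u) [CommRing B] [Algebra A B] [IsNoetherianRing B]
  [IsAdicComplete (I.map (algebraMap A B)) B] (q : PrimeSpectrum B)
  (hq : ¬ (I.map (algebraMap A B)) ≤ q.asIdeal ∧ ∀ y : PrimeSpectrum B, q ≤ y →
    ¬ (I.map (algebraMap A B)) ≤ y.asIdeal → y = q)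

include hq

/-- the structure of `B ⧸ q` for a rig-closed prime `q`. -/
lemma rigClosed_quotient_structure :
    ringKrullDim (B ⧸ q.asIdeal) = 1 ∧
      (∀ M : Ideal (B ⧸ q.asIdeal), M.IsMaximal →
        M = ((I.map (algebraMap A B)).map (Ideal.Quotient.mk q.asIdeal)).radical) ∧
      (I.map (algebraMap A B)).map (Ideal.Quotient.mk q.asIdeal) ≠ ⊥ := by
  have h8 := ((Groth.Agent.S8804.result B (I.map (algebraMap A B)) q).out 0 2).mp hq
  refine ⟨h8.1, h8.2.1, fun h => hq.1 ?_⟩
  rw [Ideal.map_eq_bot_iff_le_ker, Ideal.mk_ker] at h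
  exact h

/-- if the residue fields of `B ⧸ q` are finite over `A`, so is `B ⧸ q`. -/
theorem finite_quotient_of_residue_finite
    (hres : ∀ m : Ideal B, m.IsMaximal → q.asIdeal ≤ m → Module.Finite A (B ⧸ m)) :
    Module.Finite A (B ⧸ q.asIdeal) := by
  have hqp := q.isPrime
  obtain ⟨hdim, hrad, hJ0⟩ := rigClosed_quotient_structure A I B q hq
  have hmax := ((dim_eq_one_iff (B ⧸ q.asIdeal)).mp hdim).2
  have hsurjJ : Function.Surjective (Ideal.Quotient.mk
      ((I.map (algebraMap A B)).map (Ideal.Quotient.mk q.asIdeal))) := Ideal.Quotient.mk_surjective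
  -- `E` is Artinian
  have hArt : IsArtinianRing ((B ⧸ q.asIdeal) ⧸
      (I.map (algebraMap A B)).map (Ideal.Quotient.mk q.asIdeal)) := by
    rw [isArtinianRing_iff_isNoetherianRing_krullDimLE_zero]
    refine ⟨inferInstance, Ring.KrullDimLE.mk₀ fun P hP => ?_⟩
    apply isMaximal_of_comap_isMaximal _ hsurjJ
    have hP' : (P.comap (Ideal.Quotient.mk
        ((I.map (algebraMap A B)).map (Ideal.Quotient.mk q.asIdeal)))).IsPrime :=
      Ideal.comap_isPrime _ _
    refine hmax _ (fun h0 => hJ0 ?_) hP'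
    have hle : (I.map (algebraMap A B)).map (Ideal.Quotient.mk q.asIdeal) ≤
        P.comap (Ideal.Quotient.mk
          ((I.map (algebraMap A B)).map (Ideal.Quotient.mk q.asIdeal))) := by
      intro x hx
      rw [Ideal.mem_comap, Ideal.Quotient.eq_zero_iff_mem.mpr hx]
      exact P.zero_mem
    rw [h0] at hle
    exact le_bot_iff.mp hle
  -- the residue field
  obtain ⟨M₀, hM₀⟩ := Ideal.exists_maximal (B ⧸ q.asIdeal)
  have hm : (M₀.comap (Ideal.Quotient.mk q.asIdeal)).IsMaximal :=
    Ideal.comap_isMaximal_of_surjective _ Ideal.Quotient.mk_surjective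
  have hqm : q.asIdeal ≤ M₀.comap (Ideal.Quotient.mk q.asIdeal) := by
    intro x hx
    rw [Ideal.mem_comap, Ideal.Quotient.eq_zero_iff_mem.mpr hx]
    exact M₀.zero_mem
  have hfin_m := hres _ hm hqm
  let ψ : B →ₐ[A] (((B ⧸ q.asIdeal) ⧸
      (I.map (algebraMap A B)).map (Ideal.Quotient.mk q.asIdeal)) ⧸
        Ring.jacobson ((B ⧸ q.asIdeal) ⧸
          (I.map (algebraMap A B)).map (Ideal.Quotient.mk q.asIdeal))) :=
    (Ideal.Quotient.mkₐ A _).comp ((Ideal.Quotient.mkₐ A _).comp (Ideal.Quotient.mkₐ A q.asIdeal))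
  have hψsurj : Function.Surjective ψ :=
    (Ideal.Quotient.mkₐ_surjective A _).comp
      ((Ideal.Quotient.mkₐ_surjective A _).comp (Ideal.Quotient.mkₐ_surjective A _))
  have hψ : ∀ b : B, b ∈ M₀.comap (Ideal.Quotient.mk q.asIdeal) → ψ b = 0 := by
    intro b hb
    show Ideal.Quotient.mk _ (Ideal.Quotient.mk _ (Ideal.Quotient.mk q.asIdeal b)) = 0
    rw [Ideal.Quotient.eq_zero_iff_mem, Ring.jacobson_eq_sInf_isMaximal, Submodule.mem_sInf]
    intro N hN
    have hNmax : Ideal.IsMaximal (N : Ideal ((B ⧸ q.asIdeal) ⧸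
        (I.map (algebraMap A B)).map (Ideal.Quotient.mk q.asIdeal))) := hN
    have hN' : (Ideal.comap (Ideal.Quotient.mk
        ((I.map (algebraMap A B)).map (Ideal.Quotient.mk q.asIdeal))) N).IsMaximal :=
      Ideal.comap_isMaximal_of_surjective _ hsurjJ
    have e : Ideal.comap (Ideal.Quotient.mk
        ((I.map (algebraMap A B)).map (Ideal.Quotient.mk q.asIdeal))) N = M₀ :=
      (hrad _ hN').trans (hrad _ hM₀).symm
    have hb' : Ideal.Quotient.mk q.asIdeal b ∈ M₀ := hb
    rw [← e] at hb'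
    exact hb'
  let φ := Ideal.Quotient.liftₐ (M₀.comap (Ideal.Quotient.mk q.asIdeal)) ψ hψ
  have hφsurj : Function.Surjective φ := by
    intro y
    obtain ⟨b, rfl⟩ := hψsurj y
    exact ⟨Ideal.Quotient.mk _ b, rfl⟩
  haveI : Module.Finite A (((B ⧸ q.asIdeal) ⧸
      (I.map (algebraMap A B)).map (Ideal.Quotient.mk q.asIdeal)) ⧸
        Ring.jacobson ((B ⧸ q.asIdeal) ⧸
          (I.map (algebraMap A B)).map (Ideal.Quotient.mk q.asIdeal))) :=
    Module.Finite.of_surjective φ.toLinearMap hφsurj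
  have hE : Module.Finite A ((B ⧸ q.asIdeal) ⧸
      (I.map (algebraMap A B)).map (Ideal.Quotient.mk q.asIdeal)) :=
    IsSemiprimaryRing.finite_of_isArtinian A
      ((B ⧸ q.asIdeal) ⧸ (I.map (algebraMap A B)).map (Ideal.Quotient.mk q.asIdeal))
      ((B ⧸ q.asIdeal) ⧸ (I.map (algebraMap A B)).map (Ideal.Quotient.mk q.asIdeal))
  -- complete Nakayama
  haveI hH : IsHausdorff I (B ⧸ q.asIdeal) := by
    have h1 : IsHausdorff (I.map (algebraMap A B)) (B ⧸ q.asIdeal) :=
      IsHausdorff.of_le_jacobson _ _ (IsAdicComplete.le_jacobson_bot _)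
    exact IsHausdorff.map_algebraMap_iff.mp h1
  obtain ⟨n, s, hs⟩ := Module.Finite.exists_fin (R := A)
    (M := (B ⧸ q.asIdeal) ⧸ (I.map (algebraMap A B)).map (Ideal.Quotient.mk q.asIdeal))
  choose d hd using fun i => hsurjJ (s i)
  let f : (Fin n → A) →ₗ[A] (B ⧸ q.asIdeal) := Fintype.linearCombination A d
  have hJeq : (I • ⊤ : Submodule A (B ⧸ q.asIdeal)) =
      ((I.map (algebraMap A B)).map (Ideal.Quotient.mk q.asIdeal)).restrictScalars A := by
    rw [Ideal.smul_top_eq_map, IsScalarTower.algebraMap_eq A B (B ⧸ q.asIdeal), ← Ideal.map_map]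
    rfl
  have hfs : Function.Surjective
      ((I • ⊤ : Submodule A (B ⧸ q.asIdeal)).mkQ ∘ₗ f) := by
    intro y
    obtain ⟨x, rfl⟩ := Submodule.mkQ_surjective _ y
    have hx : Ideal.Quotient.mkₐ A ((I.map (algebraMap A B)).map (Ideal.Quotient.mk q.asIdeal)) x ∈
        Submodule.span A (Set.range s) := by
      rw [hs]
      exact Submodule.mem_top
    obtain ⟨c, hc⟩ := (Submodule.mem_span_range_iff_exists_fun A).mp hx
    refine ⟨c, ?_⟩
    rw [LinearMap.comp_apply, Submodule.mkQ_apply, Submodule.mkQ_apply, Submodule.Quotient.eq,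
      hJeq, Submodule.restrictScalars_mem, ← Ideal.Quotient.eq_zero_iff_mem]
    show Ideal.Quotient.mkₐ A _ (f c - x) = 0
    rw [map_sub, ← hc, sub_eq_zero]
    show Ideal.Quotient.mkₐ A _ (Fintype.linearCombination A d c) = _
    rw [Fintype.linearCombination_apply, map_sum]
    refine Finset.sum_congr rfl fun i _ => ?_
    rw [map_smul]
    congr 1
    exact hd i
  haveI : IsPrecomplete I (Fin n → A) := isPrecomplete_pi I (Fin n) A
  have hfsurj : Function.Surjective f := surjective_of_mkQ_comp_surjective hfs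
  exact Module.Finite.of_surjective f hfsurj

/-- if `B ⧸ q` is finite over `A`, the contraction of `q` is rig-closed. -/
theorem rigClosed_comap_of_finite [hfin : Module.Finite A (B ⧸ q.asIdeal)] :
    ¬ I ≤ (PrimeSpectrum.comap (algebraMap A B) q).asIdeal ∧
      ∀ y : PrimeSpectrum A, PrimeSpectrum.comap (algebraMap A B) q ≤ y → ¬ I ≤ y.asIdeal →
        y = PrimeSpectrum.comap (algebraMap A B) q := by
  have hqp := q.isPrime
  obtain ⟨hdim, hrad, hJ0⟩ := rigClosed_quotient_structure A I B q hq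
  have hmax := ((dim_eq_one_iff (B ⧸ q.asIdeal)).mp hdim).2
  refine ⟨fun h => hq.1 (Ideal.map_le_iff_le_comap.mpr h), fun y hy hIy => ?_⟩
  by_contra hne
  have hyp := y.isPrime
  haveI : Algebra.IsIntegral A (B ⧸ q.asIdeal) := Algebra.IsIntegral.of_finite A _
  have hker : RingHom.ker (algebraMap A (B ⧸ q.asIdeal)) = q.asIdeal.comap (algebraMap A B) := by
    rw [IsScalarTower.algebraMap_eq A B (B ⧸ q.asIdeal), ← RingHom.comap_ker]
    congr 1
    exact Ideal.mk_ker
  have hle : q.asIdeal.comap (algebraMap A B) ≤ y.asIdeal := hy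
  obtain ⟨Q, hQprime, hQ⟩ := Ideal.exists_ideal_over_prime_of_isIntegral_of_isDomain
    (S := B ⧸ q.asIdeal) y.asIdeal (hker.le.trans hle)
  have hQ0 : Q ≠ ⊥ := by
    rintro rfl
    apply hne
    apply PrimeSpectrum.ext
    rw [← hQ, ← RingHom.ker_eq_comap_bot, hker]
    rfl
  have hQmax : Q.IsMaximal := hmax Q hQ0 hQprime
  have hJQ : (I.map (algebraMap A B)).map (Ideal.Quotient.mk q.asIdeal) ≤ Q := by
    rw [hrad Q hQmax]
    exact Ideal.le_radical
  apply hIy
  rw [← hQ]
  intro a ha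
  rw [Ideal.mem_comap]
  apply hJQ
  rw [IsScalarTower.algebraMap_apply A B (B ⧸ q.asIdeal)]
  exact Ideal.mem_map_of_mem _ (Ideal.mem_map_of_mem _ ha)

end Core

end Groth.Agent.H44
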