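import Groth.Agent.H87.ComplIso
import Groth.Agent.H2.LocalCriterionMain
import Groth.Agent.S8839
import Groth.Agent.S8838
import Groth.Agent.H44.RigClosed
import Mathlib.RingTheory.RingHom.Flat
import Mathlib.RingTheory.Flat.Localization
import Mathlib.RingTheory.Localization.Away.Basic
import Mathlib.RingTheory.Unramified.Basic

/-!
# Tools for rig-flatness: functoriality of completed localizations, a local criterion of flatness
in `RingHom` form, and permanence of finite type / formally unramified for quotients.
-/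

set_option autoImplicit false
universe u

namespace Groth.Agent.H44.RigFlat

open Groth.Agent.H87.ComplIso TensorProduct

section HatMap

variable {R P S U : Type*} [CommRing R] [CommRing P] [CommRing S] [CommRing U]
  [Algebra R P] [Algebra R S] [Algebra R U]
variable (𝔵 : Ideal P) (I : Ideal S) (L : Ideal U) (φ : P →ₐ[R] S) (ψ : S →ₐ[R] U)

theorem evalₐ_hatMap (hφ : 𝔵 ≤ I.comap φ) (x : AdicCompletion 𝔵 P) (p : P) (n : ℕ)
    (h : AdicCompletion.evalₐ 𝔵 n x = Ideal.Quotient.mk (𝔵 ^ n) p) :
    AdicCompletion.evalₐ I n (hatMap 𝔵 I φ hφ x) = Ideal.Quotient.mk (I ^ n) (φ p) := by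
  obtain ⟨c, rfl⟩ := AdicCompletion.mk_surjective 𝔵 P x
  rw [evalₐ_hatMap_mk, Ideal.Quotient.eq, ← map_sub]
  rw [AdicCompletion.evalₐ_mk, Ideal.Quotient.eq] at h
  exact pow_le_comap 𝔵 I φ hφ n h

theorem hatMap_of (hφ : 𝔵 ≤ I.comap φ) (p : P) :
    hatMap 𝔵 I φ hφ (AdicCompletion.of 𝔵 P p) = AdicCompletion.of I S (φ p) := by
  refine AdicCompletion.ext_evalₐ fun n => ?_
  rw [evalₐ_hatMap 𝔵 I φ hφ _ p n (AdicCompletion.evalₐ_of 𝔵 n p), AdicCompletion.evalₐ_of]

end HatMap

section CMap

variable {R S U : Type*} [CommRing R] [CommRing S] [CommRing U]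

/-- the map of principal localizations induced by a ring map `φ` with `φ x = y`. -/
noncomputable def locMap (φ : R →+* S) (x : R) (y : S) (hxy : φ x = y) :
    Localization.Away x →+* Localization.Away y :=
  IsLocalization.Away.lift (S := Localization.Away x) x
    (g := (algebraMap S (Localization.Away y)).comp φ)
    (by rw [RingHom.comp_apply, hxy]; exact IsLocalization.Away.algebraMap_isUnit y)

@[simp] lemma locMap_algebraMap (φ : R →+* S) (x : R) (y : S) (hxy : φ x = y) (r : R) :
    locMap φ x y hxy (algebraMap R (Localization.Away x) r) =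
      algebraMap S (Localization.Away y) (φ r) := by
  unfold locMap
  rw [IsLocalization.Away.lift_eq]
  rfl

lemma locMap_eq_awayMap (φ : R →+* S) (x : R) :
    locMap φ x (φ x) rfl = Localization.awayMap φ x := by
  apply IsLocalization.ringHom_ext (Submonoid.powers x)
  refine RingHom.ext fun r => ?_
  rw [RingHom.comp_apply, RingHom.comp_apply, locMap_algebraMap]
  exact (IsLocalization.map_eq _ r).symm

lemma locMap_comp (φ : R →+* S) (ψ : S →+* U) (x : R) (y : S) (z : U) (hxy : φ x = y)
    (hyz : ψ y = z) (hxz : (ψ.comp φ) x = z) (w : Localization.Away x) :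
    locMap ψ y z hyz (locMap φ x y hxy w) = locMap (ψ.comp φ) x z hxz w := by
  have h : (locMap ψ y z hyz).comp (locMap φ x y hxy) = locMap (ψ.comp φ) x z hxz := by
    apply IsLocalization.ringHom_ext (Submonoid.powers x)
    refine RingHom.ext fun r => ?_
    rw [RingHom.comp_apply, RingHom.comp_apply, RingHom.comp_apply, locMap_algebraMap,
      locMap_algebraMap, locMap_algebraMap]
    rfl
  exact RingHom.congr_fun h w

variable (φ : R →+* S) (x : R) (y : S) (hxy : φ x = y) (J : Ideal R) (K : Ideal S)
  (hJK : J.map φ ≤ K)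

include hJK in
lemma map_le_comap_locMap : J.map (algebraMap R (Localization.Away x)) ≤
    (K.map (algebraMap S (Localization.Away y))).comap (locMap φ x y hxy) := by
  rw [Ideal.map_le_iff_le_comap]
  intro r hr
  show locMap φ x y hxy (algebraMap R (Localization.Away x) r) ∈
    K.map (algebraMap S (Localization.Away y))
  rw [locMap_algebraMap]
  exact Ideal.mem_map_of_mem _ (hJK (Ideal.mem_map_of_mem φ hr))

/-- functoriality of the completed principal localization. -/
noncomputable def cmap :
    AdicCompletion (J.map (algebraMap R (Localization.Away x))) (Localization.Away x) →+*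
      AdicCompletion (K.map (algebraMap S (Localization.Away y))) (Localization.Away y) :=
  letI : Algebra (Localization.Away x) (Localization.Away y) := (locMap φ x y hxy).toAlgebra
  (hatMap (J.map (algebraMap R (Localization.Away x))) (K.map (algebraMap S (Localization.Away y)))
    (Algebra.ofId (Localization.Away x) (Localization.Away y))
    (map_le_comap_locMap φ x y hxy J K hJK)).toRingHom

lemma evalₐ_cmap
    (w : AdicCompletion (J.map (algebraMap R (Localization.Away x))) (Localization.Away x))
    (p : Localization.Away x) (n : ℕ)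
    (h : AdicCompletion.evalₐ _ n w = Ideal.Quotient.mk _ p) :
    AdicCompletion.evalₐ _ n (cmap φ x y hxy J K hJK w) =
      Ideal.Quotient.mk _ (locMap φ x y hxy p) := by
  letI : Algebra (Localization.Away x) (Localization.Away y) := (locMap φ x y hxy).toAlgebra
  exact evalₐ_hatMap (J.map (algebraMap R (Localization.Away x)))
    (K.map (algebraMap S (Localization.Away y)))
    (Algebra.ofId (Localization.Away x) (Localization.Away y))
    (map_le_comap_locMap φ x y hxy J K hJK) w p n h

lemma cmap_of (w : Localization.Away x) :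
    cmap φ x y hxy J K hJK (AdicCompletion.of _ _ w) =
      AdicCompletion.of _ _ (locMap φ x y hxy w) := by
  refine AdicCompletion.ext_evalₐ fun n => ?_
  rw [evalₐ_cmap φ x y hxy J K hJK _ w n (AdicCompletion.evalₐ_of _ n w), AdicCompletion.evalₐ_of]

lemma cmap_algebraMap_away (w : Localization.Away x) :
    cmap φ x y hxy J K hJK (algebraMap (Localization.Away x) _ w) =
      algebraMap (Localization.Away y) _ (locMap φ x y hxy w) :=
  cmap_of φ x y hxy J K hJK w

lemma cmap_algebraMap (r : R) :
    cmap φ x y hxy J K hJK (algebraMap R _ r) = algebraMap S _ (φ r) := by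
  rw [AdicCompletion.algebraMap_apply, AdicCompletion.algebraMap_apply, cmap_of, locMap_algebraMap]

lemma cmap_comp_algebraMap_away :
    (cmap φ x y hxy J K hJK).comp (algebraMap (Localization.Away x) _) =
      (algebraMap (Localization.Away y) _).comp (locMap φ x y hxy) :=
  RingHom.ext fun w => cmap_algebraMap_away φ x y hxy J K hJK w

lemma cmap_comp (ψ : S →+* U) (z : U) (hyz : ψ y = z) (L : Ideal U) (hKL : K.map ψ ≤ L)
    (hxz : (ψ.comp φ) x = z) (hJL : J.map (ψ.comp φ) ≤ L)
    (w : AdicCompletion (J.map (algebraMap R (Localization.Away x))) (Localization.Away x)) :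
    cmap ψ y z hyz K L hKL (cmap φ x y hxy J K hJK w) = cmap (ψ.comp φ) x z hxz J L hJL w := by
  refine AdicCompletion.ext_evalₐ fun n => ?_
  obtain ⟨p, hp⟩ := Ideal.Quotient.mk_surjective (AdicCompletion.evalₐ _ n w)
  have h1 := evalₐ_cmap φ x y hxy J K hJK w p n hp.symm
  have h2 := evalₐ_cmap ψ y z hyz K L hKL _ _ n h1
  have h3 := evalₐ_cmap (ψ.comp φ) x z hxz J L hJL w p n hp.symm
  refine (h2.trans ?_).trans h3.symm
  congr 1
  exact locMap_comp φ ψ x y z hxy hyz hxz p

lemma cmap_congr (φ' : R →+* S) (h : φ = φ') (hxy' : φ' x = y) (hJK' : J.map φ' ≤ K) :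
    cmap φ x y hxy J K hJK = cmap φ' x y hxy' J K hJK' := by
  subst h
  rfl

end CMap

section Flat

/-- local criterion of flatness: if `T` is flat over `R0` and the maximal ideal of `R` is extended
from `R0`, then `T` is flat over `R`. -/
theorem flat_of_maximalIdeal_extended {R0 R T : Type u} [CommRing R0] [CommRing R] [CommRing T]
    [IsLocalRing R] [IsLocalRing T] [IsNoetherianRing R] [IsNoetherianRing T]
    (φ : R0 →+* R) (χ : R →+* T) [hloc : IsLocalHom χ]
    (hflat : (χ.comp φ).Flat) (𝔞 : Ideal R0) (h𝔞 : 𝔞.map φ = IsLocalRing.maximalIdeal R) :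
    χ.Flat := by
  letI a1 : Algebra R0 R := φ.toAlgebra
  letI a2 : Algebra R T := χ.toAlgebra
  letI a3 : Algebra R0 T := (χ.comp φ).toAlgebra
  haveI t : IsScalarTower R0 R T := IsScalarTower.of_algebraMap_eq (fun _ => rfl)
  haveI : IsLocalHom (algebraMap R T) := hloc
  haveI hf : Module.Flat R0 T := hflat
  have h1 := Groth.Agent.H2.rTensor_subtype_map_injective (R := R0) (S := R) (M := T) 𝔞
  have hm : (𝔞.map (algebraMap R0 R)) = IsLocalRing.maximalIdeal R := h𝔞
  haveI hismax : (𝔞.map (algebraMap R0 R)).IsMaximal := by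
    rw [hm]
    exact IsLocalRing.maximalIdeal.isMaximal _
  have hne := hismax.ne_top
  letI := Ideal.Quotient.field (𝔞.map (algebraMap R0 R))
  haveI hfree : Module.Free (R ⧸ 𝔞.map (algebraMap R0 R))
      ((R ⧸ 𝔞.map (algebraMap R0 R)) ⊗[R] T) := Module.Free.of_divisionRing _ _
  haveI : Module.Flat (R ⧸ 𝔞.map (algebraMap R0 R))
      ((R ⧸ 𝔞.map (algebraMap R0 R)) ⊗[R] T) := Module.Flat.of_free
  exact Groth.Agent.H2.flat_of_local_criterion (S := T) _ hne h1

/-- if `T` is flat over `R0` and every maximal ideal of `T` contracts to an ideal of `R` extended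
from `R0`, then `T` is flat over `R`. -/
theorem flat_of_maximal_extended {R0 R T : Type u} [CommRing R0] [CommRing R] [CommRing T]
    [IsNoetherianRing R] [IsNoetherianRing T] (φ : R0 →+* R) (χ : R →+* T)
    (hflat : (χ.comp φ).Flat)
    (h : ∀ 𝔫 : Ideal T, 𝔫.IsMaximal → ∃ 𝔞 : Ideal R0, 𝔞.map φ = 𝔫.comap χ) : χ.Flat := by
  algebraize_only [χ]
  rw [RingHom.Flat]
  apply Module.flat_of_isLocalized_maximal T T (fun P ↦ Localization.AtPrime P)
    (fun P ↦ Algebra.linearMap T _)
  intro P hP
  haveI hPp : P.IsPrime := hP.isPrime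
  obtain ⟨𝔞, h𝔞⟩ := h P hP
  haveI : (P.comap χ).IsPrime := Ideal.comap_isPrime _ _
  have hlocflat : (Localization.localRingHom (P.comap χ) P χ rfl).Flat := by
    haveI : IsLocalHom (Localization.localRingHom (P.comap χ) P χ rfl) :=
      Localization.isLocalHom_localRingHom _ _ _ _
    refine flat_of_maximalIdeal_extended
      ((algebraMap R (Localization.AtPrime (P.comap χ))).comp φ) _ ?_ 𝔞 ?_
    · have e : (Localization.localRingHom (P.comap χ) P χ rfl).comp
          ((algebraMap R (Localization.AtPrime (P.comap χ))).comp φ) =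
          (algebraMap T (Localization.AtPrime P)).comp (χ.comp φ) := by
        refine RingHom.ext fun x => ?_
        rw [RingHom.comp_apply, RingHom.comp_apply, RingHom.comp_apply, RingHom.comp_apply,
          Localization.localRingHom_to_map]
      rw [e]
      exact hflat.comp (RingHom.flat_algebraMap_iff.mpr inferInstance)
    · rw [← Ideal.map_map, h𝔞]
      exact Localization.AtPrime.map_eq_maximalIdeal
  algebraize_only [Localization.localRingHom (Ideal.comap χ P) P χ rfl]
  have : IsScalarTower R (Localization.AtPrime (Ideal.comap χ P)) (Localization.AtPrime P) :=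
    .of_algebraMap_eq fun x ↦ (Localization.localRingHom_to_map _ _ _ rfl x).symm
  have h' : Module.Flat (Localization.AtPrime (Ideal.comap χ P)) (Localization.AtPrime P) :=
    hlocflat
  exact Module.Flat.trans R (Localization.AtPrime <| Ideal.comap χ P) (Localization.AtPrime P)

/-- ideals containing a dense extended ideal are extended. -/
lemma map_comap_eq_of_dense {P S : Type*} [CommRing P] [CommRing S] (φ : P →+* S) (J : Ideal P)
    (hdense : ∀ s : S, ∃ a : P, s - φ a ∈ J.map φ) (𝔪 : Ideal S) (hle : J.map φ ≤ 𝔪) :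
    (𝔪.comap φ).map φ = 𝔪 := by
  refine le_antisymm Ideal.map_comap_le (fun x hx => ?_)
  obtain ⟨a, ha⟩ := hdense x
  have h1 : φ a ∈ 𝔪 := by
    have := sub_mem hx (hle ha)
    rwa [sub_sub_cancel] at this
  have h2 : φ a ∈ (𝔪.comap φ).map φ := Ideal.mem_map_of_mem _ (Ideal.mem_comap.mpr h1)
  have h3 : J.map φ ≤ (𝔪.comap φ).map φ := Ideal.map_mono (Ideal.map_le_iff_le_comap.mp hle)
  have := add_mem (h3 ha) h2
  rwa [sub_add_cancel] at this

end Flat

section Quot

variable {R S T : Type*} [CommRing R] [CommRing S] [CommRing T] [Algebra R S] [Algebra S T]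
  [Algebra R T] [IsScalarTower R S T] (J : Ideal S) (K : Ideal T)
  (hJK : J.map (algebraMap S T) ≤ K)

/-- the algebra structure `S ⧸ J → T ⧸ K` (a local instance). -/
noncomputable def quotAlgebra : Algebra (S ⧸ J) (T ⧸ K) :=
  (Ideal.quotientMap K (algebraMap S T) (Ideal.map_le_iff_le_comap.mp hJK)).toAlgebra

include hJK in
theorem finiteType_quotient_trans (h1 : Algebra.FiniteType R (S ⧸ J))
    (h2 : Algebra.FiniteType S (T ⧸ K)) : Algebra.FiniteType R (T ⧸ K) := by
  letI := quotAlgebra J K hJK
  haveI t1 : IsScalarTower S (S ⧸ J) (T ⧸ K) := IsScalarTower.of_algebraMap_eq (fun s => rfl)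
  haveI t2 : IsScalarTower R (S ⧸ J) (T ⧸ K) := IsScalarTower.of_algebraMap_eq (fun r => by
    show Ideal.Quotient.mk K (algebraMap R T r) =
      Ideal.Quotient.mk K (algebraMap S T (algebraMap R S r))
    rw [← IsScalarTower.algebraMap_apply R S T])
  haveI := h1
  haveI := h2
  haveI : Algebra.FiniteType (S ⧸ J) (T ⧸ K) :=
    Algebra.FiniteType.of_restrictScalars_finiteType S (S ⧸ J) (T ⧸ K)
  exact Algebra.FiniteType.trans (inferInstance : Algebra.FiniteType R (S ⧸ J)) inferInstance

include hJK in
theorem formallyUnramified_quotient_trans [h1 : Algebra.FormallyUnramified R (S ⧸ J)]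
    [h2 : Algebra.FormallyUnramified S (T ⧸ K)] : Algebra.FormallyUnramified R (T ⧸ K) := by
  letI := quotAlgebra J K hJK
  haveI t1 : IsScalarTower S (S ⧸ J) (T ⧸ K) := IsScalarTower.of_algebraMap_eq (fun s => rfl)
  haveI t2 : IsScalarTower R (S ⧸ J) (T ⧸ K) := IsScalarTower.of_algebraMap_eq (fun r => by
    show Ideal.Quotient.mk K (algebraMap R T r) =
      Ideal.Quotient.mk K (algebraMap S T (algebraMap R S r))
    rw [← IsScalarTower.algebraMap_apply R S T])
  haveI : Algebra.FormallyUnramified (S ⧸ J) (T ⧸ K) :=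
    Algebra.FormallyUnramified.of_restrictScalars S _ _
  exact Algebra.FormallyUnramified.comp R (S ⧸ J) (T ⧸ K)

end Quot

section CL

variable (R : Type u) [CommRing R] [IsNoetherianRing R] (J : Ideal R) (x : R)

/-- quotients of the completed principal localization by open ideals are formally unramified. -/
theorem formallyUnramified_cl_quot
    (K : Ideal (AdicCompletion (J.map (algebraMap R (Localization.Away x))) (Localization.Away x)))
    (hK : J.map (algebraMap R (AdicCompletion (J.map (algebraMap R (Localization.Away x)))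
      (Localization.Away x))) ≤ K) :
    Algebra.FormallyUnramified R
      (AdicCompletion (J.map (algebraMap R (Localization.Away x))) (Localization.Away x) ⧸ K) := by
  haveI := Groth.Agent.S8839.tower R J (Localization.Away x)
  haveI : Algebra.FormallyUnramified R (Localization.Away x) :=
    Algebra.FormallyUnramified.of_isLocalization (Rₘ := Localization.Away x) (Submonoid.powers x)
  refine Algebra.FormallyUnramified.of_surjective ((Ideal.Quotient.mkₐ R K).comp
    (IsScalarTower.toAlgHom R (Localization.Away x)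
      (AdicCompletion (J.map (algebraMap R (Localization.Away x))) (Localization.Away x)))) ?_
  intro y
  obtain ⟨s, rfl⟩ := Ideal.Quotient.mk_surjective y
  obtain ⟨a, ha⟩ := Groth.Agent.S8839.dense R J (Localization.Away x) s
  refine ⟨a, ?_⟩
  show Ideal.Quotient.mk K (algebraMap (Localization.Away x) _ a) = Ideal.Quotient.mk K s
  rw [eq_comm, Ideal.Quotient.eq]
  exact hK ha

/-- quotients of the completed principal localization by open ideals are of finite type. -/
theorem finiteType_cl_quot
    (K : Ideal (AdicCompletion (J.map (algebraMap R (Localization.Away x))) (Localization.Away x)))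
    (hK : J.map (algebraMap R (AdicCompletion (J.map (algebraMap R (Localization.Away x)))
      (Localization.Away x))) ≤ K) :
    Algebra.FiniteType R
      (AdicCompletion (J.map (algebraMap R (Localization.Away x))) (Localization.Away x) ⧸ K) := by
  haveI := Groth.Agent.S8839.tower R J (Localization.Away x)
  refine (inferInstance : Algebra.FiniteType R (Localization.Away x)).of_surjective
    ((Ideal.Quotient.mkₐ R K).comp
    (IsScalarTower.toAlgHom R (Localization.Away x)
      (AdicCompletion (J.map (algebraMap R (Localization.Away x))) (Localization.Away x)))) ?_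
  intro y
  obtain ⟨s, rfl⟩ := Ideal.Quotient.mk_surjective y
  obtain ⟨a, ha⟩ := Groth.Agent.S8839.dense R J (Localization.Away x) s
  refine ⟨a, ?_⟩
  show Ideal.Quotient.mk K (algebraMap (Localization.Away x) _ a) = Ideal.Quotient.mk K s
  rw [eq_comm, Ideal.Quotient.eq]
  exact hK ha

end CL

section RigClosed

/-- contraction of a rig-closed prime along a map with finite residue quotient is rig-closed. -/
theorem rigClosed_comap (R S : Type u) [CommRing R] [CommRing S] [IsNoetherianRing R]
    [IsNoetherianRing S] [Algebra R S] (JR : Ideal R) [IsAdicComplete JR R] (JS : Ideal S)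
    [hc : IsAdicComplete JS S] (hJ : JR.map (algebraMap R S) = JS) (q : Ideal S) [hq : q.IsPrime]
    (hrig : ¬ JS ≤ q ∧ ∀ y : PrimeSpectrum S, q ≤ y.asIdeal → ¬ JS ≤ y.asIdeal → y.asIdeal = q)
    [hfin : Module.Finite R (S ⧸ q)] :
    ¬ JR ≤ q.comap (algebraMap R S) ∧ ∀ y : PrimeSpectrum R, q.comap (algebraMap R S) ≤ y.asIdeal →
      ¬ JR ≤ y.asIdeal → y.asIdeal = q.comap (algebraMap R S) := by
  subst hJ
  have h := Groth.Agent.H44.rigClosed_comap_of_finite R JR S ⟨q, hq⟩
    ⟨hrig.1, fun y hy hIy => PrimeSpectrum.ext (hrig.2 y hy hIy)⟩ (hfin := hfin)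
  exact ⟨h.1, fun y hy hIy => congrArg PrimeSpectrum.asIdeal (h.2 y hy hIy)⟩

/-- `p B_q = q B_q` for a prime `q` of `B` over a rig-closed prime `p` of `A`, when `B ⧸ I B` is of
finite type and formally unramified over `A`. -/
theorem map_eq_maximalIdeal (A : Type u) [CommRing A] [IsNoetherianRing A] (I : Ideal A)
    [IsAdicComplete I A] (B : Type u) [CommRing B] [Algebra A B] [IsNoetherianRing B]
    [IsAdicComplete (I.map (algebraMap A B)) B]
    (hft : Algebra.FiniteType A (B ⧸ I.map (algebraMap A B)))
    [hu : Algebra.FormallyUnramified A (B ⧸ I.map (algebraMap A B))]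
    (q : Ideal B) [q.IsPrime]
    (hp : ¬ I ≤ q.comap (algebraMap A B) ∧ ∀ y : PrimeSpectrum A,
      q.comap (algebraMap A B) ≤ y.asIdeal → ¬ I ≤ y.asIdeal →
        y.asIdeal = q.comap (algebraMap A B)) :
    ((q.comap (algebraMap A B)).map (algebraMap A B)).map
      (algebraMap B (Localization.AtPrime q)) = IsLocalRing.maximalIdeal (Localization.AtPrime q) := by
  haveI hpprime : (q.comap (algebraMap A B)).IsPrime := Ideal.comap_isPrime _ _
  have hp' : ¬ I ≤ (⟨q.comap (algebraMap A B), hpprime⟩ : PrimeSpectrum A).asIdeal ∧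
      ∀ y : PrimeSpectrum A, (⟨q.comap (algebraMap A B), hpprime⟩ : PrimeSpectrum A) ≤ y →
        ¬ I ≤ y.asIdeal → y = ⟨q.comap (algebraMap A B), hpprime⟩ :=
    ⟨hp.1, fun y hy hIy => PrimeSpectrum.ext (hp.2 y hy hIy)⟩
  have h8 := ((Groth.Agent.S8804.result A I ⟨q.comap (algebraMap A B), hpprime⟩).out 0 2).mp hp'
  have hdim : ringKrullDim (A ⧸ q.comap (algebraMap A B)) = 1 := h8.1
  haveI : Algebra.FormallyUnramified (A ⧸ I) (B ⧸ I.map (algebraMap A B)) :=
    Algebra.FormallyUnramified.of_restrictScalars A _ _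
  obtain ⟨hfin, hunr⟩ := Groth.Agent.S8838.finite_quotient_map A I B hft
    (q.comap (algebraMap A B)) hdim hp.1
  exact Groth.Agent.S8838.map_eq_maximalIdeal_of_unramified q (q.comap (algebraMap A B)) rfl

end RigClosed

end Groth.Agent.H44.RigFlat
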