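import Mathlib

/-!
# Local structure of a smooth algebra along a partial section (helper44)

`etale_quotient_of_section`: abstract core: `C → C'` étale, `P` a `C'`-algebra with a retraction
`ev : P →ₐ[C'] C'`, `T` étale over `P`.  Then `T ⧸ (ker ev) T` is étale over `C`.
-/

universe v w

namespace Groth.Agent.H44.SmoothSection

open TensorProduct

section Quot

variable {P : Type v} {T : Type w} [CommRing P] [CommRing T] [Algebra P T]

/-- quotient of an étale algebra by an extended ideal is étale over the quotient -/
theorem etale_quotient_map [Algebra.Etale P T] (K : Ideal P) :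
    Algebra.Etale (P ⧸ K) (T ⧸ K.map (algebraMap P T)) :=
  Algebra.Etale.of_equiv (Algebra.TensorProduct.quotIdealMapEquivQuotTensor T K).symm

end Quot

section Core

variable {C C' P : Type v} {T : Type w} [CommRing C] [CommRing C'] [CommRing P] [CommRing T]
  [Algebra C C'] [Algebra C' P] [Algebra P T] [Algebra C T] [Algebra C' T]
  [IsScalarTower C C' T] [IsScalarTower C' P T]

theorem etale_quotient_of_section [Algebra.Etale C C'] [Algebra.Etale P T] (ev : P →ₐ[C'] C') :
    Algebra.Etale C (T ⧸ (RingHom.ker ev).map (algebraMap P T)) := by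
  set K : Ideal P := RingHom.ker ev with hK
  have hev : Function.Surjective ev := fun c => ⟨algebraMap C' P c, by simp⟩
  -- C' ≃ P ⧸ K
  let e₁ : (P ⧸ K) ≃ₐ[C'] C' := Ideal.quotientKerAlgEquivOfSurjective hev
  haveI : Algebra.Etale C' (P ⧸ K) := Algebra.Etale.of_equiv e₁.symm
  haveI : Algebra.Etale (P ⧸ K) (T ⧸ K.map (algebraMap P T)) := etale_quotient_map K
  haveI : IsScalarTower C' (P ⧸ K) (T ⧸ K.map (algebraMap P T)) := by
    apply IsScalarTower.of_algebraMap_eq
    intro c
    rw [IsScalarTower.algebraMap_apply C' T (T ⧸ K.map (algebraMap P T)),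
      IsScalarTower.algebraMap_apply C' P (P ⧸ K),
      IsScalarTower.algebraMap_apply C' P T]
    rfl
  haveI : Algebra.Etale C' (T ⧸ K.map (algebraMap P T)) :=
    Algebra.Etale.comp C' (P ⧸ K) (T ⧸ K.map (algebraMap P T))
  exact Algebra.Etale.comp C C' (T ⧸ K.map (algebraMap P T))

end Core

section Surj

variable {C : Type v} {B : Type w} [CommRing C] [CommRing B] [Algebra C B]

/-- modulo `J`, every element of the localization `T` of `B` at `f₁ * ε` comes from `C_e` -/
theorem exists_sub_mem (J : Ideal B)
    (hsurj : Function.Surjective ((Ideal.Quotient.mk J).comp (algebraMap C B)))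
    (f₁ : B) (e : C)
    (he : Ideal.Quotient.mk J (algebraMap C B e) = Ideal.Quotient.mk J f₁)
    (T : Type w) [CommRing T] [Algebra B T] [Algebra C T] [IsScalarTower C B T]
    [IsLocalization.Away (f₁ * algebraMap C B e) T]
    (C' : Type v) [CommRing C'] [Algebra C C'] [IsLocalization.Away e C'] [Algebra C' T]
    [IsScalarTower C C' T] (y : T) :
    ∃ t : C', y - algebraMap C' T t ∈ J.map (algebraMap B T) := by
  set ε : B := algebraMap C B e with hε
  obtain ⟨m, b, hb⟩ := IsLocalization.Away.surj (f₁ * ε) y
  obtain ⟨c, hc⟩ := hsurj (Ideal.Quotient.mk J b)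
  have hc' : b - algebraMap C B c ∈ J := by
    rw [← Ideal.Quotient.eq]
    exact hc.symm
  have hfe : (f₁ * ε) ^ m - ε ^ (2 * m) ∈ J := by
    rw [← Ideal.Quotient.eq, map_pow, map_pow, map_mul, ← he, pow_mul, sq]
  -- ε is a unit in T
  have hεu : IsUnit (algebraMap B T ε) := by
    have h1 : IsUnit (algebraMap B T (f₁ * ε)) := IsLocalization.Away.algebraMap_isUnit _
    rw [map_mul] at h1
    exact isUnit_of_mul_isUnit_right h1
  let t : C' := IsLocalization.mk' C' c (⟨e ^ (2 * m), 2 * m, rfl⟩ : Submonoid.powers e)
  have ht : algebraMap C' T t * algebraMap B T (ε ^ (2 * m)) = algebraMap B T (algebraMap C B c) := by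
    have h1 : t * algebraMap C C' (e ^ (2 * m)) = algebraMap C C' c :=
      IsLocalization.mk'_spec C' c (⟨e ^ (2 * m), 2 * m, rfl⟩ : Submonoid.powers e)
    have h2 := congrArg (algebraMap C' T) h1
    rw [map_mul, ← IsScalarTower.algebraMap_apply C C' T,
      ← IsScalarTower.algebraMap_apply C C' T, IsScalarTower.algebraMap_apply C B T,
      IsScalarTower.algebraMap_apply C B T c, map_pow] at h2
    rw [← h2, hε]
  refine ⟨t, ?_⟩
  have key : (y - algebraMap C' T t) * algebraMap B T (ε ^ (2 * m)) ∈ J.map (algebraMap B T) := by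
    have h3 : (y - algebraMap C' T t) * algebraMap B T (ε ^ (2 * m)) =
        algebraMap B T (b - algebraMap C B c) - y * algebraMap B T ((f₁ * ε) ^ m - ε ^ (2 * m)) := by
      rw [sub_mul, ht, map_sub, map_sub, mul_sub, map_pow (algebraMap B T) (f₁ * ε) m, hb]
      ring
    rw [h3]
    exact Ideal.sub_mem _ (Ideal.mem_map_of_mem _ hc')
      (Ideal.mul_mem_left _ _ (Ideal.mem_map_of_mem _ hfe))
  have hu2 : IsUnit (algebraMap B T (ε ^ (2 * m))) := by
    rw [map_pow]; exact hεu.pow _
  obtain ⟨u, hu⟩ := hu2
  have : y - algebraMap C' T t =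
      (y - algebraMap C' T t) * algebraMap B T (ε ^ (2 * m)) * ↑u⁻¹ := by
    rw [← hu, mul_assoc, Units.mul_inv, mul_one]
  rw [this]
  exact Ideal.mul_mem_right _ _ key

end Surj

section Core2

variable {C C' : Type v} {B B₁ T : Type w} [CommRing C] [CommRing C'] [CommRing B] [CommRing B₁]
  [CommRing T] [Algebra C B] [Algebra B B₁] [Algebra C B₁] [IsScalarTower C B B₁]
  [Algebra B₁ T] [Algebra B T] [Algebra C T] [IsScalarTower B B₁ T] [IsScalarTower C B T]
  [IsScalarTower C B₁ T] [Algebra C C'] [Algebra C' T] [IsScalarTower C C' T]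

attribute [local instance] MvPolynomial.algebraMvPolynomial

open MvPolynomial in
theorem core2 (e : C) [IsLocalization.Away e C'] [Algebra.Etale B₁ T]
    (J : Ideal B) (n : ℕ) (g : MvPolynomial (Fin n) C →ₐ[C] B₁) (hg : g.toRingHom.Etale)
    (t : Fin n → C')
    (ht : ∀ i, algebraMap B₁ T (g (X i)) - algebraMap C' T (t i) ∈ J.map (algebraMap B T)) :
    ∃ J₀ : Ideal T, J₀ ≤ J.map (algebraMap B T) ∧ Algebra.Etale C (T ⧸ J₀) := by
  classical
  letI algP₀B₁ : Algebra (MvPolynomial (Fin n) C) B₁ := g.toRingHom.toAlgebra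
  haveI : Algebra.Etale (MvPolynomial (Fin n) C) B₁ := hg
  letI algP₀T : Algebra (MvPolynomial (Fin n) C) T :=
    ((algebraMap B₁ T).comp g.toRingHom).toAlgebra
  haveI : IsScalarTower (MvPolynomial (Fin n) C) B₁ T :=
    IsScalarTower.of_algebraMap_eq (fun _ => rfl)
  haveI : Algebra.Etale (MvPolynomial (Fin n) C) T :=
    Algebra.Etale.comp (MvPolynomial (Fin n) C) B₁ T
  let y : Fin n → T := fun i => algebraMap B₁ T (g (X i))
  let φ : MvPolynomial (Fin n) C' →ₐ[C'] T := aeval y
  letI algPT : Algebra (MvPolynomial (Fin n) C') T := φ.toRingHom.toAlgebra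
  haveI : IsScalarTower C' (MvPolynomial (Fin n) C') T :=
    IsScalarTower.of_algebraMap_eq (fun c => (φ.commutes c).symm)
  haveI : IsScalarTower (MvPolynomial (Fin n) C) (MvPolynomial (Fin n) C') T := by
    apply IsScalarTower.of_algebraMap_eq'
    apply MvPolynomial.ringHom_ext
    · intro c
      show algebraMap B₁ T (g (MvPolynomial.C c)) = φ (algebraMap (MvPolynomial (Fin n) C)
        (MvPolynomial (Fin n) C') (MvPolynomial.C c))
      rw [MvPolynomial.algebraMap_def, map_C]
      have h1 : g (MvPolynomial.C c) = algebraMap C B₁ c := g.commutes c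
      have h2 : φ (MvPolynomial.C (algebraMap C C' c)) = algebraMap C' T (algebraMap C C' c) :=
        φ.commutes _
      rw [h1, h2, ← IsScalarTower.algebraMap_apply C B₁ T, ← IsScalarTower.algebraMap_apply C C' T]
    · intro i
      show algebraMap B₁ T (g (X i)) = φ (algebraMap (MvPolynomial (Fin n) C)
        (MvPolynomial (Fin n) C') (X i))
      rw [MvPolynomial.algebraMap_def, map_X]
      simp [φ, y]
  haveI : IsLocalization.Away (MvPolynomial.C e : MvPolynomial (Fin n) C) (MvPolynomial (Fin n) C') := by
    have h1 : IsLocalization ((Submonoid.powers e).map (MvPolynomial.C (σ := Fin n) (R := C)))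
      (MvPolynomial (Fin n) C') := inferInstance
    rwa [Submonoid.map_powers] at h1
  haveI : Algebra.Etale (MvPolynomial (Fin n) C) (MvPolynomial (Fin n) C') :=
    Algebra.Etale.of_isLocalizationAway (MvPolynomial.C e : MvPolynomial (Fin n) C)
  haveI : Algebra.Etale (MvPolynomial (Fin n) C') T :=
    Algebra.Etale.of_restrictScalars (R := MvPolynomial (Fin n) C)
      (A := MvPolynomial (Fin n) C') (B := T)
  haveI : Algebra.Etale C C' := Algebra.Etale.of_isLocalizationAway e
  let ev : MvPolynomial (Fin n) C' →ₐ[C'] C' := aeval t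
  refine ⟨(RingHom.ker ev).map (algebraMap (MvPolynomial (Fin n) C') T), ?_,
    etale_quotient_of_section ev⟩
  have hψ : (Ideal.Quotient.mk (J.map (algebraMap B T))).comp
      (algebraMap (MvPolynomial (Fin n) C') T) =
      (Ideal.Quotient.mk (J.map (algebraMap B T))).comp
        ((algebraMap C' T).comp ev.toRingHom) := by
    apply MvPolynomial.ringHom_ext
    · intro c
      show Ideal.Quotient.mk _ (φ (MvPolynomial.C c)) = Ideal.Quotient.mk _ (algebraMap C' T (ev (MvPolynomial.C c)))
      have h2 : φ (MvPolynomial.C c) = algebraMap C' T c := φ.commutes _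
      have h3 : ev (MvPolynomial.C c) = c := by simp [ev]
      rw [h2, h3]
    · intro i
      show Ideal.Quotient.mk _ (φ (X i)) = Ideal.Quotient.mk _ (algebraMap C' T (ev (X i)))
      have h2 : φ (X i) = y i := by simp [φ]
      have h3 : ev (X i) = t i := by simp [ev]
      rw [h2, h3, Ideal.Quotient.eq]
      exact ht i
  rw [Ideal.map_le_iff_le_comap]
  intro p hp
  rw [Ideal.mem_comap, ← Ideal.Quotient.eq_zero_iff_mem]
  have h4 := congrArg (fun ψ => ψ p) hψ
  simp only [RingHom.comp_apply] at h4
  rw [h4]
  have h5 : ev.toRingHom p = 0 := hp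
  rw [h5, map_zero, map_zero]

end Core2

section Main

variable {C : Type v} {B : Type w} [CommRing C] [CommRing B] [Algebra C B]

theorem main_aux (J : Ideal B)
    (hsurj : Function.Surjective ((Ideal.Quotient.mk J).comp (algebraMap C B)))
    (f₁ : B) [hstd : Algebra.IsStandardSmooth C (Localization.Away f₁)] (e : C)
    (he : Ideal.Quotient.mk J (algebraMap C B e) = Ideal.Quotient.mk J f₁) :
    ∃ J₀ : Ideal (Localization.Away (algebraMap B (Localization.Away f₁) (algebraMap C B e))),
      J₀ ≤ J.map (algebraMap B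
        (Localization.Away (algebraMap B (Localization.Away f₁) (algebraMap C B e)))) ∧
      Algebra.Etale C
        (Localization.Away (algebraMap B (Localization.Away f₁) (algebraMap C B e)) ⧸ J₀) := by
  classical
  set ε : B := algebraMap C B e with hε
  -- the étale map from a polynomial ring
  obtain ⟨ι, σ, hι, hσ, ⟨Pres⟩⟩ := hstd.out
  haveI : Algebra.IsStandardSmoothOfRelativeDimension Pres.dimension C (Localization.Away f₁) :=
    ⟨ι, σ, hι, hσ, Pres, rfl⟩
  obtain ⟨g, hg⟩ := Algebra.IsStandardSmoothOfRelativeDimension.exists_etale_mvPolynomial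
    Pres.dimension C (Localization.Away f₁)
  generalize Pres.dimension = n at g hg
  -- e is a unit in T
  have hunit : IsUnit (algebraMap C
      (Localization.Away (algebraMap B (Localization.Away f₁) ε)) e) := by
    rw [IsScalarTower.algebraMap_apply C B
      (Localization.Away (algebraMap B (Localization.Away f₁) ε)),
      IsScalarTower.algebraMap_apply B (Localization.Away f₁)
      (Localization.Away (algebraMap B (Localization.Away f₁) ε))]
    exact IsLocalization.Away.algebraMap_isUnit _
  letI algC'T : Algebra (Localization.Away e)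
      (Localization.Away (algebraMap B (Localization.Away f₁) ε)) :=
    (IsLocalization.Away.lift e hunit).toAlgebra
  haveI : IsScalarTower C (Localization.Away e)
      (Localization.Away (algebraMap B (Localization.Away f₁) ε)) :=
    IsScalarTower.of_algebraMap_eq (fun c => (IsLocalization.Away.lift_eq e hunit c).symm)
  -- choose the section values
  have hex : ∀ i : Fin n, ∃ t : Localization.Away e,
      algebraMap (Localization.Away f₁) (Localization.Away (algebraMap B (Localization.Away f₁) ε))
        (g (MvPolynomial.X i)) -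
        algebraMap (Localization.Away e)
          (Localization.Away (algebraMap B (Localization.Away f₁) ε)) t ∈
      J.map (algebraMap B (Localization.Away (algebraMap B (Localization.Away f₁) ε))) :=
    fun i => exists_sub_mem J hsurj f₁ e he _ (Localization.Away e) _
  choose t ht using hex
  exact core2 e J n g hg t ht

end Main

section Transport

variable {C : Type v} {B T T' : Type w} [CommRing C] [CommRing B] [CommRing T] [CommRing T']
  [Algebra C B] [Algebra B T] [Algebra B T'] [Algebra C T] [Algebra C T']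
  [IsScalarTower C B T] [IsScalarTower C B T']

theorem transport (ε : T ≃ₐ[B] T') (J : Ideal B) (J₀' : Ideal T)
    (hle : J₀' ≤ J.map (algebraMap B T)) (hEt : Algebra.Etale C (T ⧸ J₀')) :
    ∃ J₀ : Ideal T', J₀ ≤ J.map (algebraMap B T') ∧
      ((Ideal.Quotient.mk J₀).comp ((algebraMap B T').comp (algebraMap C B))).Etale := by
  let εr : T →+* T' := (ε : T →+* T')
  let εC : T ≃ₐ[C] T' := ε.restrictScalars C
  have hεC : ((εC : T →+* T')) = εr := rfl
  refine ⟨J₀'.map εr, ?_, ?_⟩
  · calc J₀'.map εr ≤ (J.map (algebraMap B T)).map εr := Ideal.map_mono hle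
      _ = J.map (algebraMap B T') := by
          rw [Ideal.map_map]
          congr 1
          ext b
          exact ε.commutes b
  · let e₂ : (T ⧸ J₀') ≃ₐ[C] (T' ⧸ J₀'.map εr) :=
      Ideal.quotientEquivAlg J₀' (J₀'.map εr) εC rfl
    haveI hE : Algebra.Etale C (T' ⧸ J₀'.map εr) := Algebra.Etale.of_equiv e₂
    have h1 := RingHom.etale_algebraMap.mpr hE
    have h2 : algebraMap C (T' ⧸ J₀'.map εr) =
        (Ideal.Quotient.mk (J₀'.map εr)).comp ((algebraMap B T').comp (algebraMap C B)) := by
      ext c
      rw [IsScalarTower.algebraMap_apply C T' (T' ⧸ J₀'.map εr),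
        IsScalarTower.algebraMap_apply C B T']
      rfl
    rw [h2] at h1
    exact h1

end Transport

end Groth.Agent.H44.SmoothSection
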