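import Groth.Agent.H44.CancelKinds
import Groth.Agent.H44.SmoothSection
import Groth.Agent.H56.SmoothSecAlg
import Groth.Agent.H59.LCIReg

/-!
# Regular immersions into a smooth scheme descend to the base: ring level (helper44)

`A → B` standard smooth, `φ : B → C` with `A → C` surjective.  If `ker φ` is locally generated by
`K`-families (near `Spec C`), then so is `ker (A → C)`.
-/

set_option autoImplicit false
set_option linter.style.haveILetI false
universe u

namespace Groth.Agent.H44.SmoothDesc

open Groth.Agent.H44.RegImmK Groth.Agent.H44.CancelK Groth.Agent.H59.Kosz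

section pair

def Q2 (R₁ R₂ : Type u) : Fin 2 → Type u := Fin.cases R₁ (fun _ => R₂)

instance Q2.commRing (R₁ R₂ : Type u) [CommRing R₁] [CommRing R₂] : ∀ j, CommRing (Q2 R₁ R₂ j) :=
  Fin.cases (inferInstanceAs (CommRing R₁)) (fun _ => inferInstanceAs (CommRing R₂))

instance Q2.algebra (A R₁ R₂ : Type u) [CommRing A] [CommRing R₁] [CommRing R₂] [Algebra A R₁]
    [Algebra A R₂] : ∀ j, Algebra A (Q2 R₁ R₂ j) :=
  Fin.cases (inferInstanceAs (Algebra A R₁)) (fun _ => inferInstanceAs (Algebra A R₂))

instance Q2.flat (A R₁ R₂ : Type u) [CommRing A] [CommRing R₁] [CommRing R₂] [Algebra A R₁]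
    [Algebra A R₂] [Module.Flat A R₁] [Module.Flat A R₂] : ∀ j, Module.Flat A (Q2 R₁ R₂ j) :=
  Fin.cases (inferInstanceAs (Module.Flat A R₁)) (fun _ => inferInstanceAs (Module.Flat A R₂))

variable {K : ∀ {R : Type u} [CommRing R] {r : ℕ}, (Fin r → R) → Prop}

/-- descent of `LocK` along two flat algebras which are jointly surjective on spectra -/
theorem locK_of_flat_pair (hK : Good K) {A R₁ R₂ : Type u} [CommRing A] [CommRing R₁] [CommRing R₂]
    [Algebra A R₁] [Algebra A R₂] [Module.Flat A R₁] [Module.Flat A R₂] (I : Ideal A)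
    (hsurj : ∀ p : PrimeSpectrum A, p ∈ Set.range (PrimeSpectrum.comap (algebraMap A R₁)) ∨
      p ∈ Set.range (PrimeSpectrum.comap (algebraMap A R₂)))
    (h₁ : LocK K R₁ (I.map (algebraMap A R₁))) (h₂ : LocK K R₂ (I.map (algebraMap A R₂))) :
    LocK K A I := by
  apply locK_of_flat_family (Q2 R₁ R₂) hK I
  · intro p
    rcases hsurj p with h | h
    · exact ⟨0, h⟩
    · exact ⟨1, h⟩
  · intro j
    induction j using Fin.cases with
    | zero => exact h₁
    | succ j => exact h₂

/-- descent of `LocK` along a flat finitely presented algebra whose image contains `V(I)` -/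
theorem locK_of_flat_of_zeroLocus (hK : Good K) {A R : Type u} [CommRing A] [CommRing R]
    [Algebra A R] [Module.Flat A R] [Algebra.FinitePresentation A R] (I : Ideal A)
    (h : LocK K R (I.map (algebraMap A R)))
    (hV : ∀ p : PrimeSpectrum A, I ≤ p.asIdeal →
      p ∈ Set.range (PrimeSpectrum.comap (algebraMap A R))) :
    LocK K A I := by
  have hopen : IsOpen (Set.range (PrimeSpectrum.comap (algebraMap A R))) :=
    (PrimeSpectrum.isOpenMap_comap_of_hasGoingDown_of_finitePresentation (R := A)
      (S := R)).isOpen_range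
  obtain ⟨𝔞, h𝔞⟩ := (PrimeSpectrum.isClosed_iff_zeroLocus_ideal _).mp hopen.isClosed_compl
  have htop : 𝔞 ⊔ I = ⊤ := by
    rw [← PrimeSpectrum.zeroLocus_empty_iff_eq_top, PrimeSpectrum.zeroLocus_sup, ← h𝔞]
    ext p
    simp only [Set.mem_inter_iff, Set.mem_compl_iff, PrimeSpectrum.mem_zeroLocus,
      Set.mem_empty_iff_false, iff_false, not_and]
    intro hp hI
    exact hp (hV p hI)
  obtain ⟨x, hx, h', hh', hsum⟩ := Submodule.mem_sup.mp ((Ideal.eq_top_iff_one _).mp htop)
  apply locK_of_flat_pair hK (R₁ := R) (R₂ := Localization.Away h') I ?_ h ?_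
  · intro p
    by_cases hp : p ∈ Set.range (PrimeSpectrum.comap (algebraMap A R))
    · left; exact hp
    · right
      rw [PrimeSpectrum.localization_away_comap_range (Localization.Away h') h']
      show h' ∉ p.asIdeal
      have hxp : x ∈ p.asIdeal := by
        have : p ∈ PrimeSpectrum.zeroLocus (𝔞 : Set A) := by rw [← h𝔞]; exact hp
        exact this hx
      intro hh
      have : (1 : A) ∈ p.asIdeal := hsum ▸ Ideal.add_mem _ hxp hh
      exact p.2.ne_top ((Ideal.eq_top_iff_one _).mpr this)
  · intro P hP hle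
    exfalso
    have : I.map (algebraMap A (Localization.Away h')) = ⊤ :=
      Ideal.eq_top_of_isUnit_mem _ (Ideal.mem_map_of_mem _ hh')
        (IsLocalization.Away.algebraMap_isUnit h')
    exact hP.ne_top (top_le_iff.mp (this ▸ hle))

end pair

section Core

variable {K : ∀ {R : Type u} [CommRing R] {r : ℕ}, (Fin r → R) → Prop}
variable {A B C : Type u} [CommRing A] [CommRing B] [CommRing C]

open Groth.Agent.H56.SmoothSec Groth.Agent.H44.SmoothSection

/-- the variables are a Koszul-regular sequence modulo an ideal of constants -/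
theorem kreg_xs_quot (n : ℕ) (I : Ideal A) :
    LCI.IsKoszulRegularSeq
      (MvPolynomial (Fin n) A ⧸ I.map (MvPolynomial.C : A →+* MvPolynomial (Fin n) A))
      ((xs A n).map (Ideal.Quotient.mk (I.map (MvPolynomial.C : A →+* MvPolynomial (Fin n) A)))) := by
  have h1 := kreg_ringEquiv
    (MvPolynomial.quotientEquivQuotientMvPolynomial (σ := Fin n) I).toRingEquiv (xs (A ⧸ I) n)
    (kreg_of_isWeaklyRegular _ (xs_isWeaklyRegular (A ⧸ I) n))
  have h2 : (xs (A ⧸ I) n).map
      (MvPolynomial.quotientEquivQuotientMvPolynomial (σ := Fin n) I).toRingEquiv =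
      (xs A n).map (Ideal.Quotient.mk (I.map (MvPolynomial.C : A →+* MvPolynomial (Fin n) A))) := by
    unfold xs
    rw [List.map_ofFn, List.map_ofFn]
    congr 1
    funext i
    simp [MvPolynomial.quotientEquivQuotientMvPolynomial]
  rw [← h2]
  exact h1

theorem core (hK : GoodC K) (n : ℕ) [Algebra A B] [Algebra (MvPolynomial (Fin n) A) B]
    [IsScalarTower A (MvPolynomial (Fin n) A) B]
    [Algebra.Etale (MvPolynomial (Fin n) A) B]
    (φ : B →+* C)
    (hX : ∀ i, φ (algebraMap (MvPolynomial (Fin n) A) B (MvPolynomial.X i)) = 0)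
    (hψ : Function.Surjective (φ.comp (algebraMap A B))) :
    ∃ b : B, φ b = 1 ∧
      ∀ (B' : Type u) [CommRing B'] [Algebra B B'] [IsLocalization.Away b B'],
        LocK K B' ((RingHom.ker φ).map (algebraMap B B')) →
        LocK K A (RingHom.ker (φ.comp (algebraMap A B))) := by
  classical
  set I : Ideal A := RingHom.ker (φ.comp (algebraMap A B)) with hI
  have hψ'apply : ∀ a : A, φ (algebraMap (MvPolynomial (Fin n) A) B
      (algebraMap A (MvPolynomial (Fin n) A) a)) = φ (algebraMap A B a) := fun a => by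
    rw [← IsScalarTower.algebraMap_apply]
  have hψ' : Function.Surjective (φ.comp (algebraMap (MvPolynomial (Fin n) A) B)) := by
    intro c
    obtain ⟨a, ha⟩ := hψ c
    refine ⟨algebraMap A (MvPolynomial (Fin n) A) a, ?_⟩
    rw [RingHom.comp_apply, hψ'apply]
    exact ha
  have hxsK : Ideal.ofList (xs A n) ≤
      RingHom.ker (φ.comp (algebraMap (MvPolynomial (Fin n) A) B)) := by
    rw [ofList_xs, Ideal.span_le]
    rintro _ ⟨i, rfl⟩
    exact hX i
  have hIK : I.map (algebraMap A (MvPolynomial (Fin n) A)) ≤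
      RingHom.ker (φ.comp (algebraMap (MvPolynomial (Fin n) A) B)) := by
    rw [Ideal.map_le_iff_le_comap]
    intro a ha
    rw [Ideal.mem_comap, RingHom.mem_ker, RingHom.comp_apply, hψ'apply]
    exact RingHom.mem_ker.mp ha
  have hKP : RingHom.ker (φ.comp (algebraMap (MvPolynomial (Fin n) A) B)) =
      Ideal.ofList (xs A n) ⊔ I.map (algebraMap A (MvPolynomial (Fin n) A)) := by
    apply le_antisymm
    · intro p hp
      have h1 : p - MvPolynomial.C (MvPolynomial.constantCoeff p) ∈ Ideal.ofList (xs A n) := by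
        rw [← ker_constantCoeff, RingHom.mem_ker, map_sub, MvPolynomial.constantCoeff_C, sub_self]
      have h2 : MvPolynomial.constantCoeff p ∈ I := by
        rw [hI, RingHom.mem_ker, RingHom.comp_apply, ← hψ'apply]
        have h3 := RingHom.mem_ker.mp (hxsK h1)
        rw [RingHom.comp_apply, map_sub, map_sub] at h3
        have h4 := RingHom.mem_ker.mp hp
        rw [RingHom.comp_apply] at h4
        rw [h4, zero_sub, neg_eq_zero] at h3
        exact h3
      have h5 : MvPolynomial.C (MvPolynomial.constantCoeff p) ∈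
          I.map (algebraMap A (MvPolynomial (Fin n) A)) := Ideal.mem_map_of_mem _ h2
      have h6 : p = (p - MvPolynomial.C (MvPolynomial.constantCoeff p)) +
          MvPolynomial.C (MvPolynomial.constantCoeff p) := by ring
      rw [h6]
      exact Ideal.add_mem _ (Ideal.mem_sup_left h1) (Ideal.mem_sup_right h5)
    · exact sup_le hxsK hIK
  obtain ⟨e, he0, hee, hkerφ⟩ := exists_idem (P := MvPolynomial (Fin n) A) φ hψ'
  rw [hKP] at hee hkerφ
  refine ⟨1 - e, by rw [map_sub, map_one, he0, sub_zero], ?_⟩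
  intro B' _ _ _ hLoc
  -- algebra structures on `B'`
  letI algPB' : Algebra (MvPolynomial (Fin n) A) B' :=
    ((algebraMap B B').comp (algebraMap (MvPolynomial (Fin n) A) B)).toAlgebra
  haveI : IsScalarTower (MvPolynomial (Fin n) A) B B' :=
    IsScalarTower.of_algebraMap_eq (fun _ => rfl)
  letI algAB' : Algebra A B' := ((algebraMap B B').comp (algebraMap A B)).toAlgebra
  haveI : IsScalarTower A B B' := IsScalarTower.of_algebraMap_eq (fun _ => rfl)
  haveI : IsScalarTower A (MvPolynomial (Fin n) A) B' := IsScalarTower.of_algebraMap_eq (fun a => by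
    show algebraMap B B' (algebraMap A B a) =
      algebraMap B B' (algebraMap (MvPolynomial (Fin n) A) B
        (algebraMap A (MvPolynomial (Fin n) A) a))
    rw [← IsScalarTower.algebraMap_apply A (MvPolynomial (Fin n) A) B])
  haveI : Algebra.Etale B B' := Algebra.Etale.of_isLocalizationAway (1 - e)
  haveI : Algebra.Etale (MvPolynomial (Fin n) A) B' :=
    Algebra.Etale.comp (MvPolynomial (Fin n) A) B B'
  -- the ideals
  set IP : Ideal (MvPolynomial (Fin n) A) := I.map (algebraMap A (MvPolynomial (Fin n) A))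
    with hIP
  set E : List B' := (xs A n).map (algebraMap (MvPolynomial (Fin n) A) B') with hE
  set I₀ : Ideal B' := IP.map (algebraMap (MvPolynomial (Fin n) A) B') with hI₀
  have hspanE : Ideal.span {y | y ∈ E} =
      (Ideal.ofList (xs A n)).map (algebraMap (MvPolynomial (Fin n) A) B') := by
    rw [hE, ← span_list_map]
  have hJ : (RingHom.ker φ).map (algebraMap B B') = I₀ ⊔ Ideal.span {y | y ∈ E} := by
    rw [hkerφ, Ideal.map_sup, Ideal.map_map,
      ← IsScalarTower.algebraMap_eq (MvPolynomial (Fin n) A) B B', Ideal.map_sup, ← hspanE,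
      ← hI₀, Ideal.map_span, Set.image_singleton]
    have hle : Ideal.span {algebraMap B B' e} ≤ Ideal.span {y | y ∈ E} ⊔ I₀ := by
      rw [Ideal.span_singleton_le_iff_mem]
      have hu : IsUnit (algebraMap B B' (1 - e)) :=
        IsLocalization.Away.algebraMap_isUnit (1 - e)
      have h1 : algebraMap B B' e * algebraMap B B' (1 - e) ∈
          Ideal.span {y | y ∈ E} ⊔ I₀ := by
        rw [← map_mul, hspanE, hI₀, ← Ideal.map_sup,
          IsScalarTower.algebraMap_eq (MvPolynomial (Fin n) A) B B', ← Ideal.map_map]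
        apply Ideal.mem_map_of_mem
        have : e * (1 - e) = -(e * e - e) := by ring
        rw [this]
        exact neg_mem hee
      obtain ⟨v, hv⟩ := hu
      have h2 : algebraMap B B' e = (algebraMap B B' e * algebraMap B B' (1 - e)) * ↑v⁻¹ := by
        rw [← hv, mul_assoc, Units.mul_inv, mul_one]
      rw [h2]
      exact Ideal.mul_mem_right _ _ h1
    rw [sup_eq_left.mpr hle, sup_comm]
  have hLoc' : LocK K B' (I₀ ⊔ Ideal.span {y | y ∈ E}) := hJ ▸ hLoc
  have hEk : LCI.IsKoszulRegularSeq B' E :=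
    isKoszulRegularSeq_of_flat (A := MvPolynomial (Fin n) A) (B := B') _
      (kreg_of_isWeaklyRegular _ (xs_isWeaklyRegular A n))
  -- Koszul-regularity of `E` modulo `I₀`
  haveI : Algebra.Etale (MvPolynomial (Fin n) A ⧸ IP)
      (B' ⧸ IP.map (algebraMap (MvPolynomial (Fin n) A) B')) := etale_quotient_map IP
  have hEb : LCI.IsKoszulRegularSeq (B' ⧸ I₀) (E.map (Ideal.Quotient.mk I₀)) := by
    have h1 : LCI.IsKoszulRegularSeq (MvPolynomial (Fin n) A ⧸ IP)
        ((xs A n).map (Ideal.Quotient.mk IP)) := by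
      have := kreg_xs_quot n I
      rw [← MvPolynomial.algebraMap_eq] at this
      exact this
    have h2 := isKoszulRegularSeq_of_flat (A := MvPolynomial (Fin n) A ⧸ IP)
      (B := B' ⧸ IP.map (algebraMap (MvPolynomial (Fin n) A) B')) _ h1
    have h3 : ((xs A n).map (Ideal.Quotient.mk IP)).map
        (algebraMap (MvPolynomial (Fin n) A ⧸ IP)
          (B' ⧸ IP.map (algebraMap (MvPolynomial (Fin n) A) B'))) =
        E.map (Ideal.Quotient.mk I₀) := by
      rw [hE, List.map_map, List.map_map]
      rfl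
    rw [h3] at h2
    exact h2
  -- the étale quotient
  let ev : MvPolynomial (Fin n) A →ₐ[A] A := MvPolynomial.aeval (0 : Fin n → A)
  have hkev : RingHom.ker ev = Ideal.ofList (xs A n) := by
    rw [← ker_constantCoeff]
    ext p
    rw [RingHom.mem_ker, RingHom.mem_ker]
    have : ev p = MvPolynomial.constantCoeff p := MvPolynomial.aeval_zero p
    rw [this]
  haveI hRet : Algebra.Etale A
      (B' ⧸ (RingHom.ker ev).map (algebraMap (MvPolynomial (Fin n) A) B')) :=
    etale_quotient_of_section ev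
  set JE : Ideal B' := (RingHom.ker ev).map (algebraMap (MvPolynomial (Fin n) A) B') with hJE
  have hJEspan : JE = Ideal.span {y | y ∈ E} := by rw [hJE, hkev, hspanE]
  have hkerπ : RingHom.ker (Ideal.Quotient.mk JE) = Ideal.span {y | y ∈ E} := by
    rw [Ideal.mk_ker, hJEspan]
  have h5 := locK_map_of_quot_list hK I₀ E hEk hLoc' (Ideal.Quotient.mk I₀)
    Ideal.Quotient.mk_surjective Ideal.mk_ker hEb (Ideal.Quotient.mk JE)
    Ideal.Quotient.mk_surjective hkerπ
  have h6 : I₀.map (Ideal.Quotient.mk JE) = I.map (algebraMap A (B' ⧸ JE)) := by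
    rw [hI₀, hIP, Ideal.map_map, Ideal.map_map]
    congr 1
    ext a
    show Ideal.Quotient.mk JE (algebraMap (MvPolynomial (Fin n) A) B'
      (algebraMap A (MvPolynomial (Fin n) A) a)) = Ideal.Quotient.mk JE (algebraMap A B' a)
    rw [← IsScalarTower.algebraMap_apply A (MvPolynomial (Fin n) A) B']
  rw [h6] at h5
  haveI : Algebra.FinitePresentation A (B' ⧸ JE) := inferInstance
  -- `V(I)` is in the image
  have hu1 : IsUnit (φ (1 - e)) := by
    rw [map_sub, map_one, he0, sub_zero]
    exact isUnit_one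
  let φ' : B' →+* C := IsLocalization.Away.lift (1 - e) hu1
  have hφ' : ∀ y : B, φ' (algebraMap B B' y) = φ y := fun y =>
    IsLocalization.Away.lift_eq (1 - e) hu1 y
  have hφ'JE : ∀ x ∈ JE, φ' x = 0 := by
    intro x hx
    have hle : JE ≤ RingHom.ker φ' := by
      rw [hJE, hkev, Ideal.map_le_iff_le_comap]
      intro p hp
      rw [Ideal.mem_comap, RingHom.mem_ker]
      show φ' (algebraMap B B' (algebraMap (MvPolynomial (Fin n) A) B p)) = 0
      rw [hφ']
      exact RingHom.mem_ker.mp (hxsK hp)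
    exact RingHom.mem_ker.mp (hle hx)
  let χ : (B' ⧸ JE) →+* C := Ideal.Quotient.lift JE φ' hφ'JE
  have hχ : χ.comp (algebraMap A (B' ⧸ JE)) = φ.comp (algebraMap A B) := by
    ext a
    show χ (Ideal.Quotient.mk JE (algebraMap B B' (algebraMap A B a))) = φ (algebraMap A B a)
    rw [Ideal.Quotient.lift_mk, hφ']
  apply locK_of_flat_of_zeroLocus hK.good I h5
  intro p hp
  have hkle : RingHom.ker (φ.comp (algebraMap A B)) ≤ p.asIdeal := hp
  haveI hpC : (p.asIdeal.map (φ.comp (algebraMap A B))).IsPrime :=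
    Ideal.map_isPrime_of_surjective hψ hkle
  have hcomap : (p.asIdeal.map (φ.comp (algebraMap A B))).comap (φ.comp (algebraMap A B)) =
      p.asIdeal := by
    rw [Ideal.comap_map_of_surjective _ hψ, sup_eq_left, ← RingHom.ker_eq_comap_bot]
    exact hkle
  refine ⟨⟨(p.asIdeal.map (φ.comp (algebraMap A B))).comap χ, inferInstance⟩, ?_⟩
  ext1
  show Ideal.comap (algebraMap A (B' ⧸ JE))
    ((p.asIdeal.map (φ.comp (algebraMap A B))).comap χ) = p.asIdeal
  rw [Ideal.comap_comap, hχ, hcomap]

/-- **Ring-level statement.** -/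
theorem main (hK : GoodC K) (f : A →+* B) (hf : f.IsStandardSmooth) (φ : B →+* C)
    (hψ : Function.Surjective (φ.comp f)) :
    ∃ b : B, φ b = 1 ∧
      ∀ (B' : Type u) [CommRing B'] [Algebra B B'] [IsLocalization.Away b B'],
        LocK K B' ((RingHom.ker φ).map (algebraMap B B')) →
        LocK K A (RingHom.ker (φ.comp f)) := by
  classical
  obtain ⟨n, g, hgC, hg⟩ := hf.exists_etale_mvPolynomial
  have hex : ∀ i : Fin n, ∃ a : A, φ (f a) = φ (g (MvPolynomial.X i)) := fun i => hψ _
  choose a ha using hex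
  let τ₁ : MvPolynomial (Fin n) A →ₐ[A] MvPolynomial (Fin n) A :=
    MvPolynomial.aeval (fun i => MvPolynomial.X i - MvPolynomial.C (a i))
  let τ₂ : MvPolynomial (Fin n) A →ₐ[A] MvPolynomial (Fin n) A :=
    MvPolynomial.aeval (fun i => MvPolynomial.X i + MvPolynomial.C (a i))
  have h12 : τ₁.comp τ₂ = AlgHom.id A _ := by
    apply MvPolynomial.algHom_ext
    intro i
    simp [τ₁, τ₂]
  have h21 : τ₂.comp τ₁ = AlgHom.id A _ := by
    apply MvPolynomial.algHom_ext
    intro i
    simp [τ₁, τ₂]
  let τ : MvPolynomial (Fin n) A ≃ₐ[A] MvPolynomial (Fin n) A := AlgEquiv.ofAlgHom τ₁ τ₂ h12 h21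
  have hτX : ∀ i, τ (MvPolynomial.X i) = MvPolynomial.X i - MvPolynomial.C (a i) := by
    intro i
    show τ₁ (MvPolynomial.X i) = _
    simp [τ₁]
  have hτC : ∀ r, τ (MvPolynomial.C r) = MvPolynomial.C r := by
    intro r
    show τ₁ (MvPolynomial.C r) = _
    simp [τ₁]
  obtain ⟨g', hg'def⟩ : ∃ g' : MvPolynomial (Fin n) A →+* B,
      g' = g.comp (τ : MvPolynomial (Fin n) A ≃+* MvPolynomial (Fin n) A).toRingHom := ⟨_, rfl⟩
  have hg' : g'.Etale := by
    rw [hg'def]
    exact RingHom.Etale.respectsIso.2 g _ hg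
  have hg'apply : ∀ x, g' x = g (τ x) := fun x => by rw [hg'def]; rfl
  have hg'C : g'.comp MvPolynomial.C = f := by
    ext r
    rw [RingHom.comp_apply, hg'apply, hτC, ← hgC, RingHom.comp_apply]
  have hg'X : ∀ i, φ (g' (MvPolynomial.X i)) = 0 := by
    intro i
    rw [hg'apply, hτX, map_sub, map_sub, ← ha i, ← hgC, RingHom.comp_apply, sub_self]
  letI : Algebra A B := f.toAlgebra
  letI : Algebra (MvPolynomial (Fin n) A) B := g'.toAlgebra
  haveI : IsScalarTower A (MvPolynomial (Fin n) A) B :=
    IsScalarTower.of_algebraMap_eq' hg'C.symm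
  haveI : Algebra.Etale (MvPolynomial (Fin n) A) B := RingHom.etale_algebraMap.mp hg'
  exact core hK n φ hg'X hψ

end Core

end Groth.Agent.H44.SmoothDesc
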