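import Groth.Agent.H44.SmoothDesc
import Groth.Agent.H56.SmoothSecSch
import Groth.Agent.H9.RegImmStalk

/-!
# Regular immersions into a smooth scheme descend to the base: scheme level (helper44)

`p : X ⟶ S` smooth, `i : Y ⟶ X` and `i ≫ p` immersions.  If `i` is a `K`-regular immersion then so
is `i ≫ p`.
-/

set_option autoImplicit false
set_option linter.style.haveILetI false
universe u
open CategoryTheory AlgebraicGeometry TopologicalSpace

namespace Groth.Agent.H44.SmoothDescSch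

open Groth.Agent.H44.RegImmK Groth.Agent.H44.CancelK Groth.Agent.H59.RegImmDesc
  Groth.Agent.H56.RegImmComp Groth.Agent.H56.SmoothSec

/-- an immersion restricts to a closed immersion over every open contained in the coborder of its
range -/
theorem isClosedImmersion_restrict_of_le_coborder {Z X : Scheme.{u}} (i : Z ⟶ X) [IsImmersion i]
    (U₀ : X.Opens) (hle : U₀ ≤ i.coborderRange) : IsClosedImmersion (i ∣_ U₀) := by
  refine IsClosedImmersion.of_isPreimmersion _ ?_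
  have h0 : Set.range (i ∣_ U₀) = (Subtype.val ⁻¹' Set.range i : Set U₀) := by
    ext u
    simp only [Set.mem_range, Set.mem_preimage]
    constructor
    · rintro ⟨w, rfl⟩
      exact ⟨w.1, (morphismRestrict_base_coe i U₀ w).symm⟩
    · rintro ⟨z₀, hz₀⟩
      have hz₀' : z₀ ∈ i ⁻¹ᵁ U₀ := by
        change i z₀ ∈ U₀
        rw [hz₀]; exact u.2
      exact ⟨⟨z₀, hz₀'⟩, Subtype.ext ((morphismRestrict_base_coe i U₀ ⟨z₀, hz₀'⟩).trans hz₀)⟩
  rw [h0]
  have h1 : (Subtype.val ⁻¹' Set.range i : Set U₀) = Subtype.val ⁻¹' closure (Set.range i) := by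
    ext u
    simp only [Set.mem_preimage]
    constructor
    · intro hu; exact subset_closure hu
    · intro hu
      have h2 : u.1 ∈ coborder (Set.range i) ∩ closure (Set.range i) := ⟨hle u.2, hu⟩
      rwa [coborder_inter_closure] at h2
  rw [h1]
  exact isClosed_closure.preimage continuous_subtype_val

lemma appLE_surjective_of_eq' {Y S : Scheme.{u}} (j : Y ⟶ S) {V : S.Opens}
    (hV : IsAffineOpen V) (hcl : IsClosedImmersion (j ∣_ V)) (W : Y.Opens) (hW : W = j ⁻¹ᵁ V)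
    (e : W ≤ j ⁻¹ᵁ V) :
    Function.Surjective (j.appLE V W e).hom ∧
      RingHom.ker (j.appLE V W e).hom = RingHom.ker (j.app V).hom := by
  subst hW
  have h1 : j.appLE V (j ⁻¹ᵁ V) e = j.app V := (j.app_eq_appLE).symm
  rw [h1]
  exact ⟨app_surjective j hV hcl, rfl⟩

variable {K : ∀ {R : Type u} [CommRing R] {r : ℕ}, (Fin r → R) → Prop}

/-- extracting generators around a point from `LocK` of the kernel -/
theorem exists_of_locK (hK : Good K) {Z X : Scheme.{u}} (i : Z ⟶ X) {U₀ : X.Opens}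
    (hU₀ : IsAffineOpen U₀) (hcl : IsClosedImmersion (i ∣_ U₀)) (z : Z) (hzU₀ : i z ∈ U₀)
    (hKer : LocK K Γ(X, U₀) (RingHom.ker (i.app U₀).hom)) :
    ∃ U : X.affineOpens, i z ∈ U.1 ∧ IsClosedImmersion (i ∣_ U.1) ∧
      ∃ rs : List Γ(X, U.1), K rs.get ∧ RingHom.ker (i.app U.1).hom = Ideal.ofList rs := by
  set 𝔭 := hU₀.primeIdealOf ⟨i z, hzU₀⟩ with h𝔭
  have hfs : hU₀.fromSpec 𝔭 = i z := hU₀.fromSpec_primeIdealOf ⟨i z, hzU₀⟩
  have hmem : ∀ a : Γ(X, U₀), a ∉ 𝔭.asIdeal ↔ i z ∈ X.basicOpen a := by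
    intro a
    rw [← hfs]
    have : (hU₀.fromSpec ⁻¹ᵁ X.basicOpen a : (Spec Γ(X, U₀)).Opens) =
        PrimeSpectrum.basicOpen a := hU₀.fromSpec_preimage_basicOpen a
    constructor
    · intro ha
      show 𝔭 ∈ (hU₀.fromSpec ⁻¹ᵁ X.basicOpen a : (Spec Γ(X, U₀)).Opens)
      rw [this]; exact ha
    · intro ha
      have h2 : 𝔭 ∈ (hU₀.fromSpec ⁻¹ᵁ X.basicOpen a : (Spec Γ(X, U₀)).Opens) := ha
      rw [this] at h2; exact h2
  have h𝔭le : RingHom.ker (i.app U₀).hom ≤ 𝔭.asIdeal := by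
    intro a ha
    by_contra hna
    have h1 : i z ∈ X.basicOpen a := (hmem a).mp hna
    have h2 : z ∈ i ⁻¹ᵁ X.basicOpen a := h1
    rw [Scheme.preimage_basicOpen, RingHom.mem_ker.mp ha, Scheme.basicOpen_zero] at h2
    exact h2
  obtain ⟨b, hb, r, f, hf, hspan⟩ := hKer 𝔭.asIdeal h𝔭le
  refine ⟨⟨X.basicOpen b, hU₀.basicOpen b⟩, (hmem b).mp hb, closedImm_basicOpen i hcl b, ?_⟩
  haveI : IsLocalization.Away b Γ(X, X.basicOpen b) := hU₀.isLocalization_basicOpen b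
  let ε : Localization.Away b ≃ₐ[Γ(X, U₀)] Γ(X, X.basicOpen b) :=
    IsLocalization.algEquiv (Submonoid.powers b) _ _
  refine ⟨(List.ofFn f).map ε.toRingEquiv, ?_, ?_⟩
  · apply hK.map_list_equiv ε.toRingEquiv (List.ofFn f)
    refine K_congr (K := K) (List.length_ofFn (f := f)).symm f _ ?_ hf
    intro k
    simp
  · show RingHom.ker (i.app (X.basicOpen b)).hom = _
    rw [ker_basicOpen i hU₀ hcl b]
    have h3 : algebraMap Γ(X, U₀) Γ(X, X.basicOpen b) =
        (ε.toRingEquiv : _ →+* _).comp (algebraMap Γ(X, U₀) (Localization.Away b)) := by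
      ext a
      exact (ε.commutes a).symm
    rw [h3, ← Ideal.map_map, ← hspan, Ideal.map_span]
    show _ = Ideal.span {y | y ∈ (List.ofFn f).map ε.toRingEquiv}
    congr 1
    ext y
    simp only [Set.mem_image, Set.mem_range, Set.mem_ofPred_eq, List.mem_map, List.mem_ofFn]
    constructor
    · rintro ⟨x, ⟨k, rfl⟩, rfl⟩; exact ⟨f k, ⟨k, rfl⟩, rfl⟩
    · rintro ⟨x, ⟨k, rfl⟩, rfl⟩; exact ⟨f k, ⟨k, rfl⟩, rfl⟩

/-- **Regular immersions into a smooth scheme descend to the base.** -/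
theorem regImmK_of_smooth (hK : GoodC K) {Y X S : Scheme.{u}} (p : X ⟶ S) [Smooth p]
    (i : Y ⟶ X) [IsImmersion i] [IsImmersion (i ≫ p)] (hi : RegImmK K i) :
    RegImmK K (i ≫ p) := by
  refine ⟨inferInstance, fun y => ?_⟩
  have hpi : ∀ y' : Y, (i ≫ p) y' = p (i y') := fun y' => rfl
  obtain ⟨V₁, hV₁, U₁, hU₁, hxU₁, e₁, hstd⟩ := Smooth.exists_isStandardSmooth p (i y)
  -- shrink `U₁` inside the coborder of `i`
  have hyW : i y ∈ i.coborderRange := subset_coborder (Set.mem_range_self y)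
  obtain ⟨c, hcW, hyc⟩ := hU₁.exists_basicOpen_le
    (V := U₁ ⊓ i.coborderRange) ⟨i y, ⟨hxU₁, hyW⟩⟩ hxU₁
  have hU₁' : IsAffineOpen (X.basicOpen c) := hU₁.basicOpen c
  have hU₁'le : X.basicOpen c ≤ U₁ := X.basicOpen_le c
  have e₁' : X.basicOpen c ≤ p ⁻¹ᵁ V₁ := hU₁'le.trans e₁
  have hstd' : (p.appLE V₁ (X.basicOpen c) e₁').hom.IsStandardSmooth := by
    haveI := hU₁.isLocalization_basicOpen c
    have h1 : (p.appLE V₁ (X.basicOpen c) e₁').hom =
        (algebraMap Γ(X, U₁) Γ(X, X.basicOpen c)).comp (p.appLE V₁ U₁ e₁).hom := by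
      rw [← Scheme.Hom.appLE_map p e₁ (homOfLE hU₁'le).op]
      rfl
    rw [h1]
    exact RingHom.isStandardSmooth_stableUnderCompositionWithLocalizationAway.2
      Γ(X, X.basicOpen c) c _ hstd
  have hsV₁ : (i ≫ p) y ∈ V₁ := e₁ hxU₁
  have hyV : (i ≫ p) y ∈ (i ≫ p).coborderRange := subset_coborder (Set.mem_range_self y)
  -- an open `O` of `S` with `j⁻¹ O = i⁻¹ U₁'`
  obtain ⟨O', hO'open, hO'⟩ :=
    ((i ≫ p).isEmbedding.isInducing.isOpen_iff).mp (i ⁻¹ᵁ X.basicOpen c).isOpen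
  let O : S.Opens := ⟨O', hO'open⟩
  have hyO : (i ≫ p) y ∈ O := by
    have : y ∈ (i ≫ p) ⁻¹' O' := by rw [hO']; exact hyc
    exact this
  have hsW : (i ≫ p) y ∈ V₁ ⊓ (i ≫ p).coborderRange ⊓ O := ⟨⟨hsV₁, hyV⟩, hyO⟩
  obtain ⟨a, haW, hsa⟩ := hV₁.exists_basicOpen_le ⟨(i ≫ p) y, hsW⟩ hsV₁
  have hV : IsAffineOpen (S.basicOpen a) := hV₁.basicOpen a
  have hVcb : S.basicOpen a ≤ (i ≫ p).coborderRange := haW.trans (inf_le_left.trans inf_le_right)
  have hVO : S.basicOpen a ≤ O := haW.trans inf_le_right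
  obtain ⟨fa, hfa⟩ : ∃ fa : Γ(X, X.basicOpen c), fa = (p.appLE V₁ (X.basicOpen c) e₁').hom a :=
    ⟨_, rfl⟩
  have hU : IsAffineOpen (X.basicOpen fa) := hU₁'.basicOpen fa
  have hUeq : X.basicOpen fa = X.basicOpen c ⊓ p ⁻¹ᵁ S.basicOpen a := by
    rw [hfa, Scheme.Hom.appLE, CommRingCat.hom_comp, RingHom.comp_apply, Scheme.basicOpen_res,
      Scheme.preimage_basicOpen]
  have hUV : X.basicOpen fa ≤ p ⁻¹ᵁ S.basicOpen a := by rw [hUeq]; exact inf_le_right
  have hUcb : X.basicOpen fa ≤ i.coborderRange := by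
    rw [hUeq]; exact inf_le_left.trans (hcW.trans inf_le_right)
  have hpre : i ⁻¹ᵁ X.basicOpen fa = (i ≫ p) ⁻¹ᵁ S.basicOpen a := by
    ext y'
    constructor
    · intro hy'
      have h1 : i y' ∈ X.basicOpen c ⊓ p ⁻¹ᵁ S.basicOpen a := hUeq ▸ hy'
      exact h1.2
    · intro hy'
      have h1 : (i ≫ p) y' ∈ O' := hVO hy'
      have h2 : y' ∈ ((i ⁻¹ᵁ X.basicOpen c : Y.Opens) : Set Y) := by rw [← hO']; exact h1
      show i y' ∈ X.basicOpen fa
      rw [hUeq]
      exact ⟨h2, hy'⟩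
  have hstdU : (p.appLE (S.basicOpen a) (X.basicOpen fa) hUV).hom.IsStandardSmooth := by
    subst hfa
    exact isStandardSmooth_appLE_basicOpen p hU₁' hV₁ e₁' hstd' a hUV
  -- closed immersions
  have hclV : IsClosedImmersion ((i ≫ p) ∣_ S.basicOpen a) :=
    isClosedImmersion_restrict_of_le_coborder (i ≫ p) _ hVcb
  have hclU : IsClosedImmersion (i ∣_ X.basicOpen fa) :=
    isClosedImmersion_restrict_of_le_coborder i _ hUcb
  have hcomp : (i.app (X.basicOpen fa)).hom.comp (p.appLE (S.basicOpen a) (X.basicOpen fa) hUV).hom =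
      ((i ≫ p).appLE (S.basicOpen a) (i ⁻¹ᵁ X.basicOpen fa) (le_of_eq hpre)).hom := by
    rw [← CommRingCat.hom_comp, i.app_eq_appLE, Scheme.Hom.appLE_comp_appLE]
  obtain ⟨hsurj, hkerψ⟩ := appLE_surjective_of_eq' (i ≫ p) hV hclV (i ⁻¹ᵁ X.basicOpen fa) hpre
    (le_of_eq hpre)
  have hψ : Function.Surjective ((i.app (X.basicOpen fa)).hom.comp
      (p.appLE (S.basicOpen a) (X.basicOpen fa) hUV).hom) := by rw [hcomp]; exact hsurj
  obtain ⟨b, hb1, H⟩ := Groth.Agent.H44.SmoothDesc.main hK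
    (p.appLE (S.basicOpen a) (X.basicOpen fa) hUV).hom hstdU (i.app (X.basicOpen fa)).hom hψ
  haveI : IsLocalization.Away b Γ(X, X.basicOpen b) := hU.isLocalization_basicOpen b
  have hLocB : LocK K Γ(X, X.basicOpen b)
      ((RingHom.ker (i.app (X.basicOpen fa)).hom).map
        (algebraMap Γ(X, X.basicOpen fa) Γ(X, X.basicOpen b))) := by
    rw [← ker_basicOpen i hU hclU b]
    exact locK_ker_of_regImmK hK.good i hi (hU.basicOpen b) (closedImm_basicOpen i hclU b)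
  have hLocA := H Γ(X, X.basicOpen b) hLocB
  rw [hcomp, hkerψ] at hLocA
  exact exists_of_locK hK.good (i ≫ p) hV hclV y hsa hLocA

end Groth.Agent.H44.SmoothDescSch
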