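import Groth.Agent.H44.StubSub_SC
import Groth.Agent.H34.SubIsGen

/-!
# Piece (SC) of the S1924 squad (helper34), closed form
-/

set_option autoImplicit false
universe u
open CategoryTheory AlgebraicGeometry TopologicalSpace Opposite

namespace Groth.Agent.H44.StubSub_SC

open Groth.Agent.H18.TensorGen (IsGen exists_isGen)
open OmegaSh (pullSect)

variable {X Y : Scheme.{u}}

/-- (SC) The dictionary for orders of rational sections of ι^*L along a closed immersion. -/
theorem secOrdAt_pullback_closedImmersion (ι : Y ⟶ X) [IsClosedImmersion ι] {L : X.Modules}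
    (hL : PicF.IsInvertible L) (y : Y)
    (u : Cyc.secFibre ((Scheme.Modules.pullback ι).obj L) y) (hu : u ≠ 0)
    (v : Cyc.secFibre L (ι y)) (hv : v ≠ 0) :
    ∃ g : X.residueField (ι y), g ≠ 0 ∧ ∀ (y' : Y) (h : y ⤳ y') (h' : ι y ⤳ ι y'),
      Cyc.secOrdAt ((Scheme.Modules.pullback ι).obj L) y y' h u =
        Cyc.secOrdAt L (ι y) (ι y') h' v + Cyc.ordAt (ι y') (ι y) h' g :=
  secOrdAt_pullback_closedImmersion_of ι hL
    (fun _ _ hτ => Groth.Agent.H34.SubGen.isGen_pullSect ι hL hτ) y u hu v hv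

end Groth.Agent.H44.StubSub_SC
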