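import Mathlib
import Groth.Prelude
import Groth.Agent.H25.SmoothStalk

/-!
# Piece (NORM) of the S14315 squad (helper85)

The local rings of a scheme smooth over a field are integrally closed domains.
-/

set_option autoImplicit false
universe u
open CategoryTheory CategoryTheory.Limits AlgebraicGeometry

namespace Groth.Agent.H44.SurfBC_NORM

/-- The stalks of the structure sheaf of the spectrum of a field are fields. -/
theorem isField_stalk_structureSheaf (k : Type u) [Field k] (q : PrimeSpectrum k) :
    IsField ((Spec.structureSheaf k).presheaf.stalk q) := by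
  have hu : q.asIdeal.primeCompl ≤ IsUnit.submonoid k := fun m hm => by
    have : m ≠ 0 := fun h => hm (h ▸ q.asIdeal.zero_mem)
    exact this.isUnit
  let e : k ≃ₐ[k] ((Spec.structureSheaf k).presheaf.stalk q) :=
    IsLocalization.atUnits k q.asIdeal.primeCompl hu
  exact e.symm.toMulEquiv.isField (Field.toIsField k)

/-- The stalk of `Spec k` at its point is a field. -/
theorem isField_stalk_spec_field (k : Type u) [Field k] (p : Spec (CommRingCat.of k)) :
    IsField ((Spec (CommRingCat.of k)).presheaf.stalk p) :=
  isField_stalk_structureSheaf k p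

theorem normal_of_isField (S : Type u) [CommRing S] (h : IsField S) :
    IsDomain S ∧ IsIntegrallyClosed S := by
  let _ := h.toField
  exact ⟨inferInstance, inferInstance⟩

/-- **(NORM)** -/
theorem normal_stalk_of_smooth_field (k : Type u) [Field k] {C : Scheme.{u}}
    (g : C ⟶ Spec (CommRingCat.of k)) [Smooth g] (y : C) :
    IsDomain (C.presheaf.stalk y) ∧ IsIntegrallyClosed (C.presheaf.stalk y) := by
  have hy : y ∈ g.smoothLocus := by
    rw [(Scheme.Hom.smoothLocus_eq_top_iff (f := g)).mpr inferInstance]
    trivial
  exact (Groth.Agent.H25.SmoothStalk.reduced_normal_iff_of_smoothAt g y hy).2.mpr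
    (normal_of_isField _ (isField_stalk_spec_field k (g y)))

end Groth.Agent.H44.SurfBC_NORM
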