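import Mathlib

/-!
# (W2) for helper10's S6824: the map `P_𝔭/𝔪^n → A₀` and its residue-field properties
-/

set_option autoImplicit false
set_option linter.style.haveILetI false
universe u
open IsLocalRing

namespace Groth.Agent.H44.W2Theta

/-- (W2) the map `P_𝔭/𝔪^n → A₀` and its residue-field properties -/
theorem theta_package {k P Λ Λb K : Type u} [Field k] [CommRing P] [Algebra k P] [CommRing Λ]
    [Algebra k Λ] [Algebra P Λ] [IsScalarTower k P Λ] [CommRing Λb] [Algebra k Λb] [Field K]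
    [Algebra k K] (𝔮 : Ideal Λ) [𝔮.IsPrime] (ν : Λ →ₐ[k] Λb) (πb : Λb →ₐ[k] K)
    (hπν : ∀ y, πb (ν y) = 0 ↔ y ∈ 𝔮)
    (A₀ : Subalgebra k Λb) [IsLocalRing A₀] (hunit : ∀ x : A₀, IsUnit x ↔ πb x ≠ 0)
    (hPA : ∀ p : P, ν (algebraMap P Λ p) ∈ A₀) (n : ℕ) (hnil : RingHom.ker πb ^ n = ⊥)
    (κ : IntermediateField k K) (h1 : ∀ p : P, πb (ν (algebraMap P Λ p)) ∈ κ)
    (h2 : ∀ c ∈ κ, ∃ p₁ p₂ : P, algebraMap P Λ p₂ ∉ 𝔮 ∧
      c * πb (ν (algebraMap P Λ p₂)) = πb (ν (algebraMap P Λ p₁)))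
    {d : ℕ} (π : Fin d → P) (hπ𝔮 : ∀ i, algebraMap P Λ (π i) ∈ 𝔮)
    (hgen : RingHom.ker πb = Ideal.span (Set.range fun i => ν (algebraMap P Λ (π i)))) :
    ∃ θ : (Localization.AtPrime (𝔮.comap (algebraMap P Λ)) ⧸
        maximalIdeal (Localization.AtPrime (𝔮.comap (algebraMap P Λ))) ^ n) →+* A₀,
      (∀ p : P, (θ (Ideal.Quotient.mk _ (algebraMap P _ p)) : Λb) = ν (algebraMap P Λ p)) ∧
      (∀ x, πb (θ x : Λb) ∈ κ) ∧ (∀ c ∈ κ, ∃ x, πb (θ x : Λb) = c) ∧
      IsNilpotent (RingHom.ker (πb.toRingHom.comp (A₀.val.toRingHom.comp θ))) ∧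
      (RingHom.ker (πb.toRingHom.comp (A₀.val.toRingHom.comp θ))).map
        (A₀.val.toRingHom.comp θ) = RingHom.ker πb := by
  classical
  -- the map P → A₀
  let θ₀ : P →+* A₀ :=
    RingHom.codRestrict (ν.toRingHom.comp (algebraMap P Λ)) A₀ hPA
  have hθ₀ : ∀ p : P, ((θ₀ p : A₀) : Λb) = ν (algebraMap P Λ p) := fun p => rfl
  have hne : ∀ s : (𝔮.comap (algebraMap P Λ)).primeCompl,
      πb (ν (algebraMap P Λ (s : P))) ≠ 0 := by
    intro s h
    exact s.2 ((hπν _).mp h)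
  have hunit' : ∀ s : (𝔮.comap (algebraMap P Λ)).primeCompl, IsUnit (θ₀ (s : P)) := by
    intro s
    rw [hunit]
    exact hne s
  -- the map P_𝔭 → A₀
  let θ' : Localization.AtPrime (𝔮.comap (algebraMap P Λ)) →+* A₀ :=
    IsLocalization.lift (M := (𝔮.comap (algebraMap P Λ)).primeCompl) (g := θ₀) hunit'
  have hθ' : ∀ p : P, θ' (algebraMap P _ p) = θ₀ p := fun p => IsLocalization.lift_eq _ p
  have hmk' : ∀ (p : P) (s : (𝔮.comap (algebraMap P Λ)).primeCompl),
      πb ((θ' (IsLocalization.mk' _ p s) : A₀) : Λb) * πb (ν (algebraMap P Λ (s : P))) =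
        πb (ν (algebraMap P Λ p)) := by
    intro p s
    have e1 : IsLocalization.mk' (Localization.AtPrime (𝔮.comap (algebraMap P Λ))) p s *
        algebraMap P _ (s : P) = algebraMap P _ p := IsLocalization.mk'_spec _ p s
    have e2 := congrArg θ' e1
    rw [map_mul, hθ', hθ'] at e2
    have e3 := congrArg (fun z : A₀ => πb (z : Λb)) e2
    simp only [MulMemClass.coe_mul, map_mul, hθ₀] at e3
    exact e3
  -- elements of the maximal ideal go to the kernel of πb
  have hm₀ : ∀ x ∈ maximalIdeal (Localization.AtPrime (𝔮.comap (algebraMap P Λ))),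
      πb ((θ' x : A₀) : Λb) = 0 := by
    intro x hx
    by_contra hx0
    have h3 : IsUnit (θ' x) := (hunit _).mpr hx0
    -- x = mk' p s with p ∈ 𝔭
    obtain ⟨p, s, rfl⟩ := IsLocalization.exists_mk'_eq
      (𝔮.comap (algebraMap P Λ)).primeCompl x
    have hp : p ∈ 𝔮.comap (algebraMap P Λ) := by
      by_contra hp
      have h4 : IsUnit (IsLocalization.mk' (Localization.AtPrime (𝔮.comap (algebraMap P Λ)))
          p s) := by
        have h5 : IsUnit (algebraMap P (Localization.AtPrime (𝔮.comap (algebraMap P Λ))) p) :=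
          IsLocalization.map_units _ (⟨p, hp⟩ : (𝔮.comap (algebraMap P Λ)).primeCompl)
        have h6 := IsLocalization.mk'_spec
          (Localization.AtPrime (𝔮.comap (algebraMap P Λ))) p s
        rw [← h6] at h5
        exact isUnit_of_mul_isUnit_left h5
      exact (mem_maximalIdeal _).mp hx h4
    have h7 := hmk' p s
    rw [(hπν _).mpr hp] at h7
    exact hx0 ((mul_eq_zero.mp h7).resolve_right (hne s))
  have hkill : ∀ x ∈ maximalIdeal (Localization.AtPrime (𝔮.comap (algebraMap P Λ))) ^ n,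
      θ' x = 0 := by
    intro x hx
    have hle : maximalIdeal (Localization.AtPrime (𝔮.comap (algebraMap P Λ))) ≤
        (RingHom.ker πb).comap (A₀.val.toRingHom.comp θ') := fun y hy => hm₀ y hy
    have h3 : maximalIdeal (Localization.AtPrime (𝔮.comap (algebraMap P Λ))) ^ n ≤
        (RingHom.ker πb ^ n).comap (A₀.val.toRingHom.comp θ') :=
      (Ideal.pow_right_mono hle n).trans (Ideal.le_comap_pow _ n)
    have h4 := h3 hx
    rw [hnil] at h4
    apply Subtype.ext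
    exact h4
  let θ : (Localization.AtPrime (𝔮.comap (algebraMap P Λ)) ⧸
      maximalIdeal (Localization.AtPrime (𝔮.comap (algebraMap P Λ))) ^ n) →+* A₀ :=
    Ideal.Quotient.lift _ θ' hkill
  have hθ : ∀ a, θ (Ideal.Quotient.mk _ a) = θ' a := fun a => Ideal.Quotient.lift_mk _ _ _
  -- the kernel of the composite
  have hkerle : RingHom.ker (πb.toRingHom.comp (A₀.val.toRingHom.comp θ)) ≤
      (maximalIdeal (Localization.AtPrime (𝔮.comap (algebraMap P Λ)))).map
        (Ideal.Quotient.mk _) := by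
    intro y hy
    obtain ⟨a, rfl⟩ := Ideal.Quotient.mk_surjective y
    apply Ideal.mem_map_of_mem
    rw [mem_maximalIdeal, mem_nonunits_iff]
    intro ha
    have h3 : IsUnit (θ' a) := ha.map θ'
    have h4 : πb ((θ' a : A₀) : Λb) ≠ 0 := (hunit _).mp h3
    apply h4
    have h5 : πb ((θ (Ideal.Quotient.mk _ a) : A₀) : Λb) = 0 := hy
    rwa [hθ] at h5
  refine ⟨θ, ?_, ?_, ?_, ?_, ?_⟩
  · intro p
    rw [hθ, hθ', hθ₀]
  · intro x
    obtain ⟨a, rfl⟩ := Ideal.Quotient.mk_surjective x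
    obtain ⟨p, s, rfl⟩ := IsLocalization.exists_mk'_eq
      (𝔮.comap (algebraMap P Λ)).primeCompl a
    rw [hθ]
    have h3 := hmk' p s
    have h4 : πb ((θ' (IsLocalization.mk' _ p s) : A₀) : Λb) =
        πb (ν (algebraMap P Λ p)) / πb (ν (algebraMap P Λ (s : P))) := by
      rw [eq_div_iff (hne s)]
      exact h3
    rw [h4]
    exact κ.div_mem (h1 p) (h1 s)
  · intro c hc
    obtain ⟨p₁, p₂, hp₂, hc⟩ := h2 c hc
    have hp₂' : p₂ ∈ (𝔮.comap (algebraMap P Λ)).primeCompl := hp₂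
    refine ⟨Ideal.Quotient.mk _ (IsLocalization.mk' _ p₁ ⟨p₂, hp₂'⟩), ?_⟩
    rw [hθ]
    have h3 := hmk' p₁ ⟨p₂, hp₂'⟩
    have h4 : πb (ν (algebraMap P Λ p₂)) ≠ 0 := hne ⟨p₂, hp₂'⟩
    exact mul_right_cancel₀ h4 (h3.trans hc.symm)
  · refine ⟨n, ?_⟩
    rw [Ideal.zero_eq_bot, eq_bot_iff]
    refine (Ideal.pow_right_mono hkerle n).trans ?_
    rw [← Ideal.map_pow, Ideal.map_quotient_self]
  · apply le_antisymm
    · rw [Ideal.map_le_iff_le_comap]
      intro y hy
      exact hy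
    · rw [hgen, Ideal.span_le]
      rintro _ ⟨i, rfl⟩
      have h3 : ν (algebraMap P Λ (π i)) = (A₀.val.toRingHom.comp θ)
          (Ideal.Quotient.mk _ (algebraMap P _ (π i))) := by
        show _ = ((θ (Ideal.Quotient.mk _ (algebraMap P _ (π i))) : A₀) : Λb)
        rw [hθ, hθ', hθ₀]
      show ν (algebraMap P Λ (π i)) ∈ Ideal.map (A₀.val.toRingHom.comp θ)
        (RingHom.ker (πb.toRingHom.comp (A₀.val.toRingHom.comp θ)))
      rw [h3]
      apply Ideal.mem_map_of_mem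
      show πb ((θ (Ideal.Quotient.mk _ (algebraMap P _ (π i))) : A₀) : Λb) = 0
      rw [hθ, hθ', hθ₀]
      exact (hπν _).mpr (hπ𝔮 i)

end Groth.Agent.H44.W2Theta
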